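import Mathlib
import Cfsg.Agent.Lib.Lead.QuatIso

/-!
Recognition of `SL(2,3)` (helper9): a finite group `H = Q ⟨g⟩` with `Q` a normal quaternion
subgroup of order `8` and `g` an element of odd order not centralizing `Q` maps onto
`SL(2,3)`; if moreover `|H| = 24` then `H ≃* SL(2,3)`.
-/

set_option autoImplicit false

namespace Cfsg.Agent.Lib.Helper9.SLTwoThree

open QuaternionGroup
open Cfsg.Agent.Lib.Lead.QuatIso

/-- abbreviation for `SL(2,3)` -/
abbrev SL23 := Matrix.SpecialLinearGroup (Fin 2) (ZMod 3)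

/-- a matrix of order `4` -/
def matM : SL23 := ⟨!![0, 2; 1, 0], by decide⟩
/-- a second matrix of order `4` -/
def matN : SL23 := ⟨!![1, 1; 1, 2], by decide⟩
/-- a matrix of order `3` -/
def matW : SL23 := ⟨!![1, 1; 0, 1], by decide⟩

theorem matM_sq_ne : matM ^ 2 ≠ 1 := by decide
theorem matM_pow4 : matM ^ 4 = 1 := by decide
theorem matN_sq : matN ^ 2 = matM ^ 2 := by decide
theorem matN_conj : matN * matM * matN⁻¹ = matM⁻¹ := by decide
theorem matW_pow3 : matW ^ 3 = 1 := by decide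
theorem matW_ne : matW ≠ 1 := by decide
theorem matW_conj_M : matW * matM * matW⁻¹ = matN := by decide
theorem matW_conj_N : matW * matN * matW⁻¹ = matM * matN := by decide

set_option maxRecDepth 100000 in
theorem card_SL23 : Nat.card SL23 = 24 := by
  rw [Nat.card_eq_fintype_card]; decide

theorem orderOf_matM : orderOf matM = 2 * 2 := by
  have : Fact (Nat.Prime 2) := ⟨Nat.prime_two⟩
  have := orderOf_eq_prime_pow (x := matM) (p := 2) (n := 1) (by simpa using matM_sq_ne)
    (by simpa using matM_pow4)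
  simpa using this

theorem orderOf_matW : orderOf matW = 3 :=
  orderOf_eq_prime matW_pow3 matW_ne

/-! ### Generalities on `QuaternionGroup n` -/

theorem quat_a_eq (n : ℕ) [NeZero n] (i : ZMod (2 * n)) :
    (a i : QuaternionGroup n) = (a 1) ^ (i.val) := by
  rw [a_one_pow, ZMod.natCast_zmod_val]

theorem quat_xa_eq (n : ℕ) [NeZero n] (i : ZMod (2 * n)) :
    (xa i : QuaternionGroup n) = xa 0 * (a 1) ^ (i.val) := by
  rw [← quat_a_eq, xa_mul_a, zero_add]

theorem quat_hom_ext {n : ℕ} [NeZero n] {M : Type*} [Monoid M] {f₁ f₂ : QuaternionGroup n →* M}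
    (ha : f₁ (a 1) = f₂ (a 1)) (hx : f₁ (xa 0) = f₂ (xa 0)) : f₁ = f₂ := by
  ext p
  cases p with
  | a i => rw [quat_a_eq, map_pow, map_pow, ha]
  | xa i => rw [quat_xa_eq, map_mul, map_mul, map_pow, map_pow, ha, hx]

/-- `b ∉ ⟨a⟩` is automatic from the quaternion relations. -/
theorem not_mem_zpowers_of_rel {G : Type*} [Group G] {a b : G} (ha : a ^ 2 ≠ 1)
    (hinv : b * a * b⁻¹ = a⁻¹) : b ∉ Subgroup.zpowers a := by
  intro hb
  obtain ⟨k, rfl⟩ := Subgroup.mem_zpowers_iff.mp hb
  apply ha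
  have h1 : a ^ k * a * (a ^ k)⁻¹ = a := by group
  rw [h1] at hinv
  calc a ^ 2 = a * a := pow_two a
    _ = a * a⁻¹ := by rw [← hinv]
    _ = 1 := mul_inv_cancel a

/-! ### The decision procedure on automorphisms of `Q8` -/

/-- the candidate endomorphism of `Q8` determined by the images `u, v` of `a 1, xa 0` -/
def autFun (u v : QuaternionGroup 2) : QuaternionGroup 2 → QuaternionGroup 2
  | .a i => u ^ i.val
  | .xa i => v * u ^ i.val

set_option maxRecDepth 100000 in
theorem autFun_pow12 : ∀ u v : QuaternionGroup 2,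
    (∀ p q, autFun u v (p * q) = autFun u v p * autFun u v q) →
    Function.Injective (autFun u v) →
    ∀ p, (autFun u v)^[12] p = p := by decide

set_option maxRecDepth 100000 in
theorem autFun_adapted : ∀ u v : QuaternionGroup 2,
    (∀ p q, autFun u v (p * q) = autFun u v p * autFun u v q) →
    (∀ p, (autFun u v)^[3] p = p) → (∃ p, autFun u v p ≠ p) →
    ∃ x : QuaternionGroup 2, x ^ 2 ≠ 1 ∧ (∀ j : Fin 4, autFun u v x ≠ x ^ (j : ℕ)) ∧
      (autFun u v x) ^ 2 = x ^ 2 ∧ autFun u v x * x * (autFun u v x)⁻¹ = x⁻¹ ∧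
      autFun u v (autFun u v x) = x * autFun u v x := by decide

theorem quat2_pow_four : ∀ p : QuaternionGroup 2, p ^ 4 = 1 := by decide

theorem hom_eq_autFun (τ : QuaternionGroup 2 →* QuaternionGroup 2) (p : QuaternionGroup 2) :
    τ p = autFun (τ (a 1)) (τ (xa 0)) p := by
  cases p with
  | a i =>
    show τ (a i) = (τ (a 1)) ^ i.val
    rw [← map_pow, ← quat_a_eq]
  | xa i =>
    show τ (xa i) = τ (xa 0) * (τ (a 1)) ^ i.val
    rw [← map_pow, ← map_mul, ← quat_xa_eq]


/-- An automorphism of odd order of a quaternion group of order `8`, if nontrivial, has order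
`3` and admits an adapted pair of generators. -/
theorem exists_adapted {Q : Type*} [Group Q] (e : Q ≃* QuaternionGroup 2) (σ : MulAut Q) {k : ℕ}
    (hk : Odd k) (hσk : σ ^ k = 1) (hσ : σ ≠ 1) :
    σ ^ 3 = 1 ∧ ∃ x : Q, orderOf x = 4 ∧ σ x ∉ Subgroup.zpowers x ∧ (σ x) ^ 2 = x ^ 2 ∧
      σ x * x * (σ x)⁻¹ = x⁻¹ ∧ σ (σ x) = x * σ x := by
  classical
  have : Finite Q := Finite.of_equiv _ e.symm.toEquiv
  -- the transported automorphism
  obtain ⟨τ, hτ⟩ : ∃ τ : QuaternionGroup 2 →* QuaternionGroup 2, ∀ p, τ p = e (σ (e.symm p)) :=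
    ⟨(e.toMonoidHom.comp σ.toMonoidHom).comp e.symm.toMonoidHom, fun p => rfl⟩
  obtain ⟨u, hu⟩ : ∃ u, u = τ (a 1) := ⟨_, rfl⟩
  obtain ⟨v, hv⟩ : ∃ v, v = τ (xa 0) := ⟨_, rfl⟩
  have hfun : ∀ p, autFun u v p = e (σ (e.symm p)) := by
    intro p; rw [hu, hv, ← hom_eq_autFun, hτ]
  have hmul : ∀ p q, autFun u v (p * q) = autFun u v p * autFun u v q := by
    intro p q; rw [hfun, hfun, hfun, map_mul, map_mul, map_mul]
  have hinj : Function.Injective (autFun u v) := by
    intro p q hpq
    rw [hfun, hfun] at hpq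
    exact e.symm.injective (σ.injective (e.injective hpq))
  have hiter : ∀ (j : ℕ) (p : QuaternionGroup 2), (autFun u v)^[j] p = e ((σ ^ j) (e.symm p)) := by
    intro j
    induction j with
    | zero => intro p; simp
    | succ j ih =>
      intro p
      rw [Function.iterate_succ_apply', ih, hfun, pow_succ', MulAut.mul_apply,
        MulEquiv.symm_apply_apply]
  have hpow_of_iter : ∀ j : ℕ, (∀ p, (autFun u v)^[j] p = p) → σ ^ j = 1 := by
    intro j hj
    ext q
    have := hj (e q)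
    rw [hiter, MulEquiv.symm_apply_apply] at this
    rw [MulAut.one_apply]
    exact e.injective this
  have h12 : σ ^ 12 = 1 := hpow_of_iter 12 (autFun_pow12 u v hmul hinj)
  have h3 : σ ^ 3 = 1 := by
    have hd : orderOf σ ∣ Nat.gcd 12 k :=
      Nat.dvd_gcd (orderOf_dvd_of_pow_eq_one h12) (orderOf_dvd_of_pow_eq_one hσk)
    have h4 : Nat.Coprime (Nat.gcd 12 k) 4 := by
      have : Nat.Coprime k (2 ^ 2) := hk.coprime_two_right.pow_right 2
      exact Nat.Coprime.coprime_dvd_left (Nat.gcd_dvd_right 12 k) this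
    have h34 : Nat.gcd 12 k ∣ 3 * 4 := Nat.gcd_dvd_left 12 k
    have h3' : Nat.gcd 12 k ∣ 3 := h4.dvd_of_dvd_mul_right h34
    exact orderOf_dvd_iff_pow_eq_one.mp (hd.trans h3')
  refine ⟨h3, ?_⟩
  have hiter3 : ∀ p, (autFun u v)^[3] p = p := by
    intro p; rw [hiter, h3, MulAut.one_apply, MulEquiv.apply_symm_apply]
  have hne : ∃ p, autFun u v p ≠ p := by
    by_contra hcon
    simp only [not_exists, not_not] at hcon
    apply hσ
    ext q
    have := hcon (e q)
    rw [hfun, MulEquiv.symm_apply_apply] at this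
    rw [MulAut.one_apply]
    exact e.injective this
  obtain ⟨x₀, hx2, hxj, hy2, hyx, hyy⟩ := autFun_adapted u v hmul hiter3 hne
  -- transport back
  have hσx : σ (e.symm x₀) = e.symm (autFun u v x₀) := by
    rw [hfun, MulEquiv.symm_apply_apply]
  have hσσx : σ (σ (e.symm x₀)) = e.symm (autFun u v (autFun u v x₀)) := by
    rw [hσx, hfun (autFun u v x₀), MulEquiv.symm_apply_apply]
  have hx2' : (e.symm x₀) ^ 2 ≠ 1 := by
    intro h
    apply hx2
    have := congrArg e h
    rwa [map_pow, MulEquiv.apply_symm_apply, map_one] at this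
  have hx4' : (e.symm x₀) ^ 4 = 1 := by
    rw [← map_pow, quat2_pow_four, map_one]
  have hord : orderOf (e.symm x₀) = 4 := by
    have : Fact (Nat.Prime 2) := ⟨Nat.prime_two⟩
    have := orderOf_eq_prime_pow (x := e.symm x₀) (p := 2) (n := 1) (by simpa using hx2')
      (by simpa using hx4')
    simpa using this
  refine ⟨e.symm x₀, hord, ?_, ?_, ?_, ?_⟩
  · intro hmem
    rw [mem_zpowers_iff_mem_range_orderOf, hord] at hmem
    obtain ⟨j, hj, hjx⟩ := Finset.mem_image.mp hmem
    rw [Finset.mem_range] at hj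
    apply hxj ⟨j, hj⟩
    have h1 : e.symm (x₀ ^ j) = e.symm (autFun u v x₀) := by
      rw [map_pow, ← hσx]; exact hjx
    exact (e.symm.injective h1).symm
  · rw [hσx, ← map_pow, ← map_pow, hy2]
  · rw [hσx, ← map_inv, ← map_mul, ← map_mul, hyx, map_inv]
  · rw [hσσx, hyy, map_mul, ← hσx]


/-- the fixed embedding of `Q8` into `SL(2,3)` -/
noncomputable def quatToSL : QuaternionGroup 2 →* SL23 :=
  quatHom (N := 2) (a := matM) (b := matN) orderOf_matM matN_sq matN_conj

theorem quatToSL_a_one : quatToSL (a 1) = matM := by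
  show matM ^ (((1 : ZMod (2 * 2)).cast : ℤ)) = matM
  have : ((1 : ZMod (2 * 2)).cast : ℤ) = 1 := by decide
  rw [this, zpow_one]

theorem quatToSL_xa_zero : quatToSL (xa 0) = matN := by
  show matN * matM ^ (((0 : ZMod (2 * 2)).cast : ℤ)) = matN
  have : ((0 : ZMod (2 * 2)).cast : ℤ) = 0 := by decide
  rw [this, zpow_zero, mul_one]

theorem quatToSL_injective : Function.Injective quatToSL :=
  quatHom_injective orderOf_matM matN_sq matN_conj
    (not_mem_zpowers_of_rel matM_sq_ne matN_conj)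

/-- **Recognition of `SL(2,3)`, surjective form.** -/
theorem exists_surjective_hom {H : Type*} [Group H] [Finite H] (Q : Subgroup H) [Q.Normal]
    (hQ : Nonempty (Q ≃* QuaternionGroup 2)) (g : H) (hodd : Odd (orderOf g))
    (hgen : Q ⊔ Subgroup.zpowers g = ⊤) (hnc : ∃ q ∈ Q, g * q * g⁻¹ ≠ q) :
    ∃ Ψ : H →* SL23, Function.Surjective Ψ := by
  classical
  obtain ⟨e⟩ := hQ
  have hQcard : Nat.card Q = 8 := by
    rw [Nat.card_congr e.toEquiv, Nat.card_eq_fintype_card, QuaternionGroup.card]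
  -- the automorphism induced by `g`
  obtain ⟨σ, hσdef⟩ : ∃ σ : MulAut Q, σ = MulAut.conjNormal g := ⟨_, rfl⟩
  have hσapp : ∀ q : Q, ((σ q : Q) : H) = g * q * g⁻¹ := by
    intro q; rw [hσdef, MulAut.conjNormal_apply]
  have hσk : σ ^ orderOf g = 1 := by
    rw [hσdef, ← map_pow, pow_orderOf_eq_one, map_one]
  have hσne : σ ≠ 1 := by
    intro h1
    obtain ⟨q, hq, hgq⟩ := hnc
    apply hgq
    have := hσapp ⟨q, hq⟩
    rw [h1, MulAut.one_apply] at this
    exact this.symm
  obtain ⟨hσ3, x, hx4, hyx, hy2, hyconj, hσy⟩ := exists_adapted e σ hodd hσk hσne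
  -- the adapted isomorphism
  have hx4' : orderOf x = 2 * 2 := hx4
  have hy2' : (σ x) ^ 2 = x ^ 2 := hy2
  obtain ⟨e', he'⟩ : ∃ e' : QuaternionGroup 2 →* Q, e' = quatHom (N := 2) hx4' hy2' hyconj :=
    ⟨_, rfl⟩
  have he'inj : Function.Injective e' := by
    rw [he']; exact quatHom_injective hx4' hy2' hyconj hyx
  have he'bij : Function.Bijective e' := by
    apply he'inj.bijective_of_nat_card_le
    rw [hQcard, Nat.card_eq_fintype_card, QuaternionGroup.card]
  have he'a : e' (a 1) = x := by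
    rw [he']
    show x ^ (((1 : ZMod (2 * 2)).cast : ℤ)) = x
    have : ((1 : ZMod (2 * 2)).cast : ℤ) = 1 := by decide
    rw [this, zpow_one]
  have he'x : e' (xa 0) = σ x := by
    rw [he']
    show σ x * x ^ (((0 : ZMod (2 * 2)).cast : ℤ)) = σ x
    have : ((0 : ZMod (2 * 2)).cast : ℤ) = 0 := by decide
    rw [this, zpow_zero, mul_one]
  obtain ⟨E, hE⟩ : ∃ E : Q ≃* QuaternionGroup 2, ∀ p, E (e' p) = p :=
    ⟨(MulEquiv.ofBijective e' he'bij).symm, fun p =>
      (MulEquiv.ofBijective e' he'bij).symm_apply_apply p⟩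
  have hE' : ∀ q : Q, e' (E q) = q := by
    intro q
    obtain ⟨p, rfl⟩ := he'bij.2 q
    rw [hE]
  -- the embedding `Q → SL(2,3)`
  obtain ⟨fn, hfn⟩ : ∃ fn : Q →* SL23, ∀ q, fn q = quatToSL (E q) :=
    ⟨quatToSL.comp E.toMonoidHom, fun q => rfl⟩
  have hfninj : Function.Injective fn := by
    intro q₁ q₂ h
    rw [hfn, hfn] at h
    exact E.injective (quatToSL_injective h)
  -- equivariance for `g`
  have hequiv : ∀ q : Q, fn (σ q) = matW * fn q * matW⁻¹ := by
    have key : (fn.comp σ.toMonoidHom).comp e' =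
        ((MulAut.conj matW).toMonoidHom.comp fn).comp e' := by
      have hfne : ∀ p, fn (e' p) = quatToSL p := fun p => by rw [hfn, hE]
      apply quat_hom_ext
      · show fn (σ (e' (a 1))) = matW * fn (e' (a 1)) * matW⁻¹
        rw [hfne, he'a, ← he'x, hfne, quatToSL_a_one, quatToSL_xa_zero, matW_conj_M]
      · show fn (σ (e' (xa 0))) = matW * fn (e' (xa 0)) * matW⁻¹
        rw [hfne, he'x, hσy, map_mul, ← he'x, hfne, ← he'a, hfne, quatToSL_a_one,
          quatToSL_xa_zero, matW_conj_N]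
    intro q
    have := DFunLike.congr_fun key (E q)
    simp only [MonoidHom.comp_apply, hE'] at this
    exact this
  -- the complement
  have hdisj : Disjoint Q (Subgroup.zpowers g) := by
    apply Subgroup.disjoint_of_coprime_natCard
    rw [hQcard, Nat.card_zpowers]
    have : Nat.Coprime (2 ^ 3) (orderOf g) := (hodd.coprime_two_right.symm).pow_left 3
    exact this
  have hcompl : Q.IsComplement' (Subgroup.zpowers g) := by
    apply Subgroup.isComplement'_of_disjoint_and_mul_eq_univ hdisj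
    rw [← Subgroup.normal_mul, hgen, Subgroup.coe_top]
  -- the homomorphism on `⟨g⟩`
  have hgen' : ∀ k : Subgroup.zpowers g,
      k ∈ Subgroup.zpowers (⟨g, Subgroup.mem_zpowers g⟩ : Subgroup.zpowers g) := by
    rintro ⟨k, hk⟩
    obtain ⟨n, rfl⟩ := Subgroup.mem_zpowers_iff.mp hk
    exact Subgroup.mem_zpowers_iff.mpr ⟨n, by ext; simp⟩
  have h3g : orderOf matW ∣ orderOf (⟨g, Subgroup.mem_zpowers g⟩ : Subgroup.zpowers g) := by
    rw [Subgroup.orderOf_mk, orderOf_matW]
    have hσ3' : orderOf σ = 3 := orderOf_eq_prime hσ3 hσne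
    rw [← hσ3']
    exact orderOf_dvd_of_pow_eq_one hσk
  obtain ⟨fg, hfg⟩ : ∃ fg : Subgroup.zpowers g →* SL23,
      fg ⟨g, Subgroup.mem_zpowers g⟩ = matW :=
    ⟨monoidHomOfForallMemZpowers hgen' h3g, monoidHomOfForallMemZpowers_apply_gen hgen' h3g⟩
  -- compatibility
  have hNorm : Subgroup.zpowers g ≤ Subgroup.normalizer (Q : Set H) := by
    rw [Subgroup.normalizer_eq_top]; exact le_top
  have hcompat : ∀ k : Subgroup.zpowers g, ∀ q : Q,
      fn ((Q.normalizerMonoidHom (Subgroup.inclusion hNorm k)) q) = fg k * fn q * (fg k)⁻¹ := by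
    let S : Subgroup (Subgroup.zpowers g) :=
      { carrier := {k | ∀ q : Q,
          fn ((Q.normalizerMonoidHom (Subgroup.inclusion hNorm k)) q) = fg k * fn q * (fg k)⁻¹}
        one_mem' := by
          intro q
          simp only [map_one, MulAut.one_apply, one_mul, inv_one, mul_one]
        mul_mem' := by
          intro k₁ k₂ h₁ h₂ q
          rw [map_mul, map_mul, MulAut.mul_apply, h₁, h₂, map_mul]
          group
        inv_mem' := by
          intro k hk q
          have h1 := hk ((Q.normalizerMonoidHom (Subgroup.inclusion hNorm k⁻¹)) q)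
          rw [← MulAut.mul_apply, ← map_mul, ← map_mul, mul_inv_cancel, map_one, map_one,
            MulAut.one_apply] at h1
          rw [map_inv fg k, h1]
          group }
    have hgS : (⟨g, Subgroup.mem_zpowers g⟩ : Subgroup.zpowers g) ∈ S := by
      intro q
      rw [hfg, ← hequiv]
      congr 1
      ext
      rw [hσapp]
      rfl
    intro k
    exact (Subgroup.zpowers_le.mpr hgS) (hgen' k)
  -- the lift
  let Ψ' := SemidirectProduct.lift (φ := (Q.normalizerMonoidHom).comp (Subgroup.inclusion hNorm))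
    fn fg (by
      intro k
      refine MonoidHom.ext fun q => ?_
      exact hcompat k q)
  have hΨ'inl : ∀ q : Q, Ψ' (SemidirectProduct.inl q) = fn q := fun q =>
    SemidirectProduct.lift_inl _ _ _ q
  have hΨ'inr : ∀ k : Subgroup.zpowers g, Ψ' (SemidirectProduct.inr k) = fg k := fun k =>
    SemidirectProduct.lift_inr _ _ _ k
  let ι := SemidirectProduct.mulEquivSubgroup hcompl
  have hιinl : ∀ q : Q, ι (SemidirectProduct.inl q) = (q : H) := by
    intro q
    simp [ι]
  have hιinr : ∀ k : Subgroup.zpowers g, ι (SemidirectProduct.inr k) = (k : H) := by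
    intro k
    simp [ι]
  refine ⟨Ψ'.comp ι.symm.toMonoidHom, ?_⟩
  have hΨQ : ∀ q : Q, (Ψ'.comp ι.symm.toMonoidHom) (q : H) = fn q := by
    intro q
    have h2 : ι.symm (q : H) = SemidirectProduct.inl q := by
      rw [MulEquiv.symm_apply_eq]
      exact (hιinl q).symm
    show Ψ' (ι.symm (q : H)) = _
    rw [h2, hΨ'inl]
  have hΨg : (Ψ'.comp ι.symm.toMonoidHom) g = matW := by
    have h2 : ι.symm g = SemidirectProduct.inr ⟨g, Subgroup.mem_zpowers g⟩ := by
      rw [MulEquiv.symm_apply_eq]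
      exact (hιinr ⟨g, Subgroup.mem_zpowers g⟩).symm
    show Ψ' (ι.symm g) = _
    rw [h2, hΨ'inr, hfg]
  rw [← MonoidHom.range_eq_top]
  apply Subgroup.eq_top_of_le_card
  rw [card_SL23]
  have h8 : 8 ∣ Nat.card (Ψ'.comp ι.symm.toMonoidHom).range := by
    have hle : fn.range ≤ (Ψ'.comp ι.symm.toMonoidHom).range := by
      rintro _ ⟨q, rfl⟩
      exact ⟨(q : H), hΨQ q⟩
    have hc : Nat.card fn.range = 8 := by
      rw [← hQcard]
      exact (Nat.card_congr (MonoidHom.ofInjective hfninj).toEquiv).symm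
    rw [← hc]
    exact Subgroup.card_dvd_of_le hle
  have h3 : 3 ∣ Nat.card (Ψ'.comp ι.symm.toMonoidHom).range := by
    have := Subgroup.orderOf_dvd_natCard (Ψ'.comp ι.symm.toMonoidHom).range
      (⟨g, hΨg⟩ : matW ∈ (Ψ'.comp ι.symm.toMonoidHom).range)
    rwa [orderOf_matW] at this
  have h24 : 8 * 3 ∣ Nat.card (Ψ'.comp ι.symm.toMonoidHom).range :=
    Nat.Coprime.mul_dvd_of_dvd_of_dvd (by norm_num) h8 h3
  exact Nat.le_of_dvd Nat.card_pos h24

/-- **Recognition of `SL(2,3)`**: a group of order `24` with a normal quaternion subgroup of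
order `8` not centralized by some element of odd order is `SL(2,3)`. -/
theorem nonempty_mulEquiv_SL23 {H : Type*} [Group H] [Finite H] (Q : Subgroup H) [Q.Normal]
    (hQ : Nonempty (Q ≃* QuaternionGroup 2)) (g : H) (hodd : Odd (orderOf g))
    (hnc : ∃ q ∈ Q, g * q * g⁻¹ ≠ q) (hcard : Nat.card H = 24) :
    Nonempty (H ≃* SL23) := by
  obtain ⟨e⟩ := hQ
  have hQcard : Nat.card Q = 8 := by
    rw [Nat.card_congr e.toEquiv, Nat.card_eq_fintype_card, QuaternionGroup.card]
  -- `3 ∣ orderOf g`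
  have h3 : 3 ∣ orderOf g := by
    obtain ⟨σ, hσdef⟩ : ∃ σ : MulAut Q, σ = MulAut.conjNormal g := ⟨_, rfl⟩
    have hσk : σ ^ orderOf g = 1 := by
      rw [hσdef, ← map_pow, pow_orderOf_eq_one, map_one]
    have hσne : σ ≠ 1 := by
      intro h1
      obtain ⟨q, hq, hgq⟩ := hnc
      apply hgq
      have : ((σ ⟨q, hq⟩ : Q) : H) = g * q * g⁻¹ := by rw [hσdef, MulAut.conjNormal_apply]
      rw [h1, MulAut.one_apply] at this
      exact this.symm
    obtain ⟨hσ3, -⟩ := exists_adapted e σ hodd hσk hσne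
    have hσ3' : orderOf σ = 3 := orderOf_eq_prime hσ3 hσne
    rw [← hσ3']
    exact orderOf_dvd_of_pow_eq_one hσk
  have hgen : Q ⊔ Subgroup.zpowers g = ⊤ := by
    apply Subgroup.eq_top_of_le_card
    rw [hcard]
    have h8 : 8 ∣ Nat.card (Q ⊔ Subgroup.zpowers g : Subgroup H) := by
      rw [← hQcard]; exact Subgroup.card_dvd_of_le le_sup_left
    have h3' : 3 ∣ Nat.card (Q ⊔ Subgroup.zpowers g : Subgroup H) :=
      h3.trans (Subgroup.orderOf_dvd_natCard _
        ((le_sup_right : Subgroup.zpowers g ≤ Q ⊔ Subgroup.zpowers g) (Subgroup.mem_zpowers g)))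
    have h24 : 8 * 3 ∣ Nat.card (Q ⊔ Subgroup.zpowers g : Subgroup H) :=
      Nat.Coprime.mul_dvd_of_dvd_of_dvd (by norm_num) h8 h3'
    exact Nat.le_of_dvd Nat.card_pos h24
  obtain ⟨Ψ, hΨ⟩ := exists_surjective_hom Q ⟨e⟩ g hodd hgen hnc
  have hbij : Function.Bijective Ψ := by
    rw [Nat.bijective_iff_surjective_and_card]
    exact ⟨hΨ, by rw [hcard, card_SL23]⟩
  exact ⟨MulEquiv.ofBijective Ψ hbij⟩

end Cfsg.Agent.Lib.Helper9.SLTwoThree
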