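import Cfsg.Agent.Lib.Helper9.SL2Upper
import Cfsg.Agent.Lib.Helper15.QuadSL2

/-!
Generation of `SL₂(𝔽_p)` by two non-commuting elements of order `p` (helper9).
-/

set_option autoImplicit false

namespace Cfsg.Agent.Lib.Helper9.SL2Gen

open Matrix Subgroup Cfsg.Agent.Lib.Helper9.SL2Upper

section Field

variable {F : Type*} [Field F]

local notation "SL2" => Matrix.SpecialLinearGroup (Fin 2) F
local notation "M2" => Matrix (Fin 2) (Fin 2) F

/-- the lower unitriangular matrix -/
def lower (s : F) : SL2 := ⟨!![1, 0; s, 1], by simp [Matrix.det_fin_two]⟩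

@[simp] theorem lower_coe (s : F) : ((lower s : SL2) : M2) = !![1, 0; s, 1] := rfl

theorem lower_mul (s t : F) : lower s * lower t = lower (s + t) := by
  apply sl_ext <;>
    simp [Matrix.SpecialLinearGroup.coe_mul, Matrix.mul_apply, Fin.sum_univ_two, add_comm]

theorem lower_zero : lower (0 : F) = 1 := by
  apply sl_ext <;> simp

theorem lower_pow (s : F) (n : ℕ) : lower s ^ n = lower (n * s) := by
  induction n with
  | zero => simp [lower_zero]
  | succ n ih => rw [pow_succ, ih, lower_mul]; congr 1; push_cast; ring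

theorem lower_eq_one_iff (s : F) : lower s = 1 ↔ s = 0 := by
  constructor
  · intro h
    have := congrArg (fun x : SL2 => (x : M2) 1 0) h
    simpa using this
  · rintro rfl; exact lower_zero

/-- a matrix of `SL₂(F)` fixing the second basis vector is lower unitriangular -/
theorem eq_lower_of_fix (x : SL2) (h : (x : M2).mulVec ![0, 1] = ![0, 1]) :
    x = lower ((x : M2) 1 0) := by
  have h0 := congrFun h 0
  have h1 := congrFun h 1
  simp only [Matrix.mulVec, dotProduct, Fin.sum_univ_two, Matrix.cons_val_zero,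
    Matrix.cons_val_one, Matrix.cons_val_fin_one, mul_one, mul_zero, zero_add] at h0 h1
  have hd := det_eq x
  rw [h0, h1, zero_mul, sub_zero, mul_one] at hd
  apply sl_ext
  · simpa using hd
  · simpa using h0
  · simp
  · simpa using h1

/-- Bruhat-type factorization -/
theorem eq_upper_lower_upper (x : SL2) (hc : (x : M2) 1 0 ≠ 0) :
    x = upper (((x : M2) 0 0 - 1) / (x : M2) 1 0) * lower ((x : M2) 1 0) *
      upper (((x : M2) 1 1 - 1) / (x : M2) 1 0) := by
  have hd := det_eq x
  apply sl_ext <;>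
    simp only [Matrix.SpecialLinearGroup.coe_mul, Matrix.mul_apply, Fin.sum_univ_two, upper_coe,
      lower_coe, Matrix.of_apply, Matrix.cons_val', Matrix.cons_val_zero, Matrix.cons_val_one,
      Matrix.cons_val_fin_one]
  · field_simp; ring
  · field_simp
    linear_combination (-1 : F) * hd
  · ring
  · field_simp; ring

/-- `SL₂(F)` is generated by the elementary matrices -/
theorem mem_of_upper_lower (C : Subgroup SL2) (hu : ∀ t, upper t ∈ C) (hl : ∀ t, lower t ∈ C)
    (x : SL2) : x ∈ C := by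
  have key : ∀ y : SL2, (y : M2) 1 0 ≠ 0 → y ∈ C := by
    intro y hy
    rw [eq_upper_lower_upper y hy]
    exact C.mul_mem (C.mul_mem (hu _) (hl _)) (hu _)
  by_cases hc : (x : M2) 1 0 = 0
  · have hd := det_eq x
    rw [hc, mul_zero, sub_zero] at hd
    have ha : (x : M2) 0 0 ≠ 0 := left_ne_zero_of_mul_eq_one hd
    have h1 : lower 1 * x ∈ C := by
      apply key
      simp only [Matrix.SpecialLinearGroup.coe_mul, Matrix.mul_apply, Fin.sum_univ_two, lower_coe,
        Matrix.of_apply, Matrix.cons_val', Matrix.cons_val_zero, Matrix.cons_val_one,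
        Matrix.cons_val_fin_one, hc]
      simpa using ha
    have h2 : x = (lower 1)⁻¹ * (lower 1 * x) := by group
    rw [h2]
    exact C.mul_mem (C.inv_mem (hl 1)) h1
  · exact key x hc

end Field

section Prime

variable {p : ℕ} [hpf : Fact p.Prime]

local notation "SLp" => Matrix.SpecialLinearGroup (Fin 2) (ZMod p)
local notation "Mp" => Matrix (Fin 2) (Fin 2) (ZMod p)

/-- `upper s` and `lower μ` with `s, μ ≠ 0` generate `SL₂(𝔽_p)` -/
theorem closure_upper_lower (s μ : ZMod p) (hs : s ≠ 0) (hμ : μ ≠ 0) :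
    Subgroup.closure {(upper s : SLp), lower μ} = ⊤ := by
  rw [eq_top_iff]
  intro x _
  apply mem_of_upper_lower
  · intro t
    have h1 : upper t = (upper s : SLp) ^ (t * s⁻¹).val := by
      rw [upper_pow, ZMod.natCast_zmod_val, mul_assoc, inv_mul_cancel₀ hs, mul_one]
    rw [h1]
    exact pow_mem (Subgroup.subset_closure (by simp)) _
  · intro t
    have h1 : lower t = (lower μ : SLp) ^ (t * μ⁻¹).val := by
      rw [lower_pow, ZMod.natCast_zmod_val, mul_assoc, inv_mul_cancel₀ hμ, mul_one]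
    rw [h1]
    exact pow_mem (Subgroup.subset_closure (by simp)) _

/-- generators of `closure {u, w}` as a group -/
theorem closure_pair_subtype_eq_top {G : Type*} [Group G] (u w : G)
    (hu : u ∈ Subgroup.closure {u, w}) (hw : w ∈ Subgroup.closure {u, w}) :
    Subgroup.closure {(⟨u, hu⟩ : Subgroup.closure {u, w}), ⟨w, hw⟩} = ⊤ := by
  have h1 := Subgroup.closure_closure_coe_preimage (k := ({u, w} : Set G))
  have h2 : ((↑) : Subgroup.closure ({u, w} : Set G) → G) ⁻¹' {u, w} =
      {(⟨u, hu⟩ : Subgroup.closure ({u, w} : Set G)), ⟨w, hw⟩} := by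
    ext g
    simp only [Set.mem_preimage, Set.mem_insert_iff, Set.mem_singleton_iff, Subtype.ext_iff]
  rw [h2] at h1
  exact h1

/-- proportional vectors -/
theorem exists_smul_of_det_zero {K : Type*} [Field K] (v₁ v₂ : Fin 2 → K) (hv₂ : v₂ ≠ 0)
    (hD : v₁ 0 * v₂ 1 - v₁ 1 * v₂ 0 = 0) : ∃ c : K, v₁ = c • v₂ := by
  by_cases h0 : v₂ 0 = 0
  · have h1 : v₂ 1 ≠ 0 := by
      intro h1
      apply hv₂
      ext i
      fin_cases i
      · exact h0
      · exact h1
    have h2 : v₁ 0 = 0 := by
      rw [h0, mul_zero, sub_zero] at hD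
      rcases mul_eq_zero.1 hD with h | h
      · exact h
      · exact absurd h h1
    refine ⟨v₁ 1 / v₂ 1, ?_⟩
    ext i
    fin_cases i
    · simp [h0, h2]
    · simp; field_simp
  · refine ⟨v₁ 0 / v₂ 0, ?_⟩
    ext i
    fin_cases i
    · simp; field_simp
    · simp; field_simp; linear_combination -hD

/-- two elements of order `p` of `SL₂(𝔽_p)` generating a non-`p`-group generate `SL₂(𝔽_p)` -/
theorem closure_pair_eq_top (u w : SLp) (hu : u ^ p = 1) (hw : w ^ p = 1)
    (hnp : ¬ IsPGroup p (Subgroup.closure {u, w})) : Subgroup.closure {u, w} = ⊤ := by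
  obtain ⟨v₁, hv₁, huv⟩ := exists_fixed_vector p u (k := 1) (by rw [pow_one]; exact hu)
  obtain ⟨v₂, hv₂, hwv⟩ := exists_fixed_vector p w (k := 1) (by rw [pow_one]; exact hw)
  have huL : u ∈ Subgroup.closure {u, w} := Subgroup.subset_closure (by simp)
  have hwL : w ∈ Subgroup.closure {u, w} := Subgroup.subset_closure (by simp)
  have hD : v₁ 0 * v₂ 1 - v₁ 1 * v₂ 0 ≠ 0 := by
    intro hD
    apply hnp
    obtain ⟨c, hc⟩ := exists_smul_of_det_zero v₁ v₂ hv₂ hD
    have hwv₁ : (w : Mp).mulVec v₁ = v₁ := by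
      rw [hc, Matrix.mulVec_smul, hwv]
    refine Cfsg.Agent.Lib.Helper15.QuadSL2.isPGroup_of_common_eigen p _ ⟨u, huL⟩ ⟨w, hwL⟩
      (closure_pair_subtype_eq_top u w huL hwL) (Subtype.ext hu) (Subtype.ext hw) v₁ hv₁ ?_ ?_
    · show (u : Mp).mulVec v₁ ∈ _
      rw [huv]; exact Submodule.mem_span_singleton_self _
    · show (w : Mp).mulVec v₁ ∈ _
      rw [hwv₁]; exact Submodule.mem_span_singleton_self _
  set D := v₁ 0 * v₂ 1 - v₁ 1 * v₂ 0 with hDdef
  obtain ⟨g, hg⟩ : ∃ g : SLp, (g : Mp) = !![v₁ 0, v₂ 0 / D; v₁ 1, v₂ 1 / D] := by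
    refine ⟨⟨!![v₁ 0, v₂ 0 / D; v₁ 1, v₂ 1 / D], ?_⟩, rfl⟩
    rw [Matrix.det_fin_two_of]
    field_simp
    rw [hDdef]; ring
  have hg1 : (g : Mp).mulVec ![1, 0] = v₁ := by
    rw [hg]; ext i; fin_cases i <;> simp [Matrix.mulVec, dotProduct, Fin.sum_univ_two]
  have hg2 : (g : Mp).mulVec ![0, 1] = D⁻¹ • v₂ := by
    rw [hg]; ext i
    fin_cases i <;> simp [Matrix.mulVec, dotProduct, Fin.sum_univ_two, div_eq_inv_mul]
  have hinv : ((g⁻¹ : SLp) : Mp) * (g : Mp) = 1 := by
    rw [← Matrix.SpecialLinearGroup.coe_mul, inv_mul_cancel, Matrix.SpecialLinearGroup.coe_one]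
  have hu' : g⁻¹ * u * g = upper (((g⁻¹ * u * g : SLp) : Mp) 0 1) := by
    apply eq_upper_of_fix
    rw [Matrix.SpecialLinearGroup.coe_mul, Matrix.SpecialLinearGroup.coe_mul,
      ← Matrix.mulVec_mulVec, ← Matrix.mulVec_mulVec, hg1, huv, ← hg1, Matrix.mulVec_mulVec, hinv,
      Matrix.one_mulVec]
  have hw' : g⁻¹ * w * g = lower (((g⁻¹ * w * g : SLp) : Mp) 1 0) := by
    apply eq_lower_of_fix
    rw [Matrix.SpecialLinearGroup.coe_mul, Matrix.SpecialLinearGroup.coe_mul,
      ← Matrix.mulVec_mulVec, ← Matrix.mulVec_mulVec, hg2, Matrix.mulVec_smul, hwv,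
      ← hg2, Matrix.mulVec_mulVec, hinv, Matrix.one_mulVec]
  set s := ((g⁻¹ * u * g : SLp) : Mp) 0 1 with hs
  set μ := ((g⁻¹ * w * g : SLp) : Mp) 1 0 with hμ
  have hu1 : u ≠ 1 := by
    rintro rfl
    apply hnp
    have : Subgroup.closure {(1 : SLp), w} = Subgroup.zpowers w := by
      rw [Subgroup.zpowers_eq_closure]
      apply le_antisymm
      · rw [Subgroup.closure_le]
        rintro x (rfl | rfl)
        · exact Subgroup.one_mem _
        · exact Subgroup.subset_closure rfl
      · exact Subgroup.closure_mono (by simp)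
    rw [this]
    exact IsPGroup.of_card (n := if w = 1 then 0 else 1) (by
      rw [Nat.card_zpowers]
      split_ifs with h
      · rw [h, orderOf_one, pow_zero]
      · rw [pow_one]; exact orderOf_eq_prime hw h)
  have hw1 : w ≠ 1 := by
    rintro rfl
    apply hnp
    have : Subgroup.closure {u, (1 : SLp)} = Subgroup.zpowers u := by
      rw [Subgroup.zpowers_eq_closure]
      apply le_antisymm
      · rw [Subgroup.closure_le]
        rintro x (rfl | rfl)
        · exact Subgroup.subset_closure rfl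
        · exact Subgroup.one_mem _
      · exact Subgroup.closure_mono (by simp)
    rw [this]
    exact IsPGroup.of_card (n := 1) (by
      rw [Nat.card_zpowers, pow_one]; exact orderOf_eq_prime hu hu1)
  have hs0 : s ≠ 0 := by
    intro h0
    apply hu1
    rw [h0, upper_zero] at hu'
    have : u = g * (g⁻¹ * u * g) * g⁻¹ := by group
    rw [this, hu']; group
  have hμ0 : μ ≠ 0 := by
    intro h0
    apply hw1
    rw [h0, lower_zero] at hw'
    have : w = g * (g⁻¹ * w * g) * g⁻¹ := by group
    rw [this, hw']; group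
  have htop := closure_upper_lower s μ hs0 hμ0
  rw [eq_top_iff]
  intro x _
  have hx : g⁻¹ * x * g ∈ Subgroup.closure {(upper s : SLp), lower μ} := htop ▸ Subgroup.mem_top _
  have hle : Subgroup.closure {(upper s : SLp), lower μ} ≤
      (Subgroup.closure {u, w}).comap (MulAut.conj g).toMonoidHom := by
    rw [Subgroup.closure_le]
    rintro y (rfl | rfl)
    · rw [SetLike.mem_coe, Subgroup.mem_comap, MulEquiv.coe_toMonoidHom, MulAut.conj_apply]
      rw [← hu']
      have : g * (g⁻¹ * u * g) * g⁻¹ = u := by group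
      rw [this]; exact huL
    · rw [SetLike.mem_coe, Subgroup.mem_comap, MulEquiv.coe_toMonoidHom, MulAut.conj_apply]
      rw [← hw']
      have : g * (g⁻¹ * w * g) * g⁻¹ = w := by group
      rw [this]; exact hwL
  have := hle hx
  have h3 : g * (g⁻¹ * x * g) * g⁻¹ ∈ Subgroup.closure {u, w} := this
  have h4 : g * (g⁻¹ * x * g) * g⁻¹ = x := by group
  rwa [h4] at h3

end Prime

end Cfsg.Agent.Lib.Helper9.SL2Gen
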