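import Mathlib

set_option autoImplicit false

namespace Cfsg.Agent.Lib.Helper9

/-- Orbit–stabiliser for conjugacy classes: `|g^G| * |C_G(g)| = |G|`. -/
theorem card_carrier_mul_card_centralizer {G : Type*} [Group G] [Finite G] (g : G) :
    Nat.card (ConjClasses.mk g).carrier * Nat.card (Subgroup.centralizer ({g} : Set G)) =
      Nat.card G := by
  rw [Subgroup.nat_card_centralizer_nat_card_stabilizer, ← ConjAct.orbit_eq_carrier_conjClasses]
  have h1 := Subgroup.card_mul_index (MulAction.stabilizer (ConjAct G) g)
  rw [MulAction.index_stabilizer] at h1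
  have h2 : Nat.card (ConjAct G) = Nat.card G := rfl
  rw [Nat.card_coe_set_eq, mul_comm, h1, h2]

/-- Elements commuting with a generator of `zpowers z` commute with `z`. -/
theorem centralizer_singleton_eq_of_mem_zpowers {G : Type*} [Group G] {z w : G}
    (hw : w ∈ Subgroup.zpowers z) (hz : z ∈ Subgroup.zpowers w) :
    Subgroup.centralizer ({w} : Set G) = Subgroup.centralizer ({z} : Set G) := by
  ext y
  simp only [Subgroup.mem_centralizer_singleton_iff]
  constructor
  · intro h
    obtain ⟨k, rfl⟩ := Subgroup.mem_zpowers_iff.mp hz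
    exact ((Commute.zpow_right (show Commute y w from h) k)).eq
  · intro h
    obtain ⟨k, rfl⟩ := Subgroup.mem_zpowers_iff.mp hw
    exact ((Commute.zpow_right (show Commute y z from h) k)).eq

end Cfsg.Agent.Lib.Helper9
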