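import Cfsg.Agent.Lib.Helper9.M11Cert
import Cfsg.Prelude.Def_KGroupFacts

/-!
Every automorphism of the Mathieu group `M11` is inner (helper9).

`M11` is enumerated by a chain of transversals (it is sharply `4`-transitive on the eleven points
of the dodecad of squares other than `0`).  An automorphism is normalised, by inner automorphisms,
to fix a standard involution `x`; the image of the standard element `y` of order four then
satisfies relations which only the `48` conjugates of `y` under the centraliser of `x` satisfy.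
-/

set_option autoImplicit false

namespace Cfsg.Agent.Lib.Helper9.M11Aut

open Cfsg Cfsg.Agent.Lib.Helper21 Cfsg.Agent.Lib.Helper9.M24Coset
open scoped Pointwise

/-! ### an abstract criterion -/

theorem inner_of_gen {G : Type*} [Group G] (x y : G)
    (hx2 : x ^ 2 = 1) (hx1 : x ≠ 1) (hy4 : y ^ 4 = 1) (hxy : (x * y) ^ 11 = 1)
    (hW : (x * y * x * y * y * x * y * y * y) ^ 3 = 1)
    (H1 : ∀ x' : G, x' ^ 2 = 1 → x' ≠ 1 → ∃ k, x' = k * x * k⁻¹)
    (H2 : ∀ y' : G, y' ^ 4 = 1 → (x * y') ^ 11 = 1 →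
      (x * y' * x * y' * y' * x * y' * y' * y') ^ 3 = 1 → ∃ c, c * x = x * c ∧ y' = c * y * c⁻¹)
    (H3 : Subgroup.closure {x, y} = ⊤) (α : MulAut G) : ∃ g, MulAut.conj g = α := by
  obtain ⟨k, hk⟩ := H1 (α x) (by rw [← map_pow, hx2, map_one])
    (fun h => hx1 (by simpa using h))
  -- β fixes x
  have hβx : k⁻¹ * α x * k = x := by rw [hk]; group
  have conjp : ∀ (z : G) (n : ℕ), (k⁻¹ * z * k) ^ n = k⁻¹ * z ^ n * k := by
    intro z n
    have := conj_pow (a := k⁻¹) (b := z) (i := n)
    simpa using this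
  obtain ⟨c, hcx, hc⟩ := H2 (k⁻¹ * α y * k)
    (by
      have : (k⁻¹ * α y * k) ^ 4 = k⁻¹ * α (y ^ 4) * k := by
        rw [map_pow]; simp only [pow_succ, pow_zero, one_mul]; group
      rw [this, hy4, map_one]; group)
    (by
      have : (x * (k⁻¹ * α y * k)) = k⁻¹ * α (x * y) * k := by
        rw [map_mul]; nth_rewrite 1 [← hβx]; group
      rw [this]
      have h2 : (k⁻¹ * α (x * y) * k) ^ 11 = k⁻¹ * α ((x * y) ^ 11) * k := by
        rw [map_pow, conjp]
      rw [h2, hxy, map_one]; group)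
    (by
      have : (x * (k⁻¹ * α y * k) * x * (k⁻¹ * α y * k) * (k⁻¹ * α y * k) * x * (k⁻¹ * α y * k) *
          (k⁻¹ * α y * k) * (k⁻¹ * α y * k)) =
          k⁻¹ * α (x * y * x * y * y * x * y * y * y) * k := by
        simp only [map_mul]
        nth_rewrite 1 [← hβx]
        nth_rewrite 2 [← hβx]
        nth_rewrite 3 [← hβx]
        group
      rw [this]
      have h2 : (k⁻¹ * α (x * y * x * y * y * x * y * y * y) * k) ^ 3 =
          k⁻¹ * α ((x * y * x * y * y * x * y * y * y) ^ 3) * k := by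
        rw [map_pow, conjp]
      rw [h2, hW, map_one]; group)
  refine ⟨k * c, ?_⟩
  -- the two automorphisms agree on the generators
  have hgen : Set.EqOn (MulAut.conj (k * c)).toMonoidHom α.toMonoidHom
      (Subgroup.closure ({x, y} : Set G)) := by
    apply MonoidHom.eqOn_closure
    intro g hg
    show MulAut.conj (k * c) g = α g
    rcases hg with rfl | rfl
    · rw [MulAut.conj_apply, hk]
      have : k * c * g * (k * c)⁻¹ = k * (c * g * c⁻¹) * k⁻¹ := by group
      rw [this, hcx]; group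
    · rw [MulAut.conj_apply]
      have h1 : α g = k * (k⁻¹ * α g * k) * k⁻¹ := by group
      rw [h1, hc]; group
  ext g
  exact hgen (by rw [H3]; exact Subgroup.mem_top g)

/-! ### words of table permutations -/

/-- the permutation of a letter -/
def tpw (e : (ℕ × ℕ) × Bool) : Equiv.Perm GolayPt := if e.2 then (tp e.1)⁻¹ else tp e.1

/-- the permutation of a word -/
def prodT (L : TW) : Equiv.Perm GolayPt := (L.map tpw).prod

theorem tp_inv_ptN {p : ℕ × ℕ} (hv : ValidTab p) (i : ℕ) (hi : i < 24) :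
    (tp p)⁻¹ (ptN i) = ptN (tabGet p.2 i) := by
  rw [tp_eq hv, permOfTab_inv]
  exact permOfTab_ptN _ _ _ i hi

theorem stepT_spec (e : (ℕ × ℕ) × Bool) (hv : ValidTab e.1) (i : ℕ) (hi : i < 24) :
    tpw e (ptN i) = ptN (stepT e i) ∧ stepT e i < 24 := by
  unfold tpw stepT
  by_cases h : e.2 = true
  · rw [if_pos h, if_pos h]
    exact ⟨tp_inv_ptN hv i hi, (hv.1 ⟨i, hi⟩).2.1⟩
  · rw [if_neg h, if_neg h]
    exact ⟨tp_ptN hv i hi, tabGet_lt hv i hi⟩

theorem prodT_ptN (L : TW) (hv : ∀ e ∈ L, ValidTab e.1) (i : ℕ) (hi : i < 24) :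
    prodT L (ptN i) = ptN (img L i) ∧ img L i < 24 := by
  induction L with
  | nil => exact ⟨rfl, hi⟩
  | cons e L ih =>
    have ih' := ih (fun e he => hv e (List.mem_cons_of_mem _ he))
    have hs := stepT_spec e (hv e List.mem_cons_self) (img L i) ih'.2
    unfold prodT img at *
    rw [List.map_cons, List.prod_cons, List.foldr_cons, Equiv.Perm.mul_apply, ih'.1]
    exact hs

theorem prodT_append (L L' : TW) : prodT (L ++ L') = prodT L * prodT L' := by
  unfold prodT
  rw [List.map_append, List.prod_append]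

theorem prodT_invW (L : TW) : prodT (invW L) = (prodT L)⁻¹ := by
  unfold prodT invW
  rw [List.prod_inv_reverse, List.map_reverse, List.map_map, List.map_map]
  congr 2
  apply List.map_congr_left
  intro e _
  unfold tpw
  cases h : e.2 <;> simp [h]

theorem prodT_rep (n : ℕ) (L : TW) : prodT (rep n L) = prodT L ^ n := by
  induction n with
  | zero => rfl
  | succ n ih =>
    unfold rep at *
    rw [List.replicate_succ, List.flatten_cons, prodT_append, ih, pow_succ']

theorem mem_invW {L : TW} {e : (ℕ × ℕ) × Bool} (he : e ∈ invW L) : ∃ e' ∈ L, e'.1 = e.1 := by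
  unfold invW at he
  rw [List.mem_reverse, List.mem_map] at he
  obtain ⟨e', he', rfl⟩ := he
  exact ⟨e', he', rfl⟩

theorem mem_rep {n : ℕ} {L : TW} {e : (ℕ × ℕ) × Bool} (he : e ∈ rep n L) : e ∈ L := by
  unfold rep at he
  rw [List.mem_flatten] at he
  obtain ⟨l, hl, hel⟩ := he
  rw [List.eq_of_mem_replicate hl] at hel
  exact hel

theorem idOn_of_eq_one (L : TW) (hv : ∀ e ∈ L, ValidTab e.1) (h : prodT L = 1) :
    idOn L = true := by
  unfold idOn
  rw [List.all_eq_true]
  intro i hi
  rw [List.mem_range] at hi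
  rw [beq_iff_eq]
  have h1 := prodT_ptN L hv i hi
  rw [h] at h1
  exact (ptN_injOn h1.2 hi h1.1.symm)

theorem eq_of_imgs_eq (L L' : TW) (hv : ∀ e ∈ L, ValidTab e.1) (hv' : ∀ e ∈ L', ValidTab e.1)
    (h : imgs L = imgs L') : prodT L = prodT L' := by
  apply perm_ext_ptN
  intro i
  rw [(prodT_ptN L hv i i.isLt).1, (prodT_ptN L' hv' i i.isLt).1]
  congr 1
  unfold imgs at h
  have := List.map_inj_left.1 h (i : ℕ) (List.mem_range.2 i.isLt)
  exact this

theorem eq_one_of_imgs_eq_idL (L : TW) (hv : ∀ e ∈ L, ValidTab e.1) (h : imgs L = idL) :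
    prodT L = 1 := by
  apply perm_ext_ptN
  intro i
  rw [(prodT_ptN L hv i i.isLt).1]
  unfold imgs idL at h
  have h1 : (List.range 24).map (img L) = (List.range 24).map id := by rw [h, List.map_id]
  have := List.map_inj_left.1 h1 (i : ℕ) (List.mem_range.2 i.isLt)
  rw [this]
  rfl

/-! ### membership in `M11` -/

theorem tp_mem_M11 {p : ℕ × ℕ} (h : TabOK p) : tp p ∈ Spor.M11 := by
  rw [mem_M11_iff]
  refine ⟨tp_mem h.1, ?_, ?_⟩
  · rw [tp_smul_eq_iff h.1, ← maskFS_dsq, fsMask_maskFS _ (by decide), ← actF_eq]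
    exact h.2.1
  · rw [tp_ptN h.1 0 (by norm_num), h.2.2]

theorem prodT_mem (L : TW) (h : ∀ e ∈ L, TabOK e.1) : prodT L ∈ Spor.M11 := by
  unfold prodT
  apply Subgroup.list_prod_mem
  intro g hg
  rw [List.mem_map] at hg
  obtain ⟨e, he, rfl⟩ := hg
  unfold tpw
  split
  · exact Spor.M11.inv_mem (tp_mem_M11 (h e he))
  · exact tp_mem_M11 (h e he)

theorem getD_ok (U : List (ℕ × ℕ)) (hU : ∀ u ∈ U, TabOK u) (i : ℕ) : TabOK (U.getD i idT) := by
  rw [List.getD_eq_getElem?_getD]
  cases h : U[i]? with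
  | none => exact idT_ok
  | some u => exact hU u (List.mem_of_getElem? h)

theorem elt_ok (t : ℕ × ℕ × ℕ × ℕ) : ∀ e ∈ elt t, TabOK e.1 := by
  intro e he
  unfold elt pos at he
  simp only [List.map_cons, List.map_nil, List.mem_cons, List.not_mem_nil, or_false] at he
  rcases he with rfl | rfl | rfl | rfl
  · exact getD_ok U1 U1_ok _
  · exact getD_ok U2 U2_ok _
  · exact getD_ok U3 U3_ok _
  · exact getD_ok U4 U4_ok _

theorem xW_ok : ∀ e ∈ xW, TabOK e.1 := by
  intro e he
  unfold xW at he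
  rw [List.mem_singleton] at he
  rw [he]
  exact xT_ok

theorem yW_ok : ∀ e ∈ yW, TabOK e.1 := by
  intro e he
  unfold yW at he
  rw [List.mem_singleton] at he
  rw [he]
  exact yT_ok

theorem prodT_xW : prodT xW = tp xT := by
  unfold prodT xW tpw
  simp

theorem prodT_yW : prodT yW = tp yT := by
  unfold prodT yW tpw
  simp

/-! ### the enumeration of `M11` -/

theorem ptN_mem_dsq (k : ℕ) (hk : k < 5) : ptN k ∈ maskFS dsq := by
  rw [mem_maskFS, gEquiv_ptN_val k (by omega)]
  exact dsq_low k hk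

theorem chain_step (k : ℕ) (hk : k < 5) (U : List (ℕ × ℕ)) (hok : ∀ u ∈ U, TabOK u)
    (hfix : ∀ u ∈ U, ∀ i < k, tabGet u.1 i = i)
    (hcov : ∀ t < 24, dsq.testBit t = true → k ≤ t → ∃ u ∈ U, tabGet u.1 k = t)
    (g : Equiv.Perm GolayPt) (hg : g ∈ conSub [dsq] (m12Fs k)) :
    ∃ u ∈ U, (tp u)⁻¹ * g ∈ conSub [dsq] (m12Fs (k + 1)) := by
  have hg' := mem_conSub.1 hg
  have hstab : StabM g dsq := hg'.2.1 dsq (by simp)
  have hmem : g (ptN k) ∈ maskFS dsq := hstab.apply_mem (ptN_mem_dsq k hk)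
  set t : ℕ := ((gEquiv (g (ptN k)) : Fin 24) : ℕ) with ht
  have ht24 : t < 24 := (gEquiv (g (ptN k))).isLt
  have hgt : g (ptN k) = ptN t := (ptN_gEquiv _).symm
  have hbit : dsq.testBit t = true := by
    rw [mem_maskFS] at hmem
    exact hmem
  have hkt : k ≤ t := by
    by_contra hlt
    push Not at hlt
    have h1 : g (ptN t) = ptN t := hg'.2.2 t ((mem_m12Fs k t).2 hlt)
    have h2 : ptN k = ptN t := g.injective (by rw [hgt, h1])
    have := ptN_injOn (by omega) ht24 h2
    omega
  obtain ⟨u, hu, hut⟩ := hcov t ht24 hbit hkt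
  refine ⟨u, hu, ?_⟩
  have hv := (hok u hu).1
  have hu11 : tp u ∈ Spor.M11 := tp_mem_M11 (hok u hu)
  rw [mem_M11_iff] at hu11
  rw [mem_conSub]
  refine ⟨M24.mul_mem (M24.inv_mem hu11.1) hg'.1, ?_, ?_⟩
  · intro D hD
    rw [List.mem_singleton] at hD
    rw [hD]
    have hsu : StabM (tp u) dsq := by
      unfold StabM
      rw [maskFS_dsq]
      exact hu11.2.1
    exact hsu.inv.mul hstab
  · intro i hi
    rw [m12Fs, List.mem_cons, mem_m12Fs] at hi
    rw [Equiv.Perm.mul_apply]
    rcases hi with rfl | hi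
    · rw [hgt, ← hut, ← tp_ptN hv i (by omega), perm_inv_apply]
    · rw [hg'.2.2 i ((mem_m12Fs k i).2 hi)]
      have : tp u (ptN i) = ptN i := by rw [tp_ptN hv i (by omega), hfix u hu i hi]
      nth_rewrite 1 [← this]
      rw [perm_inv_apply]

theorem enum_M11 (g : Equiv.Perm GolayPt) (hg : g ∈ Spor.M11) :
    ∃ a ∈ U1, ∃ b ∈ U2, ∃ c ∈ U3, ∃ d ∈ U4, g = prodT (pos [a, b, c, d]) := by
  have h1 : g ∈ conSub [dsq] (m12Fs 1) := by
    show g ∈ conSub [dsq] [0]
    rw [conSub_dsq_zero]
    exact hg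
  obtain ⟨a, ha, h2⟩ := chain_step 1 (by norm_num) U1 U1_ok U1_fix U1_cover g h1
  obtain ⟨b, hb, h3⟩ := chain_step 2 (by norm_num) U2 U2_ok U2_fix U2_cover _ h2
  obtain ⟨c, hc, h4⟩ := chain_step 3 (by norm_num) U3 U3_ok U3_fix U3_cover _ h3
  obtain ⟨d, hd, h5⟩ := chain_step 4 (by norm_num) U4 U4_ok U4_fix U4_cover _ h4
  refine ⟨a, ha, b, hb, c, hc, d, hd, ?_⟩
  rw [conSub_m12_five, Subgroup.mem_bot] at h5
  have : prodT (pos [a, b, c, d]) = tp a * (tp b * (tp c * (tp d * 1))) := by
    unfold prodT pos tpw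
    simp
  rw [this, mul_one]
  have h6 : g = tp a * (tp b * (tp c * (tp d * ((tp d)⁻¹ * ((tp c)⁻¹ * ((tp b)⁻¹ * ((tp a)⁻¹ * g))))))) := by
    group
  rw [h6, h5]
  group


/-! ### well-formed words -/

/-- all tables of the word are fine -/
def WOK (L : TW) : Prop := ∀ e ∈ L, TabOK e.1

theorem WOK.valid {L : TW} (h : WOK L) : ∀ e ∈ L, ValidTab e.1 := fun e he => (h e he).1

theorem WOK.append {L L' : TW} (h : WOK L) (h' : WOK L') : WOK (L ++ L') := by
  intro e he
  rcases List.mem_append.1 he with he | he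
  · exact h e he
  · exact h' e he

theorem WOK.rep {L : TW} (h : WOK L) (n : ℕ) : WOK (rep n L) := fun e he => h e (mem_rep he)

theorem WOK.invW {L : TW} (h : WOK L) : WOK (invW L) := by
  intro e he
  obtain ⟨e', he', e1⟩ := mem_invW he
  rw [← e1]
  exact h e' he'

theorem wok_pos4 {a b c d : ℕ × ℕ} (ha : a ∈ U1) (hb : b ∈ U2) (hc : c ∈ U3) (hd : d ∈ U4) :
    WOK (pos [a, b, c, d]) := by
  intro e he
  unfold pos at he
  simp only [List.map_cons, List.map_nil, List.mem_cons, List.not_mem_nil, or_false] at he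
  rcases he with rfl | rfl | rfl | rfl
  · exact U1_ok a ha
  · exact U2_ok b hb
  · exact U3_ok c hc
  · exact U4_ok d hd

theorem wok_xW : WOK xW := xW_ok
theorem wok_yW : WOK yW := yW_ok
theorem wok_elt (t : ℕ × ℕ × ℕ × ℕ) : WOK (elt t) := elt_ok t

theorem wok_letters (w : List Bool) : WOK (w.map letter) := by
  intro e he
  rw [List.mem_map] at he
  obtain ⟨b, _, rfl⟩ := he
  unfold letter
  cases b
  · exact yT_ok
  · exact xT_ok

theorem WOK.wordW {X Y : TW} (hX : WOK X) (hY : WOK Y) : WOK (wordW X Y) := by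
  unfold M11Aut.wordW
  exact ((((((((hX.append hY).append hX).append hY).append hY).append hX).append hY).append
    hY).append hY)

theorem prodT_wordW (X Y : TW) : prodT (wordW X Y) =
    prodT X * prodT Y * prodT X * prodT Y * prodT Y * prodT X * prodT Y * prodT Y * prodT Y := by
  unfold wordW
  simp only [prodT_append]

theorem eq_one_of_idOn (L : TW) (h : WOK L) (hid : idOn L = true) : prodT L = 1 := by
  apply perm_ext_ptN
  intro i
  rw [(prodT_ptN L h.valid i i.isLt).1]
  unfold idOn at hid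
  rw [List.all_eq_true] at hid
  have := hid (i : ℕ) (List.mem_range.2 i.isLt)
  rw [beq_iff_eq] at this
  rw [this]
  rfl

/-! ### the generators in `M11` -/

/-- the standard involution of `M11` -/
def xG : ↥Spor.M11 := ⟨tp xT, tp_mem_M11 xT_ok⟩
/-- the standard element of order four of `M11` -/
def yG : ↥Spor.M11 := ⟨tp yT, tp_mem_M11 yT_ok⟩

/-- the element of a word in the generators -/
def evalW (w : List Bool) : ↥Spor.M11 := (w.map fun b => if b then xG else yG).prod

theorem evalW_coe (w : List Bool) : ((evalW w : ↥Spor.M11) : Equiv.Perm GolayPt) =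
    prodT (w.map letter) := by
  induction w with
  | nil => rfl
  | cons b w ih =>
    unfold evalW prodT at *
    rw [List.map_cons, List.prod_cons, Subgroup.coe_mul, ih, List.map_cons, List.map_cons,
      List.prod_cons]
    congr 1
    unfold letter tpw xG yG
    cases b <;> rfl

theorem evalW_mem (w : List Bool) : evalW w ∈ Subgroup.closure ({xG, yG} : Set ↥Spor.M11) := by
  unfold evalW
  apply Subgroup.list_prod_mem
  intro g hg
  rw [List.mem_map] at hg
  obtain ⟨b, _, rfl⟩ := hg
  apply Subgroup.subset_closure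
  cases b
  · right; rfl
  · left; rfl

theorem tp_mem_closure (U : List (ℕ × ℕ)) (Wd : List (List Bool)) (hU : ∀ u ∈ U, TabOK u)
    (hW : ∀ u ∈ U, ∃ w ∈ Wd, imgs (w.map letter) = imgs (pos [u])) (u : ℕ × ℕ) (hu : u ∈ U)
    (g : ↥Spor.M11) (hg : (g : Equiv.Perm GolayPt) = tp u) :
    g ∈ Subgroup.closure ({xG, yG} : Set ↥Spor.M11) := by
  obtain ⟨w, _, hw⟩ := hW u hu
  have hpu : WOK (pos [u]) := by
    intro e he
    unfold pos at he
    simp only [List.map_cons, List.map_nil, List.mem_singleton] at he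
    rw [he]
    exact hU u hu
  have h1 := eq_of_imgs_eq _ _ (wok_letters w).valid hpu.valid hw
  have h2 : prodT (pos [u]) = tp u := by
    unfold prodT pos tpw
    simp
  have : g = evalW w := by
    apply Subtype.ext
    rw [evalW_coe, h1, h2, hg]
  rw [this]
  exact evalW_mem w

theorem closure_gen : Subgroup.closure ({xG, yG} : Set ↥Spor.M11) = ⊤ := by
  rw [Subgroup.eq_top_iff']
  intro g
  obtain ⟨a, ha, b, hb, c, hc, d, hd, e⟩ := enum_M11 g g.2
  have hprod : prodT (pos [a, b, c, d]) = tp a * (tp b * (tp c * tp d)) := by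
    unfold prodT pos tpw
    simp
  have hg : g = (⟨tp a, tp_mem_M11 (U1_ok a ha)⟩ : ↥Spor.M11) *
      (⟨tp b, tp_mem_M11 (U2_ok b hb)⟩ * (⟨tp c, tp_mem_M11 (U3_ok c hc)⟩ *
        ⟨tp d, tp_mem_M11 (U4_ok d hd)⟩)) := by
    apply Subtype.ext
    rw [e, hprod]
    rfl
  rw [hg]
  exact Subgroup.mul_mem _ (tp_mem_closure U1 W1 U1_ok W1_ok a ha _ rfl)
    (Subgroup.mul_mem _ (tp_mem_closure U2 W2 U2_ok W2_ok b hb _ rfl)
      (Subgroup.mul_mem _ (tp_mem_closure U3 W3 U3_ok W3_ok c hc _ rfl)
        (tp_mem_closure U4 W4 U4_ok W4_ok d hd _ rfl)))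

theorem chkAll_spec {a b c d : ℕ × ℕ} (ha : a ∈ U1) (hb : b ∈ U2) (hc : c ∈ U3) (hd : d ∈ U4) :
    (idOn (rep 2 (pos [a, b, c, d])) = true →
      imgs (pos [a, b, c, d]) = idL ∨ imgs (pos [a, b, c, d]) ∈ conjX.map Prod.fst) ∧
    (chkP (pos [a, b, c, d]) = true → imgs (pos [a, b, c, d]) ∈ conjY.map Prod.fst) := by
  have h := chkAll_ok
  unfold chkAll at h
  rw [List.all_eq_true] at h
  have h1 := h a ha
  rw [List.all_eq_true] at h1
  have h2 := h1 b hb
  rw [List.all_eq_true] at h2
  have h3 := h2 c hc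
  rw [List.all_eq_true] at h3
  have h4 := h3 d hd
  rw [Bool.and_eq_true, Bool.or_eq_true, Bool.or_eq_true, Bool.or_eq_true, Bool.not_eq_true',
    Bool.not_eq_true', beq_iff_eq, List.contains_iff_mem, List.contains_iff_mem] at h4
  constructor
  · intro hi
    rcases h4.1 with h5 | h5
    · rw [hi] at h5; exact absurd h5 (by decide)
    · exact h5
  · intro hi
    rcases h4.2 with h5 | h5
    · rw [hi] at h5; exact absurd h5 (by decide)
    · exact h5

/-- Every automorphism of `M11` is inner. -/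
theorem aut_inner (α : MulAut ↥Spor.M11) : ∃ g, MulAut.conj g = α := by
  have hx : prodT xW = (xG : Equiv.Perm GolayPt) := prodT_xW
  have hy : prodT yW = (yG : Equiv.Perm GolayPt) := prodT_yW
  obtain ⟨r1, r2, r3, r4, r5⟩ := gen_rel
  apply inner_of_gen xG yG
  · apply Subtype.ext
    have := eq_one_of_idOn _ (wok_xW.rep 2) r1
    rw [prodT_rep, hx] at this
    exact this
  · intro h
    apply r2
    have h1 := (prodT_ptN xW wok_xW.valid 4 (by norm_num)).1
    rw [hx, h] at h1
    exact (ptN_injOn (prodT_ptN xW wok_xW.valid 4 (by norm_num)).2 (by norm_num) h1.symm)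
  · apply Subtype.ext
    have := eq_one_of_idOn _ (wok_yW.rep 4) r3
    rw [prodT_rep, hy] at this
    exact this
  · apply Subtype.ext
    have := eq_one_of_idOn _ ((wok_xW.append wok_yW).rep 11) r4
    rw [prodT_rep, prodT_append, hx, hy] at this
    exact this
  · apply Subtype.ext
    have := eq_one_of_idOn _ ((wok_xW.wordW wok_yW).rep 3) r5
    rw [prodT_rep, prodT_wordW, hx, hy] at this
    exact this
  · -- involutions are conjugate
    intro x' hx2 hx1
    obtain ⟨a, ha, b, hb, c, hc, d, hd, e⟩ := enum_M11 x' x'.2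
    have hL := wok_pos4 ha hb hc hd
    have hid : idOn (rep 2 (pos [a, b, c, d])) = true := by
      apply idOn_of_eq_one _ (hL.rep 2).valid
      rw [prodT_rep, ← e]
      have := congrArg Subtype.val hx2
      exact this
    rcases (chkAll_spec ha hb hc hd).1 hid with h | h
    · exfalso
      apply hx1
      apply Subtype.ext
      rw [e, eq_one_of_imgs_eq_idL _ hL.valid h]
      rfl
    · rw [List.mem_map] at h
      obtain ⟨en, hen, he1⟩ := h
      have h2 := conjX_ok en hen
      rw [he1] at h2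
      have hk := ((wok_elt en.2).append wok_xW).append (wok_elt en.2).invW
      have h3 := eq_of_imgs_eq _ _ hk.valid hL.valid h2
      rw [prodT_append, prodT_append, prodT_invW, hx, ← e] at h3
      refine ⟨⟨prodT (elt en.2), prodT_mem _ (wok_elt en.2)⟩, ?_⟩
      apply Subtype.ext
      exact h3.symm
  · -- partners of the involution
    intro y' hy4 hy11 hyW
    obtain ⟨a, ha, b, hb, c, hc, d, hd, e⟩ := enum_M11 y' y'.2
    have hL := wok_pos4 ha hb hc hd
    have hP : chkP (pos [a, b, c, d]) = true := by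
      unfold chkP
      rw [Bool.and_eq_true, Bool.and_eq_true]
      refine ⟨⟨?_, ?_⟩, ?_⟩
      · apply idOn_of_eq_one _ (hL.rep 4).valid
        rw [prodT_rep, ← e]
        exact congrArg Subtype.val hy4
      · apply idOn_of_eq_one _ ((wok_xW.append hL).rep 11).valid
        rw [prodT_rep, prodT_append, hx, ← e]
        exact congrArg Subtype.val hy11
      · apply idOn_of_eq_one _ ((wok_xW.wordW hL).rep 3).valid
        rw [prodT_rep, prodT_wordW, hx, ← e]
        exact congrArg Subtype.val hyW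
    have h := (chkAll_spec ha hb hc hd).2 hP
    rw [List.mem_map] at h
    obtain ⟨en, hen, he1⟩ := h
    obtain ⟨h2, h2c⟩ := conjY_ok en hen
    rw [he1] at h2
    have hk := ((wok_elt en.2).append wok_yW).append (wok_elt en.2).invW
    have h3 := eq_of_imgs_eq _ _ hk.valid hL.valid h2
    rw [prodT_append, prodT_append, prodT_invW, hy, ← e] at h3
    have h4 := eq_of_imgs_eq _ _ ((wok_elt en.2).append wok_xW).valid
      (wok_xW.append (wok_elt en.2)).valid h2c
    rw [prodT_append, prodT_append, hx] at h4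
    refine ⟨⟨prodT (elt en.2), prodT_mem _ (wok_elt en.2)⟩, ?_, ?_⟩
    · apply Subtype.ext
      exact h4
    · apply Subtype.ext
      exact h3.symm
  · exact closure_gen

/-- The outer automorphism group of `M11` is trivial. -/
theorem card_out : Nat.card (Cfsg.Out ↥Spor.M11) = 1 := by
  have : Subsingleton (Cfsg.Out ↥Spor.M11) := by
    constructor
    intro a b
    induction a using QuotientGroup.induction_on with
    | H a =>
      induction b using QuotientGroup.induction_on with
      | H b =>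
        rw [QuotientGroup.eq]
        obtain ⟨g, hg⟩ := aut_inner (a⁻¹ * b)
        exact ⟨g, hg⟩
  exact Nat.card_of_subsingleton 1

end Cfsg.Agent.Lib.Helper9.M11Aut
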