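import Cfsg.Agent.Lib.Helper9.AutElemAbSq
import Cfsg.Agent.Lib.Lead.BaerSuzuki
import Cfsg.Agent.Lib.Helper2.Cores
import Cfsg.Prelude.Def_FusionSystem
import Cfsg.Prelude.Def_EvenType

/-!
Essential subgroups of order `p²` of a fusion system (helper9).
-/

set_option autoImplicit false

namespace Cfsg.Agent.Lib.Helper9.EssentialPSq

open Subgroup Cfsg Cfsg.Agent.Lib.Helper9.AutElemAbSq

/-- a finite group with a strongly `p`-embedded subgroup has two `p`-elements generating a
non-`p`-group -/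
theorem exists_pair_of_stronglyPEmbedded {X : Type*} [Group X] [Finite X] (p : ℕ)
    [hpf : Fact p.Prime] (E : Subgroup X) (hE : IsStronglyPEmbedded p E) :
    ∃ a b : X, (∃ k : ℕ, a ^ (p ^ k) = 1) ∧ (∃ k : ℕ, b ^ (p ^ k) = 1) ∧
      ¬ IsPGroup p (closure {a, b}) := by
  obtain ⟨hdvd, hEtop, P, hP⟩ := hE
  -- `P` is not normal
  have hPn : ¬ (P : Subgroup X).Normal := by
    intro hn
    apply hEtop
    rw [eq_top_iff]
    refine le_trans ?_ hP
    have hnorm : normalizer ((P : Subgroup X) : Set X) = ⊤ := normalizer_eq_top (P : Subgroup X)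
    rw [← hnorm]
    have hrank : ¬ PRankLE p (1 - 1) (P : Subgroup X) := by
      intro hr
      have hdvd' : p ∣ Nat.card (P : Subgroup X) := P.dvd_card_of_dvd_card hdvd
      obtain ⟨x, hx⟩ := exists_prime_orderOf_dvd_card' p hdvd'
      have hc : IsMulCommutative (zpowers x) := ⟨⟨fun u v => by
        obtain ⟨u, i, rfl⟩ := u
        obtain ⟨v, j, rfl⟩ := v
        exact Subtype.ext (zpow_mul_comm x i j)⟩⟩
      have := hr (zpowers x) hc (by
        intro y hy
        obtain ⟨i, rfl⟩ := mem_zpowers_iff.1 hy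
        have hxp : x ^ p = 1 := by
          have := pow_orderOf_eq_one x
          rwa [hx] at this
        rw [← zpow_natCast, ← zpow_mul, mul_comm, zpow_mul, zpow_natCast, hxp, one_zpow])
      rw [Nat.card_zpowers, hx] at this
      have h2 := hpf.out.two_le
      simp at this
      omega
    exact le_iSup (fun Q : {Q : Subgroup X // Q ≤ (P : Subgroup X) ∧ ¬ PRankLE p (1 - 1) Q} =>
      normalizer ((Q : Subgroup X) : Set X)) ⟨(P : Subgroup X), le_rfl, hrank⟩
  by_contra hall
  push Not at hall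
  apply hPn
  have hle : (P : Subgroup X) ≤ pCore p X := by
    intro a haP
    obtain ⟨k, hk⟩ := P.2 ⟨a, haP⟩
    have hak : a ^ (p ^ k) = 1 := by
      have := congrArg Subtype.val hk
      simpa using this
    obtain ⟨N, hNn, hNp, hN⟩ := Cfsg.Agent.Lib.Lead.baer_suzuki_subgroup (p := p) (zpowers a) (by
      intro g
      have h1 : zpowers a ⊔ (zpowers a).map (MulAut.conj g).toMonoidHom =
          closure {a, g * a * g⁻¹} := by
        rw [MonoidHom.map_zpowers, zpowers_eq_closure, zpowers_eq_closure, ← Subgroup.closure_union]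
        rfl
      rw [h1]
      apply hall a (g * a * g⁻¹) ⟨k, hak⟩ ⟨k, _⟩
      rw [conj_pow, hak, mul_one, mul_inv_cancel])
    exact Cfsg.Agent.Lib.Helper2.le_pCore hNn hNp (hN (mem_zpowers a))
  have heq : pCore p X = (P : Subgroup X) :=
    P.is_maximal' (Cfsg.Agent.Lib.Helper2.pCore_isPGroup p) hle
  rw [← heq]
  exact Cfsg.Agent.Lib.Helper2.pCore_normal p

/-- two commuting `p`-elements generate a `p`-group -/
theorem isPGroup_closure_pair_of_comm {A : Type*} [Group A] (p : ℕ) [hpf : Fact p.Prime]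
    (hcomm : ∀ x y : A, x * y = y * x) (a b : A) (ha : ∃ k : ℕ, a ^ (p ^ k) = 1)
    (hb : ∃ k : ℕ, b ^ (p ^ k) = 1) : IsPGroup p (closure {a, b}) := by
  letI : CommGroup A := { (inferInstance : Group A) with mul_comm := hcomm }
  obtain ⟨k₁, hk₁⟩ := ha
  obtain ⟨k₂, hk₂⟩ := hb
  rintro ⟨x, hx⟩
  obtain ⟨m, n, rfl⟩ := mem_closure_pair.1 hx
  refine ⟨k₁ + k₂, Subtype.ext ?_⟩
  show (a ^ m * b ^ n) ^ (p ^ (k₁ + k₂)) = 1
  rw [mul_pow, ← zpow_natCast, ← zpow_natCast, ← zpow_mul, ← zpow_mul, mul_comm m, mul_comm n,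
    zpow_mul, zpow_mul, zpow_natCast, zpow_natCast, pow_add, pow_mul, hk₁, one_pow, one_zpow,
    mul_comm (p ^ k₁), pow_mul, hk₂, one_pow, one_zpow, one_mul]

/-- **S5185.** -/
theorem main {Ω : Type*} [Group Ω] {S : Subgroup Ω} [Finite S] (p : ℕ) [hpf : Fact p.Prime]
    (F : FusionSystem S) (H : Subgroup Ω) (hH : F.IsEssential p H)
    (hcard : Nat.card H = p ^ 2) :
    IsElementaryAbelian p H ∧
      ∃ K : Subgroup ↥(F.autGroup H),
        Nonempty (↥K ≃* Matrix.SpecialLinearGroup (Fin 2) (ZMod p)) := by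
  classical
  obtain ⟨-, -, hNn, E, hE⟩ := hH
  have hp := hpf.out
  have : Finite H := Nat.finite_of_card_ne_zero (by rw [hcard]; exact pow_ne_zero _ hp.ne_zero)
  have hcomm : ∀ x y : H, x * y = y * x := IsPGroup.commutative_of_card_eq_prime_sq hcard
  letI : CommGroup H := { (inferInstance : Group H) with mul_comm := hcomm }
  have : Finite (MulAut H) := inferInstance
  -- `Inn H` is trivial
  have hN : (Inn H).subgroupOf (F.autGroup H) = ⊥ := by
    rw [eq_bot_iff]
    rintro ⟨α, hα⟩ hmem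
    rw [mem_subgroupOf] at hmem
    obtain ⟨h, hh⟩ := hmem
    rw [mem_bot]
    apply Subtype.ext
    show α = 1
    have hh' : MulAut.conj h = α := hh
    rw [← hh']
    ext x
    show ((h * x * h⁻¹ : H) : Ω) = x
    rw [hcomm h x, mul_inv_cancel_right]
  obtain ⟨a', b', ha', hb', hnp'⟩ := exists_pair_of_stronglyPEmbedded p E hE
  obtain ⟨a, rfl⟩ := QuotientGroup.mk'_surjective _ a'
  obtain ⟨b, rfl⟩ := QuotientGroup.mk'_surjective _ b'
  have hinj : ∀ x : F.autGroup H,
      QuotientGroup.mk' ((Inn H).subgroupOf (F.autGroup H)) x = 1 → x = 1 := by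
    intro x hx
    have : x ∈ (QuotientGroup.mk' ((Inn H).subgroupOf (F.autGroup H))).ker := hx
    rw [QuotientGroup.ker_mk', hN, mem_bot] at this
    exact this
  have ha : ∃ k : ℕ, a ^ (p ^ k) = 1 := by
    obtain ⟨k, hk⟩ := ha'
    exact ⟨k, hinj _ (by rw [map_pow]; exact hk)⟩
  have hb : ∃ k : ℕ, b ^ (p ^ k) = 1 := by
    obtain ⟨k, hk⟩ := hb'
    exact ⟨k, hinj _ (by rw [map_pow]; exact hk)⟩
  have hnp : ¬ IsPGroup p (closure {a, b}) := by
    intro h
    apply hnp'
    have h1 := h.map (QuotientGroup.mk' ((Inn H).subgroupOf (F.autGroup H)))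
    rw [MonoidHom.map_closure, Set.image_pair] at h1
    exact h1
  -- exponent `p`
  have hexp : ∀ h : H, h ^ p = 1 := by
    by_contra hcon
    push Not at hcon
    obtain ⟨h, hh⟩ := hcon
    have hord : orderOf h = p ^ 2 := by
      have h1 : orderOf h ∣ p ^ 2 := hcard ▸ orderOf_dvd_natCard h
      obtain ⟨i, hi, hi'⟩ := (Nat.dvd_prime_pow hp).1 h1
      interval_cases i
      · exfalso; apply hh
        rw [pow_zero, orderOf_eq_one_iff] at hi'
        rw [hi', one_pow]
      · exfalso; apply hh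
        rw [pow_one] at hi'
        rw [← hi', pow_orderOf_eq_one]
      · exact hi'
    have hcyc : IsCyclic H := isCyclic_of_orderOf_eq_card h (by rw [hord, hcard])
    apply hnp
    apply isPGroup_closure_pair_of_comm p _ a b ha hb
    intro x y
    apply Subtype.ext
    have e := IsCyclic.mulAutMulEquiv (G := H)
    apply e.injective
    show e ((x : MulAut H) * (y : MulAut H)) = e ((y : MulAut H) * (x : MulAut H))
    rw [map_mul, map_mul, mul_comm]
  refine ⟨⟨⟨⟨fun x y => hcomm x y⟩⟩, fun x hx => ?_⟩, ?_⟩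
  · have := hexp ⟨x, hx⟩
    exact congrArg Subtype.val this
  · exact exists_SL2_subgroup p hcard hexp (F.autGroup H) a b ha hb hnp

end Cfsg.Agent.Lib.Helper9.EssentialPSq
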