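import Cfsg.Agent.S5076

/-!
A criterion for the simplicity of the `2`-fusion system of a finite group: the Sylow `2`-subgroup
is self-normalizing and has no proper nontrivial strongly closed subgroup (helper9).
-/

set_option autoImplicit false

namespace Cfsg.Agent.Lib.Helper9.FusSimple

open Cfsg Cfsg.Agent.Lib.Helper29

variable {G : Type*} [Group G]

/-- the subgroup is self-normalizing -/
def SelfNorm (S : Subgroup G) : Prop :=
  ∀ g : G, (∀ x ∈ S, g * x * g⁻¹ ∈ S) → (∀ x ∈ S, g⁻¹ * x * g ∈ S) → g ∈ S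

/-- the subgroup has no proper nontrivial strongly closed subgroup -/
def NoSC (S : Subgroup G) : Prop := ∀ T : Subgroup G, T ≤ S → T ≠ ⊥ →
  (∀ x ∈ T, ∀ g : G, g * x * g⁻¹ ∈ S → g * x * g⁻¹ ∈ T) → T = S

theorem SelfNorm.conj {S : Subgroup G} (h : SelfNorm S) (k : G) : SelfNorm (cj k S) := by
  intro g hg hg'
  rw [mem_cj]
  apply h
  · intro y hy
    have h1 := hg (k * y * k⁻¹) (conj_mem_cj hy)
    rw [mem_cj] at h1
    have : k⁻¹ * g * k * y * (k⁻¹ * g * k)⁻¹ = k⁻¹ * (g * (k * y * k⁻¹) * g⁻¹) * k := by group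
    rw [this]
    exact h1
  · intro y hy
    have h1 := hg' (k * y * k⁻¹) (conj_mem_cj hy)
    rw [mem_cj] at h1
    have : (k⁻¹ * g * k)⁻¹ * y * (k⁻¹ * g * k) = k⁻¹ * (g⁻¹ * (k * y * k⁻¹) * g) * k := by group
    rw [this]
    exact h1

theorem NoSC.conj {S : Subgroup G} (h : NoSC S) (k : G) : NoSC (cj k S) := by
  intro T hT hne hcl
  have hT' : cj k⁻¹ T ≤ S := by
    intro x hx
    rw [mem_cj, inv_inv] at hx
    have := hT hx
    rw [mem_cj] at this
    have e : k⁻¹ * (k * x * k⁻¹) * k = x := by group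
    rw [e] at this
    exact this
  have hne' : cj k⁻¹ T ≠ ⊥ := by
    intro hb
    apply hne
    rw [Subgroup.eq_bot_iff_forall] at hb ⊢
    intro x hx
    have h1 : k⁻¹ * x * k⁻¹⁻¹ ∈ cj k⁻¹ T := conj_mem_cj hx
    have h2 := hb _ h1
    have : x = k * (k⁻¹ * x * k⁻¹⁻¹) * k⁻¹ := by group
    rw [this, h2]
    group
  have hcl' : ∀ x ∈ cj k⁻¹ T, ∀ g : G, g * x * g⁻¹ ∈ S → g * x * g⁻¹ ∈ cj k⁻¹ T := by
    intro x hx g hgx
    rw [mem_cj, inv_inv] at hx ⊢
    have h1 : k * g * k⁻¹ * (k * x * k⁻¹) * (k * g * k⁻¹)⁻¹ ∈ cj k S := by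
      have : k * g * k⁻¹ * (k * x * k⁻¹) * (k * g * k⁻¹)⁻¹ = k * (g * x * g⁻¹) * k⁻¹ := by group
      rw [this]
      exact conj_mem_cj hgx
    have h2 := hcl _ hx _ h1
    have : k * (g * x * g⁻¹) * k⁻¹ = k * g * k⁻¹ * (k * x * k⁻¹) * (k * g * k⁻¹)⁻¹ := by group
    rw [this]
    exact h2
  have hTS := h _ hT' hne' hcl'
  rw [← hTS, cj_cj_inv]

/-- In a self-normalizing subgroup the automorphisms of the fusion system are inner. -/
theorem autGroup_self_conj (S : Subgroup G) (hN : SelfNorm S) (α : MulAut S)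
    (hα : α ∈ (groupFusionSystem S).autGroup S) :
    ∃ s ∈ S, ∀ x : S, ((α x : S) : G) = s * x * s⁻¹ := by
  unfold FusionSystem.autGroup at hα
  induction hα using Subgroup.closure_induction with
  | mem α hα =>
    obtain ⟨-, -, g, hg⟩ := hα
    refine ⟨g, ?_, fun x => hg x⟩
    apply hN
    · intro x hx
      have := hg ⟨x, hx⟩
      rw [← this]
      exact (α ⟨x, hx⟩).2
    · intro x hx
      have h1 := hg (α⁻¹ ⟨x, hx⟩)
      have h2 : (S.subtype.comp α.toMonoidHom) (α⁻¹ ⟨x, hx⟩) = x := by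
        show ((α (α⁻¹ ⟨x, hx⟩) : S) : G) = x
        rw [MulAut.apply_inv_self]
      rw [h2] at h1
      have : g⁻¹ * x * g = ((α⁻¹ ⟨x, hx⟩ : S) : G) := by
        generalize ((α⁻¹ ⟨x, hx⟩ : S) : G) = w at h1 ⊢
        rw [h1]; group
      rw [this]
      exact (α⁻¹ ⟨x, hx⟩).2
  | one => exact ⟨1, S.one_mem, fun x => by simp⟩
  | mul α β _ _ ha hb =>
    obtain ⟨s, hs, hsα⟩ := ha
    obtain ⟨t, ht, htβ⟩ := hb
    refine ⟨s * t, S.mul_mem hs ht, fun x => ?_⟩
    rw [MulAut.mul_apply, hsα, htβ]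
    group
  | inv α _ ha =>
    obtain ⟨s, hs, hsα⟩ := ha
    refine ⟨s⁻¹, S.inv_mem hs, fun x => ?_⟩
    have := hsα (α⁻¹ x)
    rw [MulAut.apply_inv_self] at this
    rw [this]
    group

/-- The `2`-fusion system of a finite group with a self-normalizing Sylow `2`-subgroup without
proper nontrivial strongly closed subgroups is simple. -/
theorem isSimple_of_selfNorm [Finite G] (S : Sylow 2 G) (hne : (S : Subgroup G) ≠ ⊥)
    (hN : SelfNorm (S : Subgroup G)) (hsc : NoSC (S : Subgroup G)) :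
    (groupFusionSystem (S : Subgroup G)).IsSimple 2 := by
  have : Fact (Nat.Prime 2) := ⟨Nat.prime_two⟩
  refine ⟨Cfsg.Agent.S5076.result 2 S, hne, ?_⟩
  intro T E hE
  obtain ⟨⟨-, -, hsub, hstr, -, hfrat⟩, -⟩ := hE
  by_cases hT : T = ⊥
  · left; exact hT
  right
  have hTS : T = (S : Subgroup G) := by
    apply hsc T hstr.1 hT
    intro x hx g hgx
    have hR : Subgroup.zpowers x ≤ T := by
      rw [Subgroup.zpowers_le]; exact hx
    have hφ : conjHom (Subgroup.zpowers x) g ∈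
        (groupFusionSystem (S : Subgroup G)).Hom (Subgroup.zpowers x) := by
      refine ⟨hR.trans hstr.1, ?_, g, fun y => rfl⟩
      rintro ⟨y, hy⟩
      obtain ⟨n, rfl⟩ := Subgroup.mem_zpowers_iff.1 hy
      show g * x ^ n * g⁻¹ ∈ (S : Subgroup G)
      rw [← conj_zpow]
      exact Subgroup.zpow_mem _ hgx n
    exact hstr.2 _ hR _ hφ ⟨x, Subgroup.mem_zpowers x⟩
  subst hTS
  refine ⟨rfl, fun P => Set.Subset.antisymm (hsub P) ?_⟩
  intro φ hφ
  have hP : P ≤ (S : Subgroup G) := hφ.1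
  obtain ⟨α, hα, φ₀, hφ₀, h⟩ := hfrat P hP φ hφ
  obtain ⟨s, hs, hsα⟩ := autGroup_self_conj (S : Subgroup G) hN α hα
  have h0 : ∀ x : P, φ₀ x ∈ (S : Subgroup G) := (E.le_of_mem hφ₀).2
  have hc := E.comp_mem hφ₀ (E.conj_mem le_rfl hs) h0
  have : φ = (conjHom (S : Subgroup G) s).comp (φ₀.codRestrict (S : Subgroup G) h0) := by
    ext x
    rw [h x (h0 x), hsα]
    rfl
  rw [this]
  exact hc

end Cfsg.Agent.Lib.Helper9.FusSimple
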