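import Mathlib
import Cfsg.Agent.Lib.Lead.QuatIso

/-!
Subgroups of generalized quaternion `2`-groups admitting a nontrivial automorphism of odd order
are quaternion of order `8` (helper9).
-/

set_option autoImplicit false

namespace Cfsg.Agent.Lib.Helper9.QuatSylow

open QuaternionGroup

/-- the cyclic subgroup of index `2` in `QuaternionGroup m` -/
def rot (m : ℕ) : Subgroup (QuaternionGroup m) where
  carrier := {p | ∃ i, p = a i}
  mul_mem' := by
    rintro _ _ ⟨i, rfl⟩ ⟨j, rfl⟩
    exact ⟨i + j, a_mul_a i j⟩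
  one_mem' := ⟨0, one_def⟩
  inv_mem' := by
    rintro _ ⟨i, rfl⟩
    exact ⟨-i, rfl⟩

theorem mem_rot {m : ℕ} {p : QuaternionGroup m} : p ∈ rot m ↔ ∃ i, p = a i := Iff.rfl

theorem a_mem_rot {m : ℕ} (i : ZMod (2 * m)) : (a i : QuaternionGroup m) ∈ rot m := ⟨i, rfl⟩

theorem xa_not_mem_rot {m : ℕ} (i : ZMod (2 * m)) : (xa i : QuaternionGroup m) ∉ rot m := by
  rintro ⟨j, hj⟩
  cases hj

instance rot_isCyclic (m : ℕ) [NeZero m] : IsCyclic (rot m) := by
  refine ⟨⟨⟨a 1, a_mem_rot 1⟩, ?_⟩⟩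
  rintro ⟨p, i, rfl⟩
  refine ⟨(i.val : ℤ), ?_⟩
  apply Subtype.ext
  show ((⟨a 1, a_mem_rot 1⟩ : rot m) ^ (i.val : ℤ) : rot m).1 = a i
  rw [Subgroup.coe_zpow, zpow_natCast, a_one_pow, ZMod.natCast_zmod_val]

theorem natCast_add_self (m : ℕ) : ((m : ℕ) : ZMod (2 * m)) + (m : ℕ) = 0 := by
  rw [← Nat.cast_add, ← two_mul, ZMod.natCast_self]

theorem xa_mul_a_mul_inv {m : ℕ} (i j : ZMod (2 * m)) :
    (xa j : QuaternionGroup m) * a i * (xa j)⁻¹ = (a i)⁻¹ := by
  rw [mul_inv_eq_iff_eq_mul]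
  show xa j * a i = a (-i) * xa j
  rw [xa_mul_a, a_mul_xa, sub_neg_eq_add]

theorem a_natCast_ne_one {m : ℕ} [NeZero m] : (a (m : ℕ) : QuaternionGroup m) ≠ 1 := by
  rw [one_def]
  intro h
  have h1 : ((m : ℕ) : ZMod (2 * m)) = 0 := by
    injection h
  rw [ZMod.natCast_eq_zero_iff] at h1
  have := Nat.le_of_dvd (Nat.pos_of_ne_zero (NeZero.ne m)) h1
  have := Nat.pos_of_ne_zero (NeZero.ne m)
  omega

theorem a_natCast_sq {m : ℕ} : (a (m : ℕ) : QuaternionGroup m) ^ 2 = 1 := by
  rw [pow_two, a_mul_a, natCast_add_self, a_zero]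

/-- stability lemma -/
theorem fixed_of_stable {Q : Type*} [Group Q] (σ : MulAut Q) {k : ℕ} (hk : Odd k)
    (hσk : σ ^ k = 1) {q c : Q} (hq : σ q = q * c) (hc : σ c = c) {j : ℕ}
    (hcj : c ^ (2 ^ j) = 1) : σ q = q := by
  have h : ∀ i : ℕ, (σ ^ i) q = q * c ^ i := by
    intro i
    induction i with
    | zero => simp
    | succ i ih =>
      rw [pow_succ', MulAut.mul_apply, ih, map_mul, map_pow, hq, hc, pow_succ', mul_assoc]
  have h1 := h k
  rw [hσk, MulAut.one_apply] at h1
  have hck : c ^ k = 1 := by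
    have : q * 1 = q * c ^ k := by rw [mul_one]; exact h1
    exact (mul_left_cancel this).symm
  have hd : orderOf c ∣ Nat.gcd k (2 ^ j) :=
    Nat.dvd_gcd (orderOf_dvd_of_pow_eq_one hck) (orderOf_dvd_of_pow_eq_one hcj)
  have hg : Nat.gcd k (2 ^ j) = 1 := hk.coprime_two_right.pow_right j
  rw [hg, Nat.dvd_one, orderOf_eq_one_iff] at hd
  rw [hq, hd, mul_one]

/-- automorphisms of odd order of cyclic `2`-groups are trivial -/
theorem eq_one_of_cyclic {B : Type*} [Group B] [Finite B] [IsCyclic B] {e : ℕ}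
    (hB : Nat.card B = 2 ^ e) (σ : MulAut B) {k : ℕ} (hk : Odd k) (hσk : σ ^ k = 1) : σ = 1 := by
  have h1 : orderOf σ ∣ k := orderOf_dvd_of_pow_eq_one hσk
  have h2 : orderOf σ ∣ 2 ^ e := by
    have h3 := orderOf_dvd_natCard σ
    rw [IsCyclic.card_mulAut, hB] at h3
    refine h3.trans ?_
    rcases Nat.eq_zero_or_pos e with rfl | he
    · simp
    · rw [Nat.totient_prime_pow Nat.prime_two he]
      simp only [Nat.add_one_sub_one, mul_one]
      exact pow_dvd_pow 2 (Nat.sub_le e 1)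
  have hd : orderOf σ ∣ Nat.gcd k (2 ^ e) := Nat.dvd_gcd h1 h2
  have hg : Nat.gcd k (2 ^ e) = 1 := hk.coprime_two_right.pow_right e
  rw [hg, Nat.dvd_one, orderOf_eq_one_iff] at hd
  exact hd

/-- an automorphism of odd order fixes every invariant cyclic `2`-subgroup pointwise -/
theorem fixes_of_cyclic_invariant {Q : Type*} [Group Q] [Finite Q] (σ : MulAut Q) {k : ℕ}
    (hk : Odd k) (hσk : σ ^ k = 1) (B : Subgroup Q) [IsCyclic B] {e : ℕ}
    (hB : Nat.card B = 2 ^ e) (hinv : ∀ b ∈ B, σ b ∈ B) : ∀ b ∈ B, σ b = b := by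
  let f : B →* B := (σ.toMonoidHom.comp B.subtype).codRestrict B (fun b => hinv b b.2)
  have hfinj : Function.Injective f := by
    intro b₁ b₂ h
    have h1 : σ (b₁ : Q) = σ (b₂ : Q) := congrArg Subtype.val h
    exact Subtype.ext (σ.injective h1)
  have hfbij : Function.Bijective f := Finite.injective_iff_bijective.mp hfinj
  let σB : MulAut B := MulEquiv.ofBijective f hfbij
  have hcoe : ∀ (j : ℕ) (b : B), (((σB ^ j) b : B) : Q) = (σ ^ j) (b : Q) := by
    intro j
    induction j with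
    | zero => intro b; simp
    | succ j ih =>
      intro b
      rw [pow_succ', MulAut.mul_apply, pow_succ', MulAut.mul_apply, ← ih]
      rfl
  have hσBk : σB ^ k = 1 := by
    ext b
    rw [hcoe, hσk]
    simp
  have h1 := eq_one_of_cyclic hB σB hk hσBk
  intro b hb
  have h2 : ((σB ⟨b, hb⟩ : B) : Q) = σ b := rfl
  rw [h1] at h2
  exact h2.symm


/-- **Main lemma**: a group embedded in a generalized quaternion `2`-group and admitting a
nontrivial automorphism of odd order is quaternion of order `8`. -/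
theorem nonempty_mulEquiv_quat8 {Q : Type*} [Group Q] {n : ℕ}
    (ι : Q →* QuaternionGroup (2 ^ n)) (hι : Function.Injective ι) (σ : MulAut Q) {k : ℕ}
    (hk : Odd k) (hσk : σ ^ k = 1) (hσ : σ ≠ 1) : Nonempty (Q ≃* QuaternionGroup 2) := by
  classical
  have : Finite Q := Finite.of_injective ι hι
  -- `Q` is a `2`-group
  obtain ⟨f, hf⟩ : ∃ f, Nat.card Q = 2 ^ f := by
    have h1 : Nat.card Q ∣ Nat.card (QuaternionGroup (2 ^ n)) :=
      Subgroup.card_dvd_of_injective ι hι
    rw [Nat.card_eq_fintype_card (α := QuaternionGroup (2 ^ n)), QuaternionGroup.card] at h1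
    have h2 : 4 * 2 ^ n = 2 ^ (n + 2) := by ring
    rw [h2] at h1
    obtain ⟨f, -, hf⟩ := (Nat.dvd_prime_pow Nat.prime_two).mp h1
    exact ⟨f, hf⟩
  obtain ⟨B, hBdef⟩ : ∃ B : Subgroup Q, B = (rot (2 ^ n)).comap ι := ⟨_, rfl⟩
  have hmemB : ∀ q : Q, q ∈ B ↔ ι q ∈ rot (2 ^ n) := by
    intro q; rw [hBdef]; exact Iff.rfl
  have hBcyc : IsCyclic B := by
    let fB : B →* rot (2 ^ n) :=
      (ι.comp B.subtype).codRestrict (rot (2 ^ n)) (fun b => (hmemB b).mp b.2)
    refine isCyclic_of_injective fB ?_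
    intro b₁ b₂ h
    have h1 : ι (b₁ : Q) = ι (b₂ : Q) := congrArg Subtype.val h
    exact Subtype.ext (hι h1)
  obtain ⟨e, hBcard⟩ : ∃ e, Nat.card B = 2 ^ e := by
    have h1 : Nat.card B ∣ Nat.card Q := Subgroup.card_subgroup_dvd_card B
    rw [hf] at h1
    obtain ⟨e, -, he⟩ := (Nat.dvd_prime_pow Nat.prime_two).mp h1
    exact ⟨e, he⟩
  by_cases hall : ∀ q : Q, q ∈ B
  · -- `Q` is cyclic
    exfalso
    have hQcyc : IsCyclic Q := by
      let fQ : Q →* rot (2 ^ n) := ι.codRestrict (rot (2 ^ n)) (fun q => (hmemB q).mp (hall q))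
      refine isCyclic_of_injective fQ ?_
      intro q₁ q₂ h
      have h1 : ι q₁ = ι q₂ := congrArg Subtype.val h
      exact hι h1
    exact hσ (eq_one_of_cyclic hf σ hk hσk)
  · simp only [not_forall] at hall
    obtain ⟨u, hu⟩ := hall
    -- description of elements outside `B`
    have hout : ∀ q : Q, q ∉ B → ∃ j, ι q = xa j := by
      intro q hq
      rw [hmemB] at hq
      cases hιq : ι q with
      | a i => exact absurd (hιq ▸ a_mem_rot i) hq
      | xa j => exact ⟨j, rfl⟩
    have hin : ∀ q : Q, q ∈ B → ∃ i, ι q = a i := fun q hq => (hmemB q).mp hq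
    obtain ⟨z, hzdef⟩ : ∃ z : Q, z = u ^ 2 := ⟨_, rfl⟩
    have hιz : ι z = a ((2 ^ n : ℕ) : ZMod (2 * 2 ^ n)) := by
      obtain ⟨j, hj⟩ := hout u hu
      rw [hzdef, map_pow, hj, xa_sq]
    have hsq : ∀ q : Q, q ∉ B → q ^ 2 = z := by
      intro q hq
      obtain ⟨j, hj⟩ := hout q hq
      apply hι
      rw [hιz, map_pow, hj, xa_sq]
    have hz1 : z ≠ 1 := by
      intro h
      have h1 := hιz
      rw [h, map_one] at h1
      exact a_natCast_ne_one h1.symm
    have hz2 : z ^ 2 = 1 := by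
      apply hι
      rw [map_pow, hιz, map_one, a_natCast_sq]
    have hzB : z ∈ B := by
      rw [hmemB, hιz]; exact a_mem_rot _
    have hord4 : ∀ q : Q, q ∉ B → orderOf q = 4 := by
      intro q hq
      have : Fact (Nat.Prime 2) := ⟨Nat.prime_two⟩
      have h2 : ¬ q ^ 2 ^ 1 = 1 := by
        rw [pow_one, hsq q hq]; exact hz1
      have h4 : q ^ 2 ^ (1 + 1) = 1 := by
        have : q ^ 2 ^ (1 + 1) = (q ^ 2) ^ 2 := by rw [← pow_mul]; norm_num
        rw [this, hsq q hq, hz2]
      have := orderOf_eq_prime_pow h2 h4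
      simpa using this
    have hinvB : ∀ q : Q, q ∉ B → ∀ b ∈ B, q * b * q⁻¹ = b⁻¹ := by
      intro q hq b hb
      obtain ⟨j, hj⟩ := hout q hq
      obtain ⟨i, hi⟩ := hin b hb
      apply hι
      rw [map_mul, map_mul, map_inv, map_inv, hj, hi, xa_mul_a_mul_inv]
    have hquot : ∀ q q' : Q, q ∉ B → q' ∉ B → q⁻¹ * q' ∈ B := by
      intro q q' hq hq'
      obtain ⟨j, hj⟩ := hout q hq
      obtain ⟨j', hj'⟩ := hout q' hq'
      rw [hmemB, map_mul, map_inv, hj, hj']
      show xa (((2 ^ n : ℕ) : ZMod (2 * 2 ^ n)) + j) * xa j' ∈ rot (2 ^ n)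
      rw [xa_mul_xa]
      exact a_mem_rot _
    have hindex : B.index = 2 := by
      rw [Subgroup.index_eq_two_iff]
      refine ⟨u, fun b => ?_⟩
      obtain ⟨j, hj⟩ := hout u hu
      by_cases hb : b ∈ B
      · right
        refine ⟨hb, ?_⟩
        obtain ⟨i, hi⟩ := hin b hb
        rw [hmemB, map_mul, hi, hj, a_mul_xa]
        exact xa_not_mem_rot _
      · left
        refine ⟨?_, hb⟩
        obtain ⟨i, hi⟩ := hout b hb
        rw [hmemB, map_mul, hi, hj, xa_mul_xa]
        exact a_mem_rot _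
    have hQB : Nat.card Q = 2 * 2 ^ e := by
      rw [← hBcard, ← hindex, mul_comm, Subgroup.card_mul_index]
    -- a generator of `B`
    obtain ⟨b₀, hb₀⟩ := IsCyclic.exists_generator (α := B)
    have hb₀ord : orderOf (b₀ : Q) = 2 ^ e := by
      rw [Subgroup.orderOf_coe, orderOf_eq_card_of_forall_mem_zpowers hb₀, hBcard]
    have hBpow : ∀ b ∈ B, ∃ j : ℤ, (b₀ : Q) ^ j = b := by
      intro b hb
      obtain ⟨j, hj⟩ := Subgroup.mem_zpowers_iff.mp (hb₀ ⟨b, hb⟩)
      refine ⟨j, ?_⟩
      have := congrArg Subtype.val hj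
      rwa [Subgroup.coe_zpow] at this
    by_cases he3 : 3 ≤ e
    · -- `B` is characteristic, `σ` is trivial
      exfalso
      have hσb₀ : σ (b₀ : Q) ∈ B := by
        by_contra hcon
        have h1 := hord4 _ hcon
        rw [MulEquiv.orderOf_eq, hb₀ord] at h1
        have h2 : 2 ^ 3 ≤ 2 ^ e := Nat.pow_le_pow_right (by norm_num) he3
        omega
      have hinvσ : ∀ b ∈ B, σ b ∈ B := by
        intro b hb
        obtain ⟨j, rfl⟩ := hBpow b hb
        rw [map_zpow]
        exact B.zpow_mem hσb₀ j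
      have hfix := fixes_of_cyclic_invariant σ hk hσk B hBcard hinvσ
      apply hσ
      ext q
      rw [MulAut.one_apply]
      by_cases hq : q ∈ B
      · exact hfix q hq
      · have hσq : σ q ∉ B := by
          intro hcon
          have h1 := hfix _ hcon
          have h2 := σ.injective h1
          rw [h2] at hcon
          exact hq hcon
        have hc : q⁻¹ * σ q ∈ B := hquot q (σ q) hq hσq
        have hcpow : (q⁻¹ * σ q) ^ (2 ^ e) = 1 := by
          have := pow_card_eq_one' (G := B) (x := ⟨_, hc⟩)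
          rw [hBcard] at this
          have h2 := congrArg Subtype.val this
          rwa [Subgroup.coe_pow] at h2
        exact fixed_of_stable σ hk hσk (by group) (hfix _ hc) hcpow
    · have he : e < 3 := not_le.mp he3
      interval_cases e
      · -- `B` trivial: impossible
        exfalso
        rw [pow_zero] at hBcard
        have := (Subgroup.card_eq_one.mp hBcard)
        rw [this] at hzB
        exact hz1 (Subgroup.mem_bot.mp hzB)
      · -- `|Q| = 4`, cyclic
        exfalso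
        have hQ4 : Nat.card Q = 2 ^ 2 := by rw [hQB]; norm_num
        have hQcyc : IsCyclic Q := by
          apply isCyclic_of_orderOf_eq_card u
          rw [hord4 u hu, hQ4]; norm_num
        exact hσ (eq_one_of_cyclic hQ4 σ hk hσk)
      · -- `|Q| = 8`: quaternion
        have hQ8 : Nat.card Q = 4 * 2 := by rw [hQB]; norm_num
        have hb₀4 : orderOf (b₀ : Q) = 2 * 2 := by rw [hb₀ord]; norm_num
        have hb₀sq : (b₀ : Q) ^ 2 ≠ 1 := by
          apply pow_ne_one_of_lt_orderOf (by norm_num)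
          rw [hb₀4]; norm_num
        have hb₀4' : (b₀ : Q) ^ 4 = 1 := by
          have := pow_orderOf_eq_one (b₀ : Q)
          rwa [hb₀4] at this
        have hzb : u ^ 2 = (b₀ : Q) ^ 2 := by
          rw [← hzdef]
          have hzmem : z ∈ Subgroup.zpowers (b₀ : Q) := by
            obtain ⟨j, hj⟩ := hBpow z hzB
            exact Subgroup.mem_zpowers_iff.mpr ⟨j, hj⟩
          rw [mem_zpowers_iff_mem_range_orderOf, hb₀4] at hzmem
          obtain ⟨j, hj, hjz⟩ := Finset.mem_image.mp hzmem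
          rw [Finset.mem_range] at hj
          have hjz' : (b₀ : Q) ^ j = z := hjz
          interval_cases j
          · exfalso; rw [pow_zero] at hjz'; exact hz1 hjz'.symm
          · exfalso
            rw [pow_one] at hjz'
            rw [hjz'] at hb₀sq
            exact hb₀sq hz2
          · exact hjz'.symm
          · exfalso
            apply hb₀sq
            have h6 : ((b₀ : Q) ^ 3) ^ 2 = (b₀ : Q) ^ 4 * (b₀ : Q) ^ 2 := by
              rw [← pow_mul, ← pow_add]
            rw [hjz', hz2, hb₀4', one_mul] at h6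
            exact h6.symm
        have hub : u ∉ Subgroup.zpowers (b₀ : Q) := by
          intro hcon
          exact hu ((Subgroup.zpowers_le.mpr b₀.2) hcon)
        exact Cfsg.Agent.Lib.Lead.QuatIso.nonempty_mulEquiv_quaternionGroup hb₀4 hzb
          (hinvB u hu _ b₀.2) hub hQ8

end Cfsg.Agent.Lib.Helper9.QuatSylow
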