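import Mathlib

/-!
A simplicity criterion through a Sylow subgroup of prime order (helper9).

`G` finite, `P` a Sylow `p`-subgroup of order `p` which is not normal, `|N_G(P)| = p q` with `q` prime, and every
nontrivial normal subgroup of `G` has order divisible by `p`: then `G` is simple (Frattini argument and
Burnside's transfer theorem).
-/

set_option autoImplicit false

namespace Cfsg.Agent.Lib.Helper9.SylowSimple

open Subgroup

variable {G : Type*} [Group G]

/-- a Sylow `p`-subgroup of order `p` lies in every normal subgroup of order divisible by `p` -/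
theorem sylow_le_of_dvd_card [Finite G] (p : ℕ) [hp : Fact p.Prime] (P : Sylow p G)
    (hP : Nat.card (P : Subgroup G) = p) (N : Subgroup G) [hN : N.Normal] (hdvd : p ∣ Nat.card N) :
    (P : Subgroup G) ≤ N := by
  obtain ⟨x, hx⟩ := exists_prime_orderOf_dvd_card' (G := N) p hdvd
  have hxo : orderOf (x : G) = p := by rw [Subgroup.orderOf_coe]; exact hx
  have hpg : IsPGroup p (zpowers (x : G)) := by
    apply IsPGroup.of_card (n := 1)
    rw [Nat.card_zpowers, hxo, pow_one]
  obtain ⟨Q, hQ⟩ := hpg.exists_le_sylow
  have hQcard : Nat.card (Q : Subgroup G) = p := by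
    rw [Sylow.card_eq_multiplicity, ← Sylow.card_eq_multiplicity P, hP]
  have hQeq : zpowers (x : G) = (Q : Subgroup G) := by
    apply Subgroup.eq_of_le_of_card_ge hQ
    rw [hQcard, Nat.card_zpowers, hxo]
  have hQN : (Q : Subgroup G) ≤ N := by
    rw [← hQeq, zpowers_le]
    exact x.2
  obtain ⟨g, hg⟩ := MulAction.exists_smul_eq G Q P
  intro y hy
  have hy' : y ∈ ((g • Q : Sylow p G) : Subgroup G) := by rw [hg]; exact hy
  rw [Sylow.smul_def, Sylow.pointwise_smul_def, Subgroup.mem_pointwise_smul_iff_inv_smul_mem] at hy'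
  have h1 : (MulAut.conj g)⁻¹ • y ∈ N := hQN hy'
  have h2 : (MulAut.conj g)⁻¹ • y = g⁻¹ * y * g := by
    rw [← map_inv, MulAut.smul_def, MulAut.conj_apply, inv_inv]
  rw [h2] at h1
  have h3 := hN.conj_mem _ h1 g
  rwa [mul_assoc, mul_assoc, mul_inv_cancel, mul_one, ← mul_assoc, mul_inv_cancel, one_mul] at h3

/-- **Criterion.** -/
theorem simple_of_sylow [Finite G] (p q : ℕ) [hp : Fact p.Prime] (hq : q.Prime) (P : Sylow p G)
    (hP : Nat.card (P : Subgroup G) = p)
    (hNP : Nat.card (normalizer ((P : Subgroup G) : Set G)) = p * q)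
    (hnn : ¬ (P : Subgroup G).Normal)
    (hN : ∀ N : Subgroup G, N.Normal → N ≠ ⊥ → p ∣ Nat.card N) : IsSimpleGroup G := by
  have hp1 := hp.out.one_lt
  have hp0 := hp.out.pos
  haveI : Nontrivial G := by
    by_contra h
    rw [not_nontrivial_iff_subsingleton] at h
    apply hnn
    rw [Subsingleton.elim (P : Subgroup G) ⊤]
    infer_instance
  refine ⟨fun N hNn => ?_⟩
  by_cases hbot : N = ⊥
  · exact Or.inl hbot
  right
  have hPN : (P : Subgroup G) ≤ N := sylow_le_of_dvd_card p P hP N (hN N hNn hbot)
  have hfr : normalizer ((P : Subgroup G) : Set G) ⊔ N = ⊤ := Sylow.normalizer_sup_eq_top' P hPN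
  set M : Subgroup G := normalizer ((P : Subgroup G) : Set G) ⊓ N with hM
  have hPM : (P : Subgroup G) ≤ M := le_inf le_normalizer hPN
  have hMdvd : Nat.card M ∣ p * q := by
    rw [← hNP]
    exact Subgroup.card_dvd_of_le inf_le_left
  have hpM : p ∣ Nat.card M := by
    rw [← hP]
    exact Subgroup.card_dvd_of_le hPM
  obtain ⟨d, hd⟩ := hpM
  have hdq : d ∣ q := by
    rw [hd] at hMdvd
    exact Nat.dvd_of_mul_dvd_mul_left hp0 hMdvd
  rcases (Nat.dvd_prime hq).1 hdq with rfl | rfl
  · -- `N_N(P) = P`: Burnside
    exfalso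
    rw [mul_one] at hd
    have hMP : (P : Subgroup G) = M := Subgroup.eq_of_le_of_card_ge hPM (by rw [hd, hP])
    set P' : Sylow p N := P.subtype hPN with hP'
    have hP'coe : (P' : Subgroup N) = (P : Subgroup G).subgroupOf N := P.coe_subtype hPN
    have hnorm : normalizer ((P' : Subgroup N) : Set N) ≤ (P' : Subgroup N) := by
      intro n hn
      rw [hP'coe, mem_subgroupOf, hMP, hM, mem_inf]
      refine ⟨?_, n.2⟩
      rw [mem_normalizer_iff]
      intro y
      rw [mem_normalizer_iff] at hn
      constructor
      · intro hy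
        have := (hn ⟨y, hPN hy⟩).1 (by rw [hP'coe, mem_subgroupOf]; exact hy)
        rw [hP'coe, mem_subgroupOf] at this
        exact this
      · intro hy
        have hyN : y ∈ N := by
          have h1 : (n : G)⁻¹ * ((n : G) * y * (n : G)⁻¹) * (n : G) ∈ N :=
            N.mul_mem (N.mul_mem (N.inv_mem n.2) (hPN hy)) n.2
          rwa [mul_assoc, mul_assoc, inv_mul_cancel, mul_one, ← mul_assoc, inv_mul_cancel,
            one_mul] at h1
        have := (hn ⟨y, hyN⟩).2 (by rw [hP'coe, mem_subgroupOf]; exact hy)
        rw [hP'coe, mem_subgroupOf] at this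
        exact this
    have hP'card : Nat.card (P' : Subgroup N) = p := by
      rw [hP'coe, Nat.card_congr (Subgroup.subgroupOfEquivOfLe hPN).toEquiv]
      exact hP
    have hcyc : IsCyclic (P' : Subgroup N) := isCyclic_of_prime_card hP'card
    have hcomm : ∀ a b : (P' : Subgroup N), a * b = b * a := by
      intro a b
      let _ := hcyc.commGroup
      exact mul_comm a b
    have hle : normalizer ((P' : Subgroup N) : Set N) ≤ centralizer ((P' : Subgroup N) : Set N) := by
      intro n hn
      have hn' := hnorm hn
      rw [mem_centralizer_iff]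
      intro y hy
      have := hcomm ⟨y, hy⟩ ⟨n, hn'⟩
      exact congrArg Subtype.val this
    have hcompl := MonoidHom.ker_transferSylow_isComplement' P' hle
    have hndvd := MonoidHom.not_dvd_card_ker_transferSylow P' hle
    set K : Subgroup N := (MonoidHom.transferSylow P' hle).ker with hK
    have hKcard : Nat.card K * p = Nat.card N := by
      rw [← hP'card]
      exact hcompl.card_mul_card
    -- `K` consists of the elements of order prime to `p`
    have hKmem : ∀ x : N, x ∈ K ↔ (orderOf x).Coprime p := by
      intro x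
      constructor
      · intro hx
        have h1 : orderOf x ∣ Nat.card K := by
          have := orderOf_dvd_natCard (⟨x, hx⟩ : K)
          rwa [Subgroup.orderOf_mk] at this
        exact Nat.Coprime.coprime_dvd_left h1
          ((Nat.coprime_comm.1 ((Nat.Prime.coprime_iff_not_dvd hp.out).2 hndvd)))
      · intro hx
        rw [hK, MonoidHom.mem_ker]
        set t := MonoidHom.transferSylow P' hle x with ht
        have h1 : orderOf t ∣ orderOf x := orderOf_map_dvd _ x
        have h2 : orderOf t ∣ p := by
          have := orderOf_dvd_natCard t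
          rwa [hP'card] at this
        have h3 : orderOf t ∣ 1 := by
          rw [← Nat.Coprime.gcd_eq_one hx]
          exact Nat.dvd_gcd h1 h2
        exact orderOf_eq_one_iff.1 (Nat.dvd_one.1 h3)
    have hKn : (K.map N.subtype).Normal := by
      refine ⟨fun y hy g => ?_⟩
      obtain ⟨k, hk, rfl⟩ := hy
      have hgk : g * (k : G) * g⁻¹ ∈ N := hNn.conj_mem _ k.2 g
      refine ⟨⟨_, hgk⟩, ?_, rfl⟩
      have hk' : k ∈ K := hk
      show (⟨g * (k : G) * g⁻¹, hgk⟩ : N) ∈ K
      rw [hKmem] at hk' ⊢
      have h1 : orderOf (⟨g * (k : G) * g⁻¹, hgk⟩ : N) = orderOf k := by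
        rw [← Subgroup.orderOf_coe, ← Subgroup.orderOf_coe k]
        exact orderOf_injective (MulAut.conj g).toMonoidHom (MulAut.conj g).injective (k : G)
      rw [h1]
      exact hk'
    have hKmapcard : Nat.card (K.map N.subtype) = Nat.card K :=
      Subgroup.card_map_of_injective N.subtype_injective
    have hKbot : K.map N.subtype = ⊥ := by
      by_contra hne
      have := hN _ hKn hne
      rw [hKmapcard] at this
      exact hndvd this
    have hK1 : Nat.card K = 1 := by
      rw [← hKmapcard, hKbot]
      exact Subgroup.card_bot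
    rw [hK1, one_mul] at hKcard
    have hNP' : (P : Subgroup G) = N := Subgroup.eq_of_le_of_card_ge hPN (by rw [hP, hKcard])
    apply hnn
    rw [hNP']
    exact hNn
  · -- `N_G(P) ≤ N`
    have hMN : M = normalizer ((P : Subgroup G) : Set G) :=
      Subgroup.eq_of_le_of_card_ge inf_le_left (by rw [hNP, hd])
    have hle : normalizer ((P : Subgroup G) : Set G) ≤ N := by
      rw [← hMN]
      exact inf_le_right
    rw [← hfr]
    exact (sup_eq_right.2 hle).symm

end Cfsg.Agent.Lib.Helper9.SylowSimple
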