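import Cfsg.Agent.Lib.Helper9.M22Fix2
import Cfsg.Agent.Lib.Helper9.SylowSimple

/-!
The two-point stabilizer of `M24` is simple (helper9).
-/

set_option autoImplicit false

namespace Cfsg.Agent.Lib.Helper9.M22Simple

open Cfsg Cfsg.Agent.Lib.Helper21 Cfsg.Agent.Lib.Helper9.M22Fix Subgroup

/-- the embedding `![a, b, c, d]` -/
def quadEmb {β : Type*} (a b c d : β) (hab : a ≠ b) (hac : a ≠ c) (had : a ≠ d) (hbc : b ≠ c)
    (hbd : b ≠ d) (hcd : c ≠ d) : Fin 4 ↪ β :=
  ⟨![a, b, c, d], by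
    intro i j hij
    fin_cases i <;> fin_cases j <;> simp_all [eq_comm]⟩

/-- `4`-transitivity in the form needed -/
theorem exists_map_fix3 (p q a b c : GolayPt) (hpq : p ≠ q) (hpa : p ≠ a) (hpb : p ≠ b) (hpc : p ≠ c)
    (hqa : q ≠ a) (hqb : q ≠ b) (hqc : q ≠ c) (hab : a ≠ b) (hac : a ≠ c) :
    ∃ h ∈ M24, h p = p ∧ h q = q ∧ h a = a ∧ h b = c := by
  obtain ⟨g₁, hg₁, h₁⟩ := exists_map_embedding (n := 4) (by norm_num)
    (quadEmb p q a b hpq hpa hpb hqa hqb hab)
  obtain ⟨g₂, hg₂, h₂⟩ := exists_map_embedding (n := 4) (by norm_num)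
    (quadEmb p q a c hpq hpa hpc hqa hqc hac)
  have e10 : g₁ (ptN 0) = p := h₁ 0
  have e11 : g₁ (ptN 1) = q := h₁ 1
  have e12 : g₁ (ptN 2) = a := h₁ 2
  have e13 : g₁ (ptN 3) = b := h₁ 3
  have e20 : g₂ (ptN 0) = p := h₂ 0
  have e21 : g₂ (ptN 1) = q := h₂ 1
  have e22 : g₂ (ptN 2) = a := h₂ 2
  have e23 : g₂ (ptN 3) = c := h₂ 3
  have key : ∀ (i : ℕ) (u v : GolayPt), g₁ (ptN i) = u → g₂ (ptN i) = v → (g₂ * g₁⁻¹) u = v := by
    intro i u v hu hv
    have h1 : g₁⁻¹ u = ptN i := by rw [← hu, perm_inv_apply]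
    rw [Equiv.Perm.mul_apply, h1, hv]
  exact ⟨g₂ * g₁⁻¹, M24.mul_mem hg₂ (M24.inv_mem hg₁), key 0 p p e10 e20, key 1 q q e11 e21,
    key 2 a a e12 e22, key 3 b c e13 e23⟩

theorem arith (cC ρ idx : ℕ) (h11 : 11 ∣ cC) (hpos : 0 < cC) (hle : cC ≤ 24) (hρ : ρ ∣ 10)
    (hmul : cC * ρ * idx = 443520) (hmod : idx % 11 = 1) : cC * ρ = 55 := by
  obtain ⟨c, rfl⟩ := h11
  have hc : c = 1 ∨ c = 2 := by omega
  have hρ' : ρ = 1 ∨ ρ = 2 ∨ ρ = 5 ∨ ρ = 10 := by
    have h1 : ρ ∈ Nat.divisors 10 := Nat.mem_divisors.2 ⟨hρ, by norm_num⟩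
    have h10 : Nat.divisors 10 = {1, 2, 5, 10} := by decide
    rw [h10] at h1
    simpa using h1
  rcases hc with rfl | rfl <;> rcases hρ' with rfl | rfl | rfl | rfl <;> omega

/-- **`M22` is simple.** -/
theorem simple_M22 (H : Subgroup (Equiv.Perm GolayPt)) (p q : GolayPt) (hpq : p ≠ q)
    (hH : ∀ g, g ∈ H ↔ g ∈ M24 ∧ g p = p ∧ g q = q) (hcard : Nat.card H = 443520) :
    IsSimpleGroup H := by
  classical
  haveI : Fact (Nat.Prime 11) := ⟨by norm_num⟩
  let P : Sylow 11 H := default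
  -- `|P| = 11`
  have hP : Nat.card (P : Subgroup H) = 11 := by
    obtain ⟨k, hk⟩ := P.isPGroup'.exists_card_eq
    have hdvd : 11 ∣ Nat.card (P : Subgroup H) :=
      P.dvd_card_of_dvd_card (by rw [hcard]; norm_num)
    have hdvd2 : Nat.card (P : Subgroup H) ∣ 443520 := by
      rw [← hcard]; exact Subgroup.card_subgroup_dvd_card _
    rcases k with _ | _ | k
    · rw [hk, pow_zero] at hdvd; norm_num at hdvd
    · rw [hk, pow_one]
    · exfalso
      rw [hk] at hdvd2
      have : 11 ^ 2 ∣ 443520 := dvd_trans (pow_dvd_pow 11 (by omega)) hdvd2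
      norm_num at this
  -- a generator
  obtain ⟨x, hxo⟩ := exists_prime_orderOf_dvd_card' (G := (P : Subgroup H)) 11 (by rw [hP])
  set x₀ : Equiv.Perm GolayPt := ((x : H) : Equiv.Perm GolayPt) with hx₀
  have hxM := (hH x₀).1 (x : H).2
  have hx11 : x₀ ^ 11 = 1 := by
    have h1 : x ^ 11 = 1 := by
      have := pow_orderOf_eq_one x
      rwa [hxo] at this
    have h2 : ((x : H) : Equiv.Perm GolayPt) ^ 11 = 1 := by
      have h3 := congrArg (fun y : (P : Subgroup H) => ((y : H) : Equiv.Perm GolayPt)) h1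
      simpa using h3
    exact h2
  have hx1 : x₀ ≠ 1 := by
    intro h
    have h1 : x = 1 := by
      apply Subtype.ext; apply Subtype.ext; exact h
    rw [h1, orderOf_one] at hxo
    norm_num at hxo
  have hfix := fixed_of_order_eleven hxM.1 hx11 hx1 p q hpq hxM.2.1 hxM.2.2
  have hPz : zpowers (x : H) = (P : Subgroup H) := by
    apply Subgroup.eq_of_le_of_card_ge
    · rw [zpowers_le]; exact x.2
    · rw [hP, Nat.card_zpowers, Subgroup.orderOf_coe, hxo]
  -- the centralizer
  set C := centralizer ((P : Subgroup H) : Set H) with hC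
  have hCcomm : ∀ c : H, c ∈ C →
      (c : Equiv.Perm GolayPt) * x₀ = x₀ * (c : Equiv.Perm GolayPt) := by
    intro c hc
    rw [hC, mem_centralizer_iff] at hc
    have h1 := hc (x : H) x.2
    have h2 := congrArg Subtype.val h1
    exact h2.symm
  have hCtriv : ∀ c : H, c ∈ C → ∀ a : GolayPt, a ≠ p → a ≠ q →
      (c : Equiv.Perm GolayPt) a = a → c = 1 := by
    intro c hc a hap haq hca
    have hcH := (hH _).1 c.2
    apply Subtype.ext
    exact eq_one_of_commute_of_fixed hcH.1 (hCcomm c hc) hx11 p q hpq hfix hcH.2.1 hcH.2.2 a hap haq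
      hca
  obtain ⟨a₀, ha₀⟩ : ((Finset.univ.erase p).erase q : Finset GolayPt).Nonempty := by
    rw [← Finset.card_pos, Finset.card_erase_of_mem, Finset.card_erase_of_mem (Finset.mem_univ p),
      Finset.card_univ, card_golayPt]
    · norm_num
    · exact Finset.mem_erase.2 ⟨Ne.symm hpq, Finset.mem_univ q⟩
  rw [Finset.mem_erase, Finset.mem_erase] at ha₀
  have hCle : Nat.card C ≤ 24 := by
    have hinj : Function.Injective (fun c : C => ((c : H) : Equiv.Perm GolayPt) a₀) := by
      intro c₁ c₂ h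
      have h1 : ((c₂⁻¹ * c₁ : C) : H) = 1 := by
        apply hCtriv _ (c₂⁻¹ * c₁).2 a₀ ha₀.2.1 ha₀.1
        show (((c₂ : H) : Equiv.Perm GolayPt)⁻¹ * ((c₁ : H) : Equiv.Perm GolayPt)) a₀ = a₀
        rw [Equiv.Perm.mul_apply]
        have h' : ((c₁ : H) : Equiv.Perm GolayPt) a₀ = ((c₂ : H) : Equiv.Perm GolayPt) a₀ := h
        rw [h', perm_inv_apply]
      have h2 : c₂⁻¹ * c₁ = 1 := Subtype.ext h1
      exact (inv_mul_eq_one.1 h2).symm
    have h24 : Nat.card GolayPt = 24 := by rw [Nat.card_eq_fintype_card, card_golayPt]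
    have := Nat.card_le_card_of_injective _ hinj
    rwa [h24] at this
  have hPC : (P : Subgroup H) ≤ C := by
    rw [← hPz]
    intro y hy
    rw [hC, mem_centralizer_iff]
    intro z hz
    rw [SetLike.mem_coe, ← hPz] at hz
    obtain ⟨i, rfl⟩ := mem_zpowers_iff.1 hy
    obtain ⟨j, rfl⟩ := mem_zpowers_iff.1 hz
    exact zpow_mul_comm (x : H) j i
  have hC11 : 11 ∣ Nat.card C := by
    rw [← hP]; exact Subgroup.card_dvd_of_le hPC
  -- the normalizer
  set N := normalizer ((P : Subgroup H) : Set H) with hN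
  let φ := (P : Subgroup H).normalizerMonoidHom
  have hker : φ.ker = C.subgroupOf N := normalizerMonoidHom_ker (P : Subgroup H)
  have h1 : Nat.card φ.ker * Nat.card φ.range = Nat.card N := by
    rw [← Subgroup.index_ker]; exact Subgroup.card_mul_index φ.ker
  have h2 : Nat.card φ.range ∣ 10 := by
    have : IsCyclic (P : Subgroup H) := isCyclic_of_prime_card hP
    have h3 : Nat.card (MulAut (P : Subgroup H)) = 10 := by
      rw [IsCyclic.card_mulAut, hP]
      exact Nat.totient_prime (by norm_num)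
    rw [← h3]; exact Subgroup.card_subgroup_dvd_card _
  have h4 : Nat.card φ.ker = Nat.card C := by
    rw [hker]
    exact Nat.card_congr (Subgroup.subgroupOfEquivOfLe (centralizer_le_normalizer _)).toEquiv
  have h5 : Nat.card (Sylow 11 H) ≡ 1 [MOD 11] := card_sylow_modEq_one 11 H
  have h6 : Nat.card (Sylow 11 H) = N.index := Sylow.card_eq_index_normalizer P
  have h7 : Nat.card N * N.index = 443520 := by
    rw [← hcard]; exact Subgroup.card_mul_index N
  have hN55 : Nat.card N = 11 * 5 := by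
    rw [← h1, h4]
    apply arith (Nat.card C) (Nat.card φ.range) N.index hC11 Nat.card_pos hCle h2
    · rw [← h4, h1]; exact h7
    · rw [← h6]
      unfold Nat.ModEq at h5
      omega
  -- nontrivial normal subgroups are transitive on the `22` points
  have hnormal : ∀ N' : Subgroup H, N'.Normal → N' ≠ ⊥ → 11 ∣ Nat.card N' := by
    intro N' hN'n hne
    obtain ⟨n, hnN, hn1⟩ : ∃ n ∈ N', n ≠ 1 := by
      by_contra hcon
      push Not at hcon
      exact hne (eq_bot_iff.2 fun y hy => mem_bot.2 (hcon y hy))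
    obtain ⟨a, ha⟩ : ∃ a, (n : Equiv.Perm GolayPt) a ≠ a := by
      by_contra hcon
      push Not at hcon
      apply hn1
      apply Subtype.ext
      exact Equiv.ext hcon
    have hnH := (hH _).1 n.2
    have hap : a ≠ p := by rintro rfl; exact ha hnH.2.1
    have haq : a ≠ q := by rintro rfl; exact ha hnH.2.2
    set b := (n : Equiv.Perm GolayPt) a with hb
    have hbp : b ≠ p := fun h => hap ((n : Equiv.Perm GolayPt).injective (h.trans hnH.2.1.symm))
    have hbq : b ≠ q := fun h => haq ((n : Equiv.Perm GolayPt).injective (h.trans hnH.2.2.symm))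
    have horb : MulAction.orbit N' a = ↑((Finset.univ.erase p).erase q : Finset GolayPt) := by
      ext c
      rw [Finset.mem_coe, Finset.mem_erase, Finset.mem_erase]
      constructor
      · rintro ⟨m, rfl⟩
        have hmH := (hH _).1 (m : H).2
        refine ⟨fun h => haq ?_, fun h => hap ?_, Finset.mem_univ _⟩
        · exact ((m : H) : Equiv.Perm GolayPt).injective (h.trans hmH.2.2.symm)
        · exact ((m : H) : Equiv.Perm GolayPt).injective (h.trans hmH.2.1.symm)
      · rintro ⟨hcq, hcp, -⟩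
        by_cases hca : c = a
        · rw [hca]; exact MulAction.mem_orbit_self a
        · obtain ⟨h, hhM, hhp, hhq, hha, hhb⟩ := exists_map_fix3 p q a b c hpq (Ne.symm hap)
            (Ne.symm hbp) (Ne.symm hcp) (Ne.symm haq) (Ne.symm hbq) (Ne.symm hcq) (Ne.symm ha)
            (Ne.symm hca)
          let h' : H := ⟨h, (hH h).2 ⟨hhM, hhp, hhq⟩⟩
          have hconj : h' * n * h'⁻¹ ∈ N' := hN'n.conj_mem n hnN h'
          refine ⟨⟨h' * n * h'⁻¹, hconj⟩, ?_⟩
          show (h * (n : Equiv.Perm GolayPt) * h⁻¹) a = c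
          have h8 : h⁻¹ a = a := by
            conv_lhs => rw [← hha]
            exact perm_inv_apply h a
          rw [Equiv.Perm.mul_apply, Equiv.Perm.mul_apply, h8]
          exact hhb
    have hidx := MulAction.index_stabilizer (G := N') (x := a)
    have hncard : (MulAction.orbit N' a).ncard = 22 := by
      rw [horb, Set.ncard_coe_finset, Finset.card_erase_of_mem,
        Finset.card_erase_of_mem (Finset.mem_univ p), Finset.card_univ, card_golayPt]
      exact Finset.mem_erase.2 ⟨Ne.symm hpq, Finset.mem_univ q⟩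
    have h22 : 22 ∣ Nat.card N' := by
      rw [← hncard, ← hidx]; exact Subgroup.index_dvd_card _
    exact dvd_trans (by norm_num) h22
  have hnn : ¬ (P : Subgroup H).Normal := by
    intro hn
    have h8 : N = ⊤ := normalizer_eq_top_iff.2 hn
    rw [h8, Subgroup.card_top, hcard] at hN55
    norm_num at hN55
  exact Cfsg.Agent.Lib.Helper9.SylowSimple.simple_of_sylow 11 5 (by norm_num) P hP hN55 hnn hnormal

end Cfsg.Agent.Lib.Helper9.M22Simple
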