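import Cfsg.Agent.Lib.Helper9.PrimeDegreeSimple
import Cfsg.Agent.Lib.Helper21.PermRestrict

/-!
Simplicity of a permutation group acting faithfully and transitively on an invariant set of prime size
(helper9).
-/

set_option autoImplicit false

namespace Cfsg.Agent.Lib.Helper9.RestrictSimple

open Subgroup MulAction Cfsg.Agent.Lib.Helper9.PrimeDegreeSimple Cfsg.Agent.Lib.Helper21
open scoped Pointwise

/-- a permutation group acting faithfully and transitively on an invariant set of prime size `p`, of order
`p m` where the Sylow count forces `|N(P)| = p q`, is simple -/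
theorem simple_of_restrict {β : Type*} [Fintype β] [DecidableEq β] {p : ℕ} [hp : Fact p.Prime]
    (H : Subgroup (Equiv.Perm β)) (E : Finset β) (hE : E.card = p)
    (hst : ∀ g ∈ H, g • E = E) (hfaith : ∀ g ∈ H, (∀ x ∈ E, g x = x) → g = 1)
    (htrans : ∀ x ∈ E, ∀ y ∈ E, ∃ g ∈ H, g x = y)
    (q m : ℕ) (hq : q.Prime) (hcard : Nat.card H = p * m)
    (harith : ∀ k, k ∣ p - 1 → k ∣ m → (m / k) % p = 1 → k = q) (hm : m ≠ q) :
    IsSimpleGroup H := by
  classical
  set f := restrictHom H E hst with hf
  have hinj : Function.Injective f := restrictHom_injective H E hst hfaith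
  let e : H ≃* f.range := MonoidHom.ofInjective hinj
  have hα : Fintype.card ↥E = p := by rw [Fintype.card_coe, hE]
  haveI : IsPretransitive f.range ↥E := by
    refine ⟨fun x y => ?_⟩
    obtain ⟨g, hg, hgx⟩ := htrans x x.2 y y.2
    refine ⟨⟨f ⟨g, hg⟩, ⟨⟨g, hg⟩, rfl⟩⟩, ?_⟩
    apply Subtype.ext
    show ((f ⟨g, hg⟩ x : ↥E) : β) = y
    rw [hf, restrictHom_apply]
    exact hgx
  have hcard' : Nat.card f.range = p * m := by
    rw [← hcard]
    exact (Nat.card_congr e.toEquiv).symm
  haveI := simple_of_prime_degree hα f.range q m hq hcard' harith hm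
  exact e.isSimpleGroup

end Cfsg.Agent.Lib.Helper9.RestrictSimple
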