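import Cfsg.Prelude.Def_Local
import Cfsg.Agent.Lib.Helper9.Quasisimple

set_option autoImplicit false

namespace Cfsg.Agent.Lib.Helper9

open Cfsg

/-- If a family of subgroups is stable under all automorphisms, its join is characteristic. -/
theorem characteristic_sSup_of_map_mem {G : Type*} [Group G] {S : Set (Subgroup G)}
    (h : ∀ φ : G ≃* G, ∀ N ∈ S, N.map φ.toMonoidHom ∈ S) : (sSup S).Characteristic := by
  rw [Subgroup.characteristic_iff_map_le]
  intro φ
  rw [(Subgroup.gc_map_comap φ.toMonoidHom).l_sSup]
  refine iSup₂_le ?_
  intro N hN
  exact le_sSup (h φ N hN)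

/-- Image of a nilpotent subgroup under an isomorphism is nilpotent. -/
theorem isNilpotent_map_mulEquiv {G : Type*} [Group G] (φ : G ≃* G) (N : Subgroup G)
    (hN : Group.IsNilpotent N) : Group.IsNilpotent (N.map φ.toMonoidHom) := by
  have e : N ≃* N.map φ.toMonoidHom := N.equivMapOfInjective φ.toMonoidHom φ.injective
  have := hN
  exact Group.nilpotent_of_mulEquiv e

theorem fittingSubgroup_characteristic (G : Type*) [Group G] :
    (fittingSubgroup G).Characteristic := by
  unfold fittingSubgroup
  apply characteristic_sSup_of_map_mem
  rintro φ N ⟨hn, hnil⟩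
  exact ⟨hn.map φ.toMonoidHom φ.surjective, isNilpotent_map_mulEquiv φ N hnil⟩

theorem fittingSubgroup_normal (G : Type*) [Group G] : (fittingSubgroup G).Normal := by
  have := fittingSubgroup_characteristic G
  infer_instance

theorem le_fittingSubgroup {G : Type*} [Group G] {N : Subgroup G} (hn : N.Normal)
    (hnil : Group.IsNilpotent N) : N ≤ fittingSubgroup G :=
  le_sSup ⟨hn, hnil⟩

theorem isComponent_map_mulEquiv {G : Type*} [Group G] (φ : G ≃* G) (K : Subgroup G)
    (hK : IsComponent K) : IsComponent (K.map φ.toMonoidHom) := by
  obtain ⟨hs, hq⟩ := hK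
  refine ⟨hs.map φ.surjective, ?_⟩
  have e : K ≃* K.map φ.toMonoidHom := K.equivMapOfInjective φ.toMonoidHom φ.injective
  exact isQuasisimple_of_mulEquiv e hq

theorem layer_characteristic (G : Type*) [Group G] : (layer G).Characteristic := by
  unfold layer
  apply characteristic_sSup_of_map_mem
  intro φ K hK
  exact isComponent_map_mulEquiv φ K hK

theorem layer_normal (G : Type*) [Group G] : (layer G).Normal := by
  have := layer_characteristic G
  infer_instance

theorem generalizedFittingSubgroup_characteristic (G : Type*) [Group G] :
    (generalizedFittingSubgroup G).Characteristic := by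
  unfold generalizedFittingSubgroup
  have := layer_characteristic G
  have := fittingSubgroup_characteristic G
  infer_instance

theorem generalizedFittingSubgroup_normal (G : Type*) [Group G] :
    (generalizedFittingSubgroup G).Normal := by
  have := generalizedFittingSubgroup_characteristic G
  infer_instance

theorem fittingSubgroup_le_generalizedFittingSubgroup (G : Type*) [Group G] :
    fittingSubgroup G ≤ generalizedFittingSubgroup G := le_sup_right

theorem layer_le_generalizedFittingSubgroup (G : Type*) [Group G] :
    layer G ≤ generalizedFittingSubgroup G := le_sup_left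

theorem pCore_characteristic (p : ℕ) (G : Type*) [Group G] : (pCore p G).Characteristic := by
  unfold pCore
  apply characteristic_sSup_of_map_mem
  rintro φ N ⟨hn, hp⟩
  exact ⟨hn.map φ.toMonoidHom φ.surjective, hp.map φ.toMonoidHom⟩

theorem pCore_normal (p : ℕ) (G : Type*) [Group G] : (pCore p G).Normal := by
  have := pCore_characteristic p G
  infer_instance

theorem pPrimeCore_characteristic (p : ℕ) (G : Type*) [Group G] :
    (pPrimeCore p G).Characteristic := by
  unfold pPrimeCore
  apply characteristic_sSup_of_map_mem
  rintro φ N ⟨hn, hp⟩
  refine ⟨hn.map φ.toMonoidHom φ.surjective, ?_⟩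
  have e : N ≃* N.map φ.toMonoidHom := N.equivMapOfInjective φ.toMonoidHom φ.injective
  rw [← Nat.card_congr e.toEquiv]
  exact hp

theorem pPrimeCore_normal (p : ℕ) (G : Type*) [Group G] : (pPrimeCore p G).Normal := by
  have := pPrimeCore_characteristic p G
  infer_instance

/-- Commutative groups are nilpotent (mixin version). -/
theorem isNilpotent_of_isMulCommutative (G : Type*) [Group G] [IsMulCommutative G] :
    Group.IsNilpotent G :=
  ⟨1, Subgroup.upperCentralSeries_one_eq_top_iff.mpr inferInstance⟩

/-- A central element generates a normal nilpotent subgroup, so lies in the Fitting subgroup. -/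
theorem mem_fittingSubgroup_of_mem_center {G : Type*} [Group G] {z : G}
    (hz : z ∈ Subgroup.center G) : z ∈ fittingSubgroup G := by
  have hle : Subgroup.zpowers z ≤ Subgroup.center G := by
    rw [Subgroup.zpowers_le]; exact hz
  have hn : (Subgroup.zpowers z).Normal := by
    constructor
    intro n hn g
    have : n ∈ Subgroup.center G := hle hn
    rw [Subgroup.mem_center_iff] at this
    have h2 : g * n * g⁻¹ = n := by rw [this g]; group
    rw [h2]; exact hn
  have hnil : Group.IsNilpotent (Subgroup.zpowers z) := isNilpotent_of_isMulCommutative _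
  exact le_fittingSubgroup hn hnil (Subgroup.mem_zpowers z)

end Cfsg.Agent.Lib.Helper9
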