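import Mathlib

/-!
Elementary matrix facts on `SL₂(F)` used for the structure of `p'`-subgroups normalized by a
`p`-element (helper9).
-/

set_option autoImplicit false

namespace Cfsg.Agent.Lib.Helper9.SL2Upper

open Matrix

variable {F : Type*} [Field F]

local notation "SL2" => Matrix.SpecialLinearGroup (Fin 2) F
local notation "M2" => Matrix (Fin 2) (Fin 2) F

/-- the upper unitriangular matrix -/
def upper (s : F) : SL2 := ⟨!![1, s; 0, 1], by simp [Matrix.det_fin_two]⟩

@[simp] theorem upper_coe (s : F) : ((upper s : SL2) : M2) = !![1, s; 0, 1] := rfl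

theorem sl_ext {x y : SL2} (h00 : (x : M2) 0 0 = (y : M2) 0 0) (h01 : (x : M2) 0 1 = (y : M2) 0 1)
    (h10 : (x : M2) 1 0 = (y : M2) 1 0) (h11 : (x : M2) 1 1 = (y : M2) 1 1) : x = y := by
  apply Subtype.ext
  ext i j
  fin_cases i <;> fin_cases j <;> assumption

theorem det_eq (x : SL2) : (x : M2) 0 0 * (x : M2) 1 1 - (x : M2) 0 1 * (x : M2) 1 0 = 1 := by
  have := x.2
  rwa [Matrix.det_fin_two] at this

theorem upper_mul (s t : F) : upper s * upper t = upper (s + t) := by
  apply sl_ext <;>
    simp [Matrix.SpecialLinearGroup.coe_mul, Matrix.mul_apply, Fin.sum_univ_two, add_comm]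

theorem upper_zero : upper (0 : F) = 1 := by
  apply sl_ext <;> simp

theorem upper_inv (s : F) : (upper s)⁻¹ = upper (-s) := by
  rw [inv_eq_iff_mul_eq_one, upper_mul, add_neg_cancel, upper_zero]

theorem upper_pow (s : F) (n : ℕ) : upper s ^ n = upper (n * s) := by
  induction n with
  | zero => simp [upper_zero]
  | succ n ih => rw [pow_succ, ih, upper_mul]; congr 1; push_cast; ring

theorem upper_pow_char (p : ℕ) [CharP F p] (s : F) : upper s ^ p = 1 := by
  rw [upper_pow, CharP.cast_eq_zero, zero_mul, upper_zero]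

theorem upper_eq_one_iff (s : F) : upper s = 1 ↔ s = 0 := by
  constructor
  · intro h
    have := congrArg (fun x : SL2 => (x : M2) 0 1) h
    simpa using this
  · rintro rfl; exact upper_zero

/-- if `x` commutes with its conjugate under `upper b`, `b ≠ 0`, then `x` is upper triangular -/
theorem lower_zero_of_commute (h2 : (2 : F) ≠ 0) {b : F} (hb : b ≠ 0) (x : SL2)
    (hc : x * (upper b * x * (upper b)⁻¹) = upper b * x * (upper b)⁻¹ * x) :
    (x : M2) 1 0 = 0 := by
  rw [upper_inv] at hc
  have := congrArg (fun y : SL2 => (y : M2) 1 0) hc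
  simp only [Matrix.SpecialLinearGroup.coe_mul, Matrix.mul_apply, Fin.sum_univ_two, upper_coe,
    Matrix.of_apply, Matrix.cons_val', Matrix.cons_val_zero, Matrix.cons_val_one,
    Matrix.cons_val_fin_one] at this
  have h3 : 2 * b * ((x : M2) 1 0) ^ 2 = 0 := by linear_combination this
  have h4 : ((x : M2) 1 0) ^ 2 = 0 := by
    rcases mul_eq_zero.1 h3 with h | h
    · exact absurd h (mul_ne_zero h2 hb)
    · exact h
  exact pow_eq_zero_iff (two_ne_zero) |>.1 h4

/-- conjugating `upper b` by an upper triangular matrix -/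
theorem mul_upper_of_lower_zero (b : F) (x : SL2) (hx : (x : M2) 1 0 = 0) :
    x * upper b = upper (((x : M2) 0 0) ^ 2 * b) * x := by
  have hd := det_eq x
  rw [hx, mul_zero, sub_zero] at hd
  apply sl_ext <;>
    simp only [Matrix.SpecialLinearGroup.coe_mul, Matrix.mul_apply, Fin.sum_univ_two, upper_coe,
      Matrix.of_apply, Matrix.cons_val', Matrix.cons_val_zero, Matrix.cons_val_one,
      Matrix.cons_val_fin_one, hx]
  · ring
  · linear_combination (-(x : M2) 0 0 * b) * hd
  · ring
  · ring

/-- the square of an upper triangular matrix with diagonal entries `±1` -/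
theorem sq_of_lower_zero (x : SL2) (hx : (x : M2) 1 0 = 0) (hα : ((x : M2) 0 0) ^ 2 = 1) :
    x * x = upper (2 * (x : M2) 0 0 * (x : M2) 0 1) := by
  have hd := det_eq x
  rw [hx, mul_zero, sub_zero] at hd
  have hδ : (x : M2) 1 1 = (x : M2) 0 0 := by
    linear_combination (-(x : M2) 1 1) * hα + (x : M2) 0 0 * hd
  apply sl_ext <;>
    simp only [Matrix.SpecialLinearGroup.coe_mul, Matrix.mul_apply, Fin.sum_univ_two, upper_coe,
      Matrix.of_apply, Matrix.cons_val', Matrix.cons_val_zero, Matrix.cons_val_one,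
      Matrix.cons_val_fin_one, hx, hδ]
  · linear_combination hα
  · ring
  · ring
  · linear_combination hα

/-- involutions of `SL₂(F)` are unique when `2 ≠ 0` -/
theorem involution_unique (h2 : (2 : F) ≠ 0) (t s : SL2) (ht : t * t = 1) (ht1 : t ≠ 1)
    (hs : s * s = 1) (hs1 : s ≠ 1) : t = s := by
  have key : ∀ u : SL2, u * u = 1 → u ≠ 1 →
      (u : M2) 0 0 = -1 ∧ (u : M2) 0 1 = 0 ∧ (u : M2) 1 0 = 0 ∧ (u : M2) 1 1 = -1 := by
    intro u hu hu1
    have hd := det_eq u
    have e00 := congrArg (fun y : SL2 => (y : M2) 0 0) hu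
    have e01 := congrArg (fun y : SL2 => (y : M2) 0 1) hu
    have e10 := congrArg (fun y : SL2 => (y : M2) 1 0) hu
    have e11 := congrArg (fun y : SL2 => (y : M2) 1 1) hu
    simp only [Matrix.SpecialLinearGroup.coe_mul, Matrix.mul_apply, Fin.sum_univ_two,
      Matrix.SpecialLinearGroup.coe_one, Matrix.one_apply_eq, Matrix.one_apply_ne,
      ne_eq, zero_ne_one, one_ne_zero, not_false_eq_true, Fin.isValue] at e00 e01 e10 e11
    set α := (u : M2) 0 0
    set β := (u : M2) 0 1
    set γ := (u : M2) 1 0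
    set δ := (u : M2) 1 1
    have htr : α + δ ≠ 0 := by
      intro h0
      have hδ : δ = -α := by linear_combination h0
      apply h2
      rw [hδ] at hd
      linear_combination -e00 - hd
    have hβ : β = 0 := by
      have : β * (α + δ) = 0 := by linear_combination e01
      rcases mul_eq_zero.1 this with h | h
      · exact h
      · exact absurd h htr
    have hγ : γ = 0 := by
      have : γ * (α + δ) = 0 := by linear_combination e10
      rcases mul_eq_zero.1 this with h | h
      · exact h
      · exact absurd h htr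
    rw [hβ, hγ] at e00 e11 hd
    have hαδ : α = δ := by
      have : (α - δ) * (α + δ) = 0 := by linear_combination e00 - e11
      rcases mul_eq_zero.1 this with h | h
      · linear_combination h
      · exact absurd h htr
    have hα2 : (α - 1) * (α + 1) = 0 := by linear_combination e00
    rcases mul_eq_zero.1 hα2 with h | h
    · exfalso
      apply hu1
      have hα1 : α = 1 := by linear_combination h
      apply sl_ext
      · simpa using hα1
      · simpa using hβ
      · simpa using hγ
      · have : δ = 1 := by rw [← hαδ, hα1]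
        simpa using this
    · have hα1 : α = -1 := by linear_combination h
      exact ⟨hα1, hβ, hγ, by rw [← hαδ, hα1]⟩
  obtain ⟨a1, a2, a3, a4⟩ := key t ht ht1
  obtain ⟨b1, b2, b3, b4⟩ := key s hs hs1
  apply sl_ext
  · rw [a1, b1]
  · rw [a2, b2]
  · rw [a3, b3]
  · rw [a4, b4]

/-- a matrix of `SL₂(F)` fixing the first basis vector is upper unitriangular -/
theorem eq_upper_of_fix (x : SL2) (h : (x : M2).mulVec ![1, 0] = ![1, 0]) :
    x = upper ((x : M2) 0 1) := by
  have h0 := congrFun h 0
  have h1 := congrFun h 1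
  simp only [Matrix.mulVec, dotProduct, Fin.sum_univ_two, Matrix.cons_val_zero,
    Matrix.cons_val_one, Matrix.cons_val_fin_one, mul_one, mul_zero, add_zero] at h0 h1
  have hd := det_eq x
  rw [h0, h1, mul_zero, sub_zero, one_mul] at hd
  apply sl_ext
  · simpa using h0
  · simp
  · simpa using h1
  · simpa using hd

/-- a `p`-element of `SL₂(F)`, `char F = p`, fixes a nonzero vector -/
theorem exists_fixed_vector (p : ℕ) [Fact p.Prime] [CharP F p] (x : SL2) {k : ℕ}
    (hx : x ^ (p ^ k) = 1) : ∃ v : Fin 2 → F, v ≠ 0 ∧ (x : M2).mulVec v = v := by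
  have hX : (x : M2) ^ (p ^ k) = 1 := by
    rw [← Matrix.SpecialLinearGroup.coe_pow, hx, Matrix.SpecialLinearGroup.coe_one]
  have h1 : ((x : M2) - 1) ^ (p ^ k) = 0 := by
    rw [sub_pow_char_pow_of_commute (p := p) (h := Commute.one_right _), hX, one_pow, sub_self]
  have h2 : ((x : M2) - 1).det = 0 := by
    have := congrArg Matrix.det h1
    rw [Matrix.det_pow, Matrix.det_zero] at this
    exact pow_eq_zero_iff (pow_ne_zero _ (Fact.out : p.Prime).ne_zero) |>.1 this
  obtain ⟨v, hv, hv0⟩ := Matrix.exists_mulVec_eq_zero_iff.2 h2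
  refine ⟨v, hv, ?_⟩
  rw [Matrix.sub_mulVec, Matrix.one_mulVec, sub_eq_zero] at hv0
  exact hv0

/-- an element of `SL₂(F)` with prescribed nonzero first column -/
theorem exists_first_column (v : Fin 2 → F) (hv : v ≠ 0) :
    ∃ g : SL2, (g : M2).mulVec ![1, 0] = v := by
  by_cases h0 : v 0 = 0
  · have h1 : v 1 ≠ 0 := by
      intro h1
      apply hv
      ext i
      fin_cases i
      · exact h0
      · exact h1
    refine ⟨⟨!![0, -(v 1)⁻¹; v 1, 0], by simp [Matrix.det_fin_two, h1]⟩, ?_⟩
    ext i
    fin_cases i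
    · simp [Matrix.mulVec, dotProduct, Fin.sum_univ_two, h0]
    · simp [Matrix.mulVec, dotProduct, Fin.sum_univ_two]
  · refine ⟨⟨!![v 0, 0; v 1, (v 0)⁻¹], by simp [Matrix.det_fin_two, h0]⟩, ?_⟩
    ext i
    fin_cases i
    · simp [Matrix.mulVec, dotProduct, Fin.sum_univ_two]
    · simp [Matrix.mulVec, dotProduct, Fin.sum_univ_two]

/-- a `p`-element of `SL₂(F)`, `char F = p`, is conjugate to an upper unitriangular matrix -/
theorem exists_conj_upper (p : ℕ) [Fact p.Prime] [CharP F p] (x : SL2) {k : ℕ}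
    (hx : x ^ (p ^ k) = 1) : ∃ (g : SL2) (b : F), g⁻¹ * x * g = upper b := by
  obtain ⟨v, hv, hxv⟩ := exists_fixed_vector p x hx
  obtain ⟨g, hg⟩ := exists_first_column v hv
  refine ⟨g, _, eq_upper_of_fix _ ?_⟩
  have hinv : ((g⁻¹ : SL2) : M2) * (g : M2) = 1 := by
    rw [← Matrix.SpecialLinearGroup.coe_mul, inv_mul_cancel, Matrix.SpecialLinearGroup.coe_one]
  rw [Matrix.SpecialLinearGroup.coe_mul, Matrix.SpecialLinearGroup.coe_mul,
    ← Matrix.mulVec_mulVec, ← Matrix.mulVec_mulVec, hg, hxv, ← hg, Matrix.mulVec_mulVec, hinv,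
    Matrix.one_mulVec]

end Cfsg.Agent.Lib.Helper9.SL2Upper
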