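import Mathlib

set_option autoImplicit false

namespace Cfsg.Agent.Lib.Helper9

/-- If `|G| = m * r ^ k` with `0 < m < r`, `r` prime, there is exactly one Sylow `r`-subgroup. -/
theorem card_sylow_eq_one_of_lt {G : Type*} [Group G] [Finite G] {r m k : ℕ} [Fact r.Prime]
    (hcard : Nat.card G = m * r ^ k) (hm0 : 0 < m) (hm : m < r) : Nat.card (Sylow r G) = 1 := by
  have hr : r.Prime := Fact.out
  obtain ⟨P⟩ : Nonempty (Sylow r G) := inferInstance
  have h1 : Nat.card (Sylow r G) ∣ (P : Subgroup G).index := P.card_dvd_index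
  have h2 : (P : Subgroup G).index ∣ m := by
    have hd : (P : Subgroup G).index ∣ m * r ^ k := hcard ▸ Subgroup.index_dvd_card _
    have hcop : Nat.Coprime ((P : Subgroup G).index) (r ^ k) :=
      Nat.Coprime.pow_right _ ((Nat.coprime_comm.mp ((Nat.Prime.coprime_iff_not_dvd hr).mpr
        P.not_dvd_index)))
    exact hcop.dvd_of_dvd_mul_right hd
  have h3 : Nat.card (Sylow r G) ≤ m := Nat.le_of_dvd hm0 (h1.trans h2)
  have h4 : Nat.card (Sylow r G) ≡ 1 [MOD r] := card_sylow_modEq_one r G
  have h5 : 0 < Nat.card (Sylow r G) := Nat.card_pos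
  have h6 : Nat.card (Sylow r G) % r = 1 % r := h4
  rw [Nat.mod_eq_of_lt (by omega), Nat.mod_eq_of_lt hr.one_lt] at h6
  exact h6

/-- Under the same hypothesis every Sylow `r`-subgroup is normal. -/
theorem sylow_normal_of_lt {G : Type*} [Group G] [Finite G] {r m k : ℕ} [Fact r.Prime]
    (hcard : Nat.card G = m * r ^ k) (hm0 : 0 < m) (hm : m < r) (P : Sylow r G) :
    (P : Subgroup G).Normal := by
  have h := card_sylow_eq_one_of_lt hcard hm0 hm
  have : Subsingleton (Sylow r G) := (Nat.card_eq_one_iff_unique.mp h).1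
  exact P.normal_of_subsingleton

/-- A normal subgroup whose order is the full power of `p` dividing `|G|` ... every Sylow
`p`-subgroup equals a given normal Sylow subgroup. -/
theorem sylow_eq_of_normal {G : Type*} [Group G] [Finite G] {p : ℕ} [Fact p.Prime]
    (P Q : Sylow p G) (hP : (P : Subgroup G).Normal) : Q = P := by
  have := Sylow.unique_of_normal P hP
  exact Subsingleton.elim _ _

end Cfsg.Agent.Lib.Helper9
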