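import Mathlib
import Cfsg.Agent.Lib.Helper9.SylowBasic

set_option autoImplicit false

namespace Cfsg.Agent.Lib.Helper9

open Subgroup

section
variable {G : Type*} [Group G] [Finite G]

/-- `n_p * |N(P)| = |G|`. -/
theorem card_sylow_mul_card_normalizer {p : ℕ} [Fact p.Prime] (P : Sylow p G) :
    Nat.card (Sylow p G) * Nat.card (normalizer ((P : Subgroup G) : Set G)) = Nat.card G := by
  rw [Sylow.card_eq_index_normalizer P]
  exact Subgroup.index_mul_card _

/-- If `|G| = m * p ^ k` with `p ∤ m`, a Sylow `p`-subgroup has order `p ^ k`. -/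
theorem card_sylow_subgroup_of_card_eq {p m k : ℕ} [Fact p.Prime] (hcard : Nat.card G = m * p ^ k)
    (hm : ¬ p ∣ m) (P : Sylow p G) : Nat.card (P : Subgroup G) = p ^ k := by
  have hp : p.Prime := Fact.out
  rw [P.card_eq_multiplicity, hcard]
  have hm0 : m ≠ 0 := fun h => hm (h ▸ dvd_zero p)
  rw [Nat.factorization_mul hm0 (pow_ne_zero _ hp.ne_zero)]
  simp only [Finsupp.coe_add, Pi.add_apply]
  rw [Nat.factorization_eq_zero_of_not_dvd hm, hp.factorization_pow]
  simp

/-- If `|G| = m * p ^ k` with `p ∤ m`, then `n_p ∣ m`. -/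
theorem card_sylow_dvd_of_card_eq {p m k : ℕ} [Fact p.Prime] (hcard : Nat.card G = m * p ^ k)
    (hm : ¬ p ∣ m) : Nat.card (Sylow p G) ∣ m := by
  have hp : p.Prime := Fact.out
  obtain ⟨P⟩ : Nonempty (Sylow p G) := inferInstance
  have h1 : Nat.card (Sylow p G) ∣ (P : Subgroup G).index := P.card_dvd_index
  have h2 := (P : Subgroup G).card_mul_index
  rw [card_sylow_subgroup_of_card_eq hcard hm P, hcard, mul_comm] at h2
  have : (P : Subgroup G).index = m :=
    Nat.eq_of_mul_eq_mul_right (pow_pos hp.pos k) h2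
  rwa [this] at h1

/-- If `|G| = m * p ^ k` with `p ∤ m`, then `|N(P)| * n_p = m * p^k`. -/
theorem card_normalizer_of_card_sylow {p m k n : ℕ} [Fact p.Prime] (hcard : Nat.card G = m * p ^ k)
    (P : Sylow p G) (hn : Nat.card (Sylow p G) = n) :
    n * Nat.card (normalizer ((P : Subgroup G) : Set G)) = m * p ^ k := by
  rw [← hn, card_sylow_mul_card_normalizer, hcard]

/-- In a simple group whose order is divisible by `p` but is not `p ^ k`-power... a Sylow
`p`-subgroup is not normal, so `n_p ≠ 1`. -/
theorem card_sylow_ne_one_of_simple [IsSimpleGroup G] {p : ℕ} [Fact p.Prime]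
    (hp : p ∣ Nat.card G) (hnp : ∀ k : ℕ, Nat.card G ≠ p ^ k) : Nat.card (Sylow p G) ≠ 1 := by
  intro h
  have hsub : Subsingleton (Sylow p G) := (Nat.card_eq_one_iff_unique.mp h).1
  obtain ⟨P⟩ : Nonempty (Sylow p G) := inferInstance
  have hn : (P : Subgroup G).Normal := P.normal_of_subsingleton
  rcases hn.eq_bot_or_eq_top with h1 | h1
  · have := P.dvd_card_of_dvd_card hp
    rw [h1, Subgroup.card_bot] at this
    exact (Fact.out : p.Prime).one_lt.ne' (Nat.dvd_one.mp this)
  · obtain ⟨k, hk⟩ := IsPGroup.iff_card.mp P.2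
    rw [h1, Subgroup.card_top] at hk
    exact hnp k hk

/-- **Burnside** in a simple group: a Sylow subgroup central in its normalizer forces
a contradiction (unless `G` is a `p`-group or `p ∤ |G|`). -/
theorem false_of_simple_of_normalizer_le_centralizer [IsSimpleGroup G] {p : ℕ} [Fact p.Prime]
    (P : Sylow p G) (hp : p ∣ Nat.card G) (hnp : ∀ k : ℕ, Nat.card G ≠ p ^ k)
    (h : normalizer ((P : Subgroup G) : Set G) ≤ centralizer ((P : Subgroup G) : Set G)) : False := by
  have hcompl := MonoidHom.ker_transferSylow_isComplement' P h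
  have hcard := hcompl.card_mul_card
  rcases (MonoidHom.normal_ker (MonoidHom.transferSylow P h)).eq_bot_or_eq_top with h1 | h1
  · rw [h1, Subgroup.card_bot, one_mul] at hcard
    obtain ⟨k, hk⟩ := IsPGroup.iff_card.mp P.2
    exact hnp k (hcard ▸ hk)
  · rw [h1, Subgroup.card_top] at hcard
    have h2 : Nat.card (P : Subgroup G) = 1 := by
      have hpos : 0 < Nat.card G := Nat.card_pos
      have : Nat.card G * Nat.card (P : Subgroup G) = Nat.card G * 1 := by rw [hcard, mul_one]
      exact Nat.eq_of_mul_eq_mul_left hpos this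
    have := P.dvd_card_of_dvd_card hp
    rw [h2] at this
    exact (Fact.out : p.Prime).one_lt.ne' (Nat.dvd_one.mp this)

/-- A cyclic Sylow subgroup is central in its normalizer as soon as `|N(P) : P|` is coprime to
`φ(|P|)`. -/
theorem normalizer_le_centralizer_of_coprime {p : ℕ} [Fact p.Prime] (P : Sylow p G)
    (hP : IsCyclic (P : Subgroup G))
    (hcop : Nat.Coprime ((P : Subgroup G).relIndex (normalizer ((P : Subgroup G) : Set G)))
      (Nat.totient (Nat.card (P : Subgroup G)))) :
    normalizer ((P : Subgroup G) : Set G) ≤ centralizer ((P : Subgroup G) : Set G) := by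
  have key := card_dvd_of_injective _
    (QuotientGroup.kerLift_injective (P : Subgroup G).normalizerMonoidHom)
  rw [normalizerMonoidHom_ker, ← index, ← relIndex] at key
  rw [hP.card_mulAut] at key
  have hle : (P : Subgroup G) ≤ centralizer ((P : Subgroup G) : Set G) :=
    (P : Subgroup G).le_centralizer
  have h2 : (centralizer ((P : Subgroup G) : Set G)).relIndex (normalizer ((P : Subgroup G) : Set G)) ∣
      (P : Subgroup G).relIndex (normalizer ((P : Subgroup G) : Set G)) :=
    relIndex_dvd_of_le_left _ hle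
  exact relIndex_eq_one.mp (Nat.eq_one_of_dvd_coprimes hcop h2 key)

/-- `|N(P) : P| * |P| = |N(P)|`. -/
theorem relIndex_normalizer_mul_card {p : ℕ} [Fact p.Prime] (P : Sylow p G) :
    (P : Subgroup G).relIndex (normalizer ((P : Subgroup G) : Set G)) * Nat.card (P : Subgroup G) =
      Nat.card (normalizer ((P : Subgroup G) : Set G)) := by
  have h := relIndex_mul_relIndex (⊥ : Subgroup G) (P : Subgroup G)
    (normalizer ((P : Subgroup G) : Set G)) bot_le le_normalizer
  rw [relIndex_bot_left, relIndex_bot_left] at h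
  rw [mul_comm]
  exact h

end

end Cfsg.Agent.Lib.Helper9

namespace Cfsg.Agent.Lib.Helper9

/-- A number divisible by a prime `q ≠ p` is not a power of `p`. -/
theorem ne_pow_of_prime_dvd {N p q : ℕ} (hp : p.Prime) (hq : q.Prime) (hpq : p ≠ q)
    (hqN : q ∣ N) : ∀ k : ℕ, N ≠ p ^ k := by
  intro k h
  rw [h] at hqN
  have := hq.dvd_of_dvd_pow hqN
  exact hpq ((Nat.prime_dvd_prime_iff_eq hq hp).mp this).symm

end Cfsg.Agent.Lib.Helper9

namespace Cfsg.Agent.Lib.Helper9

/-- A simple group whose order is not prime is not commutative. -/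
theorem not_isMulCommutative_of_simple_of_not_prime {G : Type*} [Group G] [IsSimpleGroup G]
    (h : ¬ (Nat.card G).Prime) : ¬ IsMulCommutative G := by
  intro hc
  letI : CommGroup G := { (inferInstance : Group G) with mul_comm := fun a b => hc.is_comm.comm a b }
  exact h (CommGroup.is_simple_iff_prime_card.mp inferInstance)

end Cfsg.Agent.Lib.Helper9
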