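import Mathlib

set_option autoImplicit false

namespace Cfsg.Agent.Lib.Helper9

/-- A finite cyclic group has at most one element of order two. -/
theorem eq_of_orderOf_eq_two_of_isCyclic {T : Type*} [Group T] [Finite T] [IsCyclic T] {a b : T}
    (ha : orderOf a = 2) (hb : orderOf b = 2) : a = b := by
  classical
  haveI := Fintype.ofFinite T
  have hd : 2 ∣ Fintype.card T := ha ▸ orderOf_dvd_card
  have h := IsCyclic.card_orderOf_eq_totient (α := T) hd
  rw [Nat.totient_two] at h
  have hle : (Finset.univ.filter fun x : T => orderOf x = 2).card ≤ 1 := h.le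
  rw [Finset.card_le_one] at hle
  exact hle a (by simp [ha]) b (by simp [hb])

/-- The subgroup of central elements of exponent dividing two. -/
def omegaCenter (T : Type*) [Group T] : Subgroup T where
  carrier := {x | x ∈ Subgroup.center T ∧ x ^ 2 = 1}
  one_mem' := ⟨Subgroup.one_mem _, one_pow 2⟩
  mul_mem' := by
    rintro a b ⟨ha, ha2⟩ ⟨hb, hb2⟩
    refine ⟨Subgroup.mul_mem _ ha hb, ?_⟩
    have hc : Commute a b := by
      rw [Subgroup.mem_center_iff] at hb
      exact hb a
    rw [hc.mul_pow, ha2, hb2, one_mul]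
  inv_mem' := by
    rintro a ⟨ha, ha2⟩
    exact ⟨Subgroup.inv_mem _ ha, by rw [inv_pow, ha2, inv_one]⟩

theorem mem_omegaCenter {T : Type*} [Group T] {x : T} :
    x ∈ omegaCenter T ↔ x ∈ Subgroup.center T ∧ x ^ 2 = 1 := Iff.rfl

theorem omegaCenter_characteristic (T : Type*) [Group T] : (omegaCenter T).Characteristic := by
  rw [Subgroup.characteristic_iff_map_le]
  rintro φ _ ⟨x, ⟨hx, hx2⟩, rfl⟩
  refine ⟨?_, ?_⟩
  · have hc : (Subgroup.center T).map φ.toMonoidHom = Subgroup.center T :=
      Subgroup.characteristic_iff_map_eq.mp inferInstance φ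
    rw [← hc]
    exact ⟨x, hx, rfl⟩
  · show (φ x) ^ 2 = 1
    rw [← map_pow, hx2, map_one]

theorem omegaCenter_isMulCommutative (T : Type*) [Group T] : IsMulCommutative (omegaCenter T) := by
  refine ⟨⟨?_⟩⟩
  rintro ⟨a, ha⟩ ⟨b, hb⟩
  apply Subtype.ext
  have := hb.1
  rw [Subgroup.mem_center_iff] at this
  exact this a

/-- If the characteristic abelian subgroups of `T` are cyclic, `T` has at most one central
involution. -/
theorem central_involution_unique {T : Type*} [Group T] [Finite T]
    (hT : ∀ A : Subgroup T, A.Characteristic → IsMulCommutative A → IsCyclic A)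
    {a b : T} (ha : a ∈ Subgroup.center T) (hb : b ∈ Subgroup.center T)
    (ha2 : orderOf a = 2) (hb2 : orderOf b = 2) : a = b := by
  have hcyc : IsCyclic (omegaCenter T) :=
    hT _ (omegaCenter_characteristic T) (omegaCenter_isMulCommutative T)
  have ha' : a ∈ omegaCenter T := ⟨ha, by rw [← ha2]; exact pow_orderOf_eq_one a⟩
  have hb' : b ∈ omegaCenter T := ⟨hb, by rw [← hb2]; exact pow_orderOf_eq_one b⟩
  have h := eq_of_orderOf_eq_two_of_isCyclic (T := omegaCenter T) (a := ⟨a, ha'⟩) (b := ⟨b, hb'⟩)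
    (by rw [Subgroup.orderOf_mk]; exact ha2) (by rw [Subgroup.orderOf_mk]; exact hb2)
  exact congrArg Subtype.val h

/-- An involution of a cyclic characteristic subgroup is central. -/
theorem involution_mem_center_of_characteristic_cyclic {T : Type*} [Group T] [Finite T]
    (B : Subgroup T) (hBc : B.Characteristic) (hcyc : IsCyclic B) {b : T} (hb : b ∈ B)
    (hb2 : orderOf b = 2) : b ∈ Subgroup.center T := by
  rw [Subgroup.mem_center_iff]
  intro t
  have hmap : B.map (MulAut.conj t).toMonoidHom = B :=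
    Subgroup.characteristic_iff_map_eq.mp hBc (MulAut.conj t)
  have hmem : t * b * t⁻¹ ∈ B := by
    rw [← hmap]
    exact ⟨b, hb, rfl⟩
  have hord : orderOf (t * b * t⁻¹) = 2 := by
    have : t * b * t⁻¹ = (MulAut.conj t) b := rfl
    rw [this, MulEquiv.orderOf_eq, hb2]
  have h := eq_of_orderOf_eq_two_of_isCyclic (T := B) (a := ⟨t * b * t⁻¹, hmem⟩) (b := ⟨b, hb⟩)
    (by rw [Subgroup.orderOf_mk]; exact hord) (by rw [Subgroup.orderOf_mk]; exact hb2)
  have h' : t * b * t⁻¹ = b := congrArg Subtype.val h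
  calc t * b = (t * b * t⁻¹) * t := by group
    _ = b * t := by rw [h']

/-- In a finite group, a nontrivial element of `2`-power order has a power of order two. -/
theorem exists_pow_orderOf_eq_two {T : Type*} [Group T] {x : T} (hx : x ≠ 1) {k : ℕ}
    (hk : orderOf x = 2 ^ k) : ∃ m : ℕ, orderOf (x ^ m) = 2 := by
  have hk0 : k ≠ 0 := by
    rintro rfl
    rw [pow_zero, orderOf_eq_one_iff] at hk
    exact hx hk
  obtain ⟨j, rfl⟩ := Nat.exists_eq_succ_of_ne_zero hk0
  refine ⟨2 ^ j, ?_⟩
  have hdvd : 2 ^ j ∣ orderOf x := by rw [hk]; exact pow_dvd_pow 2 (Nat.le_succ j)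
  rw [orderOf_pow_of_dvd (by positivity) hdvd, hk, pow_succ]
  exact Nat.mul_div_cancel_left 2 (by positivity)

end Cfsg.Agent.Lib.Helper9
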