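import Mathlib

set_option autoImplicit false

namespace Cfsg.Agent.Lib.Helper9

open MulAction Fintype

/-- If every non-trivial orbit of a group action on a finite set has size divisible by `m`,
the number of points is congruent to the number of fixed points modulo `m`. -/
theorem card_modEq_card_fixedPoints_of_dvd {H α : Type*} [Group H] [MulAction H α] [Finite α]
    (m : ℕ) (h : ∀ a : α, a ∉ fixedPoints H α → m ∣ Nat.card (orbit H a)) :
    Nat.card α ≡ Nat.card (fixedPoints H α) [MOD m] := by
  by_cases hm1 : m = 1
  · subst hm1; exact Nat.modEq_one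
  have := Fintype.ofFinite α
  have := Fintype.ofFinite (fixedPoints H α)
  rw [Nat.card_eq_fintype_card, Nat.card_eq_fintype_card]
  classical
    calc
      card α = card (Σ y : Quotient (orbitRel H α), { x // Quotient.mk'' x = y }) :=
        card_congr (Equiv.sigmaFiberEquiv (@Quotient.mk'' _ (orbitRel H α))).symm
      _ = ∑ a : Quotient (orbitRel H α), card { x // Quotient.mk'' x = a } := card_sigma
      _ ≡ ∑ _a : fixedPoints H α, 1 [MOD m] := ?_
      _ = _ := by simp
    rw [← ZMod.natCast_eq_natCast_iff _ _ m, Nat.cast_sum, Nat.cast_sum]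
    have key :
      ∀ x,
        card { y // (Quotient.mk'' y : Quotient (orbitRel H α)) = Quotient.mk'' x } =
          card (orbit H x) :=
      fun x => by simp only [Quotient.eq'']; congr
    have hone : ((1 : ℕ) : ZMod m) ≠ 0 := by
      rw [Nat.cast_one]
      intro h10
      have : (1 : ZMod m) = 0 := h10
      have h2 := (ZMod.natCast_eq_zero_iff 1 m).mp (by rw [Nat.cast_one]; exact this)
      exact hm1 (Nat.dvd_one.mp h2)
    refine
      Eq.symm
        (Finset.sum_bij_ne_zero (fun a _ _ => Quotient.mk'' a.1) (fun _ _ _ => Finset.mem_univ _)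
          (fun a₁ _ _ a₂ _ _ h =>
            Subtype.ext (mem_fixedPoints'.mp a₂.2 a₁.1 (Quotient.exact' h)))
          (fun b => Quotient.inductionOn' b fun b _ hb => ?_) fun a ha _ => by
          rw [key, mem_fixedPoints_iff_card_orbit_eq_one.mp a.2])
    have hbfix : b ∈ fixedPoints H α := by
      by_contra hnot
      apply hb
      have hdvd := h b hnot
      rw [Nat.card_eq_fintype_card] at hdvd
      rw [key]
      exact (ZMod.natCast_eq_zero_iff _ m).mpr hdvd
    exact ⟨⟨b, hbfix⟩, Finset.mem_univ _, hone, rfl⟩

end Cfsg.Agent.Lib.Helper9
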