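import Mathlib

/-! The embedding `Fin 2 ↪ β` given by two distinct points (helper9). -/

set_option autoImplicit false

namespace Cfsg.Agent.Lib.Helper9.PairEmb

/-- the embedding `![a, b]` -/
def pairEmb {β : Type*} (a b : β) (h : a ≠ b) : Fin 2 ↪ β :=
  ⟨![a, b], by
    intro i j hij
    fin_cases i <;> fin_cases j <;> simp_all [eq_comm]⟩

theorem pairEmb_zero {β : Type*} (a b : β) (h : a ≠ b) : pairEmb a b h 0 = a := rfl

theorem pairEmb_one {β : Type*} (a b : β) (h : a ≠ b) : pairEmb a b h 1 = b := rfl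

theorem pairEmb_mem {β : Type*} (a b : β) (h : a ≠ b) (P : β → Prop) (ha : P a) (hb : P b)
    (i : Fin 2) : P (pairEmb a b h i) := by
  fin_cases i
  · exact ha
  · exact hb

end Cfsg.Agent.Lib.Helper9.PairEmb
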