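import Mathlib

/-!
Simplicity of a doubly transitive group of degree `p + 1` (not a prime power) with simple point stabilizer
(helper9), in purely group-theoretic form: `H ≤ G` simple of index `p + 1`, `G = H ∪ H k H`, core-free.
-/

set_option autoImplicit false

namespace Cfsg.Agent.Lib.Helper9.PointStabSimple

open Subgroup

variable {G : Type*} [Group G]

/-- **One-point extension criterion.** -/
theorem simple_of_point_stabilizer [Finite G] (H : Subgroup G) (hsimple : IsSimpleGroup H)
    (p : ℕ) [hp : Fact p.Prime] (hindex : H.index = p + 1) (hpH : p ∣ Nat.card H)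
    (h2 : 2 ∣ p + 1) (h3 : 3 ∣ p + 1)
    (hdouble : ∀ k g : G, k ∉ H → g ∉ H → ∃ h₁ ∈ H, ∃ h₂ ∈ H, g = h₁ * k * h₂)
    (hcore : ∀ N : Subgroup G, N.Normal → N ≤ H → N = ⊥) : IsSimpleGroup G := by
  classical
  have hp0 := hp.out.pos
  have hp1 := hp.out.one_lt
  haveI : Nontrivial H := hsimple.toNontrivial
  haveI : Nontrivial G := by
    obtain ⟨a, b, hab⟩ := exists_pair_ne H
    exact ⟨⟨(a : G), (b : G), fun h => hab (Subtype.ext h)⟩⟩
  have hHbot : H ≠ ⊥ := by
    intro h
    obtain ⟨a, b, hab⟩ := exists_pair_ne H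
    apply hab
    have ha : (a : G) ∈ (⊥ : Subgroup G) := h ▸ a.2
    have hb : (b : G) ∈ (⊥ : Subgroup G) := h ▸ b.2
    rw [mem_bot] at ha hb
    exact Subtype.ext (ha.trans hb.symm)
  refine ⟨fun N hNn => ?_⟩
  by_cases hbot : N = ⊥
  · exact Or.inl hbot
  right
  -- an element of `N` outside `H`
  have hNH : ¬ N ≤ H := fun h => hbot (hcore N hNn h)
  obtain ⟨n₀, hn₀N, hn₀H⟩ := SetLike.not_le_iff_exists.1 hNH
  -- `G = N H`
  have hprod : ∀ g : G, ∃ n ∈ N, ∃ h ∈ H, g = n * h := by
    intro g
    by_cases hg : g ∈ H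
    · exact ⟨1, N.one_mem, g, hg, (one_mul g).symm⟩
    · obtain ⟨h₁, hh₁, h₂, hh₂, rfl⟩ := hdouble n₀ g hn₀H hg
      refine ⟨h₁ * n₀ * h₁⁻¹, hNn.conj_mem _ hn₀N _, h₁ * h₂, H.mul_mem hh₁ hh₂, ?_⟩
      group
  haveI hsub : (N.subgroupOf H).Normal := Subgroup.normal_subgroupOf
  rcases hsimple.eq_bot_or_eq_top_of_normal (N.subgroupOf H) hsub with hcase | hcase
  · -- `N ∩ H = 1`: `N` is regular of order `p + 1`
    exfalso
    have hdisj : ∀ y : G, y ∈ N → y ∈ H → y = 1 := by
      intro y hyN hyH
      have : (⟨y, hyH⟩ : H) ∈ N.subgroupOf H := by rw [mem_subgroupOf]; exact hyN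
      rw [hcase, mem_bot] at this
      exact congrArg Subtype.val this
    -- `|N| = p + 1`
    have hNcard : Nat.card N = p + 1 := by
      rw [← hindex, Subgroup.index]
      apply Nat.card_congr
      refine Equiv.ofBijective (fun n : N => (QuotientGroup.mk (n : G) : G ⧸ H)) ⟨?_, ?_⟩
      · intro a b hab
        have h1 : (a : G)⁻¹ * (b : G) ∈ H := QuotientGroup.eq.1 hab
        have h2 : (a : G)⁻¹ * (b : G) = 1 :=
          hdisj _ (N.mul_mem (N.inv_mem a.2) b.2) h1
        apply Subtype.ext
        exact inv_mul_eq_one.1 h2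
      · intro c
        obtain ⟨g, rfl⟩ := QuotientGroup.mk_surjective c
        obtain ⟨n, hn, h, hh, rfl⟩ := hprod g
        refine ⟨⟨n, hn⟩, ?_⟩
        apply QuotientGroup.eq.2
        show n⁻¹ * (n * h) ∈ H
        rw [inv_mul_cancel_left]
        exact hh
    -- an element of order `p` in `H`
    obtain ⟨x, hx⟩ := exists_prime_orderOf_dvd_card' (G := H) p hpH
    have hxo : orderOf (x : G) = p := by rw [Subgroup.orderOf_coe]; exact hx
    have hx1 : (x : G) ≠ 1 := by
      intro h
      rw [h, orderOf_one] at hxo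
      omega
    by_cases hcent : ∀ n ∈ N, (x : G) * n = n * (x : G)
    · -- `x` centralizes `N`
      have hxC : (x : G) ∈ centralizer (N : Set G) := by
        rw [mem_centralizer_iff]
        intro n hn
        exact (hcent n hn).symm
      haveI hCn : (centralizer (N : Set G)).Normal := Subgroup.normal_centralizer
      haveI hsubC : ((centralizer (N : Set G)).subgroupOf H).Normal := Subgroup.normal_subgroupOf
      have hHC : H ≤ centralizer (N : Set G) := by
        rcases hsimple.eq_bot_or_eq_top_of_normal _ hsubC with h | h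
        · exfalso
          have : x ∈ (centralizer (N : Set G)).subgroupOf H := by rw [mem_subgroupOf]; exact hxC
          rw [h, mem_bot] at this
          exact hx1 (congrArg Subtype.val this)
        · intro y hy
          have : (⟨y, hy⟩ : H) ∈ (centralizer (N : Set G)).subgroupOf H := by rw [h]; exact mem_top _
          rwa [mem_subgroupOf] at this
      have hHn : H.Normal := by
        refine ⟨fun y hy g => ?_⟩
        obtain ⟨n, hn, h, hh, rfl⟩ := hprod g
        have h1 : h * y * h⁻¹ ∈ H := H.mul_mem (H.mul_mem hh hy) (H.inv_mem hh)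
        have h2 := hHC h1
        rw [mem_centralizer_iff] at h2
        have h3 : n * h * y * (n * h)⁻¹ = h * y * h⁻¹ := by
          have := h2 n hn
          calc n * h * y * (n * h)⁻¹ = n * (h * y * h⁻¹) * n⁻¹ := by group
            _ = (h * y * h⁻¹) * n * n⁻¹ := by rw [this]
            _ = h * y * h⁻¹ := by group
        rw [h3]
        exact h1
      exact hHbot (hcore H hHn le_rfl)
    · -- some `a ∈ N` does not commute with `x`: all nontrivial elements of `N` are conjugate
      push Not at hcent
      obtain ⟨a, haN, hax⟩ := hcent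
      let φ : Fin p → G := fun i => (x : G) ^ (i : ℕ) * a * ((x : G) ^ (i : ℕ))⁻¹
      have hφN : ∀ i, φ i ∈ N := fun i => hNn.conj_mem _ haN _
      have ha1 : a ≠ 1 := by
        rintro rfl
        apply hax
        rw [mul_one, one_mul]
      have hφ1 : ∀ i, φ i ≠ 1 := by
        intro i h
        apply ha1
        have : a = ((x : G) ^ (i : ℕ))⁻¹ * φ i * (x : G) ^ (i : ℕ) := by
          simp only [φ]; group
        rw [this, h, mul_one, inv_mul_cancel]
      have hφinj : Function.Injective φ := by
        -- it suffices to treat `i < j`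
        have key : ∀ i j : Fin p, (i : ℕ) < (j : ℕ) → φ i ≠ φ j := by
          intro i j hij h
          apply hax
          set d := (j : ℕ) - (i : ℕ) with hd
          have hdpos : 0 < d := by omega
          have hdlt : d < p := by have := j.2; omega
          have hcomm : (x : G) ^ d * a = a * (x : G) ^ d := by
            have hj : (x : G) ^ (j : ℕ) = (x : G) ^ (i : ℕ) * (x : G) ^ d := by
              rw [← pow_add]; congr 1; omega
            simp only [φ] at h
            rw [hj] at h
            have h' : a = (x : G) ^ d * a * ((x : G) ^ d)⁻¹ := by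
              have := congrArg (fun t => ((x : G) ^ (i : ℕ))⁻¹ * t * (x : G) ^ (i : ℕ)) h
              calc a = ((x : G) ^ (i : ℕ))⁻¹ * ((x : G) ^ (i : ℕ) * a * ((x : G) ^ (i : ℕ))⁻¹) *
                    (x : G) ^ (i : ℕ) := by group
                _ = ((x : G) ^ (i : ℕ))⁻¹ * ((x : G) ^ (i : ℕ) * (x : G) ^ d * a *
                    ((x : G) ^ (i : ℕ) * (x : G) ^ d)⁻¹) * (x : G) ^ (i : ℕ) := this
                _ = (x : G) ^ d * a * ((x : G) ^ d)⁻¹ := by group
            calc (x : G) ^ d * a = (x : G) ^ d * a * ((x : G) ^ d)⁻¹ * (x : G) ^ d := by group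
              _ = a * (x : G) ^ d := by rw [← h']
          have hcop : Nat.Coprime d (orderOf (x : G)) := by
            rw [hxo]
            exact (Nat.coprime_comm.1 ((Nat.Prime.coprime_iff_not_dvd hp.out).2
              (Nat.not_dvd_of_pos_of_lt hdpos hdlt)))
          obtain ⟨m, hm⟩ := exists_pow_eq_self_of_coprime hcop
          have hc : Commute ((x : G) ^ d) a := hcomm
          have := (hc.pow_left m).eq
          rwa [hm] at this
        intro i j hij
        by_contra hne
        rcases Nat.lt_or_gt_of_ne (fun h => hne (Fin.ext h)) with h | h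
        · exact key i j h hij
        · exact key j i h hij.symm
      -- the range of `φ` is `N \ {1}`
      have hrange : Set.range φ = (N : Set G) \ {1} := by
        apply Set.eq_of_subset_of_ncard_le
        · rintro _ ⟨i, rfl⟩
          exact ⟨hφN i, hφ1 i⟩
        · have h1 : ((N : Set G) \ {1}).ncard = p := by
            rw [Set.ncard_sdiff (by simp), Set.ncard_singleton]
            have : (N : Set G).ncard = p + 1 := by
              rw [← hNcard]; rfl
            rw [this]
            omega
          rw [h1, Set.ncard_range_of_injective hφinj, Nat.card_fin]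
        · exact Set.toFinite _
      have hconj : ∀ b ∈ N, b ≠ 1 → orderOf b = orderOf a := by
        intro b hbN hb1
        have : b ∈ Set.range φ := by rw [hrange]; exact ⟨hbN, hb1⟩
        obtain ⟨i, rfl⟩ := this
        exact (orderOf_injective (MulAut.conj ((x : G) ^ (i : ℕ))).toMonoidHom
          (MulAut.conj ((x : G) ^ (i : ℕ))).injective a)
      obtain ⟨b₂, hb₂⟩ := exists_prime_orderOf_dvd_card' (G := N) 2 (by rw [hNcard]; exact h2)
      obtain ⟨b₃, hb₃⟩ := exists_prime_orderOf_dvd_card' (G := N) 3 (by rw [hNcard]; exact h3)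
      have e2 : orderOf (b₂ : G) = 2 := by rw [Subgroup.orderOf_coe]; exact hb₂
      have e3 : orderOf (b₃ : G) = 3 := by rw [Subgroup.orderOf_coe]; exact hb₃
      have f2 := hconj b₂ b₂.2 (by intro h; rw [h, orderOf_one] at e2; omega)
      have f3 := hconj b₃ b₃.2 (by intro h; rw [h, orderOf_one] at e3; omega)
      omega
  · -- `H ≤ N`
    rw [eq_top_iff]
    intro g _
    obtain ⟨n, hn, h, hh, rfl⟩ := hprod g
    have : (⟨h, hh⟩ : H) ∈ N.subgroupOf H := by rw [hcase]; exact mem_top _
    rw [mem_subgroupOf] at this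
    exact N.mul_mem hn this

end Cfsg.Agent.Lib.Helper9.PointStabSimple
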