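import Cfsg.Agent.Lib.Helper9.AbstractGolay

/-!
The octads of an abstract extended Golay code form a Steiner system S(5,8,24).
-/

set_option autoImplicit false

namespace Cfsg.Agent.Lib.Helper9

open Cfsg Finset Module

variable {C : Submodule (ZMod 2) (Fin 24 → ZMod 2)}

namespace IsAbstractGolay

variable (h : IsAbstractGolay C)

omit h in
theorem mem_wordsOfWeight_iff {b : Finset (Fin 24)} {n : ℕ} :
    b ∈ wordsOfWeight (C : Set (Fin 24 → ZMod 2)) n ↔
      ∃ w ∈ C, support₂ w = b ∧ hammingNorm w = n := by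
  unfold wordsOfWeight supports
  constructor
  · rintro ⟨⟨w, hw, rfl⟩, hc⟩
    exact ⟨w, hw, rfl, hc⟩
  · rintro ⟨w, hw, rfl, hc⟩
    exact ⟨⟨w, hw, rfl⟩, hc⟩

/-- The octads as a finset. -/
noncomputable def octadFinset (C : Submodule (ZMod 2) (Fin 24 → ZMod 2)) [Fintype C] :
    Finset (Finset (Fin 24)) :=
  (univ.filter (fun w : C => hammingNorm (w : Fin 24 → ZMod 2) = 8)).image
    (fun w : C => support₂ (w : Fin 24 → ZMod 2))

omit h in
theorem mem_octadFinset [Fintype C] {b : Finset (Fin 24)} :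
    b ∈ octadFinset C ↔ b ∈ wordsOfWeight (C : Set (Fin 24 → ZMod 2)) 8 := by
  rw [mem_wordsOfWeight_iff, octadFinset, mem_image]
  constructor
  · rintro ⟨w, hw, rfl⟩
    rw [mem_filter] at hw
    exact ⟨w, w.2, rfl, hw.2⟩
  · rintro ⟨w, hw, rfl, hc⟩
    exact ⟨⟨w, hw⟩, by rw [mem_filter]; exact ⟨mem_univ _, hc⟩, rfl⟩

include h in
theorem card_octadFinset [Fintype C] : (octadFinset C).card = 759 := by
  rw [octadFinset, card_image_of_injective, ← h.wtCount_values.1, wtCount]
  intro a b hab
  simp only at hab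
  exact Subtype.ext (support₂_injective hab)

include h in
/-- Two octads with five common points coincide. -/
theorem octad_unique {b b' s : Finset (Fin 24)}
    (hb : b ∈ wordsOfWeight (C : Set (Fin 24 → ZMod 2)) 8)
    (hb' : b' ∈ wordsOfWeight (C : Set (Fin 24 → ZMod 2)) 8) (hs : 5 ≤ s.card) (hsb : s ⊆ b)
    (hsb' : s ⊆ b') : b = b' := by
  rw [mem_wordsOfWeight_iff] at hb hb'
  obtain ⟨u, hu, rfl, hu8⟩ := hb
  obtain ⟨u', hu', rfl, hu8'⟩ := hb'
  have hadd := hammingNorm_add u u'
  have hint : 5 ≤ (support₂ u ∩ support₂ u').card :=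
    hs.trans (card_le_card (subset_inter hsb hsb'))
  have h0 : u + u' = 0 := by
    by_contra hne
    have := h.hmin (u + u') (C.add_mem hu hu') hne
    omega
  have : u = u' := by
    have h1 : u + u' + u' = u' := by rw [h0, zero_add]
    rw [add_assoc, add_self₂, add_zero] at h1
    exact h1
  rw [this]

include h in
/-- The octads form a Steiner system S(5,8,24). -/
theorem octads_steiner :
    IsSteinerSystem 5 8 (wordsOfWeight (C : Set (Fin 24 → ZMod 2)) 8) := by
  classical
  haveI : Fintype C := Fintype.ofFinite C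
  refine ⟨fun b hb => hb.2, ?_⟩
  -- counting
  have hsum := sum_choose_inter_card (octadFinset C) (univ : Finset (Fin 24)) 5
  have hleft : ∑ b ∈ octadFinset C, ((b ∩ univ).card).choose 5 = 42504 := by
    have : ∀ b ∈ octadFinset C, ((b ∩ univ).card).choose 5 = 56 := by
      intro b hb
      rw [mem_octadFinset] at hb
      rw [inter_univ, hb.2]
      decide
    rw [sum_congr rfl this, sum_const, h.card_octadFinset]
    rfl
  rw [hleft] at hsum
  have hle : ∀ s ∈ (univ : Finset (Fin 24)).powersetCard 5,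
      ((octadFinset C).filter (s ⊆ ·)).card ≤ 1 := by
    intro s hs
    rw [mem_powersetCard] at hs
    rw [card_le_one]
    intro b hb b' hb'
    rw [mem_filter, mem_octadFinset] at hb hb'
    exact h.octad_unique hb.1 hb'.1 (by rw [hs.2]) hb.2 hb'.2
  have hcard : ((univ : Finset (Fin 24)).powersetCard 5).card = 42504 := by
    rw [card_powersetCard, card_univ, Fintype.card_fin]
    decide
  intro s hs
  have hs' : s ∈ (univ : Finset (Fin 24)).powersetCard 5 := by
    rw [mem_powersetCard]; exact ⟨subset_univ _, hs⟩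
  have hpos : 0 < ((octadFinset C).filter (s ⊆ ·)).card := by
    by_contra hzero
    have hlt : ∑ S ∈ (univ : Finset (Fin 24)).powersetCard 5,
        ((octadFinset C).filter (S ⊆ ·)).card
        < ∑ _S ∈ (univ : Finset (Fin 24)).powersetCard 5, 1 := by
      apply Finset.sum_lt_sum hle
      exact ⟨s, hs', by omega⟩
    rw [sum_const, hcard, smul_eq_mul, mul_one] at hlt
    omega
  rw [card_pos] at hpos
  obtain ⟨b, hb⟩ := hpos
  rw [mem_filter, mem_octadFinset] at hb
  refine ⟨b, hb, ?_⟩
  rintro b' ⟨hb', hsb'⟩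
  exact h.octad_unique hb' hb.1 (by rw [hs]) hsb' hb.2

include h in
/-- Through any five points there is an octad word. -/
theorem exists_octad_word {s : Finset (Fin 24)} (hs : s.card = 5) :
    ∃ o ∈ C, hammingNorm o = 8 ∧ s ⊆ support₂ o := by
  obtain ⟨b, ⟨hb, hsb⟩, _⟩ := h.octads_steiner.2 s hs
  rw [mem_wordsOfWeight_iff] at hb
  obtain ⟨o, ho, rfl, ho8⟩ := hb
  exact ⟨o, ho, ho8, hsb⟩

end IsAbstractGolay

end Cfsg.Agent.Lib.Helper9
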