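import Mathlib

set_option autoImplicit false

namespace Cfsg.Agent.Lib.Helper9

/-- If the Sylow `p`-subgroups of `G` have order `p`, the number of elements of order `p`
is `n_p * (p - 1)`. -/
theorem card_orderOf_eq_prime_of_sylow_card {G : Type*} [Group G] [Finite G] {p : ℕ}
    [Fact p.Prime] (h : ∀ P : Sylow p G, Nat.card (P : Subgroup G) = p) :
    Nat.card {g : G // orderOf g = p} = Nat.card (Sylow p G) * (p - 1) := by
  classical
  have hp : p.Prime := Fact.out
  have hmult : p = p ^ (Nat.card G).factorization p := by
    obtain ⟨P⟩ : Nonempty (Sylow p G) := inferInstance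
    rw [← P.card_eq_multiplicity, h P]
  let e : {g : G // orderOf g = p} ≃ Σ P : Sylow p G, {g : G // g ∈ (P : Subgroup G) ∧ g ≠ 1} :=
    { toFun := fun g => ⟨Sylow.ofCard (Subgroup.zpowers g.1)
          (by rw [Nat.card_zpowers, g.2]; exact hmult),
        g.1, Subgroup.mem_zpowers g.1, fun h1 => by
          have := g.2
          rw [h1, orderOf_one] at this
          exact hp.one_lt.ne this⟩
      invFun := fun x => ⟨x.2.1, by
        have hd : orderOf x.2.1 ∣ p := by
          have := orderOf_dvd_natCard (⟨x.2.1, x.2.2.1⟩ : (x.1 : Subgroup G))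
          rwa [Subgroup.orderOf_mk, h x.1] at this
        rcases (Nat.dvd_prime hp).mp hd with h1 | h1
        · exact absurd (orderOf_eq_one_iff.mp h1) x.2.2.2
        · exact h1⟩
      left_inv := fun g => rfl
      right_inv := by
        rintro ⟨P, g, hg, hne⟩
        have hord : orderOf g = p := by
          have hd : orderOf g ∣ p := by
            have := orderOf_dvd_natCard (⟨g, hg⟩ : (P : Subgroup G))
            rwa [Subgroup.orderOf_mk, h P] at this
          rcases (Nat.dvd_prime hp).mp hd with h1 | h1
          · exact absurd (orderOf_eq_one_iff.mp h1) hne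
          · exact h1
        have hPeq : Sylow.ofCard (Subgroup.zpowers g)
            (by rw [Nat.card_zpowers, hord]; exact hmult) = P := by
          apply Sylow.ext
          rw [Sylow.coe_ofCard]
          apply Subgroup.eq_of_le_of_card_ge
          · rw [Subgroup.zpowers_le]; exact hg
          · rw [Nat.card_zpowers, hord, h P]
        refine Sigma.ext hPeq ?_
        simp only
        congr 1
        · rw [hPeq]
        · exact proof_irrel_heq _ _ }
  have := Fintype.ofFinite (Sylow p G)
  rw [Nat.card_congr e, Nat.card_sigma]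
  have hfib : ∀ P : Sylow p G, Nat.card {g : G // g ∈ (P : Subgroup G) ∧ g ≠ 1} = p - 1 := by
    intro P
    have e2 : {g : G // g ∈ (P : Subgroup G) ∧ g ≠ 1} ≃ {g : (P : Subgroup G) // g ≠ 1} :=
      { toFun := fun g => ⟨⟨g.1, g.2.1⟩, fun h1 => g.2.2 (congrArg Subtype.val h1)⟩
        invFun := fun g => ⟨g.1.1, g.1.2, fun h1 => g.2 (Subtype.ext h1)⟩
        left_inv := fun g => rfl
        right_inv := fun g => rfl }
    rw [Nat.card_congr e2]
    have := Fintype.ofFinite (P : Subgroup G)
    rw [Nat.card_eq_fintype_card, Fintype.card_subtype_compl, Fintype.card_subtype_eq,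
      ← Nat.card_eq_fintype_card, h P]
  simp only [hfib]
  rw [Finset.sum_const, Finset.card_univ, smul_eq_mul, Nat.card_eq_fintype_card]

end Cfsg.Agent.Lib.Helper9
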