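import Mathlib
import Cfsg.Agent.S0989
import Cfsg.Agent.S0990
import Cfsg.Agent.S0991
import Cfsg.Agent.Lib.Helper9.SimpleTools

set_option autoImplicit false

namespace Cfsg.Agent.Lib.Helper9

open Subgroup

/-- An injective homomorphism maps `N_G(P)` into `N_A(f P)`, so the orders divide. -/
theorem card_normalizer_dvd_of_injective {G A : Type*} [Group G] [Group A] (f : G →* A)
    (hf : Function.Injective f) (P : Subgroup G) :
    Nat.card (normalizer (P : Set G)) ∣ Nat.card (normalizer ((P.map f : Subgroup A) : Set A)) := by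
  have hmem : ∀ x : normalizer (P : Set G), f x ∈ normalizer ((P.map f : Subgroup A) : Set A) := by
    intro x
    rw [mem_normalizer_iff]
    intro a
    have hx := mem_normalizer_iff.mp x.2
    constructor
    · rintro ⟨y, hy, rfl⟩
      refine ⟨x * y * (x : G)⁻¹, (hx y).mp hy, ?_⟩
      simp
    · rintro ⟨y, hy, hya⟩
      refine ⟨(x : G)⁻¹ * y * x, ?_, ?_⟩
      · have := (hx ((x : G)⁻¹ * y * x)).mpr (by
          have : (x : G) * ((x : G)⁻¹ * y * x) * (x : G)⁻¹ = y := by group
          rw [this]; exact hy)
        exact this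
      · have h1 : f ((x : G)⁻¹ * y * x) = (f x)⁻¹ * (f x * a * (f x)⁻¹) * f x := by
          rw [← hya]; simp
        rw [h1]; group
  let φ : normalizer (P : Set G) →* normalizer ((P.map f : Subgroup A) : Set A) :=
    (f.comp (normalizer (P : Set G)).subtype).codRestrict _ hmem
  have hφ : Function.Injective φ := by
    intro a b hab
    have : f a = f b := congrArg Subtype.val hab
    exact Subtype.ext (hf this)
  exact Subgroup.card_dvd_of_injective φ hφ

/-- If a non-abelian simple group has `p + 1` Sylow `p`-subgroups of order `p` (`p` odd), then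
`2 * |N_G(P)|` divides `p * (p - 1)`. -/
theorem two_mul_card_normalizer_dvd {G : Type*} [Group G] [Finite G] [IsSimpleGroup G]
    (hG : ¬ IsMulCommutative G) {p : ℕ} [Fact p.Prime] (hp2 : p ≠ 2) (P : Sylow p G)
    (hP : Nat.card (P : Subgroup G) = p) (hn : Nat.card (Sylow p G) = p + 1) :
    2 * Nat.card (normalizer ((P : Subgroup G) : Set G)) ∣ p * (p - 1) := by
  classical
  have hp : p.Prime := Fact.out
  have hidx : (normalizer ((P : Subgroup G) : Set G)).index = p + 1 := by
    have := Sylow.card_eq_index_normalizer P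
    rw [hn] at this
    exact this.symm
  have hne : normalizer ((P : Subgroup G) : Set G) ≠ ⊤ := by
    intro h
    rw [h, index_top] at hidx
    have := hp.pos
    omega
  have hex : ∃ f : G →* ↥(alternatingGroup (Fin (p + 1))), Function.Injective f :=
    hidx ▸ Cfsg.Agent.S0991.result hG _ hne
  obtain ⟨f, hf⟩ := hex
  -- the image of P in the symmetric group
  let P' : Subgroup (Equiv.Perm (Fin (p + 1))) := ((P : Subgroup G).map f).map (alternatingGroup (Fin (p + 1))).subtype
  have hP'card : Nat.card P' = p := by
    have e1 : (P : Subgroup G) ≃* (P : Subgroup G).map f := (P : Subgroup G).equivMapOfInjective f hf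
    have e2 : ((P : Subgroup G).map f) ≃* P' :=
      ((P : Subgroup G).map f).equivMapOfInjective (alternatingGroup (Fin (p + 1))).subtype (alternatingGroup (Fin (p + 1))).subtype_injective
    rw [← Nat.card_congr e2.toEquiv, ← Nat.card_congr e1.toEquiv, hP]
  -- P' is a Sylow subgroup of the symmetric group
  have hcardα : Fintype.card (Fin (p + 1)) = p ∨ Fintype.card (Fin (p + 1)) = p + 1 := by
    right; simp
  obtain ⟨Q⟩ : Nonempty (Sylow p (Equiv.Perm (Fin (p + 1)))) := inferInstance
  have hQN := Cfsg.Agent.S0989.result p hcardα Q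
  -- order of Q is p: |N(Q)| = p(p-1) and p^2 does not divide it
  have hQcard : Nat.card (Q : Subgroup (Equiv.Perm (Fin (p + 1)))) = p := by
    obtain ⟨k, hk⟩ := IsPGroup.iff_card.mp Q.2
    have hd : Nat.card (Q : Subgroup (Equiv.Perm (Fin (p + 1)))) ∣ p * (p - 1) := by
      rw [← hQN]
      exact Subgroup.card_dvd_of_le le_normalizer
    have hpd : p ∣ Nat.card (Q : Subgroup (Equiv.Perm (Fin (p + 1)))) := by
      apply Q.dvd_card_of_dvd_card
      rw [Nat.card_perm, Nat.card_eq_fintype_card, Fintype.card_fin, hp.dvd_factorial]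
      omega
    rw [hk] at hd hpd ⊢
    have hk1 : k ≠ 0 := by
      rintro rfl
      rw [pow_zero] at hpd
      exact hp.one_lt.ne' (Nat.dvd_one.mp hpd)
    have hk2 : k < 2 := by
      by_contra hge
      push Not at hge
      have h2 : p ^ 2 ∣ p * (p - 1) := (pow_dvd_pow p hge).trans hd
      rw [pow_two] at h2
      have h3 : p ∣ p - 1 := Nat.dvd_of_mul_dvd_mul_left hp.pos h2
      have h4 := Nat.le_of_dvd (by have := hp.two_le; omega) h3
      have := hp.two_le
      omega
    have : k = 1 := by omega
    rw [this, pow_one]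
  let P'' : Sylow p (Equiv.Perm (Fin (p + 1))) := Sylow.ofCard P' (by
    rw [hP'card]; exact hQcard.symm.trans Q.card_eq_multiplicity)
  have h89 := Cfsg.Agent.S0989.result p hcardα P''
  have h90 := (Cfsg.Agent.S0990.result (α := Fin (p + 1)) (by rw [Fintype.card_fin]; have := hp.two_le; omega) p hp2 P'').2
  rw [h89] at h90
  have hsub : ((P'' : Subgroup (Equiv.Perm (Fin (p + 1)))).subgroupOf (alternatingGroup (Fin (p + 1)))) =
      (P : Subgroup G).map f := by
    rw [Sylow.coe_ofCard]
    show (((P : Subgroup G).map f).map (alternatingGroup (Fin (p + 1))).subtype).comap (alternatingGroup (Fin (p + 1))).subtype = _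
    exact comap_map_eq_self_of_injective (alternatingGroup (Fin (p + 1))).subtype_injective _
  rw [hsub] at h90
  rw [← h90]
  exact Nat.mul_dvd_mul_left 2 (card_normalizer_dvd_of_injective f hf (P : Subgroup G))

end Cfsg.Agent.Lib.Helper9

namespace Cfsg.Agent.Lib.Helper9

open Subgroup

/-- A non-abelian simple group with a proper subgroup of index `n` has order dividing `n!`;
in fact `2 * |G| ∣ n!`. -/
theorem two_mul_card_dvd_factorial_index {G : Type*} [Group G] [Finite G] [IsSimpleGroup G]
    (hG : ¬ IsMulCommutative G) (H : Subgroup G) (hH : H ≠ ⊤) :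
    2 * Nat.card G ∣ (H.index).factorial := by
  classical
  obtain ⟨f, hf⟩ := Cfsg.Agent.S0991.result hG H hH
  have h1 : Nat.card G ∣ Nat.card (alternatingGroup (Fin H.index)) :=
    Subgroup.card_dvd_of_injective f hf
  have hidx : 2 ≤ H.index := by
    have h0 : H.index ≠ 0 := Subgroup.index_ne_zero_of_finite
    have h1 : H.index ≠ 1 := fun h => hH (Subgroup.index_eq_one.mp h)
    omega
  haveI : Nontrivial (Fin H.index) := Fin.nontrivial_iff_two_le.mpr hidx
  have h2 := two_mul_card_alternatingGroup (α := Fin H.index)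
  rw [Fintype.card_perm, Fintype.card_fin] at h2
  rw [← h2, ← Nat.card_eq_fintype_card]
  exact Nat.mul_dvd_mul_left 2 h1

theorem card_dvd_factorial_index {G : Type*} [Group G] [Finite G] [IsSimpleGroup G]
    (hG : ¬ IsMulCommutative G) (H : Subgroup G) (hH : H ≠ ⊤) :
    Nat.card G ∣ (H.index).factorial :=
  (Dvd.intro_left 2 rfl).trans (two_mul_card_dvd_factorial_index hG H hH)

end Cfsg.Agent.Lib.Helper9
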