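import Mathlib
import Cfsg.Agent.Lib.Helper20.Fitting

/-!
`x ∈ F(G)` iff `x ^ [G : H] ∈ H` for every subgroup `H` (S4263).
-/

set_option autoImplicit false

namespace Cfsg.Agent.Lib.Helper9

open Subgroup

/-- In a finite nilpotent group, `x ^ [F : D] ∈ D` for every subgroup `D`. -/
theorem pow_index_mem_of_isNilpotent {F : Type*} [Group F] [Finite F] [Group.IsNilpotent F] :
    ∀ (n : ℕ) (D : Subgroup F), D.index = n → ∀ x : F, x ^ D.index ∈ D := by
  intro n
  induction n using Nat.strong_induction_on with
  | _ n ih =>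
    intro D hD x
    by_cases htop : D = ⊤
    · rw [htop]; exact mem_top _
    have hlt : D < ⊤ := lt_top_iff_ne_top.mpr htop
    have hnc := Group.normalizerCondition_of_isNilpotent (G := F) D hlt
    set N1 := normalizer (D : Set F) with hN1
    have hidx : N1.index < n := by rw [← hD]; exact index_strictAnti hnc
    have h1 := ih N1.index hidx N1 rfl x
    haveI : (D.subgroupOf N1).Normal := normal_in_normalizer
    have h2 := Subgroup.pow_index_mem (D.subgroupOf N1) (⟨x ^ N1.index, h1⟩ : N1)
    rw [mem_subgroupOf] at h2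
    have h3 : (D.subgroupOf N1).index = D.relIndex N1 := rfl
    rw [h3] at h2
    have h4 : x ^ D.index = (x ^ N1.index) ^ D.relIndex N1 := by
      rw [← pow_mul, mul_comm, relIndex_mul_index hnc.le]
    rw [h4]
    simpa using h2

theorem card_mul_relIndex_of_le {G : Type*} [Group G] {H K : Subgroup G} (h : H ≤ K) :
    Nat.card H * H.relIndex K = Nat.card K := by
  have := relIndex_mul_relIndex ⊥ H K bot_le h
  rwa [relIndex_bot_left, relIndex_bot_left] at this

/-- For a normal subgroup `F`, `|F : H ∩ F|` divides `|G : H|`. -/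
theorem relIndex_dvd_index_of_normal_right {G : Type*} [Group G] [Finite G] (H F : Subgroup G)
    [F.Normal] : H.relIndex F ∣ H.index := by
  have h1 : H.relIndex (H ⊔ F) ∣ H.index := relIndex_dvd_index_of_le le_sup_left
  have h2 : H.relIndex (H ⊔ F) = H.relIndex F := by
    have e1 := relIndex_sup_right H F
    have c1 : Nat.card F * F.relIndex (H ⊔ F) = Nat.card (H ⊔ F : Subgroup G) :=
      card_mul_relIndex_of_le le_sup_right
    have c2 : Nat.card H * H.relIndex (H ⊔ F) = Nat.card (H ⊔ F : Subgroup G) :=
      card_mul_relIndex_of_le le_sup_left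
    have c3 : Nat.card (H ⊓ F : Subgroup G) * H.relIndex F = Nat.card F := by
      rw [← inf_relIndex_right]; exact card_mul_relIndex_of_le inf_le_right
    have c4 : Nat.card (H ⊓ F : Subgroup G) * F.relIndex H = Nat.card H := by
      rw [← inf_relIndex_left]; exact card_mul_relIndex_of_le inf_le_left
    have hpos : 0 < Nat.card (H ⊓ F : Subgroup G) := Nat.card_pos
    have hpos2 : 0 < F.relIndex H := by
      rcases Nat.eq_zero_or_pos (F.relIndex H) with h0 | h0
      · rw [h0, mul_zero] at c4
        have : 0 < Nat.card H := Nat.card_pos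
        omega
      · exact h0
    rw [e1] at c1
    -- a r1 r2 = a r2 r3
    have : Nat.card (H ⊓ F : Subgroup G) * F.relIndex H * H.relIndex (H ⊔ F)
        = Nat.card (H ⊓ F : Subgroup G) * F.relIndex H * H.relIndex F := by
      rw [c4, c2, ← c1, ← c3, ← c4]; ring
    exact Nat.eq_of_mul_eq_mul_left (Nat.mul_pos hpos hpos2) this
  rw [← h2]; exact h1

/-- S4263, forward direction. -/
theorem pow_index_mem_of_mem_fitting {G : Type*} [Group G] [Finite G] {x : G}
    (hx : x ∈ Cfsg.fittingSubgroup G) (H : Subgroup G) : x ^ H.index ∈ H := by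
  haveI hn : Group.IsNilpotent (Cfsg.fittingSubgroup G) :=
    Cfsg.Agent.Lib.Helper20.fittingSubgroup_isNilpotent'
  haveI hF : (Cfsg.fittingSubgroup G).Normal := Cfsg.Agent.Lib.Helper20.fittingSubgroup_normal'
  set F := Cfsg.fittingSubgroup G with hFdef
  have h1 := pow_index_mem_of_isNilpotent (F := F) _ (H.subgroupOf F) rfl ⟨x, hx⟩
  rw [mem_subgroupOf] at h1
  have h2 : (H.subgroupOf F).index = H.relIndex F := rfl
  rw [h2] at h1
  obtain ⟨k, hk⟩ := relIndex_dvd_index_of_normal_right H F
  rw [hk, pow_mul]
  have h3 : x ^ H.relIndex F ∈ H := by simpa using h1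
  exact H.pow_mem h3 k

/-- S4263, backward direction. -/
theorem mem_fitting_of_pow_index_mem {G : Type*} [Group G] [Finite G] {x : G}
    (h : ∀ H : Subgroup G, x ^ H.index ∈ H) : x ∈ Cfsg.fittingSubgroup G := by
  haveI hF : (Cfsg.fittingSubgroup G).Normal := Cfsg.Agent.Lib.Helper20.fittingSubgroup_normal'
  set F := Cfsg.fittingSubgroup G with hFdef
  -- for each prime p and Sylow P, the normal closure of x ^ P.index is a normal p-subgroup
  have key : ∀ (p : ℕ) [Fact p.Prime] (P : Sylow p G), x ^ (P : Subgroup G).index ∈ F := by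
    intro p _ P
    set y := x ^ (P : Subgroup G).index with hy
    have hall : ∀ Q : Sylow p G, y ∈ (Q : Subgroup G) := by
      intro Q
      have hidx : (Q : Subgroup G).index = (P : Subgroup G).index := by
        have h1 := (Q : Subgroup G).card_mul_index
        have h2 := (P : Subgroup G).card_mul_index
        have h3 : Nat.card (Q : Subgroup G) = Nat.card (P : Subgroup G) :=
          Nat.card_congr (Sylow.equiv Q P).toEquiv
        rw [h3, ← h2] at h1
        exact Nat.eq_of_mul_eq_mul_left Nat.card_pos h1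
      rw [hy, ← hidx]
      exact h Q
    have hle : normalClosure ({y} : Set G) ≤ (P : Subgroup G) := by
      rw [normalClosure]
      rw [closure_le]
      intro w hw
      rw [Group.mem_conjugatesOfSet_iff] at hw
      obtain ⟨a, ha, hconj⟩ := hw
      rw [Set.mem_singleton_iff] at ha
      subst ha
      obtain ⟨c, hc⟩ := isConj_iff.mp hconj
      -- w = c y c⁻¹, and y ∈ c⁻¹ • P
      have h1 := hall (c⁻¹ • P)
      rw [Sylow.coe_subgroup_smul, mem_pointwise_smul_iff_inv_smul_mem] at h1
      have h2 : (MulAut.conj c⁻¹)⁻¹ • y = c * y * c⁻¹ := by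
        rw [← map_inv, inv_inv, MulAut.smul_def, MulAut.conj_apply]
      rw [h2] at h1
      rw [← hc]
      exact h1
    have hp : IsPGroup p (normalClosure ({y} : Set G)) := P.2.to_le hle
    have hn : (normalClosure ({y} : Set G)).Normal := normalClosure_normal
    have h1 : normalClosure ({y} : Set G) ≤ F :=
      Cfsg.Agent.Lib.Helper20.le_fittingSubgroup' hn hp.isNilpotent
    exact h1 (subset_normalClosure (Set.mem_singleton y))
  -- the image of x in G ⧸ F has trivial order
  rw [← QuotientGroup.eq_one_iff (N := F), ← orderOf_eq_one_iff]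
  by_contra hne
  obtain ⟨q, hq, hqdvd⟩ := Nat.exists_prime_and_dvd hne
  haveI : Fact q.Prime := ⟨hq⟩
  have P : Sylow q G := Classical.arbitrary _
  have h1 : ((x : G ⧸ F)) ^ (P : Subgroup G).index = 1 := by
    rw [← QuotientGroup.mk_pow, QuotientGroup.eq_one_iff]
    exact key q P
  have h2 : orderOf (x : G ⧸ F) ∣ (P : Subgroup G).index := orderOf_dvd_of_pow_eq_one h1
  exact P.not_dvd_index (hqdvd.trans h2)

end Cfsg.Agent.Lib.Helper9
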