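import Mathlib
import Cfsg.Agent.Lib.Helper4.BurnsideClass
import Cfsg.Agent.Lib.Helper9.FittingPower

/-!
A finite group with an abelian subgroup of prime-power index is solvable (via Burnside's
`p^a`-lemma).
-/

set_option autoImplicit false

namespace Cfsg.Agent.Lib.Helper9

open Subgroup

universe u

theorem isSolvable_of_abelian_prime_power_index_aux {p : ℕ} (hp : p.Prime) (n : ℕ) :
    ∀ (G : Type u) [Group G] [Finite G], Nat.card G = n → ∀ A : Subgroup G,
      (∀ a ∈ A, ∀ b ∈ A, a * b = b * a) → (∃ k : ℕ, A.index = p ^ k) → Group.IsSolvable G := by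
  induction n using Nat.strong_induction_on with
  | _ n ih =>
    intro G _ _ hn A hA hidx
    obtain ⟨k, hk⟩ := hidx
    by_cases hnorm : ∃ N : Subgroup G, N.Normal ∧ N ≠ ⊥ ∧ N ≠ ⊤
    · obtain ⟨N, hN, hNbot, hNtop⟩ := hnorm
      haveI := hN
      -- N is solvable
      have hNcard : Nat.card N < n := by
        rw [← hn]
        have h1 := Subgroup.card_mul_index N
        have h2 : N.index ≠ 1 := fun h => hNtop (index_eq_one.mp h)
        have h3 : N.index ≠ 0 := index_ne_zero_of_finite
        have h4 : 0 < Nat.card N := Nat.card_pos
        nlinarith [Nat.two_le_iff (N.index) |>.mpr ⟨h3, h2⟩]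
      have hNsol : Group.IsSolvable N := by
        apply ih (Nat.card N) hNcard N rfl (A.subgroupOf N)
        · intro a ha b hb
          rw [mem_subgroupOf] at ha hb
          exact Subtype.ext (hA a ha b hb)
        · have h1 : (A.subgroupOf N).index = A.relIndex N := rfl
          have h2 := relIndex_dvd_index_of_normal_right A N
          rw [hk] at h2
          obtain ⟨j, _, hj⟩ := (Nat.dvd_prime_pow hp).mp h2
          exact ⟨j, by rw [h1, hj]⟩
      -- G / N is solvable
      have hQcard : Nat.card (G ⧸ N) < n := by
        rw [← hn]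
        have h1 := Subgroup.card_mul_index N
        rw [Subgroup.index_eq_card] at h1
        have h2 : Nat.card N ≠ 1 := fun h => hNbot (Subgroup.card_eq_one.mp h)
        have h3 : 0 < Nat.card N := Nat.card_pos
        have h4 : 0 < Nat.card (G ⧸ N) := Nat.card_pos
        nlinarith [Nat.two_le_iff (Nat.card N) |>.mpr ⟨h3.ne', h2⟩]
      have hQsol : Group.IsSolvable (G ⧸ N) := by
        apply ih (Nat.card (G ⧸ N)) hQcard (G ⧸ N) rfl (A.map (QuotientGroup.mk' N))
        · rintro _ ⟨a, ha, rfl⟩ _ ⟨b, hb, rfl⟩
          rw [← map_mul, ← map_mul, hA a ha b hb]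
        · have h2 := Subgroup.index_map_dvd A (QuotientGroup.mk'_surjective N)
          rw [hk] at h2
          obtain ⟨j, _, hj⟩ := (Nat.dvd_prime_pow hp).mp h2
          exact ⟨j, hj⟩
      exact solvable_of_ker_le_range N.subtype (QuotientGroup.mk' N) (by
        rw [QuotientGroup.ker_mk', Subgroup.range_subtype])
    · push Not at hnorm
      by_cases htriv : Subsingleton G
      · haveI := htriv
        infer_instance
      · haveI : Nontrivial G := not_subsingleton_iff_nontrivial.mp htriv
        haveI : IsSimpleGroup G := ⟨fun N hN => by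
          by_contra h
          push Not at h
          exact h.2 (hnorm N hN h.1)⟩
        by_cases hAbot : A = ⊥
        · -- G is a p-group
          rw [hAbot, index_bot] at hk
          haveI : Fact p.Prime := ⟨hp⟩
          have hP : IsPGroup p G := IsPGroup.of_card hk
          haveI := hP.isNilpotent
          infer_instance
        · obtain ⟨a, haA, ha1'⟩ := (A.bot_or_exists_ne_one).resolve_left hAbot
          have hle : A ≤ centralizer ({(a : G)} : Set G) := by
            intro b hb
            rw [mem_centralizer_singleton_iff]
            exact hA b hb a haA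
          have hdvd := Subgroup.index_dvd_of_le hle
          rw [hk] at hdvd
          obtain ⟨j, _, hj⟩ := (Nat.dvd_prime_pow hp).mp hdvd
          haveI := Fintype.ofFinite G
          have hprime := Cfsg.Agent.Lib.Helper4.burnside_class p j hp (a : G) ha1' hj
          haveI : Fact (Nat.card G).Prime := ⟨hprime⟩
          haveI : IsCyclic G := isCyclic_of_prime_card (p := Nat.card G) rfl
          letI : CommGroup G := IsCyclic.commGroup
          infer_instance

theorem isSolvable_of_abelian_prime_power_index {G : Type u} [Group G] [Finite G] {p : ℕ}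
    (hp : p.Prime) (A : Subgroup G) (hA : ∀ a ∈ A, ∀ b ∈ A, a * b = b * a)
    (hidx : ∃ k : ℕ, A.index = p ^ k) : Group.IsSolvable G :=
  isSolvable_of_abelian_prime_power_index_aux hp (Nat.card G) G rfl A hA hidx

end Cfsg.Agent.Lib.Helper9
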