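import Mathlib
import Cfsg.Agent.Lib.Helper9.AbelianTwoPowerIndex
import Cfsg.Agent.Lib.Helper13.Hall
import Cfsg.Agent.Lib.Helper13.Hall2

/-!
Groups with an abelian 2-complement (S3200).
-/

set_option autoImplicit false

namespace Cfsg.Agent.Lib.Helper9

open Subgroup
open scoped Pointwise

universe u

/-- An abelian subgroup of odd order and 2-power index complements every Sylow 2-subgroup. -/
theorem exists_sylow_two_complement {X : Type*} [Group X] [Finite X] (C₀ : Subgroup X)
    (hC : ∀ a ∈ C₀, ∀ b ∈ C₀, a * b = b * a) (hodd : Odd (Nat.card C₀))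
    (hidx : ∃ k : ℕ, C₀.index = 2 ^ k) :
    ∃ (P : Sylow 2 X) (D : Subgroup X), IsMulCommutative ↥D ∧
      Subgroup.IsComplement' (P : Subgroup X) D := by
  obtain ⟨k, hk⟩ := hidx
  have P : Sylow 2 X := default
  refine ⟨P, C₀, ⟨⟨fun a b => Subtype.ext (hC a a.2 b b.2)⟩⟩, ?_⟩
  have h1 := Subgroup.card_mul_index C₀
  rw [hk] at h1
  have hnd : ¬ 2 ∣ Nat.card C₀ := fun h => (Nat.not_even_iff_odd.mpr hodd) (even_iff_two_dvd.mpr h)
  have hfac : (Nat.card X).factorization 2 = k := by
    rw [← h1, Nat.factorization_mul Nat.card_pos.ne' (pow_ne_zero _ two_ne_zero)]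
    rw [Finsupp.add_apply, Nat.factorization_eq_zero_of_not_dvd hnd,
      Nat.Prime.factorization_pow Nat.prime_two]
    simp
  have hPcard : Nat.card P = 2 ^ k := by rw [P.card_eq_multiplicity, hfac]
  apply isComplement'_of_coprime
  · rw [hPcard, mul_comm, h1]
  · rw [hPcard]
    exact Nat.Coprime.pow_left k ((Nat.Prime.coprime_iff_not_dvd Nat.prime_two).mpr hnd)

theorem comm_of_le_conj_smul {X : Type*} [Group X] {C D : Subgroup X} {g : X}
    (hC : ∀ a ∈ C, ∀ b ∈ C, a * b = b * a) (hD : D ≤ MulAut.conj g • C) :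
    ∀ a ∈ D, ∀ b ∈ D, a * b = b * a := by
  intro a ha b hb
  have ha' := hD ha
  have hb' := hD hb
  rw [mem_pointwise_smul_iff_inv_smul_mem] at ha' hb'
  have := hC _ ha' _ hb'
  rw [← smul_mul', ← smul_mul'] at this
  exact smul_left_cancel _ this

/-- S3200. -/
theorem abelian_two_complement {H : Type u} [Group H] [Finite H]
    (S : Sylow 2 H) (C : Subgroup H) (hC : IsMulCommutative ↥C)
    (hSC : Subgroup.IsComplement' (S : Subgroup H) C) :
    Group.IsSolvable H ∧
    (∀ L : Subgroup H, ∃ (P : Sylow 2 ↥L) (D : Subgroup ↥L), IsMulCommutative ↥D ∧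
      Subgroup.IsComplement' (P : Subgroup ↥L) D) ∧
    (∀ (N : Subgroup H) [N.Normal], ∃ (P : Sylow 2 (H ⧸ N)) (D : Subgroup (H ⧸ N)),
      IsMulCommutative ↥D ∧ Subgroup.IsComplement' (P : Subgroup (H ⧸ N)) D) := by
  have hCc : ∀ a ∈ C, ∀ b ∈ C, a * b = b * a := by
    intro a ha b hb
    exact congrArg Subtype.val (hC.is_comm.comm (⟨a, ha⟩ : C) ⟨b, hb⟩)
  have hidx : C.index = 2 ^ (Nat.card H).factorization 2 := by
    rw [hSC.index_eq_card, S.card_eq_multiplicity]
  have hcard : Nat.card C = ordCompl[2] (Nat.card H) := by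
    have h1 := Subgroup.card_mul_index C
    rw [hidx] at h1
    have h2 := Nat.ordProj_mul_ordCompl_eq_self (Nat.card H) 2
    have hpos : 0 < 2 ^ (Nat.card H).factorization 2 := pow_pos two_pos _
    apply Nat.eq_of_mul_eq_mul_left hpos
    rw [h2, mul_comm, h1]
  have hnd : ¬ 2 ∣ Nat.card C := by
    rw [hcard]
    exact Nat.not_dvd_ordCompl Nat.prime_two Nat.card_pos.ne'
  have hodd : Odd (Nat.card C) := by
    rw [← Nat.not_even_iff_odd, even_iff_two_dvd]
    exact hnd
  have hsol : Group.IsSolvable H :=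
    isSolvable_of_abelian_prime_power_index Nat.prime_two C hCc ⟨_, hidx⟩
  have hCcop : (Nat.card C).Coprime C.index := by
    rw [hidx]
    exact Nat.Coprime.pow_right _ (Nat.Coprime.symm
      ((Nat.Prime.coprime_iff_not_dvd Nat.prime_two).mpr hnd))
  refine ⟨hsol, ?_, ?_⟩
  · intro L
    haveI := hsol
    set f := (Nat.card L).factorization 2 with hf
    have hLcard : Nat.card L = ordCompl[2] (Nat.card L) * 2 ^ f := by
      rw [mul_comm]; exact (Nat.ordProj_mul_ordCompl_eq_self (Nat.card L) 2).symm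
    have hnd2 : ¬ 2 ∣ ordCompl[2] (Nat.card L) :=
      Nat.not_dvd_ordCompl Nat.prime_two Nat.card_pos.ne'
    have hcop : (ordCompl[2] (Nat.card L)).Coprime (2 ^ f) :=
      Nat.Coprime.pow_right _ (Nat.Coprime.symm
        ((Nat.Prime.coprime_iff_not_dvd Nat.prime_two).mpr hnd2))
    obtain ⟨D, hDcard, hDidx⟩ :=
      Cfsg.Agent.Lib.Helper13.hall_exists_card (G := ↥L) _ _ hLcard hcop
    have hD'card : Nat.card (D.map L.subtype) = ordCompl[2] (Nat.card L) := by
      rw [Subgroup.card_map_of_injective L.subtype_injective, hDcard]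
    have hKcop : (Nat.card (D.map L.subtype)).Coprime C.index := by
      rw [hD'card, hidx]
      exact Nat.Coprime.pow_right _ (Nat.Coprime.symm
        ((Nat.Prime.coprime_iff_not_dvd Nat.prime_two).mpr hnd2))
    obtain ⟨g, hg⟩ := Cfsg.Agent.Lib.Helper13.hall_dominance C (D.map L.subtype) hCcop hKcop
    have hD'comm := comm_of_le_conj_smul hCc hg
    have hDcomm : ∀ a ∈ D, ∀ b ∈ D, a * b = b * a := by
      intro a ha b hb
      apply Subtype.ext
      exact hD'comm _ ⟨a, ha, rfl⟩ _ ⟨b, hb, rfl⟩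
    apply exists_sylow_two_complement D hDcomm
    · rw [hDcard, ← Nat.not_even_iff_odd, even_iff_two_dvd]
      exact hnd2
    · exact ⟨f, hDidx⟩
  · intro N _
    apply exists_sylow_two_complement (C.map (QuotientGroup.mk' N))
    · rintro _ ⟨a, ha, rfl⟩ _ ⟨b, hb, rfl⟩
      rw [← map_mul, ← map_mul, hCc a ha b hb]
    · have hdvd := Subgroup.card_map_dvd (H := C) (QuotientGroup.mk' N)
      exact hodd.of_dvd_nat hdvd
    · have h2 := Subgroup.index_map_dvd C (QuotientGroup.mk'_surjective N)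
      rw [hidx] at h2
      obtain ⟨j, _, hj⟩ := (Nat.dvd_prime_pow Nat.prime_two).mp h2
      exact ⟨j, hj⟩

end Cfsg.Agent.Lib.Helper9
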