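import Cfsg.Agent.Lib.Helper21.SteinerCounts

/-!
Counting blocks of a Steiner system by the size of their intersection with a fixed set `Y`.
-/

set_option autoImplicit false

namespace Cfsg.Agent.Lib.Helper9

open Cfsg Finset Cfsg.Agent.Lib.Helper21

variable {α : Type*} [DecidableEq α]

/-- Double counting `i`-subsets of `Y` against the blocks containing them. -/
theorem sum_choose_inter_card (Bs : Finset (Finset α)) (Y : Finset α) (i : ℕ) :
    ∑ b ∈ Bs, ((b ∩ Y).card).choose i = ∑ S ∈ Y.powersetCard i, (Bs.filter (S ⊆ ·)).card := by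
  classical
  have h := Finset.sum_card_bipartiteAbove_eq_sum_card_bipartiteBelow (s := Y.powersetCard i)
    (t := Bs) (fun S c => S ⊆ c)
  have h1 : ∀ S ∈ Y.powersetCard i,
      (bipartiteAbove (fun S c => S ⊆ c) Bs S).card = (Bs.filter (S ⊆ ·)).card := by
    intro S _
    rfl
  have h2 : ∀ c ∈ Bs,
      (bipartiteBelow (fun S c => S ⊆ c) (Y.powersetCard i) c).card = ((c ∩ Y).card).choose i := by
    intro c _
    have : bipartiteBelow (fun S c => S ⊆ c) (Y.powersetCard i) c = (c ∩ Y).powersetCard i := by
      ext S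
      simp only [bipartiteBelow, mem_filter, mem_powersetCard, subset_inter_iff]
      tauto
    rw [this, card_powersetCard]
  rw [sum_congr rfl h1, sum_congr rfl h2] at h
  exact h.symm

/-- Sorting the blocks by the size of their intersection with `Y`. -/
theorem sum_fiberwise_inter_card (Bs : Finset (Finset α)) (Y : Finset α) (f : ℕ → ℕ) :
    ∑ b ∈ Bs, f (b ∩ Y).card
      = ∑ j ∈ range (Y.card + 1), f j * (Bs.filter (fun b => (b ∩ Y).card = j)).card := by
  classical
  have hmaps : ∀ c ∈ Bs, (c ∩ Y).card ∈ range (Y.card + 1) := by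
    intro c _
    rw [mem_range, Nat.lt_succ_iff]
    exact card_le_card inter_subset_right
  rw [← Finset.sum_fiberwise_of_maps_to hmaps (fun c => f (c ∩ Y).card)]
  apply sum_congr rfl
  intro j _
  rw [mul_comm, ← smul_eq_mul, ← sum_const]
  apply sum_congr rfl
  intro c hc
  rw [mem_filter] at hc
  rw [hc.2]

end Cfsg.Agent.Lib.Helper9
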