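import Cfsg.Agent.Lib.Helper9.BinaryCode
import Cfsg.Agent.Lib.Helper9.SteinerMeet

/-!
The abstract extended binary Golay code: a self-dual binary code of length 24 and minimum
weight at least 8. Binomial moments, weight distribution, the Steiner system of octads.
-/

set_option autoImplicit false

namespace Cfsg.Agent.Lib.Helper9

open Cfsg Finset Module

section moments

variable {ι : Type*} [Fintype ι] [DecidableEq ι]

/-- Number of code words of weight `j`. -/
noncomputable def wtCount (C : Submodule (ZMod 2) (ι → ZMod 2)) [Fintype C] (j : ℕ) : ℕ :=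
  (univ.filter (fun w : C => hammingNorm (w : ι → ZMod 2) = j)).card

omit [DecidableEq ι] in
theorem sum_choose_hammingNorm (C : Submodule (ZMod 2) (ι → ZMod 2)) [Fintype C] (f : ℕ → ℕ) :
    ∑ w : C, f (hammingNorm (w : ι → ZMod 2))
      = ∑ j ∈ range (Fintype.card ι + 1), f j * wtCount C j := by
  classical
  have hmaps : ∀ w ∈ (univ : Finset C), hammingNorm (w : ι → ZMod 2) ∈ range (Fintype.card ι + 1) := by
    intro w _
    rw [mem_range, Nat.lt_succ_iff]
    exact hammingNorm_le_card_fintype
  rw [← Finset.sum_fiberwise_of_maps_to hmaps (fun w => f (hammingNorm (w : ι → ZMod 2)))]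
  apply sum_congr rfl
  intro j _
  rw [wtCount, mul_comm, ← smul_eq_mul, ← sum_const]
  apply sum_congr rfl
  intro c hc
  rw [mem_filter] at hc
  rw [hc.2]

/-- Binomial moments of the weight distribution of a self-dual code, below the minimum weight. -/
theorem binomial_moment (C : Submodule (ZMod 2) (ι → ZMod 2)) [Fintype C]
    (hself : ∀ u : ι → ZMod 2, (∀ w ∈ C, ∑ i, w i * u i = 0) → u ∈ C) (d : ℕ)
    (hmin : ∀ w ∈ C, w ≠ 0 → d ≤ hammingNorm w) (i : ℕ) (hi : i < d) :
    (∑ j ∈ range (Fintype.card ι + 1), j.choose i * wtCount C j) * 2 ^ i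
      = (Fintype.card ι).choose i * Fintype.card C := by
  classical
  rw [← sum_choose_hammingNorm C (fun j => j.choose i)]
  have h := Finset.sum_card_bipartiteAbove_eq_sum_card_bipartiteBelow
    (s := (univ : Finset ι).powersetCard i) (t := (univ : Finset C))
    (fun (S : Finset ι) (w : C) => S ⊆ support₂ (w : ι → ZMod 2))
  have h2 : ∀ w ∈ (univ : Finset C),
      (bipartiteBelow (fun S (w : C) => S ⊆ support₂ (w : ι → ZMod 2))
        ((univ : Finset ι).powersetCard i) w).card
        = (hammingNorm (w : ι → ZMod 2)).choose i := by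
    intro w _
    have : bipartiteBelow (fun S (w : C) => S ⊆ support₂ (w : ι → ZMod 2))
        ((univ : Finset ι).powersetCard i) w = (support₂ (w : ι → ZMod 2)).powersetCard i := by
      ext S
      simp only [bipartiteBelow, mem_filter, mem_powersetCard]
      constructor
      · rintro ⟨⟨_, hc⟩, hs⟩; exact ⟨hs, hc⟩
      · rintro ⟨hs, hc⟩; exact ⟨⟨subset_univ _, hc⟩, hs⟩
    rw [this, card_powersetCard, hammingNorm_eq_card_support₂]
  have h1 : ∀ S ∈ (univ : Finset ι).powersetCard i,
      (bipartiteAbove (fun S (w : C) => S ⊆ support₂ (w : ι → ZMod 2)) (univ : Finset C) S).card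
        * 2 ^ i = Fintype.card C := by
    intro S hS
    rw [mem_powersetCard] at hS
    have hcard := card_fiber_restrictTo C hself d hmin S (by rw [hS.2]; exact hi) (fun _ => 1)
    rw [hS.2] at hcard
    rw [← hcard]
    congr 2
    ext w
    simp only [bipartiteAbove, mem_filter, mem_univ, true_and]
    constructor
    · intro hsub
      funext s
      rw [restrictTo_apply]
      exact mem_support₂'.mp (hsub s.2)
    · intro hw s hs
      rw [mem_support₂']
      have := congrFun hw ⟨s, hs⟩
      rw [restrictTo_apply] at this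
      exact this
  rw [sum_congr rfl h2] at h
  rw [← h, Finset.sum_mul, sum_congr rfl h1, sum_const, card_powersetCard, card_univ, smul_eq_mul]

end moments

section golay

variable (C : Submodule (ZMod 2) (Fin 24 → ZMod 2))

/-- The standing hypotheses on an abstract extended Golay code. -/
structure IsAbstractGolay : Prop where
  hdim : Module.finrank (ZMod 2) C = 12
  horth : ∀ v ∈ C, ∀ w ∈ C, ∑ i, v i * w i = 0
  hmin : ∀ w ∈ C, w ≠ 0 → 8 ≤ hammingNorm w

variable {C}

namespace IsAbstractGolay

variable (h : IsAbstractGolay C)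
include h

theorem self_dual (u : Fin 24 → ZMod 2) (hu : ∀ w ∈ C, ∑ i, w i * u i = 0) : u ∈ C :=
  mem_of_forall_dot_eq_zero C (by rw [h.hdim]; simp) h.horth u hu

theorem inter_even {v w : Fin 24 → ZMod 2} (hv : v ∈ C) (hw : w ∈ C) :
    2 ∣ (support₂ v ∩ support₂ w).card :=
  (dot_eq_zero_iff v w).mp (h.horth v hv w hw)

theorem weight_even {w : Fin 24 → ZMod 2} (hw : w ∈ C) : 2 ∣ hammingNorm w := by
  have := h.inter_even hw hw
  rwa [inter_self, ← hammingNorm_eq_card_support₂] at this

theorem one_mem : (1 : Fin 24 → ZMod 2) ∈ C := by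
  apply h.self_dual
  intro w hw
  rw [dot_eq_zero_iff, support₂_one, inter_univ, ← hammingNorm_eq_card_support₂]
  exact h.weight_even hw

omit h in
theorem hammingNorm_add_one (w : Fin 24 → ZMod 2) : hammingNorm (w + 1) = 24 - hammingNorm w := by
  have := hammingNorm_add w 1
  rw [support₂_one, inter_univ, ← hammingNorm_eq_card_support₂] at this
  have h1 : hammingNorm (1 : Fin 24 → ZMod 2) = 24 := by
    rw [hammingNorm_eq_card_support₂, support₂_one]; rfl
  have h2 : hammingNorm w ≤ 24 := by
    have := hammingNorm_le_card_fintype (x := w)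
    simpa using this
  omega

theorem card_eq [Fintype C] : Fintype.card C = 4096 := by
  rw [card_eq_pow_finrank (K := ZMod 2) (V := C), h.hdim, ZMod.card]
  norm_num

omit h in
theorem wtCount_zero [Fintype C] : wtCount C 0 = 1 := by
  classical
  rw [wtCount, card_eq_one]
  refine ⟨0, ?_⟩
  ext w
  simp only [mem_filter, mem_univ, true_and, mem_singleton, hammingNorm_eq_zero]
  exact ⟨fun hw => Subtype.ext hw, fun hw => by rw [hw]; rfl⟩

theorem wtCount_small [Fintype C] {j : ℕ} (h0 : 0 < j) (h8 : j < 8) : wtCount C j = 0 := by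
  classical
  rw [wtCount, card_eq_zero, filter_eq_empty_iff]
  intro w _ hw
  by_cases hw0 : (w : Fin 24 → ZMod 2) = 0
  · rw [hw0, hammingNorm_zero] at hw; omega
  · have := h.hmin w w.2 hw0
    omega

theorem wtCount_odd [Fintype C] {j : ℕ} (hj : ¬ 2 ∣ j) : wtCount C j = 0 := by
  classical
  rw [wtCount, card_eq_zero, filter_eq_empty_iff]
  intro w _ hw
  apply hj
  rw [← hw]
  exact h.weight_even w.2

theorem wtCount_compl [Fintype C] {j : ℕ} (hj : j ≤ 24) : wtCount C (24 - j) = wtCount C j := by
  classical
  rw [wtCount, wtCount]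
  apply Finset.card_bij (fun (w : C) _ => (⟨(w : Fin 24 → ZMod 2) + 1, C.add_mem w.2 h.one_mem⟩ : C))
  · intro w hw
    rw [mem_filter] at hw ⊢
    refine ⟨mem_univ _, ?_⟩
    show hammingNorm ((w : Fin 24 → ZMod 2) + 1) = j
    rw [IsAbstractGolay.hammingNorm_add_one, hw.2]
    omega
  · intro a _ b _ hab
    have := congrArg Subtype.val hab
    simp only at this
    exact Subtype.ext (add_right_cancel this)
  · intro w hw
    rw [mem_filter] at hw
    refine ⟨⟨w + 1, C.add_mem w.2 h.one_mem⟩, ?_, ?_⟩
    · rw [mem_filter]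
      refine ⟨mem_univ _, ?_⟩
      show hammingNorm ((w : Fin 24 → ZMod 2) + 1) = 24 - j
      rw [IsAbstractGolay.hammingNorm_add_one, hw.2]
    · apply Subtype.ext
      show (w : Fin 24 → ZMod 2) + 1 + 1 = w
      rw [add_assoc, add_self₂, add_zero]

theorem moment (i : ℕ) (hi : i < 8) [Fintype C] :
    (∑ j ∈ range 25, j.choose i * wtCount C j) * 2 ^ i = (24).choose i * 4096 := by
  have m := binomial_moment C h.self_dual 8 h.hmin i hi
  rw [h.card_eq, Fintype.card_fin] at m
  exact m

theorem moments [Fintype C] :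
    (∑ j ∈ range 25, wtCount C j = 4096) ∧
    (∑ j ∈ range 25, j.choose 2 * wtCount C j = 276 * 1024) ∧
    (∑ j ∈ range 25, j.choose 4 * wtCount C j = 10626 * 256) := by
  have m0 := h.moment 0 (by norm_num)
  have m2 := h.moment 2 (by norm_num)
  have m4 := h.moment 4 (by norm_num)
  refine ⟨?_, ?_, ?_⟩
  · simpa using m0
  · have e : (24).choose 2 * 4096 = (276 * 1024) * 2 ^ 2 := by decide
    rw [e] at m2
    exact Nat.eq_of_mul_eq_mul_right (by norm_num) m2
  · have e : (24).choose 4 * 4096 = (10626 * 256) * 2 ^ 4 := by decide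
    rw [e] at m4
    exact Nat.eq_of_mul_eq_mul_right (by norm_num) m4

/-- The weight distribution of an abstract Golay code. -/
theorem wtCount_values [Fintype C] :
    wtCount C 8 = 759 ∧ wtCount C 10 = 0 ∧ wtCount C 12 = 2576 ∧ wtCount C 14 = 0 ∧
      wtCount C 16 = 759 := by
  obtain ⟨m0, m2, m4⟩ := h.moments
  have a0 := IsAbstractGolay.wtCount_zero (C := C)
  have a1 := h.wtCount_odd (j := 1) (by norm_num)
  have a2 := h.wtCount_small (j := 2) (by norm_num) (by norm_num)
  have a3 := h.wtCount_odd (j := 3) (by norm_num)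
  have a4 := h.wtCount_small (j := 4) (by norm_num) (by norm_num)
  have a5 := h.wtCount_odd (j := 5) (by norm_num)
  have a6 := h.wtCount_small (j := 6) (by norm_num) (by norm_num)
  have a7 := h.wtCount_odd (j := 7) (by norm_num)
  have a9 := h.wtCount_odd (j := 9) (by norm_num)
  have a11 := h.wtCount_odd (j := 11) (by norm_num)
  have a13 := h.wtCount_odd (j := 13) (by norm_num)
  have a15 := h.wtCount_odd (j := 15) (by norm_num)
  have a17 := h.wtCount_odd (j := 17) (by norm_num)
  have a19 := h.wtCount_odd (j := 19) (by norm_num)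
  have a21 := h.wtCount_odd (j := 21) (by norm_num)
  have a23 := h.wtCount_odd (j := 23) (by norm_num)
  have c0 := h.wtCount_compl (j := 0) (by norm_num)
  have c2 := h.wtCount_compl (j := 2) (by norm_num)
  have c4 := h.wtCount_compl (j := 4) (by norm_num)
  have c6 := h.wtCount_compl (j := 6) (by norm_num)
  have c8 := h.wtCount_compl (j := 8) (by norm_num)
  have c10 := h.wtCount_compl (j := 10) (by norm_num)
  norm_num at c0 c2 c4 c6 c8 c10
  simp only [sum_range_succ, sum_range_zero] at m0 m2 m4
  norm_num [Nat.choose] at m0 m2 m4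
  omega

omit h in
theorem wtCount_pos_of_mem [Fintype C] {w : Fin 24 → ZMod 2} (hw : w ∈ C) :
    0 < wtCount C (hammingNorm w) := by
  classical
  rw [wtCount, card_pos]
  exact ⟨⟨w, hw⟩, by simp⟩

/-- The weights of an abstract Golay code are `0, 8, 12, 16, 24`. -/
theorem weight_cases {w : Fin 24 → ZMod 2} (hw : w ∈ C) :
    hammingNorm w = 0 ∨ hammingNorm w = 8 ∨ hammingNorm w = 12 ∨ hammingNorm w = 16 ∨
      hammingNorm w = 24 := by
  classical
  haveI : Fintype C := Fintype.ofFinite C
  have hpos := wtCount_pos_of_mem hw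
  have hle : hammingNorm w ≤ 24 := by
    have := hammingNorm_le_card_fintype (x := w)
    simpa using this
  have hev := h.weight_even hw
  obtain ⟨_, v10, _, v14, _⟩ := h.wtCount_values
  have c2 := h.wtCount_compl (j := 2) (by norm_num)
  have c4 := h.wtCount_compl (j := 4) (by norm_num)
  have c6 := h.wtCount_compl (j := 6) (by norm_num)
  have a2 := h.wtCount_small (j := 2) (by norm_num) (by norm_num)
  have a4 := h.wtCount_small (j := 4) (by norm_num) (by norm_num)
  have a6 := h.wtCount_small (j := 6) (by norm_num) (by norm_num)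
  norm_num at c2 c4 c6
  generalize hammingNorm w = j at *
  interval_cases j <;> omega

theorem four_dvd_weight {w : Fin 24 → ZMod 2} (hw : w ∈ C) : 4 ∣ hammingNorm w := by
  rcases h.weight_cases hw with h0 | h0 | h0 | h0 | h0 <;> rw [h0] <;> decide

theorem exists_weight_eight : ∃ w ∈ C, hammingNorm w = 8 := by
  classical
  haveI : Fintype C := Fintype.ofFinite C
  have h8 := h.wtCount_values.1
  have : 0 < wtCount C 8 := by rw [h8]; norm_num
  rw [wtCount, card_pos] at this
  obtain ⟨w, hw⟩ := this
  rw [mem_filter] at hw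
  exact ⟨w, w.2, hw.2⟩

end IsAbstractGolay

end golay

end Cfsg.Agent.Lib.Helper9
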