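import Mathlib

set_option autoImplicit false

namespace Cfsg.Agent.Lib.Helper9

/-- Automorphisms of a group permute its non-identity elements. -/
def mulAutToPermNe (T : Type*) [Group T] : MulAut T →* Equiv.Perm {t : T // t ≠ 1} where
  toFun φ :=
    { toFun := fun t => ⟨φ t.1, fun h => t.2 ((MulEquiv.map_eq_one_iff φ).mp h)⟩
      invFun := fun t => ⟨φ.symm t.1, fun h => t.2 ((MulEquiv.map_eq_one_iff φ.symm).mp h)⟩
      left_inv := fun t => Subtype.ext (φ.symm_apply_apply t.1)
      right_inv := fun t => Subtype.ext (φ.apply_symm_apply t.1) }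
  map_one' := by
    ext t; rfl
  map_mul' := by
    intro φ ψ
    ext t; rfl

theorem mulAutToPermNe_injective (T : Type*) [Group T] :
    Function.Injective (mulAutToPermNe T) := by
  intro φ ψ h
  ext t
  by_cases ht : t = 1
  · subst ht; rw [map_one, map_one]
  · have := congrArg (fun σ : Equiv.Perm {t : T // t ≠ 1} => (σ ⟨t, ht⟩).1) h
    exact this

/-- `|Aut T|` divides `(|T| - 1)!`. -/
theorem card_mulAut_dvd_factorial (T : Type*) [Group T] [Finite T] :
    Nat.card (MulAut T) ∣ (Nat.card T - 1).factorial := by
  classical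
  have h := Subgroup.card_dvd_of_injective (mulAutToPermNe T) (mulAutToPermNe_injective T)
  rw [Nat.card_perm] at h
  have hc : Nat.card {t : T // t ≠ 1} = Nat.card T - 1 := by
    have := Fintype.ofFinite T
    rw [Nat.card_eq_fintype_card, Nat.card_eq_fintype_card, Fintype.card_subtype_compl,
      Fintype.card_subtype_eq]
  rwa [hc] at h

end Cfsg.Agent.Lib.Helper9
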