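import Cfsg.Agent.Lib.Helper9.SL2Upper
import Cfsg.Agent.Lib.Helper9.SL23
import Cfsg.Agent.Lib.Helper9.QuatSylow
import Cfsg.Agent.Lib.Helper2.CoprimeSylow
import Cfsg.Agent.Lib.Helper2.Cores
import Cfsg.Agent.Lib.Lead.UniqueSubgroup

/-!
`p'`-subgroups of `SL₂(F)` normalized by a `p`-element (helper9): if the action is nontrivial then
`p = 3`, the subgroup is `Q₈` and together they generate `SL₂(3)`.
-/

set_option autoImplicit false

namespace Cfsg.Agent.Lib.Helper9.SL2PElement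

open Subgroup Cfsg.Agent.Lib.Helper9.SL2Upper Cfsg.Agent.Lib.Helper9.SLTwoThree
  Cfsg.Agent.Lib.Helper9.QuatSylow Cfsg.Agent.Lib.Lead.UniqueOrderP
  Cfsg.Agent.Lib.Lead.UniqueSubgroup

section Abstract

variable {G : Type*} [Group G]

/-- if every abelian `a`-invariant subgroup of `R` has exponent dividing `2`, `R` is a `2`-group -/
theorem isPGroup_two_of_invariant_abelian [Finite G] (R : Subgroup G) (a : G)
    (haR : a ∈ normalizer (R : Set G)) (hcop : (orderOf a).Coprime (Nat.card R))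
    (hE : ∀ E : Subgroup G, E ≤ R → (∀ x ∈ E, ∀ y ∈ E, x * y = y * x) →
      (∀ x ∈ E, a * x * a⁻¹ ∈ E) → ∀ x ∈ E, x * x = 1) : IsPGroup 2 R := by
  have key : ∀ r : ℕ, r.Prime → r ∣ Nat.card R → r = 2 := by
    intro r hr hdvd
    by_contra hne
    have : Fact r.Prime := ⟨hr⟩
    have hsolv : Group.IsSolvable ↥(zpowers a) :=
      isSolvable_of_comm (fun x y => by
        obtain ⟨x, i, rfl⟩ := x
        obtain ⟨y, j, rfl⟩ := y
        exact Subtype.ext (zpow_mul_comm a i j))
    obtain ⟨P, hP⟩ := Cfsg.Agent.Lib.Helper2.exists_invariant_sylow (zpowers a) R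
      (zpowers_le.2 haR) (by rw [Nat.card_zpowers]; exact hcop) (Or.inl hsolv) r
    obtain ⟨P', hP'⟩ : ∃ P' : Subgroup G, P' = (P : Subgroup R).map R.subtype := ⟨_, rfl⟩
    rw [← hP'] at hP
    have hP'R : P' ≤ R := by rw [hP']; exact map_subtype_le _
    have hP'p : IsPGroup r P' := by rw [hP']; exact P.2.map _
    have haP' : a ∈ normalizer (P' : Set G) := hP (mem_zpowers a)
    have hP'ne : P' ≠ ⊥ := by
      rw [hP']
      intro h
      exact P.ne_bot_of_dvd_card hdvd ((map_eq_bot_iff_of_injective _ R.subtype_injective).1 h)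
    have : Nontrivial P' := (nontrivial_iff_ne_bot P').2 hP'ne
    have : Finite P' := inferInstance
    have : Nontrivial (center P') := hP'p.center_nontrivial
    obtain ⟨⟨z, hz⟩, hz1⟩ := exists_ne (1 : center P')
    have hzc : ∀ y ∈ P', y * (z : G) = z * y := by
      intro y hy
      have := (mem_center_iff.1 hz) ⟨y, hy⟩
      exact congrArg Subtype.val this
    obtain ⟨E, hEdef⟩ : ∃ E : Subgroup G, E = P' ⊓ centralizer (P' : Set G) := ⟨_, rfl⟩
    have hzE : (z : G) ∈ E := by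
      rw [hEdef]
      exact ⟨z.2, fun y hy => hzc y hy⟩
    have hzz : (z : G) * z = 1 := by
      apply hE E (by rw [hEdef]; exact inf_le_left.trans hP'R) _ _ _ hzE
      · intro x hx y hy
        rw [hEdef] at hx hy
        exact (hx.2 y hy.1).symm
      · intro x hx
        rw [hEdef] at hx ⊢
        refine ⟨(mem_normalizer_iff.1 haP' x).1 hx.1, fun y hy => ?_⟩
        have hy' : a⁻¹ * y * a ∈ P' := by
          have := (mem_normalizer_iff'.1 haP' (a⁻¹ * y)).2 (by simpa using hy)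
          simpa [mul_assoc] using this
        have hc := hx.2 _ hy'
        calc y * (a * x * a⁻¹) = a * ((a⁻¹ * y * a) * x) * a⁻¹ := by group
          _ = a * (x * (a⁻¹ * y * a)) * a⁻¹ := by rw [hc]
          _ = a * x * a⁻¹ * y := by group
    obtain ⟨j, hj⟩ := hP'p z
    have hj' : (z : G) ^ (r ^ j) = 1 := by
      have := congrArg Subtype.val hj
      simpa using this
    have h2 : (z : G) ^ 2 = 1 := by rw [pow_two]; exact hzz
    have hcop' : Nat.gcd (r ^ j) 2 = 1 :=
      Nat.Coprime.pow_left j ((Nat.coprime_primes hr Nat.prime_two).2 hne)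
    have h1 := pow_gcd_eq_one.2 ⟨hj', h2⟩
    rw [hcop', pow_one] at h1
    apply hz1
    apply Subtype.ext
    apply Subtype.ext
    exact h1
  have hcard := Nat.eq_prime_pow_of_unique_prime_dvd (n := Nat.card R) (p := 2)
    Nat.card_pos.ne' (fun {d} hd hdvd => key d hd hdvd)
  exact IsPGroup.of_card hcard

/-- uniqueness of involutions gives uniqueness of the subgroup of order `2` -/
theorem uniqueOrderP_two
    (h : ∀ t s : G, t * t = 1 → t ≠ 1 → s * s = 1 → s ≠ 1 → t = s) : UniqueOrderP 2 G := by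
  have key : ∀ H K : Subgroup G, Nat.card H = 2 → Nat.card K = 2 → H ≤ K := by
    intro H K hH hK x hx
    by_cases hx1 : x = 1
    · rw [hx1]; exact K.one_mem
    have hxx : x * x = 1 := by
      have := pow_card_eq_one' (G := H) (x := ⟨x, hx⟩)
      rw [hH, pow_two] at this
      exact congrArg Subtype.val this
    have : Finite K := Nat.finite_of_card_ne_zero (by rw [hK]; norm_num)
    have : Nontrivial K := Finite.one_lt_card_iff_nontrivial.1 (by rw [hK]; norm_num)
    obtain ⟨y, hy⟩ := exists_ne (1 : K)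
    have hyy : (y : G) * y = 1 := by
      have := pow_card_eq_one' (G := K) (x := y)
      rw [hK, pow_two] at this
      exact congrArg Subtype.val this
    have hy1 : (y : G) ≠ 1 := fun h1 => hy (Subtype.ext h1)
    rw [h x y hxx hx1 hyy hy1]
    exact y.2
  intro H K hH hK
  exact le_antisymm (key H K hH hK) (key K H hK hH)

/-- the group-theoretic core -/
theorem final [Finite G] (R : Subgroup G) (a : G)
    (haR : a ∈ normalizer (R : Set G)) {p : ℕ} [hpf : Fact p.Prime] (hp2 : p ≠ 2)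
    (hap : a ^ p = 1) (hR2 : IsPGroup 2 R) (huniq : UniqueOrderP 2 R)
    (hnc : ∃ q ∈ R, a * q * a⁻¹ ≠ q) :
    p = 3 ∧ Nonempty (R ≃* QuaternionGroup 2) ∧
      Nonempty (↥(R ⊔ zpowers a) ≃* SL23) := by
  classical
  obtain ⟨L, hL⟩ : ∃ L : Subgroup G, L = R ⊔ zpowers a := ⟨_, rfl⟩
  rw [← hL]
  have hRL : R ≤ L := hL ▸ le_sup_left
  have hZL : zpowers a ≤ L := hL ▸ le_sup_right
  have haL : a ∈ L := hZL (mem_zpowers a)
  have hLn : L ≤ normalizer (R : Set G) := by
    rw [hL]; exact sup_le le_normalizer (zpowers_le.2 haR)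
  have hQn : (R.subgroupOf L).Normal := (normal_subgroupOf_iff_le_normalizer hRL).2 hLn
  obtain ⟨Q, hQdef⟩ : ∃ Q : Subgroup L, Q = R.subgroupOf L := ⟨_, rfl⟩
  rw [← hQdef] at hQn
  have eQR : Q ≃* R := hQdef ▸ subgroupOfEquivOfLe hRL
  obtain ⟨g, hg⟩ : ∃ g : L, (g : G) = a := ⟨⟨a, haL⟩, rfl⟩
  have hgp : g ^ p = 1 := Subtype.ext (by rw [SubmonoidClass.coe_pow, hg, hap]; rfl)
  have hodd : Odd p := hpf.out.odd_of_ne_two hp2
  have hgodd : Odd (orderOf g) := Odd.of_dvd_nat hodd (orderOf_dvd_of_pow_eq_one hgp)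
  have hnc' : ∃ q ∈ Q, g * q * g⁻¹ ≠ q := by
    obtain ⟨q, hq, hne⟩ := hnc
    refine ⟨⟨q, hRL hq⟩, by rw [hQdef]; exact hq, ?_⟩
    intro h; apply hne
    have := congrArg Subtype.val h
    simpa [hg] using this
  obtain ⟨σ, hσdef⟩ : ∃ σ : MulAut Q, σ = MulAut.conjNormal g := ⟨_, rfl⟩
  have hσapp : ∀ q : Q, ((σ q : Q) : L) = g * q * g⁻¹ := by
    intro q; rw [hσdef, MulAut.conjNormal_apply]
  have hσk : σ ^ p = 1 := by rw [hσdef, ← map_pow, hgp, map_one]
  have hσne : σ ≠ 1 := by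
    intro h1
    obtain ⟨q, hq, hgq⟩ := hnc'
    apply hgq
    have := hσapp ⟨q, hq⟩
    rw [h1] at this
    exact this.symm
  have hQ8 : Nonempty (Q ≃* QuaternionGroup 2) := by
    rcases cyclic_or_quaternion hR2 huniq with hcyc | ⟨-, n, hn⟩
    · exfalso
      have : IsCyclic Q := isCyclic_of_surjective eQR.symm eQR.symm.surjective
      obtain ⟨e, he⟩ := IsPGroup.iff_card.1 (hR2.of_equiv eQR.symm)
      exact hσne (eq_one_of_cyclic he σ hodd hσk)
    · obtain ⟨e⟩ := hn
      exact nonempty_mulEquiv_quat8 (e.toMonoidHom.comp eQR.toMonoidHom)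
        (e.injective.comp eQR.injective) σ hodd hσk hσne
  obtain ⟨eQ⟩ := hQ8
  obtain ⟨hσ3, -⟩ := exists_adapted eQ σ hodd hσk hσne
  have hp3 : p = 3 := by
    have h1 : orderOf σ ∣ 3 := orderOf_dvd_of_pow_eq_one hσ3
    have h2 : orderOf σ ∣ p := orderOf_dvd_of_pow_eq_one hσk
    have h3 : orderOf σ ≠ 1 := by rwa [Ne, orderOf_eq_one_iff]
    have h4 : orderOf σ = 3 := by
      rcases (Nat.dvd_prime Nat.prime_three).1 h1 with h | h
      · exact absurd h h3
      · exact h
    rw [h4] at h2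
    exact ((Nat.prime_dvd_prime_iff_eq Nat.prime_three hpf.out).1 h2).symm
  have hQcard : Nat.card Q = 8 := by
    rw [Nat.card_congr eQ.toEquiv, Nat.card_eq_fintype_card, QuaternionGroup.card]
  have hg1 : g ≠ 1 := by
    intro h1
    obtain ⟨q, -, hgq⟩ := hnc'
    apply hgq
    rw [h1]; group
  have hgord : orderOf g = 3 := by
    have : Fact (Nat.Prime 3) := ⟨Nat.prime_three⟩
    exact orderOf_eq_prime (by rw [← hp3]; exact hgp) hg1
  have hcard : Nat.card L = 24 := by
    obtain ⟨Z, hZdef⟩ : ∃ Z : Subgroup L, Z = (zpowers a).subgroupOf L := ⟨_, rfl⟩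
    have hZcard : Nat.card Z = 3 := by
      rw [hZdef, Nat.card_congr (subgroupOfEquivOfLe hZL).toEquiv, Nat.card_zpowers, ← hg,
        Subgroup.orderOf_coe, hgord]
    have htop : Z ⊔ Q = ⊤ := by
      rw [hZdef, hQdef, ← subgroupOf_sup hZL hRL, sup_comm, ← hL, subgroupOf_self]
    have h1 : Nat.card L ∣ 24 := by
      have := Cfsg.Agent.Lib.Helper2.card_sup_dvd_of_normal Z Q
      rw [htop, card_top, hZcard, hQcard] at this
      exact this
    have h2 : 8 ∣ Nat.card L := hQcard ▸ card_subgroup_dvd_card Q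
    have h3 : 3 ∣ Nat.card L := hgord ▸ orderOf_dvd_natCard g
    have h4 : 24 ∣ Nat.card L :=
      (by norm_num : Nat.Coprime 8 3).mul_dvd_of_dvd_of_dvd h2 h3
    exact Nat.dvd_antisymm h1 h4
  exact ⟨hp3, ⟨eQR.symm.trans eQ⟩, nonempty_mulEquiv_SL23 Q ⟨eQ⟩ g hgodd hnc' hcard⟩

end Abstract

section Matrices

variable (F : Type*) [Field F] [Fintype F]

local notation "SL2" => Matrix.SpecialLinearGroup (Fin 2) F
local notation "M2" => Matrix (Fin 2) (Fin 2) F

theorem commutator_ne_bot_iff {G : Type*} [Group G] (R : Subgroup G) (a : G) :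
    ⁅R, zpowers a⁆ ≠ ⊥ ↔ ∃ q ∈ R, a * q * a⁻¹ ≠ q := by
  rw [Ne, commutator_comm, commutator_eq_bot_iff_le_centralizer, zpowers_le]
  constructor
  · intro h
    by_contra hcon
    push_neg at hcon
    apply h
    intro q hq
    have := hcon q hq
    rw [mul_inv_eq_iff_eq_mul] at this
    exact this.symm
  · rintro ⟨q, hq, hne⟩ h
    apply hne
    have := h q hq
    rw [mul_inv_eq_iff_eq_mul]
    exact this.symm

/-- the case of an upper unitriangular `p`-element -/
theorem main_upper {p : ℕ} [hpf : Fact p.Prime] [CharP F p] (hp : p ≠ 2) (b : F)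
    (R : Subgroup SL2) (hR : (Nat.card R).Coprime p)
    (haR : upper b ∈ normalizer (R : Set SL2))
    (hnt : ⁅R, zpowers (upper b)⁆ ≠ ⊥) :
    p = 3 ∧ Nonempty (↥R ≃* QuaternionGroup 2) ∧
      Nonempty (↥(R ⊔ zpowers (upper b)) ≃* SL23) := by
  classical
  have : Finite SL2 := inferInstance
  have h2 : (2 : F) ≠ 0 := by
    intro h
    have h1 : ((2 : ℕ) : F) = 0 := by exact_mod_cast h
    rw [CharP.cast_eq_zero_iff F p] at h1
    exact hp ((Nat.prime_dvd_prime_iff_eq hpf.out Nat.prime_two).1 h1)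
  have hnc := (commutator_ne_bot_iff R (upper b)).1 hnt
  have hb : b ≠ 0 := by
    rintro rfl
    obtain ⟨q, -, hq⟩ := hnc
    apply hq
    rw [upper_zero]; group
  have hap : upper b ^ p = 1 := upper_pow_char p b
  have hpR : ∀ y ∈ R, y ^ p = 1 → y = 1 := by
    intro y hy hyp
    have h1 : orderOf y ∣ p := orderOf_dvd_of_pow_eq_one hyp
    have h3 : orderOf y ∣ Nat.card R := Subgroup.orderOf_dvd_natCard R hy
    have h4 : orderOf y ∣ Nat.gcd (Nat.card R) p := Nat.dvd_gcd h3 h1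
    rw [hR] at h4
    exact orderOf_eq_one_iff.1 (Nat.dvd_one.1 h4)
  have hcop : (orderOf (upper b)).Coprime (Nat.card R) :=
    Nat.Coprime.coprime_dvd_left (orderOf_dvd_of_pow_eq_one hap) hR.symm
  have hE : ∀ E : Subgroup SL2, E ≤ R → (∀ x ∈ E, ∀ y ∈ E, x * y = y * x) →
      (∀ x ∈ E, upper b * x * (upper b)⁻¹ ∈ E) → ∀ x ∈ E, x * x = 1 := by
    intro E hER hab hinv x hx
    have hγ : (x : M2) 1 0 = 0 :=
      lower_zero_of_commute h2 hb x (hab x hx _ (hinv x hx))
    have hconj := mul_upper_of_lower_zero b x hγ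
    have hcR : x * (upper b * x⁻¹ * (upper b)⁻¹) ∈ R :=
      R.mul_mem (hER hx) ((mem_normalizer_iff.1 haR _).1 (R.inv_mem (hER hx)))
    have hc : x * (upper b * x⁻¹ * (upper b)⁻¹) =
        upper (((x : M2) 0 0) ^ 2 * b + -b) := by
      rw [← upper_mul, ← upper_inv]
      calc x * (upper b * x⁻¹ * (upper b)⁻¹) = (x * upper b) * x⁻¹ * (upper b)⁻¹ := by group
        _ = upper (((x : M2) 0 0) ^ 2 * b) * (upper b)⁻¹ := by rw [hconj]; group
    have hc1 := hpR _ hcR (by rw [hc]; exact upper_pow_char p _)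
    rw [hc, upper_eq_one_iff] at hc1
    have hα : ((x : M2) 0 0) ^ 2 = 1 := by
      have : (((x : M2) 0 0) ^ 2 - 1) * b = 0 := by linear_combination hc1
      rcases mul_eq_zero.1 this with h | h
      · linear_combination h
      · exact absurd h hb
    have hsq := sq_of_lower_zero x hγ hα
    exact hpR _ (R.mul_mem (hER hx) (hER hx)) (by rw [hsq]; exact upper_pow_char p _)
  have hR2 := isPGroup_two_of_invariant_abelian R (upper b) haR hcop hE
  have huniq : UniqueOrderP 2 R := by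
    apply uniqueOrderP_two
    intro t s ht ht1 hs hs1
    apply Subtype.ext
    apply involution_unique h2
    · exact congrArg Subtype.val ht
    · exact fun h => ht1 (Subtype.ext h)
    · exact congrArg Subtype.val hs
    · exact fun h => hs1 (Subtype.ext h)
  exact final R (upper b) haR hp hap hR2 huniq hnc

/-- **Main theorem**: a `p`-element of `SL₂(F)` acting nontrivially on a `p'`-subgroup. -/
theorem main {p : ℕ} [hpf : Fact p.Prime] [CharP F p] (hp : p ≠ 2) (a : SL2)
    (ha : IsPGroup p ↥(zpowers a)) (R : Subgroup SL2) (hR : (Nat.card R).Coprime p)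
    (haR : a ∈ normalizer (R : Set SL2)) (hnt : ⁅R, zpowers a⁆ ≠ ⊥) :
    p = 3 ∧ Nonempty (↥R ≃* QuaternionGroup 2) ∧
      Nonempty (↥(R ⊔ zpowers a) ≃* SL23) := by
  obtain ⟨k, hk⟩ := ha ⟨a, mem_zpowers a⟩
  have hak : a ^ (p ^ k) = 1 := by
    have := congrArg Subtype.val hk
    simpa using this
  obtain ⟨g, b, hgb⟩ := exists_conj_upper p a hak
  obtain ⟨φ, hφ⟩ : ∃ φ : SL2 ≃* SL2, φ = MulAut.conj g⁻¹ := ⟨_, rfl⟩
  have hφa : φ a = upper b := by
    rw [hφ, MulAut.conj_apply, inv_inv, hgb]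
  obtain ⟨R', hR'⟩ : ∃ R' : Subgroup SL2, R' = R.map φ.toMonoidHom := ⟨_, rfl⟩
  have e1 : R ≃* R' := hR' ▸ φ.subgroupMap R
  have hcard : Nat.card R' = Nat.card R := (Nat.card_congr e1.toEquiv).symm
  have hmem : ∀ x, φ x ∈ R' ↔ x ∈ R := by
    intro x
    rw [hR']
    constructor
    · rintro ⟨y, hy, hyx⟩
      have : y = x := φ.injective hyx
      rw [← this]; exact hy
    · intro hx; exact ⟨x, hx, rfl⟩
  have haR' : upper b ∈ normalizer (R' : Set SL2) := by
    rw [mem_normalizer_iff]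
    intro h
    obtain ⟨h', rfl⟩ := φ.surjective h
    rw [← hφa, ← map_inv, ← map_mul, ← map_mul, hmem, hmem]
    exact mem_normalizer_iff.1 haR h'
  have hzp : (zpowers a).map φ.toMonoidHom = zpowers (upper b) := by
    rw [MonoidHom.map_zpowers]
    congr 1
  have hnt' : ⁅R', zpowers (upper b)⁆ ≠ ⊥ := by
    rw [hR', ← hzp, ← map_commutator]
    intro h
    exact hnt ((map_eq_bot_iff_of_injective _ φ.injective).1 h)
  obtain ⟨h3, ⟨e2⟩, ⟨e3⟩⟩ := main_upper F hp b R' (by rw [hcard]; exact hR) haR' hnt'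
  refine ⟨h3, ⟨e1.trans e2⟩, ?_⟩
  have hsup : (R ⊔ zpowers a).map φ.toMonoidHom = R' ⊔ zpowers (upper b) := by
    rw [Subgroup.map_sup, hzp, hR']
  have e4 : ↥(R ⊔ zpowers a) ≃* ↥(R' ⊔ zpowers (upper b)) :=
    hsup ▸ φ.subgroupMap (R ⊔ zpowers a)
  exact ⟨e4.trans e3⟩

end Matrices

end Cfsg.Agent.Lib.Helper9.SL2PElement
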