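import Cfsg.Agent.Lib.Helper15.QuadSL2
import Cfsg.Agent.Lib.Helper9.SL2PElement

/-!
Sylow `2`-subgroups of subgroups of `SL₂(q)`, `q` odd, that are not `p`-closed are generalized
quaternion (helper9).  Uses helper15's Theorem A (`QuadSL2.sylow2_nonabelian`).
-/

set_option autoImplicit false

namespace Cfsg.Agent.Lib.Helper9.SL2Sylow2

open Subgroup Matrix Cfsg.Agent.Lib.Helper9.SL2Upper Cfsg.Agent.Lib.Helper9.SL2PElement
  Cfsg.Agent.Lib.Helper15.QuadSL2 Cfsg.Agent.Lib.Helper15.TwoByTwo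
  Cfsg.Agent.Lib.Lead.UniqueOrderP Cfsg.Agent.Lib.Lead.UniqueSubgroup

variable {F : Type*} [Field F]

local notation "SL2" => Matrix.SpecialLinearGroup (Fin 2) F
local notation "M2" => Matrix (Fin 2) (Fin 2) F

/-- `p`-elements of `SL₂(F)` have order dividing `p`. -/
theorem pow_p_eq_one (p : ℕ) [Fact p.Prime] [CharP F p] (x : SL2) {k : ℕ}
    (hx : x ^ (p ^ k) = 1) : x ^ p = 1 := by
  obtain ⟨v, hv, hxv⟩ := exists_fixed_vector p x hx
  exact pow_eq_one_of_fix p x v hv hxv

/-- a matrix commuting with a nontrivial `g` fixing `v` has `v` as an eigenvector -/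
theorem eigen_of_commute (g x : SL2) (hg : g ≠ 1) (v : Fin 2 → F) (hv : v ≠ 0)
    (hgv : (g : M2).mulVec v = v) (hc : x * g = g * x) :
    (x : M2).mulVec v ∈ Submodule.span F {v} := by
  by_contra hw
  apply hg
  apply Subtype.ext
  rw [Matrix.SpecialLinearGroup.coe_one]
  apply eq_one_of_fix_two (g : M2) v ((x : M2).mulVec v) hv hw hgv
  rw [Matrix.mulVec_mulVec, ← Matrix.SpecialLinearGroup.coe_mul, ← hc,
    Matrix.SpecialLinearGroup.coe_mul, ← Matrix.mulVec_mulVec, hgv]

/-- a commuting `p`-element fixes the same vector -/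
theorem fix_of_commute (p : ℕ) [Fact p.Prime] [CharP F p] (g x : SL2) (hg : g ≠ 1)
    (v : Fin 2 → F) (hv : v ≠ 0) (hgv : (g : M2).mulVec v = v) (hc : x * g = g * x)
    (hx : x ^ p = 1) : (x : M2).mulVec v = v :=
  fix_of_eigen p x hx v hv (eigen_of_commute g x hg v hv hgv hc)

/-- the subgroup of `SL₂(F)` fixing a vector -/
def fixer (v : Fin 2 → F) : Subgroup SL2 where
  carrier := {g | (g : M2).mulVec v = v}
  one_mem' := by
    show ((1 : SL2) : M2).mulVec v = v
    rw [Matrix.SpecialLinearGroup.coe_one, Matrix.one_mulVec]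
  mul_mem' := by
    intro g h hg hh
    show ((g * h : SL2) : M2).mulVec v = v
    have hg' : (g : M2).mulVec v = v := hg
    have hh' : (h : M2).mulVec v = v := hh
    rw [Matrix.SpecialLinearGroup.coe_mul, ← Matrix.mulVec_mulVec, hh', hg']
  inv_mem' := by
    intro g hg
    show ((g⁻¹ : SL2) : M2).mulVec v = v
    have hg' : (g : M2).mulVec v = v := hg
    have h1 : ((g⁻¹ : SL2) : M2) * (g : M2) = 1 := by
      rw [← Matrix.SpecialLinearGroup.coe_mul, inv_mul_cancel, Matrix.SpecialLinearGroup.coe_one]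
    calc ((g⁻¹ : SL2) : M2).mulVec v = ((g⁻¹ : SL2) : M2).mulVec ((g : M2).mulVec v) := by rw [hg']
      _ = v := by rw [Matrix.mulVec_mulVec, h1, Matrix.one_mulVec]

theorem mem_fixer {v : Fin 2 → F} {g : SL2} : g ∈ fixer v ↔ (g : M2).mulVec v = v := Iff.rfl

theorem fixer_isPGroup (p : ℕ) [Fact p.Prime] [CharP F p] (v : Fin 2 → F) (hv : v ≠ 0) :
    IsPGroup p (fixer v) := by
  intro g
  refine ⟨1, ?_⟩
  apply Subtype.ext
  rw [pow_one, Subgroup.coe_pow, Subgroup.coe_one]
  exact pow_eq_one_of_fix p _ v hv g.2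

/-- two distinct Sylow `p`-subgroups give a pair of `p`-elements generating a non-`p`-group -/
theorem exists_pair [Finite F] (p : ℕ) [Fact p.Prime] [CharP F p] (H : Subgroup SL2)
    (P₁ P₂ : Sylow p H) (hne : P₁ ≠ P₂) :
    ∃ x z : SL2, x ∈ H ∧ z ∈ H ∧ x ^ p = 1 ∧ z ^ p = 1 ∧ ¬ IsPGroup p (closure {x, z}) := by
  classical
  have : Finite SL2 := inferInstance
  -- exponent `p`
  have hexp : ∀ (P : Sylow p H) (y : H), y ∈ P → (y : SL2) ^ p = 1 := by
    intro P y hy
    obtain ⟨k, hk⟩ := P.2 ⟨y, hy⟩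
    have h1 : (y : SL2) ^ (p ^ k) = 1 := by
      have := congrArg (fun t : P => ((t : H) : SL2)) hk
      simpa using this
    exact pow_p_eq_one p _ h1
  -- `P₂` is nontrivial
  have hP₂ne : (P₂ : Subgroup H) ≠ ⊥ := by
    intro h
    apply hne
    have hc : Nat.card P₁ = Nat.card P₂ := by
      rw [Sylow.card_eq_multiplicity, Sylow.card_eq_multiplicity]
    have h1 : (P₁ : Subgroup H) = ⊥ := by
      rw [← Subgroup.card_eq_one, hc, h, Subgroup.card_bot]
    exact Sylow.ext (h1.trans h.symm)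
  have : Nontrivial (P₂ : Subgroup H) := (nontrivial_iff_ne_bot _).2 hP₂ne
  have : Nontrivial (center (P₂ : Subgroup H)) := P₂.2.center_nontrivial
  obtain ⟨⟨z₀, hz₀⟩, hz₀1⟩ := exists_ne (1 : center (P₂ : Subgroup H))
  obtain ⟨z, hzdef⟩ : ∃ z : SL2, z = ((z₀ : H) : SL2) := ⟨_, rfl⟩
  have hzH : z ∈ H := hzdef ▸ (z₀ : H).2
  have hz1 : z ≠ 1 := by
    intro h
    apply hz₀1
    apply Subtype.ext; apply Subtype.ext; apply Subtype.ext
    rw [← hzdef, h]; rfl
  have hzp : z ^ p = 1 := hzdef ▸ hexp P₂ z₀ z₀.2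
  obtain ⟨v, hv, hzv⟩ := exists_fixed_vector p z (k := 1) (by rw [pow_one]; exact hzp)
  by_contra hall
  push_neg at hall
  -- `P₂` fixes `v`
  have hA : ∀ y : H, y ∈ P₂ → (y : SL2) ∈ fixer v := by
    intro y hy
    have hc : (⟨y, hy⟩ : (P₂ : Subgroup H)) * z₀ = z₀ * ⟨y, hy⟩ := (mem_center_iff.1 hz₀) _
    have hc' : (y : SL2) * z = z * y := by
      have := congrArg (fun t : (P₂ : Subgroup H) => ((t : H) : SL2)) hc
      rw [hzdef]
      simpa using this
    exact fix_of_commute p z _ hz1 v hv hzv hc' (hexp P₂ y hy)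
  -- `P₁` fixes `v`
  have hB : ∀ x : H, x ∈ P₁ → (x : SL2) ∈ fixer v := by
    intro x hx
    have hxp := hexp P₁ x hx
    have hQ := hall x z x.2 hzH hxp hzp
    obtain ⟨Q, hQdef⟩ : ∃ Q : Subgroup SL2, Q = closure {(x : SL2), z} := ⟨_, rfl⟩
    rw [← hQdef] at hQ
    have hxQ : (x : SL2) ∈ Q := hQdef ▸ subset_closure (by simp)
    have hzQ : z ∈ Q := hQdef ▸ subset_closure (by simp)
    have : Nontrivial Q := ⟨⟨⟨z, hzQ⟩, 1, fun h => hz1 (congrArg Subtype.val h)⟩⟩
    have : Nontrivial (center Q) := hQ.center_nontrivial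
    obtain ⟨⟨w, hw⟩, hw1⟩ := exists_ne (1 : center Q)
    have hw1' : (w : SL2) ≠ 1 := by
      intro h
      apply hw1
      apply Subtype.ext; apply Subtype.ext
      exact h
    have hwp : (w : SL2) ^ p = 1 := by
      obtain ⟨k, hk⟩ := hQ w
      have h1 : (w : SL2) ^ (p ^ k) = 1 := by
        have := congrArg Subtype.val hk
        simpa using this
      exact pow_p_eq_one p _ h1
    have hwz : (w : SL2) * z = z * w := by
      have := (mem_center_iff.1 hw) ⟨z, hzQ⟩
      have := congrArg Subtype.val this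
      simpa using this.symm
    have hwv : ((w : SL2) : M2).mulVec v = v := fix_of_commute p z _ hz1 v hv hzv hwz hwp
    have hxw : (x : SL2) * w = w * x := by
      have := (mem_center_iff.1 hw) ⟨x, hxQ⟩
      have := congrArg Subtype.val this
      simpa using this
    exact fix_of_commute p w _ hw1' v hv hwv hxw hxp
  obtain ⟨U, hUdef⟩ : ∃ U : Subgroup H, U = (fixer v).subgroupOf H := ⟨_, rfl⟩
  have hU : IsPGroup p U := by
    rw [hUdef]
    exact (fixer_isPGroup p v hv).comap_subtype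
  have h1 : (P₁ : Subgroup H) ≤ U := fun x hx => by rw [hUdef]; exact hB x hx
  have h2 : (P₂ : Subgroup H) ≤ U := fun x hx => by rw [hUdef]; exact hA x hx
  apply hne
  apply Sylow.ext
  rw [← P₁.is_maximal' hU h1, ← P₂.is_maximal' hU h2]

open scoped IsMulCommutative in
/-- **Main theorem** (S0275). -/
theorem main [Fintype F] (p : ℕ) [hpf : Fact p.Prime] [CharP F p] (hp : p ≠ 2)
    (H : Subgroup SL2) (hH : 1 < Nat.card (Sylow p H)) (S : Sylow 2 H) :
    ∃ k : ℕ, 1 ≤ k ∧ Nonempty ((S : Subgroup H) ≃* QuaternionGroup (2 ^ k)) := by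
  classical
  have : Finite SL2 := inferInstance
  have h2 : (2 : F) ≠ 0 := by
    intro h
    have h1 : ((2 : ℕ) : F) = 0 := by exact_mod_cast h
    rw [CharP.cast_eq_zero_iff F p] at h1
    exact hp ((Nat.prime_dvd_prime_iff_eq hpf.out Nat.prime_two).1 h1)
  have : Nontrivial (Sylow p H) := Finite.one_lt_card_iff_nontrivial.1 hH
  obtain ⟨P₁, P₂, hne⟩ := exists_pair_ne (Sylow p H)
  obtain ⟨x, z, hxH, hzH, hxp, hzp, hnp⟩ := exists_pair p H P₁ P₂ hne
  obtain ⟨L, hLdef⟩ : ∃ L : Subgroup SL2, L = closure {x, z} := ⟨_, rfl⟩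
  rw [← hLdef] at hnp
  have hLH : L ≤ H := by
    rw [hLdef, closure_le]
    rintro g (rfl | rfl)
    · exact hxH
    · exact hzH
  have hxL : x ∈ L := hLdef ▸ subset_closure (by simp)
  have hzL : z ∈ L := hLdef ▸ subset_closure (by simp)
  have hgen : closure {(⟨x, hxL⟩ : L), ⟨z, hzL⟩} = ⊤ := by
    subst hLdef
    have h1 := closure_closure_coe_preimage (k := ({x, z} : Set SL2))
    have h2 : ((↑) : closure ({x, z} : Set SL2) → SL2) ⁻¹' {x, z} =
        {(⟨x, hxL⟩ : closure ({x, z} : Set SL2)), ⟨z, hzL⟩} := by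
      ext g
      simp only [Set.mem_preimage, Set.mem_insert_iff, Set.mem_singleton_iff, Subtype.ext_iff]
    rw [h2] at h1
    exact h1
  have T : Sylow 2 L := Classical.arbitrary _
  have hT := sylow2_nonabelian p hp L ⟨x, hxL⟩ ⟨z, hzL⟩ hgen (Subtype.ext hxp)
    (Subtype.ext hzp) hnp T
  -- a Sylow `2`-subgroup of `H` containing the image of `T`
  obtain ⟨TH, hTHdef⟩ : ∃ TH : Subgroup H, TH = (T : Subgroup L).map (inclusion hLH) := ⟨_, rfl⟩
  have hTH2 : IsPGroup 2 TH := by rw [hTHdef]; exact T.2.map _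
  obtain ⟨S', hS'⟩ := hTH2.exists_le_sylow
  have hS'nc : ¬ ∀ a b : (S' : Subgroup H), a * b = b * a := by
    intro hcomm
    apply hT
    refine ⟨⟨fun a b => ?_⟩⟩
    have ha : inclusion hLH a ∈ (S' : Subgroup H) := hS' (hTHdef ▸ ⟨a, a.2, rfl⟩)
    have hb : inclusion hLH b ∈ (S' : Subgroup H) := hS' (hTHdef ▸ ⟨b, b.2, rfl⟩)
    have := hcomm ⟨_, ha⟩ ⟨_, hb⟩
    have h3 := congrArg (fun t : (S' : Subgroup H) => ((t : H) : SL2)) this
    apply Subtype.ext; apply Subtype.ext
    simpa using h3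
  have huniq : UniqueOrderP 2 (S' : Subgroup H) := by
    apply uniqueOrderP_two
    intro t s ht ht1 hs hs1
    apply Subtype.ext; apply Subtype.ext
    apply involution_unique h2
    · have := congrArg (fun t : (S' : Subgroup H) => ((t : H) : SL2)) ht
      simpa using this
    · exact fun h => ht1 (Subtype.ext (Subtype.ext h))
    · have := congrArg (fun t : (S' : Subgroup H) => ((t : H) : SL2)) hs
      simpa using this
    · exact fun h => hs1 (Subtype.ext (Subtype.ext h))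
  rcases cyclic_or_quaternion S'.2 huniq with hcyc | ⟨-, n, ⟨e⟩⟩
  · exfalso
    apply hS'nc
    intro a b
    obtain ⟨g, hg⟩ := hcyc.exists_generator
    obtain ⟨i, rfl⟩ := mem_zpowers_iff.1 (hg a)
    obtain ⟨j, rfl⟩ := mem_zpowers_iff.1 (hg b)
    exact zpow_mul_comm g i j
  · refine ⟨n, ?_, ⟨(Sylow.equiv S S').trans e⟩⟩
    by_contra hn
    have hn0 : n = 0 := by omega
    subst hn0
    apply hS'nc
    have hcyc : IsCyclic (QuaternionGroup (2 ^ 0)) := by
      rw [pow_zero]; exact QuaternionGroup.quaternionGroup_one_isCyclic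
    intro a b
    apply e.injective
    rw [map_mul, map_mul]
    obtain ⟨g, hg⟩ := hcyc.exists_generator
    obtain ⟨i, hi⟩ := mem_zpowers_iff.1 (hg (e a))
    obtain ⟨j, hj⟩ := mem_zpowers_iff.1 (hg (e b))
    rw [← hi, ← hj]
    exact zpow_mul_comm g i j

end Cfsg.Agent.Lib.Helper9.SL2Sylow2
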