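import Cfsg.Agent.Lib.Helper9.SL2Gen
import Cfsg.Agent.Lib.Helper9.SL2Sylow2
import Cfsg.Agent.Lib.Helper11.ElemAbGL

/-!
Non-`p`-closed groups of automorphisms of an elementary abelian group of order `p²` contain
`SL₂(p)` (helper9).
-/

set_option autoImplicit false

namespace Cfsg.Agent.Lib.Helper9.AutElemAbSq

open Subgroup Cfsg.Agent.Lib.Helper9.SL2Gen Cfsg.Agent.Lib.Helper9.SL2Sylow2

/-- a `p`-element of `(ZMod p)ˣ` is trivial -/
theorem units_eq_one_of_pow {p : ℕ} [hpf : Fact p.Prime] (x : (ZMod p)ˣ) {k : ℕ}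
    (hx : x ^ (p ^ k) = 1) : x = 1 := by
  have h1 : orderOf x ∣ p ^ k := orderOf_dvd_of_pow_eq_one hx
  have h2 : orderOf x ∣ p - 1 := by
    have := orderOf_dvd_card (x := x)
    rwa [ZMod.card_units] at this
  have h3 : Nat.Coprime (p ^ k) (p - 1) := by
    apply Nat.Coprime.pow_left
    exact (Nat.coprime_self_sub_right hpf.out.one_le).2 (Nat.coprime_one_right p)
  exact orderOf_eq_one_iff.1 (Nat.eq_one_of_dvd_coprimes h3 h1 h2)

/-- two `p`-elements of a finite group `K` generating it, `K` not a `p`-group, embedded in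
`GL₂(𝔽_p)`: then `K ≅ SL₂(𝔽_p)` -/
theorem nonempty_mulEquiv_SL2_of_GL {p : ℕ} [hpf : Fact p.Prime] {K : Type*} [Group K] [Finite K]
    (ψ : K →* GL (Fin 2) (ZMod p)) (hψ : Function.Injective ψ) (a b : K)
    (hgen : closure {a, b} = ⊤) (ha : ∃ k : ℕ, a ^ (p ^ k) = 1) (hb : ∃ k : ℕ, b ^ (p ^ k) = 1)
    (hnp : ¬ IsPGroup p K) :
    Nonempty (K ≃* Matrix.SpecialLinearGroup (Fin 2) (ZMod p)) := by
  classical
  -- determinant is trivial
  obtain ⟨D, hDdef⟩ : ∃ D : K →* (ZMod p)ˣ, D = Matrix.GeneralLinearGroup.det.comp ψ := ⟨_, rfl⟩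
  have hDker : D.ker = ⊤ := by
    rw [eq_top_iff, ← hgen, closure_le]
    rintro x (rfl | rfl)
    · obtain ⟨k, hk⟩ := ha
      rw [SetLike.mem_coe, MonoidHom.mem_ker]
      apply units_eq_one_of_pow (k := k)
      rw [← map_pow, hk, map_one]
    · obtain ⟨k, hk⟩ := hb
      rw [SetLike.mem_coe, MonoidHom.mem_ker]
      apply units_eq_one_of_pow (k := k)
      rw [← map_pow, hk, map_one]
  have hdet : ∀ x : K, ((ψ x : GL (Fin 2) (ZMod p)) : Matrix (Fin 2) (Fin 2) (ZMod p)).det = 1 := by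
    intro x
    have h1 : D x = 1 := by
      have : x ∈ D.ker := hDker ▸ mem_top x
      exact this
    rw [hDdef] at h1
    have h2 := congrArg (fun u : (ZMod p)ˣ => (u : ZMod p)) h1
    simpa using h2
  obtain ⟨φ, hφ⟩ : ∃ φ : K →* Matrix.SpecialLinearGroup (Fin 2) (ZMod p),
      ∀ x, ((φ x : Matrix.SpecialLinearGroup (Fin 2) (ZMod p)) : Matrix (Fin 2) (Fin 2) (ZMod p)) =
        ((ψ x : GL (Fin 2) (ZMod p)) : Matrix (Fin 2) (Fin 2) (ZMod p)) :=
    ⟨{ toFun := fun x => (⟨_, hdet x⟩ : Matrix.SpecialLinearGroup (Fin 2) (ZMod p))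
       map_one' := by
         apply Subtype.ext
         show ((ψ 1 : GL (Fin 2) (ZMod p)) : Matrix (Fin 2) (Fin 2) (ZMod p)) = 1
         rw [map_one]; rfl
       map_mul' := fun x y => by
         apply Subtype.ext
         show ((ψ (x * y) : GL (Fin 2) (ZMod p)) : Matrix (Fin 2) (Fin 2) (ZMod p)) =
           ((ψ x : GL (Fin 2) (ZMod p)) : Matrix (Fin 2) (Fin 2) (ZMod p)) *
             ((ψ y : GL (Fin 2) (ZMod p)) : Matrix (Fin 2) (Fin 2) (ZMod p))
         rw [map_mul]; rfl }, fun x => rfl⟩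
  have hφinj : Function.Injective φ := by
    intro x y hxy
    apply hψ
    apply Units.ext
    rw [← hφ, ← hφ, hxy]
  have hrange : φ.range = Subgroup.closure {φ a, φ b} := by
    rw [MonoidHom.range_eq_map, ← hgen, MonoidHom.map_closure, Set.image_pair]
  have hφa : φ a ^ p = 1 := by
    obtain ⟨k, hk⟩ := ha
    exact pow_p_eq_one p _ (k := k) (by rw [← map_pow, hk, map_one])
  have hφb : φ b ^ p = 1 := by
    obtain ⟨k, hk⟩ := hb
    exact pow_p_eq_one p _ (k := k) (by rw [← map_pow, hk, map_one])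
  have hnp' : ¬ IsPGroup p (Subgroup.closure {φ a, φ b}) := by
    intro h
    apply hnp
    rw [← hrange] at h
    exact IsPGroup.of_injective h φ.rangeRestrict (by
      intro x y hxy
      exact hφinj (congrArg Subtype.val hxy))
  have htop := closure_pair_eq_top (φ a) (φ b) hφa hφb hnp'
  have hsurj : Function.Surjective φ := by
    rw [← MonoidHom.range_eq_top, hrange, htop]
  exact ⟨MulEquiv.ofBijective φ ⟨hφinj, hsurj⟩⟩

/-- a group of automorphisms of an elementary abelian group of order `p²`, generated by two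
`p`-elements and not a `p`-group, is isomorphic to `SL₂(p)` -/
theorem exists_SL2_subgroup {H : Type*} [CommGroup H] [Finite H] (p : ℕ) [hpf : Fact p.Prime]
    (hcard : Nat.card H = p ^ 2) (hexp : ∀ h : H, h ^ p = 1)
    (A : Subgroup (MulAut H)) (a b : A) (ha : ∃ k : ℕ, a ^ (p ^ k) = 1)
    (hb : ∃ k : ℕ, b ^ (p ^ k) = 1) (hnp : ¬ IsPGroup p (closure {a, b})) :
    ∃ K : Subgroup A, Nonempty (K ≃* Matrix.SpecialLinearGroup (Fin 2) (ZMod p)) := by
  obtain ⟨ψ, hψ⟩ := Cfsg.Agent.Lib.Helper11.exists_mulAut_to_GL H p 2 hexp hcard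
  have haK : a ∈ closure {a, b} := subset_closure (by simp)
  have hbK : b ∈ closure {a, b} := subset_closure (by simp)
  refine ⟨closure {a, b}, ?_⟩
  have : Finite (MulAut H) := inferInstance
  apply nonempty_mulEquiv_SL2_of_GL ((ψ.comp A.subtype).comp (closure {a, b}).subtype)
    (hψ.comp (A.subtype_injective.comp (subtype_injective _))) ⟨a, haK⟩ ⟨b, hbK⟩
    (closure_pair_subtype_eq_top a b haK hbK) _ _ hnp
  · obtain ⟨k, hk⟩ := ha
    exact ⟨k, Subtype.ext (by simpa using hk)⟩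
  · obtain ⟨k, hk⟩ := hb
    exact ⟨k, Subtype.ext (by simpa using hk)⟩

end Cfsg.Agent.Lib.Helper9.AutElemAbSq
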