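import Cfsg.Agent.Lib.Helper9.SL23

/-!
The automorphism group of the quaternion group of order `8` has order `24` (helper9).
-/

set_option autoImplicit false

namespace Cfsg.Agent.Lib.Helper9.SLTwoThree

open QuaternionGroup

/-- the pairs `(u, v)` that are images of `(a 1, xa 0)` under an automorphism -/
def ValidPair (p : QuaternionGroup 2 × QuaternionGroup 2) : Prop :=
  (∀ x y, autFun p.1 p.2 (x * y) = autFun p.1 p.2 x * autFun p.1 p.2 y) ∧
    Function.Injective (autFun p.1 p.2)

instance : DecidablePred ValidPair := fun p => by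
  unfold ValidPair; infer_instance

set_option maxRecDepth 1000000 in
theorem card_validPair : Fintype.card {p // ValidPair p} = 24 := by decide

theorem autFun_a_one (u v : QuaternionGroup 2) : autFun u v (a 1) = u := by
  show u ^ ((1 : ZMod (2 * 2)).val) = u
  have : (1 : ZMod (2 * 2)).val = 1 := by decide
  rw [this, pow_one]

theorem autFun_xa_zero (u v : QuaternionGroup 2) : autFun u v (xa 0) = v := by
  show v * u ^ ((0 : ZMod (2 * 2)).val) = v
  have : (0 : ZMod (2 * 2)).val = 0 := by decide
  rw [this, pow_zero, mul_one]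

/-- the bijection between automorphisms and valid pairs -/
noncomputable def autEquivValidPair : MulAut (QuaternionGroup 2) ≃ {p // ValidPair p} where
  toFun τ := ⟨(τ (a 1), τ (xa 0)), by
    constructor
    · intro x y
      show autFun (τ (a 1)) (τ (xa 0)) (x * y) = _
      have h := hom_eq_autFun τ.toMonoidHom
      simp only [MulEquiv.coe_toMonoidHom] at h
      rw [← h, ← h, ← h, map_mul]
    · intro x y hxy
      have h := hom_eq_autFun τ.toMonoidHom
      simp only [MulEquiv.coe_toMonoidHom] at h
      have hxy' : autFun (τ (a 1)) (τ (xa 0)) x = autFun (τ (a 1)) (τ (xa 0)) y := hxy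
      rw [← h, ← h] at hxy'
      exact τ.injective hxy'⟩
  invFun p := MulEquiv.ofBijective (MonoidHom.mk' (autFun p.1.1 p.1.2) p.2.1)
    (Finite.injective_iff_bijective.mp p.2.2)
  left_inv := by
    intro τ
    ext x
    have h := hom_eq_autFun τ.toMonoidHom
    simp only [MulEquiv.coe_toMonoidHom] at h
    show autFun (τ (a 1)) (τ (xa 0)) x = τ x
    rw [← h]
  right_inv := by
    rintro ⟨⟨u, v⟩, hp⟩
    apply Subtype.ext
    show (autFun u v (a 1), autFun u v (xa 0)) = (u, v)
    rw [autFun_a_one, autFun_xa_zero]

/-- `|Aut(Q8)| = 24` -/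
theorem card_mulAut_quat8 : Nat.card (MulAut (QuaternionGroup 2)) = 24 := by
  rw [Nat.card_congr autEquivValidPair, Nat.card_eq_fintype_card, card_validPair]

/-- `|Aut(Q)| = 24` for any quaternion group of order `8` -/
theorem card_mulAut_of_mulEquiv {Q : Type*} [Group Q] (e : Q ≃* QuaternionGroup 2) :
    Nat.card (MulAut Q) = 24 := by
  rw [Nat.card_congr (MulAut.congr e).toEquiv, card_mulAut_quat8]

end Cfsg.Agent.Lib.Helper9.SLTwoThree
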