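import Mathlib
import Cfsg.Agent.Lib.Helper9.SimpleTools
import Cfsg.Agent.Lib.Helper11.Burnside

/-!
Automizers of abelian Sylow subgroups in simple groups (helper9): an automorphism of prime order
`t` of a finite group `A` has a proper fixed-point subgroup `F` with `|A| ≡ |F| (mod t)`.
-/

set_option autoImplicit false

namespace Cfsg.Agent.Lib.Helper9

open Subgroup

/-- Fixed points of a non-trivial automorphism of prime order `t`. -/
theorem exists_fixed_subgroup {A : Type*} [Group A] [Finite A] (φ : MulAut A) {t : ℕ}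
    [Fact t.Prime] (hφ : φ ^ t = 1) (hne : φ ≠ 1) :
    ∃ F : Subgroup A, F ≠ ⊤ ∧ Nat.card A ≡ Nat.card F [MOD t] := by
  let F : Subgroup A :=
    { carrier := {a | φ a = a}
      one_mem' := map_one φ
      mul_mem' := by
        intro a b ha hb
        show φ (a * b) = a * b
        rw [map_mul, ha, hb]
      inv_mem' := by
        intro a ha
        show φ a⁻¹ = a⁻¹
        rw [map_inv, ha] }
  refine ⟨F, ?_, ?_⟩
  · intro htop
    apply hne
    ext a
    have : a ∈ F := htop ▸ mem_top a
    exact this
  · have hP : IsPGroup t (zpowers φ) := by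
      apply IsPGroup.of_card (n := 1)
      rw [Nat.card_zpowers, pow_one]
      exact orderOf_eq_prime hφ hne
    have h := hP.card_modEq_card_fixedPoints A
    have hset : (MulAction.fixedPoints (zpowers φ) A) = (F : Set A) := by
      ext a
      constructor
      · intro ha
        exact ha ⟨φ, mem_zpowers φ⟩
      · intro ha g
        obtain ⟨g, hg⟩ := g
        obtain ⟨k, rfl⟩ := mem_zpowers_iff.mp hg
        show (φ ^ k) a = a
        have hfix : ∀ ψ : MulAut A, ψ a = a → ψ⁻¹ a = a := by
          intro ψ hψ
          calc ψ⁻¹ a = ψ⁻¹ (ψ a) := by rw [hψ]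
            _ = a := by simp
        have hpow : ∀ n : ℕ, (φ ^ n) a = a := by
          intro n
          induction n with
          | zero => simp
          | succ n ih => rw [pow_succ, MulAut.mul_apply, ha, ih]
        cases k with
        | ofNat n => simpa using hpow n
        | negSucc n =>
          rw [zpow_negSucc]
          exact hfix _ (hpow (n + 1))
    rw [hset] at h
    exact h

variable {G : Type*} [Group G] [Finite G]

/-- In a simple group, an abelian Sylow subgroup has a non-trivial automizer: there is a prime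
`t` dividing its index and a non-trivial automorphism of order `t`. -/
theorem exists_automizer_element [IsSimpleGroup G] {l : ℕ} [Fact l.Prime] (S : Sylow l G)
    (hc : IsMulCommutative S) (hl : l ∣ Nat.card G) (hnp : ∀ k : ℕ, Nat.card G ≠ l ^ k) :
    ∃ t : ℕ, t.Prime ∧ t ∣ (S : Subgroup G).index ∧ ∃ φ : MulAut S, φ ≠ 1 ∧ φ ^ t = 1 := by
  have hI : Nat.card (S : Subgroup G).normalizerMonoidHom.range ≠ 1 := by
    intro h1
    exact false_of_simple_of_normalizer_le_centralizer S hl hnp
      (Cfsg.Agent.Lib.Helper11.normalizer_le_centralizer_of_card_range_eq_one _ h1)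
  obtain ⟨t, ht, htd⟩ := Nat.exists_prime_and_dvd hI
  haveI := Fact.mk ht
  obtain ⟨x, hx⟩ := exists_prime_orderOf_dvd_card' (G := (S : Subgroup G).normalizerMonoidHom.range)
    t htd
  refine ⟨t, ht, htd.trans (Cfsg.Agent.Lib.Helper11.card_range_normalizerMonoidHom_dvd_index S hc),
    (x : MulAut S), ?_, ?_⟩
  · intro h1
    have : x = 1 := Subtype.ext h1
    rw [this, orderOf_one] at hx
    exact ht.one_lt.ne hx
  · have : x ^ t = 1 := by rw [← hx, pow_orderOf_eq_one]
    have := congrArg Subtype.val this
    simpa using this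

/-- Numerical consequence: a prime `t` dividing the index and a proper divisor `d` of `|S|` with
`|S| ≡ d (mod t)`. -/
theorem exists_prime_modEq [IsSimpleGroup G] {l : ℕ} [Fact l.Prime] (S : Sylow l G)
    (hc : IsMulCommutative S) (hl : l ∣ Nat.card G) (hnp : ∀ k : ℕ, Nat.card G ≠ l ^ k) :
    ∃ t : ℕ, t.Prime ∧ t ∣ (S : Subgroup G).index ∧ ∃ d : ℕ, d ∣ Nat.card S ∧ d ≠ Nat.card S ∧
      Nat.card S ≡ d [MOD t] := by
  obtain ⟨t, ht, htd, φ, hφ1, hφt⟩ := exists_automizer_element S hc hl hnp
  haveI := Fact.mk ht
  obtain ⟨F, hF, hmod⟩ := exists_fixed_subgroup φ hφt hφ1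
  refine ⟨t, ht, htd, Nat.card F, Subgroup.card_subgroup_dvd_card F, ?_, hmod⟩
  intro h
  exact hF (Subgroup.eq_top_of_card_eq F h)

end Cfsg.Agent.Lib.Helper9
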