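import Mathlib
import Cfsg.Prelude.Def_Sporadic_a

/-!
General lemmas on binary linear codes `C ≤ (ι → ZMod 2)`:
supports, weights, self-duality, and the orthogonal-array ("strength") property.
-/

set_option autoImplicit false

namespace Cfsg.Agent.Lib.Helper9

open Cfsg Finset Module

section words

variable {ι : Type*} [Fintype ι]

theorem zmod2_eq_one {a : ZMod 2} (h : a ≠ 0) : a = 1 := by
  revert a; decide

theorem hammingNorm_eq_card_support₂ (w : ι → ZMod 2) : hammingNorm w = (support₂ w).card := rfl

theorem mem_support₂ {w : ι → ZMod 2} {i : ι} : i ∈ support₂ w ↔ w i ≠ 0 := by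
  simp [support₂]

theorem mem_support₂' {w : ι → ZMod 2} {i : ι} : i ∈ support₂ w ↔ w i = 1 := by
  rw [mem_support₂]
  constructor
  · exact zmod2_eq_one
  · intro h; rw [h]; decide

theorem support₂_injective : Function.Injective (support₂ : (ι → ZMod 2) → Finset ι) := by
  intro v w h
  funext i
  have hi : i ∈ support₂ v ↔ i ∈ support₂ w := by rw [h]
  rw [mem_support₂, mem_support₂] at hi
  by_cases hv : v i = 0
  · have : w i = 0 := by
      by_contra hw
      exact (hi.mpr hw) hv
    rw [hv, this]
  · rw [zmod2_eq_one hv, zmod2_eq_one (hi.mp hv)]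

theorem support₂_eq_empty {w : ι → ZMod 2} : support₂ w = ∅ ↔ w = 0 := by
  constructor
  · intro h
    funext i
    by_contra hi
    have : i ∈ support₂ w := mem_support₂.mpr hi
    rw [h] at this
    exact absurd this (notMem_empty _)
  · rintro rfl
    ext i
    simp [support₂]

theorem support₂_zero : support₂ (0 : ι → ZMod 2) = ∅ := support₂_eq_empty.mpr rfl

variable [DecidableEq ι]

/-- The indicator word of a finite set. -/
def indicator₂ (S : Finset ι) : ι → ZMod 2 := fun i => if i ∈ S then 1 else 0

theorem support₂_indicator₂ (S : Finset ι) : support₂ (indicator₂ S) = S := by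
  ext i
  rw [mem_support₂]
  unfold indicator₂
  by_cases h : i ∈ S <;> simp [h]

theorem indicator₂_support₂ (w : ι → ZMod 2) : indicator₂ (support₂ w) = w := by
  apply support₂_injective
  rw [support₂_indicator₂]

theorem support₂_add (a b : ι → ZMod 2) : support₂ (a + b) = symmDiff (support₂ a) (support₂ b) := by
  ext i
  simp only [mem_symmDiff, mem_support₂, Pi.add_apply, not_not]
  have h : ∀ x y : ZMod 2, x + y ≠ 0 ↔ (x ≠ 0 ∧ y = 0) ∨ (y ≠ 0 ∧ x = 0) := by decide
  exact h (a i) (b i)

omit [Fintype ι] in
theorem card_symmDiff_add_two_mul (s t : Finset ι) :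
    (symmDiff s t).card + 2 * (s ∩ t).card = s.card + t.card := by
  have h1 : (symmDiff s t).card = (s \ t).card + (t \ s).card := by
    rw [symmDiff_def, Finset.sup_eq_union, Finset.card_union_of_disjoint]
    exact disjoint_sdiff_sdiff
  have h2 := Finset.card_sdiff_add_card_inter s t
  have h3 := Finset.card_sdiff_add_card_inter t s
  rw [Finset.inter_comm] at h3
  omega

theorem hammingNorm_add (a b : ι → ZMod 2) :
    hammingNorm (a + b) + 2 * (support₂ a ∩ support₂ b).card = hammingNorm a + hammingNorm b := by
  rw [hammingNorm_eq_card_support₂, hammingNorm_eq_card_support₂, hammingNorm_eq_card_support₂,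
    support₂_add]
  exact card_symmDiff_add_two_mul _ _

omit [Fintype ι] [DecidableEq ι] in
theorem sub_eq_add₂ (a b : ι → ZMod 2) : a - b = a + b := by
  funext i
  have h : ∀ x y : ZMod 2, x - y = x + y := by decide
  exact h (a i) (b i)

omit [Fintype ι] [DecidableEq ι] in
theorem add_self₂ (a : ι → ZMod 2) : a + a = 0 := by
  funext i
  have h : ∀ x : ZMod 2, x + x = 0 := by decide
  exact h (a i)

theorem dot_eq_card_inter (a b : ι → ZMod 2) :
    ∑ i, a i * b i = ((support₂ a ∩ support₂ b).card : ZMod 2) := by
  have : ∀ i, a i * b i = if i ∈ support₂ a ∩ support₂ b then 1 else 0 := by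
    intro i
    simp only [Finset.mem_inter, mem_support₂]
    by_cases h1 : a i = 0
    · simp [h1]
    · by_cases h2 : b i = 0
      · simp [h2]
      · rw [zmod2_eq_one h1, zmod2_eq_one h2]
        simp
  simp_rw [this]
  rw [Finset.sum_boole]
  congr 2
  ext i
  simp

theorem dot_eq_zero_iff (a b : ι → ZMod 2) :
    ∑ i, a i * b i = 0 ↔ 2 ∣ (support₂ a ∩ support₂ b).card := by
  rw [dot_eq_card_inter]
  exact ZMod.natCast_eq_zero_iff _ 2

omit [DecidableEq ι] in
theorem support₂_one : support₂ (1 : ι → ZMod 2) = univ := by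
  ext i
  simp [mem_support₂]

theorem card_filter_hammingNorm_eq (j : ℕ) :
    (univ.filter (fun w : ι → ZMod 2 => hammingNorm w = j)).card = (Fintype.card ι).choose j := by
  rw [← card_univ (α := ι), ← card_powersetCard]
  apply Finset.card_bij (fun w _ => support₂ w)
  · intro w hw
    rw [mem_filter] at hw
    rw [mem_powersetCard]
    exact ⟨subset_univ _, hw.2⟩
  · intro a _ b _ h
    exact support₂_injective h
  · intro S hS
    rw [mem_powersetCard] at hS
    refine ⟨indicator₂ S, ?_, support₂_indicator₂ S⟩
    rw [mem_filter, hammingNorm_eq_card_support₂, support₂_indicator₂]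
    exact ⟨mem_univ _, hS.2⟩

end words

section selfdual

variable {ι : Type*} [Fintype ι] [DecidableEq ι]

/-- A self-orthogonal binary code of dimension half the length is self-dual. -/
theorem mem_of_forall_dot_eq_zero (C : Submodule (ZMod 2) (ι → ZMod 2))
    (hdim : 2 * finrank (ZMod 2) C = Fintype.card ι)
    (horth : ∀ v ∈ C, ∀ w ∈ C, ∑ i, v i * w i = 0)
    (u : ι → ZMod 2) (hu : ∀ w ∈ C, ∑ i, w i * u i = 0) : u ∈ C := by
  set B : LinearMap.BilinForm (ZMod 2) (ι → ZMod 2) := Matrix.toBilin' 1 with hB
  have hBapp : ∀ v w, B v w = ∑ i, v i * w i := by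
    intro v w
    rw [hB, Matrix.toBilin'_apply', Matrix.one_mulVec]
    rfl
  have hnd : B.Nondegenerate :=
    Matrix.Nondegenerate.toBilin' (Matrix.nondegenerate_of_det_ne_zero (by simp))
  have hle : C ≤ B.orthogonal C := by
    intro v hv
    rw [LinearMap.BilinForm.mem_orthogonal_iff]
    intro n hn
    rw [hBapp]
    exact horth n hn v hv
  have hfin := LinearMap.BilinForm.finrank_orthogonal hnd C
  rw [Module.finrank_fintype_fun_eq_card] at hfin
  have heq : C = B.orthogonal C := Submodule.eq_of_le_of_finrank_eq hle (by omega)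
  rw [heq, LinearMap.BilinForm.mem_orthogonal_iff]
  intro n hn
  rw [hBapp]
  exact hu n hn

/-- Restriction of words to a set of coordinates, on a code. -/
noncomputable def restrictTo (C : Submodule (ZMod 2) (ι → ZMod 2)) (S : Finset ι) :
    C →ₗ[ZMod 2] (S → ZMod 2) :=
  (LinearMap.funLeft (ZMod 2) (ZMod 2) (Subtype.val : S → ι)).comp C.subtype

omit [Fintype ι] [DecidableEq ι] in
theorem restrictTo_apply (C : Submodule (ZMod 2) (ι → ZMod 2)) (S : Finset ι) (w : C) (s : S) :
    restrictTo C S w s = (w : ι → ZMod 2) s := rfl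

/-- Orthogonal array property: if the dual code (here `C` itself) has minimum weight `≥ d`,
then restriction to fewer than `d` coordinates is onto. -/
theorem restrictTo_surjective (C : Submodule (ZMod 2) (ι → ZMod 2))
    (hself : ∀ u : ι → ZMod 2, (∀ w ∈ C, ∑ i, w i * u i = 0) → u ∈ C) (d : ℕ)
    (hmin : ∀ w ∈ C, w ≠ 0 → d ≤ hammingNorm w) (S : Finset ι) (hS : S.card < d) :
    Function.Surjective (restrictTo C S) := by
  rw [← LinearMap.range_eq_top]
  by_contra hne
  obtain ⟨f, hf0, hf⟩ := Submodule.exists_le_ker_of_lt_top _ (lt_top_iff_ne_top.mpr hne)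
  set u : ι → ZMod 2 := fun i => if h : i ∈ S then f (fun j => if (⟨i, h⟩ : S) = j then 1 else 0)
    else 0 with hu
  have hexp : ∀ x : S → ZMod 2, f x = ∑ s : S, x s * u s := by
    intro x
    rw [LinearMap.pi_apply_eq_sum_univ f x]
    apply Finset.sum_congr rfl
    intro s _
    rw [smul_eq_mul, hu]
    simp only [s.2, dif_pos]
  have hsum : ∀ w : ι → ZMod 2, ∑ i, w i * u i = ∑ s : S, w s * u s := by
    intro w
    rw [Finset.sum_coe_sort S (fun i => w i * u i)]
    symm
    apply Finset.sum_subset (subset_univ _)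
    intro i _ hi
    rw [hu]
    simp only [hi, dif_neg, not_false_eq_true, mul_zero]
  have huC : u ∈ C := by
    apply hself
    intro w hw
    have h1 := hexp (restrictTo C S ⟨w, hw⟩)
    simp only [restrictTo_apply] at h1
    rw [hsum, ← h1]
    have : restrictTo C S ⟨w, hw⟩ ∈ LinearMap.range (restrictTo C S) := LinearMap.mem_range_self _ _
    exact LinearMap.mem_ker.mp (hf this)
  have hu0 : u ≠ 0 := by
    intro h0
    apply hf0
    refine LinearMap.ext fun x => ?_
    rw [hexp]
    simp [h0]
  have hwt : hammingNorm u ≤ S.card := by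
    rw [hammingNorm_eq_card_support₂]
    apply Finset.card_le_card
    intro i hi
    rw [mem_support₂] at hi
    by_contra hiS
    apply hi
    rw [hu]
    simp only [hiS, dif_neg, not_false_eq_true]
  have := hmin u huC hu0
  omega

/-- Uniform fibres of the restriction map. -/
theorem card_fiber_restrictTo (C : Submodule (ZMod 2) (ι → ZMod 2)) [Fintype C]
    (hself : ∀ u : ι → ZMod 2, (∀ w ∈ C, ∑ i, w i * u i = 0) → u ∈ C) (d : ℕ)
    (hmin : ∀ w ∈ C, w ≠ 0 → d ≤ hammingNorm w) (S : Finset ι) (hS : S.card < d)
    (a : S → ZMod 2) :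
    (univ.filter (fun w : C => restrictTo C S w = a)).card * 2 ^ S.card = Fintype.card C := by
  classical
  have hsurj := restrictTo_surjective C hself d hmin S hS
  have hfib : ∀ b : S → ZMod 2, (univ.filter (fun w : C => restrictTo C S w = b)).card
      = (univ.filter (fun w : C => restrictTo C S w = a)).card := by
    intro b
    exact AddMonoidHom.card_fiber_eq_of_mem_range (restrictTo C S) (hsurj b) (hsurj a)
  have h := Finset.card_eq_sum_card_fiberwise (f := restrictTo C S) (s := (univ : Finset C))
    (t := (univ : Finset (S → ZMod 2))) (fun _ _ => by simp)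
  rw [Finset.sum_congr rfl (fun b _ => hfib b), Finset.sum_const, card_univ, card_univ,
    smul_eq_mul] at h
  rw [h, mul_comm]
  congr 1
  simp [ZMod.card]

end selfdual

end Cfsg.Agent.Lib.Helper9
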