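import Cfsg.Agent.Lib.Helper9.BinaryCode

/-!
Coset leaders of a binary code of length 24, dimension 12 and minimum weight at least 8:
every coset contains either a unique word of weight at most 4 (and it has weight at most 3),
or exactly six words of weight at most 4, of weight exactly 4 with pairwise disjoint supports.
-/

set_option autoImplicit false

namespace Cfsg.Agent.Lib.Helper9

open Cfsg Finset Module

section count

variable {ι : Type*} [Fintype ι] [DecidableEq ι]

theorem card_filter_hammingNorm_le (n : ℕ) :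
    (univ.filter (fun w : ι → ZMod 2 => hammingNorm w ≤ n)).card
      = ∑ j ∈ range (n + 1), (Fintype.card ι).choose j := by
  have h := Finset.card_eq_sum_card_fiberwise (f := fun w : ι → ZMod 2 => hammingNorm w)
    (s := univ.filter (fun w : ι → ZMod 2 => hammingNorm w ≤ n)) (t := range (n + 1))
    (fun w hw => by
      simp only [coe_filter, mem_univ, true_and, Set.mem_setOf_eq] at hw
      simp only [coe_range, Set.mem_Iio]
      omega)
  rw [h]
  apply sum_congr rfl
  intro j hj
  rw [mem_range] at hj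
  rw [← card_filter_hammingNorm_eq j]
  congr 1
  ext w
  simp only [mem_filter, mem_univ, true_and]
  constructor
  · rintro ⟨_, h2⟩; exact h2
  · intro h2; exact ⟨by omega, h2⟩

end count

section leaders

variable (C : Submodule (ZMod 2) (Fin 24 → ZMod 2))

/-- Two distinct words of weight at most 4 in the same coset have weight 4 and disjoint supports. -/
theorem leaders_disjoint (hmin : ∀ w ∈ C, w ≠ 0 → 8 ≤ hammingNorm w)
    {u u' : Fin 24 → ZMod 2} (hu : hammingNorm u ≤ 4) (hu' : hammingNorm u' ≤ 4)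
    (hne : u ≠ u') (hmem : u - u' ∈ C) :
    hammingNorm u = 4 ∧ hammingNorm u' = 4 ∧ Disjoint (support₂ u) (support₂ u') := by
  have hadd := hammingNorm_add u u'
  rw [sub_eq_add₂] at hmem
  have hne0 : u + u' ≠ 0 := by
    intro h0
    apply hne
    have h1 : u + u' + u' = u' := by rw [h0, zero_add]
    rw [add_assoc, add_self₂, add_zero] at h1
    exact h1
  have h8 := hmin _ hmem hne0
  refine ⟨by omega, by omega, ?_⟩
  rw [disjoint_iff_inter_eq_empty, ← card_eq_zero]
  omega

theorem card_quotient (hdim : Module.finrank (ZMod 2) C = 12) :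
    Nat.card ((Fin 24 → ZMod 2) ⧸ C) = 4096 := by
  classical
  haveI : Fintype C := Fintype.ofFinite C
  have h := Submodule.card_eq_card_quotient_mul_card C
  have h1 : Nat.card (Fin 24 → ZMod 2) = 2 ^ 24 := by
    rw [Nat.card_eq_fintype_card, Fintype.card_fun, ZMod.card, Fintype.card_fin]
  have h2 : Nat.card C = 2 ^ 12 := by
    rw [Nat.card_eq_fintype_card, card_eq_pow_finrank (K := ZMod 2) (V := C), hdim, ZMod.card]
  rw [h1, h2] at h
  have : (2 : ℕ) ^ 24 = 2 ^ 12 * 4096 := by norm_num
  rw [this] at h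
  exact (Nat.eq_of_mul_eq_mul_left (by norm_num) h).symm

/-- The coset leader theorem. -/
theorem coset_leaders (hdim : Module.finrank (ZMod 2) C = 12)
    (hmin : ∀ w ∈ C, w ≠ 0 → 8 ≤ hammingNorm w) (w : Fin 24 → ZMod 2) :
    (∃ u : Fin 24 → ZMod 2,
        {u : Fin 24 → ZMod 2 | u - w ∈ C ∧ hammingNorm u ≤ 4} = {u} ∧ hammingNorm u ≤ 3) ∨
      ({u : Fin 24 → ZMod 2 | u - w ∈ C ∧ hammingNorm u ≤ 4}.ncard = 6 ∧
        ∀ u ∈ {u : Fin 24 → ZMod 2 | u - w ∈ C ∧ hammingNorm u ≤ 4},
          hammingNorm u = 4 ∧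
            ∀ u' ∈ {u : Fin 24 → ZMod 2 | u - w ∈ C ∧ hammingNorm u ≤ 4},
              u ≠ u' → Disjoint (support₂ u) (support₂ u')) := by
  classical
  haveI : Fintype ((Fin 24 → ZMod 2) ⧸ C) := Fintype.ofFinite _
  set q : (Fin 24 → ZMod 2) → (Fin 24 → ZMod 2) ⧸ C := Submodule.Quotient.mk with hq
  have hqeq : ∀ u u' : Fin 24 → ZMod 2, q u = q u' ↔ u - u' ∈ C := fun u u' =>
    Submodule.Quotient.eq C
  set L : Finset (Fin 24 → ZMod 2) := univ.filter (fun u => hammingNorm u ≤ 4) with hL
  set L3 : Finset (Fin 24 → ZMod 2) := univ.filter (fun u => hammingNorm u ≤ 3) with hL3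
  have hLcard : L.card = 12951 := by
    rw [hL, card_filter_hammingNorm_le, Fintype.card_fin]
    decide
  have hL3card : L3.card = 2325 := by
    rw [hL3, card_filter_hammingNorm_le, Fintype.card_fin]
    decide
  have hQcard : (univ : Finset ((Fin 24 → ZMod 2) ⧸ C)).card = 4096 := by
    rw [card_univ, ← Nat.card_eq_fintype_card]
    exact card_quotient C hdim
  set F : (Fin 24 → ZMod 2) ⧸ C → Finset (Fin 24 → ZMod 2) := fun c => L.filter (fun u => q u = c)
    with hF
  have hmemF : ∀ c u, u ∈ F c ↔ hammingNorm u ≤ 4 ∧ q u = c := by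
    intro c u
    simp only [hF, hL, mem_filter, mem_univ, true_and]
  -- key disjointness inside a fibre
  have hK : ∀ c, ∀ u ∈ F c, ∀ u' ∈ F c, u ≠ u' →
      hammingNorm u = 4 ∧ hammingNorm u' = 4 ∧ Disjoint (support₂ u) (support₂ u') := by
    intro c u hu u' hu' hne
    rw [hmemF] at hu hu'
    exact leaders_disjoint C hmin hu.1 hu'.1 hne ((hqeq u u').mp (hu.2.trans hu'.2.symm))
  set T : Finset ((Fin 24 → ZMod 2) ⧸ C) := L3.image q with hT
  have hTcard : T.card = 2325 := by
    rw [hT, card_image_of_injOn, hL3card]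
    intro u hu u' hu' hqq
    by_contra hne
    simp only [hL3, coe_filter, mem_univ, true_and, Set.mem_setOf_eq] at hu hu'
    have := leaders_disjoint C hmin (by omega) (by omega) hne ((hqeq u u').mp hqq)
    omega
  -- fibre size bounds
  have hT1 : ∀ c ∈ T, (F c).card ≤ 1 := by
    intro c hc
    rw [hT, mem_image] at hc
    obtain ⟨u0, hu0, rfl⟩ := hc
    simp only [hL3, mem_filter, mem_univ, true_and] at hu0
    have hu0F : u0 ∈ F (q u0) := (hmemF _ _).mpr ⟨by omega, rfl⟩
    rw [card_le_one]
    intro a ha b hb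
    by_contra hab
    by_cases ha0 : a = u0
    · have := hK _ a ha b hb hab
      rw [ha0] at this
      omega
    · have := hK _ a ha u0 hu0F ha0
      omega
  have hT6 : ∀ c, (F c).card ≤ 6 := by
    intro c
    by_cases h1 : (F c).card ≤ 1
    · omega
    · have hall : ∀ u ∈ F c, (support₂ u).card = 4 := by
        intro u hu
        rw [not_le, one_lt_card] at h1
        obtain ⟨a, ha, b, hb, hab⟩ := h1
        by_cases hua : u = a
        · rw [hua]; exact (hK c a ha b hb hab).1
        · exact (hK c u hu a ha hua).1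
      have hdisj : (F c : Set (Fin 24 → ZMod 2)).PairwiseDisjoint support₂ := by
        intro a ha b hb hab
        exact (hK c a ha b hb hab).2.2
      have hcard := Finset.card_biUnion hdisj
      rw [sum_congr rfl hall, sum_const, smul_eq_mul] at hcard
      have hle : ((F c).biUnion support₂).card ≤ 24 := by
        have := card_le_univ ((F c).biUnion support₂)
        simpa using this
      omega
  -- counting
  have hsumF : ∑ c, (F c).card = 12951 := by
    rw [← hLcard]
    exact (Finset.card_eq_sum_card_fiberwise (f := q) (s := L) (t := univ)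
      (fun _ _ => by simp)).symm
  have hle : ∀ c ∈ (univ : Finset ((Fin 24 → ZMod 2) ⧸ C)),
      (F c).card ≤ (if c ∈ T then 1 else 6) := by
    intro c _
    by_cases hc : c ∈ T
    · rw [if_pos hc]; exact hT1 c hc
    · rw [if_neg hc]; exact hT6 c
  have hsumH : ∑ c : (Fin 24 → ZMod 2) ⧸ C, (if c ∈ T then 1 else 6) = 12951 := by
    rw [Finset.sum_ite, sum_const, sum_const, smul_eq_mul, smul_eq_mul]
    have h1 : (univ.filter (fun c => c ∈ T)).card = 2325 := by
      have : univ.filter (fun c => c ∈ T) = T := by ext c; simp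
      rw [this, hTcard]
    have h2 : (univ.filter (fun c => c ∉ T)).card = 1771 := by
      have := Finset.card_filter_add_card_filter_not (s := (univ : Finset ((Fin 24 → ZMod 2) ⧸ C)))
        (fun c => c ∈ T)
      rw [h1, hQcard] at this
      omega
    rw [h1, h2]
  have heq := (Finset.sum_eq_sum_iff_of_le hle).mp (hsumF.trans hsumH.symm)
  -- conclusion
  have hset : {u : Fin 24 → ZMod 2 | u - w ∈ C ∧ hammingNorm u ≤ 4} = ↑(F (q w)) := by
    ext u
    rw [Set.mem_ofPred_eq, mem_coe, hmemF, hqeq]
    exact and_comm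
  suffices hgoal : ∀ S : Set (Fin 24 → ZMod 2), S = ↑(F (q w)) →
      ((∃ u : Fin 24 → ZMod 2, S = {u} ∧ hammingNorm u ≤ 3) ∨
      (S.ncard = 6 ∧ ∀ u ∈ S, hammingNorm u = 4 ∧
            ∀ u' ∈ S, u ≠ u' → Disjoint (support₂ u) (support₂ u'))) from hgoal _ hset
  intro S hS
  subst hS
  have hw := heq (q w) (mem_univ _)
  by_cases hc : q w ∈ T
  · left
    rw [if_pos hc, card_eq_one] at hw
    obtain ⟨u, hu⟩ := hw
    refine ⟨u, by rw [hu, coe_singleton], ?_⟩
    rw [hT, mem_image] at hc
    obtain ⟨u0, hu0, hqu0⟩ := hc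
    simp only [hL3, mem_filter, mem_univ, true_and] at hu0
    have hu0F : u0 ∈ F (q w) := (hmemF _ _).mpr ⟨by omega, hqu0⟩
    rw [hu, mem_singleton] at hu0F
    rw [← hu0F]
    exact hu0
  · right
    rw [if_neg hc] at hw
    refine ⟨by rw [Set.ncard_coe_finset, hw], ?_⟩
    intro u hu
    rw [mem_coe] at hu
    have h1 : ¬ (F (q w)).card ≤ 1 := by omega
    rw [not_le, one_lt_card] at h1
    obtain ⟨a, ha, b, hb, hab⟩ := h1
    refine ⟨?_, ?_⟩
    · by_cases hua : u = a
      · rw [hua]; exact (hK _ a ha b hb hab).1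
      · exact (hK _ u hu a ha hua).1
    · intro u' hu' hne
      rw [mem_coe] at hu'
      exact (hK _ u hu u' hu' hne).2.2

end leaders

end Cfsg.Agent.Lib.Helper9
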