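import Mathlib
import Cfsg.Agent.Lib.Lead.QuatIso
import Cfsg.Agent.Lib.Helper9.QuatSylow

/-!
Subgroups of dihedral-like `2`-groups (dihedral, semidihedral, generalized quaternion) admitting
a nontrivial automorphism of odd order have order `4` or are quaternion of order `8` (helper9).
-/

set_option autoImplicit false

namespace Cfsg.Agent.Lib.Helper9.QuatSylow

/-- A group with a cyclic subgroup `A` of index `2` all of whose outside elements square to `1`
or to a fixed involution `z`, and invert the elements of order dividing `4` of `A`. -/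
structure DihedralLike {T : Type*} [Group T] (A : Subgroup T) (z : T) : Prop where
  cyc : IsCyclic A
  index_two : A.index = 2
  sq_out : ∀ u, u ∉ A → u ^ 2 = 1 ∨ u ^ 2 = z
  z_mem : z ∈ A
  z_sq : z ^ 2 = 1
  inv_out : ∀ u, u ∉ A → ∀ b ∈ A, b ^ 4 = 1 → u * b * u⁻¹ = b⁻¹

/-- **Main lemma**, dihedral-like version. -/
theorem card_four_or_quat8 {T : Type*} [Group T] {A : Subgroup T} {z : T}
    (hT : DihedralLike A z) {m : ℕ} (hTcard : Nat.card T = 2 ^ m)
    {Q : Type*} [Group Q] (ι : Q →* T) (hι : Function.Injective ι) (σ : MulAut Q) {k : ℕ}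
    (hk : Odd k) (hσk : σ ^ k = 1) (hσ : σ ≠ 1) :
    Nat.card Q = 4 ∨ Nonempty (Q ≃* QuaternionGroup 2) := by
  classical
  have hTfin : Finite T := Nat.finite_of_card_ne_zero (by rw [hTcard]; positivity)
  have : Finite Q := Finite.of_injective ι hι
  have hAcyc : IsCyclic A := hT.cyc
  -- `Q` is a `2`-group
  obtain ⟨f, hf⟩ : ∃ f, Nat.card Q = 2 ^ f := by
    have h1 : Nat.card Q ∣ Nat.card T := Subgroup.card_dvd_of_injective ι hι
    rw [hTcard] at h1
    obtain ⟨f, -, hf⟩ := (Nat.dvd_prime_pow Nat.prime_two).mp h1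
    exact ⟨f, hf⟩
  obtain ⟨B, hBdef⟩ : ∃ B : Subgroup Q, B = A.comap ι := ⟨_, rfl⟩
  have hmemB : ∀ q : Q, q ∈ B ↔ ι q ∈ A := by
    intro q; rw [hBdef]; exact Iff.rfl
  have hBcyc : IsCyclic B := by
    let fB : B →* A := (ι.comp B.subtype).codRestrict A (fun b => (hmemB b).mp b.2)
    refine isCyclic_of_injective fB ?_
    intro b₁ b₂ h
    have h1 : ι (b₁ : Q) = ι (b₂ : Q) := congrArg Subtype.val h
    exact Subtype.ext (hι h1)
  obtain ⟨e, hBcard⟩ : ∃ e, Nat.card B = 2 ^ e := by
    have h1 : Nat.card B ∣ Nat.card Q := Subgroup.card_subgroup_dvd_card B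
    rw [hf] at h1
    obtain ⟨e, -, he⟩ := (Nat.dvd_prime_pow Nat.prime_two).mp h1
    exact ⟨e, he⟩
  by_cases hall : ∀ q : Q, q ∈ B
  · exfalso
    have hQcyc : IsCyclic Q := by
      let fQ : Q →* A := ι.codRestrict A (fun q => (hmemB q).mp (hall q))
      refine isCyclic_of_injective fQ ?_
      intro q₁ q₂ h
      have h1 : ι q₁ = ι q₂ := congrArg Subtype.val h
      exact hι h1
    exact hσ (eq_one_of_cyclic hf σ hk hσk)
  · simp only [not_forall] at hall
    obtain ⟨u, hu⟩ := hall
    have hquot : ∀ q q' : Q, q ∉ B → q' ∉ B → q⁻¹ * q' ∈ B := by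
      intro q q' hq hq'
      rw [hmemB] at hq hq' ⊢
      rw [map_mul, map_inv, Subgroup.mul_mem_iff_of_index_two hT.index_two, inv_mem_iff]
      exact ⟨fun h => absurd h hq, fun h => absurd h hq'⟩
    have hindex : B.index = 2 := by
      rw [Subgroup.index_eq_two_iff]
      refine ⟨u, fun b => ?_⟩
      have h1 : b * u ∈ B ↔ ¬ b ∈ B := by
        rw [hmemB, hmemB, map_mul, Subgroup.mul_mem_iff_of_index_two hT.index_two]
        constructor
        · intro h hb
          exact hu ((hmemB u).mpr (h.mp hb))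
        · intro hb
          exact ⟨fun h => absurd h hb, fun h => absurd ((hmemB u).mpr h) hu⟩
      by_cases hb : b ∈ B
      · right; exact ⟨hb, fun h => (h1.mp h) hb⟩
      · left; exact ⟨h1.mpr hb, hb⟩
    have hfour : ∀ q : Q, q ∉ B → q ^ 4 = 1 := by
      intro q hq
      apply hι
      rw [map_pow, map_one]
      have h4 : (ι q) ^ 4 = ((ι q) ^ 2) ^ 2 := by rw [← pow_mul]
      rw [h4]
      rcases hT.sq_out (ι q) (fun h => hq ((hmemB q).mpr h)) with h | h
      · rw [h, one_pow]
      · rw [h, hT.z_sq]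
    have hQB : Nat.card Q = 2 * 2 ^ e := by
      rw [← hBcard, ← hindex, mul_comm, Subgroup.card_mul_index]
    -- a generator of `B`
    obtain ⟨b₀, hb₀⟩ := IsCyclic.exists_generator (α := B)
    have hb₀ord : orderOf (b₀ : Q) = 2 ^ e := by
      rw [Subgroup.orderOf_coe, orderOf_eq_card_of_forall_mem_zpowers hb₀, hBcard]
    have hBpow : ∀ b ∈ B, ∃ j : ℤ, (b₀ : Q) ^ j = b := by
      intro b hb
      obtain ⟨j, hj⟩ := Subgroup.mem_zpowers_iff.mp (hb₀ ⟨b, hb⟩)
      refine ⟨j, ?_⟩
      have := congrArg Subtype.val hj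
      rwa [Subgroup.coe_zpow] at this
    -- if `B` is invariant then `σ` is trivial
    have hinv_contra : σ (b₀ : Q) ∈ B → False := by
      intro hσb₀
      have hinvσ : ∀ b ∈ B, σ b ∈ B := by
        intro b hb
        obtain ⟨j, rfl⟩ := hBpow b hb
        rw [map_zpow]
        exact B.zpow_mem hσb₀ j
      have hfix := fixes_of_cyclic_invariant σ hk hσk B hBcard hinvσ
      apply hσ
      ext q
      rw [MulAut.one_apply]
      by_cases hq : q ∈ B
      · exact hfix q hq
      · have hσq : σ q ∉ B := by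
          intro hcon
          have h1 := hfix _ hcon
          have h2 := σ.injective h1
          rw [h2] at hcon
          exact hq hcon
        have hc : q⁻¹ * σ q ∈ B := hquot q (σ q) hq hσq
        have hcpow : (q⁻¹ * σ q) ^ (2 ^ e) = 1 := by
          have := pow_card_eq_one' (G := B) (x := ⟨_, hc⟩)
          rw [hBcard] at this
          have h2 := congrArg Subtype.val this
          rwa [Subgroup.coe_pow] at h2
        exact fixed_of_stable σ hk hσk (by group) (hfix _ hc) hcpow
    by_cases he3 : 3 ≤ e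
    · exfalso
      apply hinv_contra
      by_contra hcon
      have h1 : orderOf (σ (b₀ : Q)) ∣ 4 := orderOf_dvd_of_pow_eq_one (hfour _ hcon)
      rw [MulEquiv.orderOf_eq, hb₀ord] at h1
      have h2 : 2 ^ 3 ≤ 2 ^ e := Nat.pow_le_pow_right (by norm_num) he3
      have h3 := Nat.le_of_dvd (by norm_num) h1
      omega
    · have he : e < 3 := not_le.mp he3
      interval_cases e
      · -- `|Q| = 2`
        exfalso
        have hQ2 : Nat.card Q = 2 ^ 1 := by rw [hQB]; norm_num
        have : Fact (Nat.Prime 2) := ⟨Nat.prime_two⟩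
        have hQcyc : IsCyclic Q := isCyclic_of_prime_card (p := 2) (by rw [hQ2]; norm_num)
        exact hσ (eq_one_of_cyclic hQ2 σ hk hσk)
      · left
        rw [hQB]; norm_num
      · right
        have hQ8 : Nat.card Q = 4 * 2 := by rw [hQB]; norm_num
        have hb₀4 : orderOf (b₀ : Q) = 2 * 2 := by rw [hb₀ord]; norm_num
        have hb₀sq : (b₀ : Q) ^ 2 ≠ 1 := by
          apply pow_ne_one_of_lt_orderOf (by norm_num)
          rw [hb₀4]; norm_num
        have hb₀4' : (b₀ : Q) ^ 4 = 1 := by
          have := pow_orderOf_eq_one (b₀ : Q)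
          rwa [hb₀4] at this
        have hσb : σ (b₀ : Q) ∉ B := fun h => hinv_contra h
        obtain ⟨v, hv⟩ : ∃ v : Q, v = σ (b₀ : Q) := ⟨_, rfl⟩
        rw [← hv] at hσb
        have hvord : orderOf v = 4 := by rw [hv, MulEquiv.orderOf_eq, hb₀4]
        have hvsq : v ^ 2 ≠ 1 := by
          apply pow_ne_one_of_lt_orderOf (by norm_num)
          rw [hvord]; norm_num
        have hιv : ι v ∉ A := fun h => hσb ((hmemB v).mpr h)
        have hιvsq : ι (v ^ 2) = z := by
          rw [map_pow]
          rcases hT.sq_out (ι v) hιv with h | h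
          · exfalso
            apply hvsq
            apply hι
            rw [map_pow, h, map_one]
          · exact h
        have hwB : v ^ 2 ∈ B := by rw [hmemB, hιvsq]; exact hT.z_mem
        have hw2 : (v ^ 2) ^ 2 = 1 := by
          apply hι
          rw [map_pow, hιvsq, hT.z_sq, map_one]
        have hzb : v ^ 2 = (b₀ : Q) ^ 2 := by
          have hzmem : v ^ 2 ∈ Subgroup.zpowers (b₀ : Q) := by
            obtain ⟨j, hj⟩ := hBpow _ hwB
            exact Subgroup.mem_zpowers_iff.mpr ⟨j, hj⟩
          rw [mem_zpowers_iff_mem_range_orderOf, hb₀4] at hzmem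
          obtain ⟨j, hj, hjz⟩ := Finset.mem_image.mp hzmem
          rw [Finset.mem_range] at hj
          have hjz' : (b₀ : Q) ^ j = v ^ 2 := hjz
          interval_cases j
          · exfalso; rw [pow_zero] at hjz'; exact hvsq hjz'.symm
          · exfalso
            rw [pow_one] at hjz'
            rw [hjz'] at hb₀sq
            exact hb₀sq hw2
          · exact hjz'.symm
          · exfalso
            apply hb₀sq
            have h6 : ((b₀ : Q) ^ 3) ^ 2 = (b₀ : Q) ^ 4 * (b₀ : Q) ^ 2 := by
              rw [← pow_mul, ← pow_add]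
            rw [hjz', hw2, hb₀4', one_mul] at h6
            exact h6.symm
        have hinvb : v * (b₀ : Q) * v⁻¹ = (b₀ : Q)⁻¹ := by
          apply hι
          rw [map_mul, map_mul, map_inv, map_inv]
          apply hT.inv_out _ hιv _ ((hmemB _).mp b₀.2)
          rw [← map_pow, hb₀4', map_one]
        have hub : v ∉ Subgroup.zpowers (b₀ : Q) := by
          intro hcon
          exact hσb ((Subgroup.zpowers_le.mpr b₀.2) hcon)
        exact Cfsg.Agent.Lib.Lead.QuatIso.nonempty_mulEquiv_quaternionGroup hb₀4 hzb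
          hinvb hub hQ8

end Cfsg.Agent.Lib.Helper9.QuatSylow
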