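import Cfsg.Agent.Lib.Helper9.DihedralLike
import Cfsg.Prelude.Def_CaseTheorems

/-!
Dihedral and quasi-dihedral groups are dihedral-like (helper9).
-/

set_option autoImplicit false

namespace Cfsg.Agent.Lib.Helper9.QuatSylow

open DihedralGroup

/-- the rotation subgroup of `DihedralGroup n` -/
def rotD (n : ℕ) : Subgroup (DihedralGroup n) where
  carrier := {p | ∃ i, p = r i}
  mul_mem' := by
    rintro _ _ ⟨i, rfl⟩ ⟨j, rfl⟩
    exact ⟨i + j, r_mul_r i j⟩
  one_mem' := ⟨0, DihedralGroup.one_def⟩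
  inv_mem' := by
    rintro _ ⟨i, rfl⟩
    exact ⟨-i, rfl⟩

theorem r_mem_rotD {n : ℕ} (i : ZMod n) : (r i : DihedralGroup n) ∈ rotD n := ⟨i, rfl⟩

theorem sr_not_mem_rotD {n : ℕ} (i : ZMod n) : (sr i : DihedralGroup n) ∉ rotD n := by
  rintro ⟨j, hj⟩
  cases hj

theorem dihedralLike_dihedralGroup (n : ℕ) : DihedralLike (rotD n) (1 : DihedralGroup n) where
  cyc := by
    refine ⟨⟨⟨r 1, r_mem_rotD 1⟩, ?_⟩⟩
    rintro ⟨p, i, rfl⟩
    refine ⟨(i.cast : ℤ), ?_⟩
    apply Subtype.ext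
    show ((⟨r 1, r_mem_rotD 1⟩ : rotD n) ^ (i.cast : ℤ) : rotD n).1 = r i
    rw [Subgroup.coe_zpow, r_one_zpow, ZMod.intCast_cast, ZMod.cast_id', id]
  index_two := by
    rw [Subgroup.index_eq_two_iff]
    refine ⟨sr 0, fun b => ?_⟩
    cases b with
    | r i =>
      right
      refine ⟨r_mem_rotD i, ?_⟩
      rw [r_mul_sr]
      exact sr_not_mem_rotD _
    | sr i =>
      left
      refine ⟨?_, sr_not_mem_rotD i⟩
      rw [sr_mul_sr]
      exact r_mem_rotD _
  sq_out := by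
    intro u hu
    left
    cases u with
    | r i => exact absurd (r_mem_rotD i) hu
    | sr i => rw [pow_two, sr_mul_self]
  z_mem := one_mem _
  z_sq := one_pow 2
  inv_out := by
    intro u hu b hb _
    obtain ⟨i, rfl⟩ := hb
    cases u with
    | r j => exact absurd (r_mem_rotD j) hu
    | sr j =>
      rw [inv_sr, sr_mul_r, sr_mul_sr, inv_r]
      congr 1
      ring

/-- quasi-dihedral groups are dihedral-like -/
theorem exists_dihedralLike_of_isQuasiDihedral {T : Type*} [Group T]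
    (hT : Cfsg.IsQuasiDihedral T) :
    ∃ (A : Subgroup T) (z : T) (m : ℕ), DihedralLike A z ∧ Nat.card T = 2 ^ m ∧ 4 ≤ m := by
  obtain ⟨n, hn, hcard, x, y, hx, hy, hyx⟩ := hT
  have hTfin : Finite T := Nat.finite_of_card_ne_zero (by rw [hcard]; positivity)
  obtain ⟨N, hN⟩ : ∃ N : ℕ, N = 2 ^ (n - 1) := ⟨_, rfl⟩
  have hN2 : 2 ^ n = 2 * N := by
    rw [hN, ← pow_succ']
    congr 1; omega
  have hN4 : 4 ∣ N := by
    rw [hN]
    have : (4 : ℕ) = 2 ^ 2 := by norm_num
    rw [this]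
    exact pow_dvd_pow 2 (by omega)
  have hNpos : 4 ≤ N := Nat.le_of_dvd (by rw [hN]; positivity) hN4
  rw [← hN] at hyx
  refine ⟨Subgroup.zpowers x, x ^ N, n + 1, ?_, hcard, by omega⟩
  have hAcard : Nat.card (Subgroup.zpowers x) = 2 ^ n := by rw [Nat.card_zpowers, hx]
  have hindex : (Subgroup.zpowers x).index = 2 := by
    have h1 := Subgroup.card_mul_index (Subgroup.zpowers x)
    rw [hAcard, hcard, pow_succ] at h1
    exact Nat.eq_of_mul_eq_mul_left (by positivity) h1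
  have hxN2 : x ^ (2 * N) = 1 := by rw [← hN2, ← hx]; exact pow_orderOf_eq_one x
  have hzsq : (x ^ N) ^ 2 = 1 := by rw [← pow_mul, mul_comm]; exact hxN2
  have hyA : y ∉ Subgroup.zpowers x := by
    intro hmem
    obtain ⟨j, hj⟩ := Subgroup.mem_zpowers_iff.mp hmem
    have hcomm : y * x * y⁻¹ = x := by rw [← hj]; group
    rw [hcomm] at hyx
    have h1 : x ^ (N - 2) = 1 := by
      have h2 : x ^ (N - 1) = x ^ (N - 2) * x := by
        rw [← pow_succ]; congr 1; omega
      rw [h2] at hyx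
      calc x ^ (N - 2) = x ^ (N - 2) * x * x⁻¹ := by group
        _ = x * x⁻¹ := by rw [← hyx]
        _ = 1 := mul_inv_cancel x
    have h3 := orderOf_dvd_of_pow_eq_one h1
    rw [hx, hN2] at h3
    have h4 := Nat.le_of_dvd (by omega) h3
    omega
  have hconj : ∀ b ∈ Subgroup.zpowers x, y * b * y⁻¹ = b ^ (N - 1) := by
    intro b hb
    obtain ⟨j, rfl⟩ := Subgroup.mem_zpowers_iff.mp hb
    have h1 : y * x ^ j * y⁻¹ = (y * x * y⁻¹) ^ j := by
      have := map_zpow (MulAut.conj y) x j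
      simpa [MulAut.conj_apply] using this
    rw [h1, hyx, ← zpow_natCast, ← zpow_natCast, ← zpow_mul, ← zpow_mul, mul_comm]
  have hdecomp : ∀ u, u ∉ Subgroup.zpowers x → ∃ a ∈ Subgroup.zpowers x, u = a * y := by
    intro u hu
    refine ⟨u * y⁻¹, ?_, by group⟩
    rw [Subgroup.mul_mem_iff_of_index_two hindex, inv_mem_iff]
    exact ⟨fun h => absurd h hu, fun h => absurd h hyA⟩
  have hconj' : ∀ u, u ∉ Subgroup.zpowers x → ∀ b ∈ Subgroup.zpowers x,
      u * b * u⁻¹ = b ^ (N - 1) := by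
    intro u hu b hb
    obtain ⟨a, ha, rfl⟩ := hdecomp u hu
    have h1 : a * y * b * (a * y)⁻¹ = a * (y * b * y⁻¹) * a⁻¹ := by group
    rw [h1, hconj b hb]
    obtain ⟨i, rfl⟩ := Subgroup.mem_zpowers_iff.mp ha
    obtain ⟨j, rfl⟩ := Subgroup.mem_zpowers_iff.mp hb
    rw [← zpow_natCast, ← zpow_mul, ← zpow_add, ← zpow_neg, ← zpow_add]
    congr 1
    ring
  refine ⟨Subgroup.isCyclic_zpowers x, hindex, ?_, Subgroup.pow_mem _ (Subgroup.mem_zpowers x) N,
    hzsq, ?_⟩
  · intro u hu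
    obtain ⟨a, ha, rfl⟩ := hdecomp u hu
    have hy2 : y ^ 2 = 1 := by rw [← hy]; exact pow_orderOf_eq_one y
    have hyinv : y⁻¹ = y := by
      rw [inv_eq_iff_mul_eq_one, ← pow_two, hy2]
    have h1 : (a * y) ^ 2 = a * (y * a * y⁻¹) := by
      rw [pow_two, hyinv]
      have : a * y * (a * y) = a * (y * a * y) := by group
      rw [this]
    rw [h1, hconj a ha]
    have h2 : a * a ^ (N - 1) = a ^ N := by
      rw [← pow_succ']; congr 1; omega
    rw [h2]
    obtain ⟨j, rfl⟩ := Subgroup.mem_zpowers_iff.mp ha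
    have h3 : (x ^ j) ^ N = (x ^ N) ^ j := by
      rw [← zpow_natCast, ← zpow_mul, ← zpow_natCast, ← zpow_mul, mul_comm]
    rw [h3]
    rcases Int.even_or_odd j with ⟨c, hc⟩ | ⟨c, hc⟩
    · left
      rw [hc, ← two_mul, zpow_mul, zpow_ofNat, hzsq, one_zpow]
    · right
      rw [hc, zpow_add, zpow_mul, zpow_ofNat, hzsq, one_zpow, one_mul, zpow_one]
  · intro u hu b hb hb4
    rw [hconj' u hu b hb]
    have hbN : b ^ N = 1 := by
      obtain ⟨c, hc⟩ := hN4
      rw [hc, pow_mul, hb4, one_pow]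
    have h1 : b ^ (N - 1) * b = 1 := by
      rw [← pow_succ]
      have : N - 1 + 1 = N := by omega
      rw [this, hbN]
    exact eq_inv_of_mul_eq_one_left h1

end Cfsg.Agent.Lib.Helper9.QuatSylow
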