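import Mathlib
import Cfsg.Agent.Lib.Lead.UniqueSubgroup
import Cfsg.Agent.Lib.Helper3.QuatSylow
import Cfsg.Agent.Lib.Helper14.PGroupMisc

/-!
If all subgroups of order `p ^ 2` of a finite `p`-group are simultaneously cyclic or non-cyclic,
then the group has a unique subgroup of order `p` or has exponent `p`.
-/

set_option autoImplicit false

namespace Cfsg.Agent.Lib.Helper9

open Subgroup
open Cfsg.Agent.Lib.Lead.UniqueOrderP

/-- a central element of order `p` in a nontrivial finite `p`-group. -/
theorem exists_central_orderOf_eq_prime {P : Type*} [Group P] [Finite P] [Nontrivial P] {p : ℕ}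
    [hp : Fact p.Prime] (hP : IsPGroup p P) : ∃ z : P, z ∈ center P ∧ orderOf z = p := by
  haveI := hP.center_nontrivial
  have hZp : IsPGroup p (center P) := hP.to_subgroup _
  have hdvd : p ∣ Nat.card (center P) := by
    rcases hZp.card_eq_or_dvd with h | h
    · exfalso
      have : Subsingleton (center P) := (Nat.card_eq_one_iff_unique.mp h).1
      exact not_subsingleton (center P) this
    · exact h
  obtain ⟨z, hz⟩ := exists_prime_orderOf_dvd_card' p hdvd
  exact ⟨z, z.2, by rw [← hz, Subgroup.orderOf_coe]⟩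

theorem uniqueOrderP_or_exponent {P : Type*} [Group P] [Finite P] {p : ℕ} [hp : Fact p.Prime]
    (hP : IsPGroup p P)
    (hiso : ∀ H K : Subgroup P, Nat.card H = p ^ 2 → Nat.card K = p ^ 2 →
      (IsCyclic H ↔ IsCyclic K)) :
    UniqueOrderP p P ∨ ∀ x : P, x ^ p = 1 := by
  by_cases hex : ∀ x : P, x ^ p = 1
  · exact Or.inr hex
  left
  push Not at hex
  obtain ⟨x, hx⟩ := hex
  obtain ⟨k, hk⟩ := IsPGroup.iff_orderOf.mp hP x
  have hk2 : 2 ≤ k := by
    by_contra h
    push Not at h
    apply hx
    have : orderOf x ∣ p := by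
      rw [hk]
      interval_cases k
      · simp
      · simp
    exact orderOf_dvd_iff_pow_eq_one.mp this
  -- a cyclic subgroup of order p^2
  have hcyc : ∀ K : Subgroup P, Nat.card K = p ^ 2 → IsCyclic K := by
    intro K hK
    set y := x ^ p ^ (k - 2) with hy
    have hy2 : orderOf y = p ^ 2 := by
      rw [hy, orderOf_pow_of_dvd (pow_pos hp.out.pos _).ne', hk, Nat.pow_div (by omega) hp.out.pos]
      · congr 1; omega
      · rw [hk]; exact pow_dvd_pow p (by omega)
    have h1 : Nat.card (zpowers y) = p ^ 2 := by rw [Nat.card_zpowers, hy2]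
    exact (hiso (zpowers y) K h1 hK).mp inferInstance
  haveI : Nontrivial P := by
    rw [← not_subsingleton_iff_nontrivial]
    intro hs
    apply hx
    exact Subsingleton.elim _ _
  obtain ⟨z, hzc, hzo⟩ := exists_central_orderOf_eq_prime hP
  set Z0 := zpowers z with hZ0
  have hZ0card : Nat.card Z0 = p := by rw [hZ0, Nat.card_zpowers, hzo]
  haveI hZ0n : Z0.Normal := by
    refine ⟨fun n hn g => ?_⟩
    have hnc : n ∈ center P := by
      rw [hZ0] at hn
      obtain ⟨i, rfl⟩ := mem_zpowers_iff.mp hn
      exact (center P).zpow_mem hzc i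
    have : g * n * g⁻¹ = n := by
      rw [mem_center_iff.mp hnc g]; group
    rw [this]; exact hn
  have key : ∀ H : Subgroup P, Nat.card H = p → H = Z0 := by
    intro H hH
    by_contra hne
    have hinf : H ⊓ Z0 = ⊥ := by
      by_contra hb
      have hd : Nat.card (H ⊓ Z0 : Subgroup P) ∣ p := by
        rw [← hH]; exact Subgroup.card_dvd_of_le inf_le_left
      rcases (Nat.dvd_prime hp.out).mp hd with h1 | h1
      · exact hb (Subgroup.card_eq_one.mp h1)
      · apply hne
        have e1 : H ⊓ Z0 = H := by
          apply Subgroup.eq_of_le_of_card_ge inf_le_left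
          rw [h1, hH]
        have e2 : H ⊓ Z0 = Z0 := by
          apply Subgroup.eq_of_le_of_card_ge inf_le_right
          rw [h1, hZ0card]
        rw [← e1, e2]
    have hcard := Cfsg.Agent.Lib.Helper14.card_sup_of_inf_eq_bot H Z0 hinf
    rw [hH, hZ0card, ← sq] at hcard
    have hc := hcyc _ hcard
    have h1 := Cfsg.Agent.Lib.Helper3.le_of_card_dvd_of_le_isCyclic (H ⊔ Z0) H Z0 hc le_sup_left
      le_sup_right (by rw [hH, hZ0card])
    have h2 := Cfsg.Agent.Lib.Helper3.le_of_card_dvd_of_le_isCyclic (H ⊔ Z0) Z0 H hc le_sup_right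
      le_sup_left (by rw [hH, hZ0card])
    exact hne (le_antisymm h1 h2)
  intro H K hH hK
  rw [key H hH, key K hK]

end Cfsg.Agent.Lib.Helper9

namespace Cfsg.Agent.Lib.Helper9

open Subgroup
open Cfsg.Agent.Lib.Lead.UniqueOrderP

/-- Sylow version: if subgroups of order `p ^ 2` of `G` are pairwise conjugate, then a Sylow
`p`-subgroup has a unique subgroup of order `p` or has exponent `p`. -/
theorem sylow_uniqueOrderP_or_exponent {G : Type*} [Group G] [Finite G] {p : ℕ} [hp : Fact p.Prime]
    (P : Sylow p G)
    (hconj : ∀ A B : Subgroup G, Nat.card A = p ^ 2 → Nat.card B = p ^ 2 →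
      ∃ g : G, B = A.map (MulAut.conj g).toMonoidHom) :
    UniqueOrderP p ↥(P : Subgroup G) ∨ ∀ x ∈ (P : Subgroup G), x ^ p = 1 := by
  have hiso : ∀ H K : Subgroup ↥(P : Subgroup G), Nat.card H = p ^ 2 → Nat.card K = p ^ 2 →
      (IsCyclic H ↔ IsCyclic K) := by
    intro H K hH hK
    have hinj : Function.Injective (P : Subgroup G).subtype := Subgroup.subtype_injective _
    have h1 : Nat.card (H.map (P : Subgroup G).subtype) = p ^ 2 := by
      rw [Subgroup.card_map_of_injective hinj, hH]
    have h2 : Nat.card (K.map (P : Subgroup G).subtype) = p ^ 2 := by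
      rw [Subgroup.card_map_of_injective hinj, hK]
    obtain ⟨g, hg⟩ := hconj _ _ h1 h2
    have e1 : H ≃* H.map (P : Subgroup G).subtype := Subgroup.equivMapOfInjective H _ hinj
    have e2 : K ≃* K.map (P : Subgroup G).subtype := Subgroup.equivMapOfInjective K _ hinj
    have hinj2 : Function.Injective (MulAut.conj g).toMonoidHom := (MulAut.conj g).injective
    have e3 : H.map (P : Subgroup G).subtype ≃*
        (H.map (P : Subgroup G).subtype).map (MulAut.conj g).toMonoidHom :=
      Subgroup.equivMapOfInjective _ _ hinj2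
    have e4 : K.map (P : Subgroup G).subtype ≃*
        (H.map (P : Subgroup G).subtype).map (MulAut.conj g).toMonoidHom :=
      MulEquiv.subgroupCongr hg
    exact ((e1.trans e3).trans (e4.symm.trans e2.symm)).isCyclic
  rcases uniqueOrderP_or_exponent P.2 hiso with h | h
  · exact Or.inl h
  · right
    intro x hx
    have := h ⟨x, hx⟩
    exact congrArg Subtype.val this

end Cfsg.Agent.Lib.Helper9
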