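import Mathlib
import Cfsg.Agent.Lib.Helper9.OrderPSq
import Cfsg.Agent.Lib.Helper20.Cores
import Cfsg.Agent.Lib.Helper20.Signalizer

/-!
Small subgroups of `p`-groups of exponent `p`: a non-abelian subgroup of order `p ^ 3` and (if the
order is at least `p ^ 4`) an abelian subgroup of order `p ^ 3`.
-/

set_option autoImplicit false

namespace Cfsg.Agent.Lib.Helper9

open Subgroup

theorem zpowers_normal_of_mem_center {M : Type*} [Group M] {z : M} (hz : z ∈ center M) :
    (zpowers z).Normal := by
  refine ⟨fun n hn g => ?_⟩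
  have hnc : n ∈ center M := by
    obtain ⟨i, rfl⟩ := mem_zpowers_iff.mp hn
    exact (center M).zpow_mem hz i
  have : g * n * g⁻¹ = n := by
    rw [mem_center_iff.mp hnc g]; group
  rw [this]; exact hn

theorem card_zpowers_dvd_of_pow_eq_one {M : Type*} [Group M] {x : M} {n : ℕ} (h : x ^ n = 1) :
    Nat.card (zpowers x) ∣ n := by
  rw [Nat.card_zpowers]
  exact orderOf_dvd_of_pow_eq_one h

/-- `⟨u, y⟩` has order dividing `p ^ 3` when `[u, y]` is central and `u, y, [u, y]` have order
dividing `p`. -/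
theorem card_closure_pair_dvd {M : Type*} [Group M] [Finite M] {p : ℕ} {u y : M}
    (hc : u * y * u⁻¹ * y⁻¹ ∈ center M) (hu : u ^ p = 1) (hy : y ^ p = 1)
    (hcp : (u * y * u⁻¹ * y⁻¹) ^ p = 1) :
    Nat.card (closure ({u, y} : Set M)) ∣ p ^ 3 := by
  set c := u * y * u⁻¹ * y⁻¹ with hcdef
  haveI : (zpowers c).Normal := zpowers_normal_of_mem_center hc
  set K := zpowers u ⊔ zpowers c with hK
  have hKcard : Nat.card K ∣ p * p := by
    have h1 := Cfsg.Agent.Lib.Helper20.card_sup_dvd_mul (zpowers u) (zpowers c)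
    exact h1.trans (Nat.mul_dvd_mul (card_zpowers_dvd_of_pow_eq_one hu)
      (card_zpowers_dvd_of_pow_eq_one hcp))
  have hyN : y ∈ normalizer (K : Set M) := by
    apply mem_normalizer_fintype
    intro k hk
    have hmap : K.map (MulAut.conj y).toMonoidHom ≤ K := by
      rw [hK, Subgroup.map_sup, MonoidHom.map_zpowers, MonoidHom.map_zpowers]
      apply sup_le
      · rw [zpowers_le]
        have : (MulAut.conj y).toMonoidHom u = c⁻¹ * u := by
          show y * u * y⁻¹ = c⁻¹ * u
          rw [hcdef]; group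
        rw [this]
        exact K.mul_mem (K.inv_mem (le_sup_right (a := zpowers u) (mem_zpowers c)))
          (le_sup_left (b := zpowers c) (mem_zpowers u))
      · rw [zpowers_le]
        have : (MulAut.conj y).toMonoidHom c = c := by
          show y * c * y⁻¹ = c
          rw [mem_center_iff.mp hc y]; group
        rw [this]
        exact le_sup_right (a := zpowers u) (mem_zpowers c)
    exact hmap ⟨k, hk, rfl⟩
  have hL := Cfsg.Agent.Lib.Helper20.card_sup_dvd_of_le_normalizer K (zpowers y)
    (zpowers_le.mpr hyN)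
  have hle : closure ({u, y} : Set M) ≤ K ⊔ zpowers y := by
    rw [closure_le]
    intro t ht
    rcases ht with rfl | rfl
    · exact le_sup_left (b := zpowers y) (le_sup_left (b := zpowers c) (mem_zpowers t))
    · exact le_sup_right (a := K) (mem_zpowers t)
  have h3 : Nat.card (K ⊔ zpowers y : Subgroup M) ∣ p ^ 3 := by
    refine hL.trans ?_
    have : p ^ 3 = (p * p) * p := by ring
    rw [this]
    exact Nat.mul_dvd_mul hKcard (card_zpowers_dvd_of_pow_eq_one hy)
  exact (Subgroup.card_dvd_of_le hle).trans h3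

/-- an element of the second center outside the center, in a non-abelian finite `p`-group. -/
theorem exists_second_center_element {P : Type*} [Group P] [Finite P] {p : ℕ} [hp : Fact p.Prime]
    (hP : IsPGroup p P) (hna : ∃ x : P, x ∉ center P) :
    ∃ u : P, u ∉ center P ∧ ∀ g : P, u * g * u⁻¹ * g⁻¹ ∈ center P := by
  obtain ⟨x, hxZ⟩ := hna
  haveI : Nontrivial (P ⧸ center P) := by
    rw [← not_subsingleton_iff_nontrivial]
    intro hs
    apply hxZ
    rw [← QuotientGroup.eq_one_iff]
    exact Subsingleton.elim _ _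
  have hPQ : IsPGroup p (P ⧸ center P) := hP.to_quotient _
  haveI := hPQ.center_nontrivial
  obtain ⟨⟨ubar, hubar⟩, hne⟩ := exists_ne (1 : center (P ⧸ center P))
  obtain ⟨u, rfl⟩ := QuotientGroup.mk_surjective ubar
  refine ⟨u, ?_, ?_⟩
  · intro h
    apply hne
    ext
    exact (QuotientGroup.eq_one_iff u).mpr h
  · intro g
    rw [← QuotientGroup.eq_one_iff]
    rw [mem_center_iff] at hubar
    have := hubar (g : P ⧸ center P)
    simp only [QuotientGroup.mk_mul, QuotientGroup.mk_inv]
    rw [← this]; group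

/-- A non-abelian finite `p`-group of exponent `p` has a non-abelian subgroup of order `p ^ 3`. -/
theorem exists_nonabelian_subgroup_card_cube {P : Type*} [Group P] [Finite P] {p : ℕ}
    [hp : Fact p.Prime] (hP : IsPGroup p P) (hexp : ∀ x : P, x ^ p = 1)
    (hna : ¬ ∀ x y : P, x * y = y * x) :
    ∃ T : Subgroup P, Nat.card T = p ^ 3 ∧ ¬ ∀ x ∈ T, ∀ y ∈ T, x * y = y * x := by
  have hna' : ∃ x : P, x ∉ center P := by
    by_contra h
    push Not at h
    apply hna
    intro x y
    exact (mem_center_iff.mp (h y) x)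
  obtain ⟨u, huZ, hu⟩ := exists_second_center_element hP hna'
  have hy : ∃ y : P, u * y ≠ y * u := by
    by_contra h
    push Not at h
    apply huZ
    rw [mem_center_iff]
    intro g
    exact (h g).symm
  obtain ⟨y, hy⟩ := hy
  set T := closure ({u, y} : Set P) with hT
  have huT : u ∈ T := subset_closure (by simp)
  have hyT : y ∈ T := subset_closure (by simp)
  have hnc : ¬ ∀ x ∈ T, ∀ y ∈ T, x * y = y * x := fun h => hy (h u huT y hyT)
  refine ⟨T, ?_, hnc⟩
  have hdvd := card_closure_pair_dvd (p := p) (hu y) (hexp u) (hexp y) (hexp _)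
  obtain ⟨t, ht3, ht⟩ := (Nat.dvd_prime_pow hp.out).mp hdvd
  rcases Nat.lt_or_ge t 3 with h | h
  · exfalso
    apply hnc
    have hcomm := Cfsg.Agent.Lib.Lead.UniqueSubgroup.comm_of_card_le_sq (K := T) (p := p)
      (n := t) (by omega) ht
    intro a ha b hb
    exact congrArg Subtype.val (hcomm ⟨a, ha⟩ ⟨b, hb⟩)
  · have : t = 3 := le_antisymm ht3 h
    rw [ht, this]

/-- A finite `p`-group of exponent `p` and order at least `p ^ 4` has an abelian subgroup of order
`p ^ 3`. -/
theorem exists_abelian_subgroup_card_cube {P : Type*} [Group P] [Finite P] {p : ℕ}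
    [hp : Fact p.Prime] (hP : IsPGroup p P) (hexp : ∀ x : P, x ^ p = 1) {m : ℕ} (hm : 4 ≤ m)
    (hcard : Nat.card P = p ^ m) :
    ∃ A : Subgroup P, Nat.card A = p ^ 3 ∧ ∀ x ∈ A, ∀ y ∈ A, x * y = y * x := by
  have hp1 := hp.out.one_lt
  haveI : Nontrivial P := by
    rw [← Finite.one_lt_card_iff_nontrivial, hcard]
    exact Nat.one_lt_pow (by omega) hp1
  obtain ⟨z, hzc, hzo⟩ := exists_central_orderOf_eq_prime hP
  set Z1 := zpowers z with hZ1
  haveI hZ1n : Z1.Normal := zpowers_normal_of_mem_center hzc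
  have hZ1card : Nat.card Z1 = p := by rw [hZ1, Nat.card_zpowers, hzo]
  have hZ1le : Z1 ≤ center P := zpowers_le.mpr hzc
  -- the quotient
  have hQcard : Nat.card (P ⧸ Z1) = p ^ (m - 1) := by
    have h1 := Subgroup.card_mul_index Z1
    rw [hZ1card, hcard, Subgroup.index_eq_card] at h1
    have : p ^ m = p * p ^ (m - 1) := by
      rw [← pow_succ']; congr 1; omega
    rw [this] at h1
    exact Nat.eq_of_mul_eq_mul_left hp.out.pos h1
  haveI : Nontrivial (P ⧸ Z1) := by
    rw [← Finite.one_lt_card_iff_nontrivial, hQcard]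
    exact Nat.one_lt_pow (by omega) hp1
  have hPQ : IsPGroup p (P ⧸ Z1) := hP.to_quotient _
  obtain ⟨wbar, hwc, hwo⟩ := exists_central_orderOf_eq_prime hPQ
  obtain ⟨w, rfl⟩ := QuotientGroup.mk_surjective wbar
  have hwZ1 : w ∉ Z1 := by
    intro h
    rw [(QuotientGroup.eq_one_iff w).mpr h, orderOf_one] at hwo
    exact hp.out.one_lt.ne hwo
  have hwcomm : ∀ g : P, w * g * w⁻¹ * g⁻¹ ∈ Z1 := by
    intro g
    rw [← QuotientGroup.eq_one_iff]
    have := mem_center_iff.mp hwc (g : P ⧸ Z1)
    simp only [QuotientGroup.mk_mul, QuotientGroup.mk_inv]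
    rw [← this]; group
  -- the homomorphism `g ↦ [w, g]` into `Z1`
  let f : P →* ↥Z1 := MonoidHom.mk' (fun g => ⟨w * g * w⁻¹ * g⁻¹, hwcomm g⟩) (by
    intro g h
    ext
    simp only [Subgroup.coe_mul]
    have hc := mem_center_iff.mp (hZ1le (hwcomm h)) g⁻¹
    calc w * (g * h) * w⁻¹ * (g * h)⁻¹
        = w * g * w⁻¹ * ((w * h * w⁻¹ * h⁻¹) * g⁻¹) := by group
      _ = w * g * w⁻¹ * (g⁻¹ * (w * h * w⁻¹ * h⁻¹)) := by rw [← hc]
      _ = _ := by group)
  have hf : ∀ g, (f g : P) = w * g * w⁻¹ * g⁻¹ := fun g => rfl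
  have hker : f.ker = centralizer ({w} : Set P) := by
    ext g
    rw [MonoidHom.mem_ker, mem_centralizer_singleton_iff, Subtype.ext_iff, hf, OneMemClass.coe_one,
      mul_inv_eq_one, mul_inv_eq_iff_eq_mul, eq_comm]
  set C := centralizer ({w} : Set P) with hC
  have hCidx : C.index ∣ p := by
    rw [← hker, Subgroup.index_ker, ← hZ1card]
    exact Subgroup.card_subgroup_dvd_card _
  have hCcard : p ^ 3 ≤ Nat.card C := by
    have h1 := Subgroup.card_mul_index C
    rw [hcard] at h1
    have h2 : C.index ≤ p := Nat.le_of_dvd hp.out.pos hCidx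
    have h3 : p ^ m = p ^ 3 * p ^ (m - 3) := by rw [← pow_add]; congr 1; omega
    have h4 : p ≤ p ^ (m - 3) := by
      calc p = p ^ 1 := (pow_one p).symm
        _ ≤ p ^ (m - 3) := Nat.pow_le_pow_right hp.out.pos (by omega)
    by_contra hlt
    push Not at hlt
    have : Nat.card C * C.index < p ^ 3 * p ^ (m - 3) := by
      calc Nat.card C * C.index ≤ Nat.card C * p := Nat.mul_le_mul_left _ h2
        _ < p ^ 3 * p := Nat.mul_lt_mul_of_pos_right hlt hp.out.pos
        _ ≤ p ^ 3 * p ^ (m - 3) := Nat.mul_le_mul_left _ h4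
    rw [h1, h3] at this
    exact lt_irrefl _ this
  -- N = ⟨z, w⟩
  set N := Z1 ⊔ zpowers w with hN
  have hzC : z ∈ C := by
    rw [hC, mem_centralizer_singleton_iff]
    exact (mem_center_iff.mp hzc w).symm
  have hwC : w ∈ C := by
    rw [hC, mem_centralizer_singleton_iff]
  have hNC : N ≤ C := sup_le (zpowers_le.mpr hzC) (zpowers_le.mpr hwC)
  have hNcard_dvd : Nat.card N ∣ p * p := by
    have h1 := Cfsg.Agent.Lib.Helper20.card_sup_dvd_mul (zpowers w) Z1
    rw [sup_comm] at h1
    refine h1.trans ?_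
    rw [hZ1card]
    exact Nat.mul_dvd_mul_right (card_zpowers_dvd_of_pow_eq_one (hexp w)) p
  have hNcard : Nat.card N = p ^ 2 := by
    rw [← sq] at hNcard_dvd
    obtain ⟨t, ht2, ht⟩ := (Nat.dvd_prime_pow hp.out).mp hNcard_dvd
    rcases Nat.lt_or_ge t 2 with h | h
    · exfalso
      apply hwZ1
      have hle : Z1 ≤ N := le_sup_left
      have heq : Z1 = N := by
        apply Subgroup.eq_of_le_of_card_ge hle
        rw [ht, hZ1card]
        calc p ^ t ≤ p ^ 1 := Nat.pow_le_pow_right hp.out.pos (by omega)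
          _ = p := pow_one p
      rw [heq]
      exact le_sup_right (a := Z1) (mem_zpowers w)
    · rw [ht, le_antisymm ht2 h]
  obtain ⟨x, hxC, hxN⟩ : ∃ x, x ∈ C ∧ x ∉ N := by
    by_contra h
    push Not at h
    have hCN : C ≤ N := fun x hx => h x hx
    have := Subgroup.card_le_of_le hCN
    rw [hNcard] at this
    have h5 : p ^ 2 < p ^ 3 := Nat.pow_lt_pow_right hp1 (by omega)
    omega
  have hxw : x * w = w * x := by
    rw [hC, mem_centralizer_singleton_iff] at hxC
    exact hxC
  have hxz : x * z = z * x := (mem_center_iff.mp hzc x)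
  set A := N ⊔ zpowers x with hA
  have hNx : N ≤ centralizer ({x} : Set P) := by
    apply sup_le
    · rw [zpowers_le, mem_centralizer_singleton_iff]; exact hxz.symm
    · rw [zpowers_le, mem_centralizer_singleton_iff]; exact hxw.symm
  have hxnorm : x ∈ normalizer (N : Set P) := by
    apply mem_normalizer_fintype
    intro n hn
    have := hNx hn
    rw [mem_centralizer_singleton_iff] at this
    have e : x * n * x⁻¹ = n := by rw [← this]; group
    rw [e]; exact hn
  have hAdvd : Nat.card A ∣ p ^ 3 := by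
    have h1 := Cfsg.Agent.Lib.Helper20.card_sup_dvd_of_le_normalizer N (zpowers x)
      (zpowers_le.mpr hxnorm)
    refine h1.trans ?_
    rw [hNcard]
    have : p ^ 3 = p ^ 2 * p := by ring
    rw [this]
    exact Nat.mul_dvd_mul_left _ (card_zpowers_dvd_of_pow_eq_one (hexp x))
  have hAcard : Nat.card A = p ^ 3 := by
    obtain ⟨t, ht3, ht⟩ := (Nat.dvd_prime_pow hp.out).mp hAdvd
    rcases Nat.lt_or_ge t 3 with h | h
    · exfalso
      apply hxN
      have hle : N ≤ A := le_sup_left
      have heq : N = A := by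
        apply Subgroup.eq_of_le_of_card_ge hle
        rw [ht, hNcard]
        exact Nat.pow_le_pow_right hp.out.pos (by omega)
      rw [heq]
      exact le_sup_right (a := N) (mem_zpowers x)
    · rw [ht, le_antisymm ht3 h]
  refine ⟨A, hAcard, ?_⟩
  have hAle : A ≤ closure ({z, w, x} : Set P) := by
    apply sup_le
    · apply sup_le
      · exact zpowers_le.mpr (subset_closure (by simp))
      · exact zpowers_le.mpr (subset_closure (by simp))
    · exact zpowers_le.mpr (subset_closure (by simp))
  have hcl := Cfsg.Agent.Lib.Lead.UniqueOrderP.closure_comm_of_comm ({z, w, x} : Set P) (by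
    intro s hs t ht
    have hzall : ∀ g : P, g * z = z * g := fun g => mem_center_iff.mp hzc g
    rcases hs with rfl | rfl | rfl <;> rcases ht with rfl | rfl | rfl
    all_goals first | rfl | exact hzall _ | exact (hzall _).symm | exact hxw | exact hxw.symm)
  intro a ha b hb
  exact hcl a (hAle ha) b (hAle hb)

end Cfsg.Agent.Lib.Helper9
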