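import Mathlib
import Cfsg.Agent.Lib.Helper3.QuatSylow

/-!
In a generalized quaternion group of order at least 16 there are an abelian and a non-abelian
subgroup of index 2.
-/

set_option autoImplicit false

namespace Cfsg.Agent.Lib.Helper9

open QuaternionGroup

/-- parity character of `ZMod 2`. -/
def sgn2 (t : ZMod 2) : ℤˣ := if t = 0 then 1 else -1

theorem sgn2_add : ∀ s t : ZMod 2, sgn2 (s + t) = sgn2 s * sgn2 t := by decide

theorem sgn2_sub : ∀ s t : ZMod 2, sgn2 (s - t) = sgn2 s * sgn2 t := by decide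

/-- the parity of an element of `ZMod (2 * k)`. -/
def par (k : ℕ) (i : ZMod (2 * k)) : ZMod 2 := ZMod.castHom (dvd_mul_right 2 k) (ZMod 2) i

theorem par_add (k : ℕ) (i j : ZMod (2 * k)) : par k (i + j) = par k i + par k j := map_add _ _ _

theorem par_sub (k : ℕ) (i j : ZMod (2 * k)) : par k (i - j) = par k i - par k j := map_sub _ _ _

theorem par_natCast_self {k : ℕ} (hk : Even k) : par k (k : ZMod (2 * k)) = 0 := by
  unfold par
  rw [map_natCast]
  exact (ZMod.natCast_eq_zero_iff_even).mpr hk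

/-- The second sign homomorphism of the quaternion group (for even `k`):
`a i ↦ (-1)^i`, `xa i ↦ (-1)^i`. -/
def quatSign2 (k : ℕ) (hk : Even k) : QuaternionGroup k →* ℤˣ :=
  MonoidHom.mk' (fun g => match g with | .a i => sgn2 (par k i) | .xa i => sgn2 (par k i)) (by
    rintro (i | i) (j | j)
    · show sgn2 (par k (i + j)) = _
      rw [par_add, sgn2_add]
    · show sgn2 (par k (j - i)) = sgn2 (par k i) * sgn2 (par k j)
      rw [par_sub, sgn2_sub, mul_comm]
    · show sgn2 (par k (i + j)) = _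
      rw [par_add, sgn2_add]
    · show sgn2 (par k ((k : ZMod (2 * k)) + j - i)) = sgn2 (par k i) * sgn2 (par k j)
      rw [par_sub, par_add, par_natCast_self hk, zero_add, sgn2_sub, mul_comm])

theorem quatSign2_a (k : ℕ) (hk : Even k) (i : ZMod (2 * k)) :
    quatSign2 k hk (a i) = sgn2 (par k i) := rfl

theorem quatSign2_xa (k : ℕ) (hk : Even k) (i : ZMod (2 * k)) :
    quatSign2 k hk (xa i) = sgn2 (par k i) := rfl

theorem quatSign2_ker_index (k : ℕ) (hk : Even k) : (quatSign2 k hk).ker.index = 2 := by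
  rw [Subgroup.index_ker]
  have : (quatSign2 k hk).range = ⊤ := by
    rw [eq_top_iff]
    intro u _
    rcases Int.units_eq_one_or u with rfl | rfl
    · exact ⟨1, map_one _⟩
    · refine ⟨a 1, ?_⟩
      rw [quatSign2_a]
      unfold par
      rw [map_one]
      rfl
  rw [this, Subgroup.card_top, Nat.card_eq_fintype_card, Fintype.card_units_int]

/-- In `QuaternionGroup k` with `4 ∣ k`... (we only need `k` even and `4 ≠ 0` in `ZMod (2k)`):
the kernel of `quatSign2` is not commutative. -/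
theorem quatSign2_ker_not_comm (k : ℕ) (hk : Even k) (h4 : (4 : ZMod (2 * k)) ≠ 0) :
    ¬ ∀ x ∈ (quatSign2 k hk).ker, ∀ y ∈ (quatSign2 k hk).ker, x * y = y * x := by
  intro h
  have h1 : (a 2 : QuaternionGroup k) ∈ (quatSign2 k hk).ker := by
    rw [MonoidHom.mem_ker, quatSign2_a]
    have : par k (2 : ZMod (2 * k)) = 0 := by
      unfold par
      rw [map_ofNat]
      rfl
    rw [this]; rfl
  have h2 : (xa 0 : QuaternionGroup k) ∈ (quatSign2 k hk).ker := by
    rw [MonoidHom.mem_ker, quatSign2_xa]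
    have : par k (0 : ZMod (2 * k)) = 0 := map_zero _
    rw [this]; rfl
  have h3 := h _ h1 _ h2
  rw [a_mul_xa, xa_mul_a] at h3
  have h5 : (0 : ZMod (2 * k)) - 2 = 0 + 2 := xa.inj h3
  apply h4
  have : (4 : ZMod (2 * k)) = (0 + 2) - (0 - 2) := by ring
  rw [this, h5]; ring

/-- Existence of an abelian and a non-abelian subgroup of the same order in `Q_{2^(n+2)}`,
`n ≥ 2`. -/
theorem quaternion_exists_abelian_nonabelian (n : ℕ) (hn : 2 ≤ n) :
    ∃ A M : Subgroup (QuaternionGroup (2 ^ n)), Nat.card A = Nat.card M ∧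
      (∀ x ∈ A, ∀ y ∈ A, x * y = y * x) ∧ ¬ (∀ x ∈ M, ∀ y ∈ M, x * y = y * x) := by
  have hk : Even (2 ^ n) := by
    rw [Nat.even_pow]; exact ⟨even_two, by omega⟩
  refine ⟨(Cfsg.Agent.Lib.Helper3.quatSign (2 ^ n)).ker, (quatSign2 (2 ^ n) hk).ker, ?_, ?_, ?_⟩
  · have h1 := Subgroup.card_mul_index (Cfsg.Agent.Lib.Helper3.quatSign (2 ^ n)).ker
    have h2 := Subgroup.card_mul_index (quatSign2 (2 ^ n) hk).ker
    rw [Cfsg.Agent.Lib.Helper3.quatSign_ker_index] at h1
    rw [quatSign2_ker_index] at h2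
    omega
  · intro x hx y hy
    exact Cfsg.Agent.Lib.Helper3.quat_comm_of_sign _ x y hx hy
  · apply quatSign2_ker_not_comm
    obtain ⟨m, rfl⟩ : ∃ m, n = m + 2 := ⟨n - 2, by omega⟩
    exact Cfsg.Agent.Lib.Helper3.four_ne_zero_zmod m

end Cfsg.Agent.Lib.Helper9
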