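import Mathlib
import Cfsg.Prelude.Def_Transfer
import Cfsg.Agent.Lib.Helper9.OrderPSq
import Cfsg.Agent.Lib.Helper9.ExponentP
import Cfsg.Agent.Lib.Helper9.QuatSubgroups

/-!
Groups in which `p`-subgroups of equal order are conjugate: structure of the Sylow `p`-subgroups
(S4023).
-/

set_option autoImplicit false

namespace Cfsg.Agent.Lib.Helper9

open Subgroup

/-- conjugate subgroups (inside a subgroup `P`) are isomorphic. -/
theorem nonempty_mulEquiv_of_conj {G : Type*} [Group G] (P : Subgroup G)
    (hconj : ∀ A B : Subgroup G, A ≤ P → B ≤ P → Nat.card A = Nat.card B →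
      ∃ g : G, B = A.map (MulAut.conj g).toMonoidHom)
    (H K : Subgroup ↥P) (h : Nat.card H = Nat.card K) : Nonempty (H ≃* K) := by
  have hinj : Function.Injective P.subtype := Subgroup.subtype_injective _
  have h1 : Nat.card (H.map P.subtype) = Nat.card (K.map P.subtype) := by
    rw [Subgroup.card_map_of_injective hinj, Subgroup.card_map_of_injective hinj, h]
  have hle : ∀ L : Subgroup ↥P, L.map P.subtype ≤ P := by
    intro L x hx
    obtain ⟨y, _, rfl⟩ := hx
    exact y.2
  obtain ⟨g, hg⟩ := hconj _ _ (hle H) (hle K) h1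
  have e1 : H ≃* H.map P.subtype := Subgroup.equivMapOfInjective H _ hinj
  have e2 : K ≃* K.map P.subtype := Subgroup.equivMapOfInjective K _ hinj
  have hinj2 : Function.Injective (MulAut.conj g).toMonoidHom := (MulAut.conj g).injective
  have e3 : H.map P.subtype ≃* (H.map P.subtype).map (MulAut.conj g).toMonoidHom :=
    Subgroup.equivMapOfInjective _ _ hinj2
  have e4 : K.map P.subtype ≃* (H.map P.subtype).map (MulAut.conj g).toMonoidHom :=
    MulEquiv.subgroupCongr hg
  exact ⟨(e1.trans e3).trans (e4.symm.trans e2.symm)⟩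

theorem comm_of_mulEquiv {A B : Type*} [Group A] [Group B] (e : A ≃* B)
    (h : ∀ x y : A, x * y = y * x) : ∀ x y : B, x * y = y * x := by
  intro x y
  have := h (e.symm x) (e.symm y)
  have h2 := congrArg e this
  simpa using h2

theorem sylow_structure_of_equal_order_conj {G : Type*} [Group G] [Finite G] {p : ℕ}
    [hp : Fact p.Prime]
    (hC : ∀ H K : Subgroup G, IsPGroup p H → IsPGroup p K → Nat.card H = Nat.card K →
      ∃ g : G, K = H.map (MulAut.conj g).toMonoidHom) (P : Sylow p G) :
    IsCyclic ↥(P : Subgroup G) ∨ Cfsg.IsElementaryAbelian p (P : Subgroup G) ∨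
      (p = 2 ∧ Nonempty (↥(P : Subgroup G) ≃* QuaternionGroup 2)) ∨
      (p ≠ 2 ∧ ¬ IsMulCommutative ↥(P : Subgroup G) ∧ Nat.card ↥(P : Subgroup G) = p ^ 3 ∧
        Monoid.exponent ↥(P : Subgroup G) = p) := by
  have hPp : IsPGroup p ↥(P : Subgroup G) := P.2
  have hiso : ∀ H K : Subgroup ↥(P : Subgroup G), Nat.card H = Nat.card K → Nonempty (H ≃* K) := by
    apply nonempty_mulEquiv_of_conj
    intro A B hA hB hAB
    exact hC A B (P.2.to_le hA) (P.2.to_le hB) hAB
  have hconj2 : ∀ A B : Subgroup G, Nat.card A = p ^ 2 → Nat.card B = p ^ 2 →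
      ∃ g : G, B = A.map (MulAut.conj g).toMonoidHom := by
    intro A B hA hB
    exact hC A B (IsPGroup.of_card hA) (IsPGroup.of_card hB) (by rw [hA, hB])
  rcases sylow_uniqueOrderP_or_exponent P hconj2 with huniq | hexp
  · rcases Cfsg.Agent.Lib.Lead.UniqueSubgroup.cyclic_or_quaternion hPp huniq with h1 | ⟨h2, n, ⟨e⟩⟩
    · exact Or.inl h1
    · rcases Nat.lt_or_ge n 2 with hn | hn
      · interval_cases n
        · -- order 4: abelian, hence cyclic
          left
          have hcard : Nat.card ↥(P : Subgroup G) = p ^ 2 := by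
            rw [Nat.card_congr e.toEquiv, Nat.card_eq_fintype_card, QuaternionGroup.card, h2]
            norm_num
          have hcomm := IsPGroup.commutative_of_card_eq_prime_sq hcard
          exact Cfsg.Agent.Lib.Lead.UniqueOrderP.abelian_cyclic hPp hcomm huniq
        · right; right; left
          refine ⟨h2, ⟨?_⟩⟩
          simpa using e
      · exfalso
        obtain ⟨A, M, hAM, hA, hM⟩ := quaternion_exists_abelian_nonabelian n hn
        have hinj : Function.Injective e.symm.toMonoidHom := e.symm.injective
        obtain ⟨φ⟩ := hiso (A.map e.symm.toMonoidHom) (M.map e.symm.toMonoidHom) (by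
          rw [Subgroup.card_map_of_injective hinj, Subgroup.card_map_of_injective hinj, hAM])
        have eA : A ≃* A.map e.symm.toMonoidHom := Subgroup.equivMapOfInjective A _ hinj
        have eM : M ≃* M.map e.symm.toMonoidHom := Subgroup.equivMapOfInjective M _ hinj
        have hAc : ∀ x y : A, x * y = y * x := by
          intro x y
          exact Subtype.ext (hA x x.2 y y.2)
        have hMc := comm_of_mulEquiv ((eA.trans φ).trans eM.symm) hAc
        apply hM
        intro x hx y hy
        exact congrArg Subtype.val (hMc ⟨x, hx⟩ ⟨y, hy⟩)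
  · have hexp' : ∀ x : ↥(P : Subgroup G), x ^ p = 1 := by
      intro x
      apply Subtype.ext
      rw [Subgroup.coe_pow]
      exact hexp x x.2
    by_cases hcomm : ∀ x y : ↥(P : Subgroup G), x * y = y * x
    · right; left
      exact ⟨⟨⟨hcomm⟩⟩, hexp⟩
    · right; right; right
      have hp2 : p ≠ 2 := by
        rintro rfl
        apply hcomm
        intro a b
        have ha : a ^ 2 = 1 := hexp' a
        have hb : b ^ 2 = 1 := hexp' b
        have hab : (a * b) ^ 2 = 1 := hexp' _
        have e1 : a⁻¹ = a := by rw [inv_eq_iff_mul_eq_one, ← sq, ha]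
        have e2 : b⁻¹ = b := by rw [inv_eq_iff_mul_eq_one, ← sq, hb]
        have e3 : (a * b)⁻¹ = a * b := by rw [inv_eq_iff_mul_eq_one, ← sq, hab]
        rw [← e3, mul_inv_rev, e1, e2]
      refine ⟨hp2, ?_, ?_, ?_⟩
      · intro h
        exact hcomm (fun x y => h.is_comm.comm x y)
      · obtain ⟨T, hTcard, hTnc⟩ := exists_nonabelian_subgroup_card_cube hPp hexp' hcomm
        obtain ⟨m, hm⟩ := IsPGroup.iff_card.mp hPp
        have hm3 : 3 ≤ m := by
          have := Subgroup.card_subgroup_dvd_card T
          rw [hTcard, hm] at this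
          exact (Nat.pow_dvd_pow_iff_le_right hp.out.one_lt).mp this
        rcases Nat.lt_or_ge m 4 with h4 | h4
        · rw [hm]; congr 1; omega
        · exfalso
          obtain ⟨A, hAcard, hAc⟩ := exists_abelian_subgroup_card_cube hPp hexp' h4 hm
          obtain ⟨φ⟩ := hiso A T (by rw [hAcard, hTcard])
          have hAc' : ∀ x y : A, x * y = y * x := fun x y => Subtype.ext (hAc x x.2 y y.2)
          have hTc := comm_of_mulEquiv φ hAc'
          apply hTnc
          intro x hx y hy
          exact congrArg Subtype.val (hTc ⟨x, hx⟩ ⟨y, hy⟩)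
      · have hdvd : Monoid.exponent ↥(P : Subgroup G) ∣ p :=
          Monoid.exponent_dvd_of_forall_pow_eq_one hexp'
        rcases (Nat.dvd_prime hp.out).mp hdvd with h1 | h1
        · exfalso
          have hs : Subsingleton ↥(P : Subgroup G) := Monoid.exp_eq_one_iff.mp h1
          apply hcomm
          intro x y
          exact Subsingleton.elim _ _
        · exact h1

end Cfsg.Agent.Lib.Helper9
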