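import Mathlib
import Cfsg.Prelude.Def_Local
import Cfsg.Agent.Lib.Helper9.FittingPower

/-!
Groups whose subgroups of order `p` are all conjugate, with a normal `p`-solvable subgroup of
order divisible by `p` (helper9).
-/

set_option autoImplicit false

namespace Cfsg.Agent.Lib.Helper9.EqOrdPSolv

open Subgroup Cfsg.Agent.Lib.Helper9

/-- A non-abelian group of order `p³` has centre of order `p`. -/
theorem card_center_of_card_eq_cube {P : Type*} [Group P] [Finite P] {p : ℕ} [Fact p.Prime]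
    (hcard : Nat.card P = p ^ 3) (hna : ¬ IsMulCommutative P) : Nat.card (center P) = p := by
  have hp : p.Prime := Fact.out
  have hPG : IsPGroup p P := IsPGroup.of_card hcard
  haveI : Nontrivial P := by
    rw [← Finite.one_lt_card_iff_nontrivial, hcard]
    exact Nat.one_lt_pow (by norm_num) hp.one_lt
  have hZ := hPG.center_nontrivial
  have hdvd : Nat.card (center P) ∣ p ^ 3 := hcard ▸ Subgroup.card_subgroup_dvd_card (center P)
  obtain ⟨i, hi, hci⟩ := (Nat.dvd_prime_pow hp).mp hdvd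
  have hidx : Nat.card (center P) * (center P).index = p ^ 3 := hcard ▸ (center P).card_mul_index
  interval_cases i
  · exfalso
    rw [pow_zero] at hci
    have : Subsingleton (center P) := (Nat.card_eq_one_iff_unique.mp hci).1
    exact not_nontrivial _ hZ
  · rw [hci, pow_one]
  · exfalso
    rw [hci] at hidx
    have h1 : (center P).index = p := by
      have : p ^ 2 * (center P).index = p ^ 2 * p := by rw [hidx]; ring
      exact Nat.eq_of_mul_eq_mul_left (pow_pos hp.pos 2) this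
    have hq : Nat.card (P ⧸ center P) = p := h1
    haveI : IsCyclic (P ⧸ center P) := isCyclic_of_prime_card hq
    apply hna
    exact MonoidHom.isMulCommutative_of_isCyclic_of_ker_le_center (QuotientGroup.mk' (center P))
      (by rw [QuotientGroup.ker_mk'])
  · exfalso
    apply hna
    have htop : center P = ⊤ := Subgroup.eq_top_of_card_eq _ (by rw [hci, hcard])
    refine ⟨⟨fun a b => ?_⟩⟩
    have : b ∈ center P := htop ▸ mem_top b
    exact mem_center_iff.mp this a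

/-- The first `p`-factor in a `p`-solvable chain. -/
theorem exists_first_p_factor {X : Type*} [Group X] [Finite X] {p : ℕ} [Fact p.Prime]
    (hsol : Cfsg.IsPSolvable p X) (hdiv : p ∣ Nat.card X) :
    ∃ L U : Subgroup X, L.Normal ∧ U.Normal ∧ L ≤ U ∧ ¬ p ∣ Nat.card L ∧ p ∣ Nat.card U ∧
      ∃ m : ℕ, Nat.card U = Nat.card L * p ^ m := by
  have hp : p.Prime := Fact.out
  obtain ⟨n, H, h0, hlast, hmono, hnorm, hstep⟩ := hsol
  by_contra hcon
  push_neg at hcon
  have key : ∀ i : Fin (n + 1), ¬ p ∣ Nat.card (H i) := by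
    intro i
    induction i using Fin.induction with
    | zero =>
      rw [h0, Subgroup.card_bot]
      exact hp.one_lt.ne' ∘ Nat.dvd_one.mp
    | succ i ih =>
      intro hpd
      have hle : H i.castSucc ≤ H i.succ := hmono (Fin.castSucc_lt_succ).le
      have hc := card_mul_relIndex_of_le hle
      rcases hstep i with ⟨m, hm⟩ | hcop
      · exact hcon (H i.castSucc) (H i.succ) (hnorm _) (hnorm _) hle ih hpd m (by rw [← hc, hm])
      · rw [← hc] at hpd
        rcases (Nat.Prime.dvd_mul hp).mp hpd with h | h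
        · exact ih h
        · exact (Nat.Prime.coprime_iff_not_dvd hp).mp hcop.symm h
  apply key (Fin.last n)
  rw [hlast, Subgroup.card_top]
  exact hdiv

variable {G : Type*} [Group G] [Finite G]

/-- Frattini: `G = H · N_G(P)` elementwise. -/
theorem frattini_decomp {p : ℕ} [Fact p.Prime] (P : Sylow p G) (H : Subgroup G) [H.Normal]
    (hPH : (P : Subgroup G) ≤ H) (g : G) :
    ∃ h ∈ H, ∃ n ∈ normalizer ((P : Subgroup G) : Set G), g = h * n := by
  have h1 := Sylow.normalizer_sup_eq_top (P.subtype hPH)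
  rw [Sylow.coe_subtype, Subgroup.subgroupOf_map_subtype, inf_eq_left.mpr hPH, sup_comm] at h1
  have h2 : g ∈ ((H ⊔ normalizer ((P : Subgroup G) : Set G) : Subgroup G) : Set G) := by
    rw [h1]; trivial
  rw [Subgroup.normal_mul] at h2
  obtain ⟨h, hh, n, hn, rfl⟩ := Set.mem_mul.mp h2
  exact ⟨h, hh, n, hn, rfl⟩


/-- Key lemma: with a first `p`-factor `U/L` of the normal subgroup `H`, a Sylow subgroup of
exponent `p` whose centre-like subgroup `Z` of order `p` is conjugate to every subgroup of order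
`p` must be abelian. -/
theorem comm_of_conj {p : ℕ} [Fact p.Prime] (P : Sylow p G) (H : Subgroup G) [H.Normal]
    (hPH : (P : Subgroup G) ≤ H)
    (hexp : ∀ x ∈ (P : Subgroup G), x ^ p = 1)
    (hC : ∀ A B : Subgroup G, Nat.card A = p → Nat.card B = p →
      ∃ g : G, B = A.map (MulAut.conj g).toMonoidHom)
    (Z : Subgroup G) (hZP : Z ≤ P) (hZcard : Nat.card Z = p)
    (hZc : ∀ z ∈ Z, ∀ w ∈ (P : Subgroup G), z * w = w * z)
    (hZn : ∀ n ∈ normalizer ((P : Subgroup G) : Set G), ∀ z ∈ Z, n * z * n⁻¹ ∈ Z)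
    (L U : Subgroup G) (hLU : L ≤ U) (hUH : U ≤ H)
    (hLn : ∀ h ∈ H, ∀ l ∈ L, h * l * h⁻¹ ∈ L) (hUn : ∀ h ∈ H, ∀ u ∈ U, h * u * h⁻¹ ∈ U)
    (hLp : ¬ p ∣ Nat.card L) (hpU : p ∣ Nat.card U) (m : ℕ)
    (hU : Nat.card U = Nat.card L * p ^ m) :
    ∀ x ∈ (P : Subgroup G), ∀ w ∈ (P : Subgroup G), x * w = w * x := by
  have hp : p.Prime := Fact.out
  -- conjugacy in the form we need
  have hconj : ∀ Y : Subgroup G, Nat.card Y = p → ∃ h ∈ H, (∀ z ∈ Z, h * z * h⁻¹ ∈ Y) ∧
      (∀ y ∈ Y, ∃ z ∈ Z, y = h * z * h⁻¹) := by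
    intro Y hY
    obtain ⟨g, hg⟩ := hC Z Y hZcard hY
    obtain ⟨h, hh, n, hn, rfl⟩ := frattini_decomp P H hPH g
    refine ⟨h, hh, ?_, ?_⟩
    · intro z hz
      have hz' : n⁻¹ * z * n ∈ Z := by
        have := hZn n⁻¹ (inv_mem hn) z hz
        rwa [inv_inv] at this
      rw [hg, mem_map]
      refine ⟨n⁻¹ * z * n, hz', ?_⟩
      simp only [MulEquiv.coe_toMonoidHom, MulAut.conj_apply]
      group
    · intro y hy
      rw [hg, mem_map] at hy
      obtain ⟨z, hz, rfl⟩ := hy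
      refine ⟨n * z * n⁻¹, hZn n hn z hz, ?_⟩
      simp only [MulEquiv.coe_toMonoidHom, MulAut.conj_apply]
      group
  -- Z ≤ U
  have hZU : Z ≤ U := by
    obtain ⟨u, hu⟩ := exists_prime_orderOf_dvd_card' (G := U) p hpU
    have hY : Nat.card (zpowers (u : G)) = p := by
      rw [Nat.card_zpowers, Subgroup.orderOf_coe]; exact hu
    obtain ⟨h, hh, h1, _⟩ := hconj _ hY
    intro z hz
    have h2 : h * z * h⁻¹ ∈ U := (zpowers_le.mpr u.2) (h1 z hz)
    have h3 := hUn h⁻¹ (inv_mem hh) _ h2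
    have h4 : h⁻¹ * (h * z * h⁻¹) * h⁻¹⁻¹ = z := by group
    rwa [h4] at h3
  -- every nonidentity element of P is an H-conjugate of an element of Z
  have hx : ∀ x ∈ (P : Subgroup G), x ≠ 1 → ∃ h ∈ H, ∃ z ∈ Z, x = h * z * h⁻¹ := by
    intro x hxP hx1
    have ho : orderOf x = p := orderOf_eq_prime (hexp x hxP) hx1
    have hY : Nat.card (zpowers x) = p := by rw [Nat.card_zpowers, ho]
    obtain ⟨h, hh, _, h2⟩ := hconj _ hY
    obtain ⟨z, hz, hxz⟩ := h2 x (mem_zpowers x)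
    exact ⟨h, hh, z, hz, hxz⟩
  have hPU : (P : Subgroup G) ≤ U := by
    intro x hxP
    by_cases hx1 : x = 1
    · rw [hx1]; exact one_mem _
    · obtain ⟨h, hh, z, hz, rfl⟩ := hx x hxP hx1
      exact hUn h hh z (hZU hz)
  -- |P| = p^m
  have hPcard : Nat.card (P : Subgroup G) = p ^ m := by
    obtain ⟨k, hk⟩ := IsPGroup.iff_card.mp P.2
    have hk' : Nat.card (P : Subgroup G) = p ^ k := hk
    have h1 : Nat.card (P : Subgroup G) ∣ Nat.card U := Subgroup.card_dvd_of_le hPU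
    rw [hU, hk'] at h1
    have hcop : Nat.Coprime (p ^ k) (Nat.card L) :=
      Nat.Coprime.pow_left k ((Nat.Prime.coprime_iff_not_dvd hp).mpr hLp)
    have h2 : p ^ k ∣ p ^ m := hcop.dvd_of_dvd_mul_left h1
    have h3 : p ^ m ∣ Nat.card G := by
      have : p ^ m ∣ Nat.card U := hU ▸ Dvd.intro_left _ rfl
      exact this.trans (Subgroup.card_subgroup_dvd_card U)
    have h4 := P.pow_dvd_card_of_pow_dvd_card h3
    rw [hk'] at h4 ⊢
    exact Nat.dvd_antisymm h2 h4
  have hsup : L ⊔ (P : Subgroup G) = U := by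
    apply Subgroup.eq_of_le_of_card_ge (sup_le hLU hPU)
    have h1 : Nat.card L ∣ Nat.card (L ⊔ (P : Subgroup G) : Subgroup G) :=
      Subgroup.card_dvd_of_le le_sup_left
    have h2 : p ^ m ∣ Nat.card (L ⊔ (P : Subgroup G) : Subgroup G) :=
      hPcard ▸ Subgroup.card_dvd_of_le le_sup_right
    have hcop : Nat.Coprime (Nat.card L) (p ^ m) :=
      (Nat.Coprime.pow_left m ((Nat.Prime.coprime_iff_not_dvd hp).mpr hLp)).symm
    have h3 := hcop.mul_dvd_of_dvd_of_dvd h1 h2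
    rw [hU]
    exact Nat.le_of_dvd Nat.card_pos h3
  have hLP : ∀ y ∈ L, y ∈ (P : Subgroup G) → y = 1 := by
    intro y hyL hyP
    obtain ⟨k, hk⟩ := P.2 ⟨y, hyP⟩
    have hk' : y ^ p ^ k = 1 := by
      have := congrArg Subtype.val hk
      simpa using this
    have h1 : orderOf y ∣ p ^ k := orderOf_dvd_of_pow_eq_one hk'
    have h2 : orderOf y ∣ Nat.card L := Subgroup.orderOf_dvd_natCard L hyL
    have hcop : Nat.Coprime (p ^ k) (Nat.card L) :=
      Nat.Coprime.pow_left k ((Nat.Prime.coprime_iff_not_dvd hp).mpr hLp)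
    have h3 : orderOf y ∣ 1 := by
      have := Nat.dvd_gcd h1 h2
      rwa [hcop.gcd_eq_one] at this
    exact orderOf_eq_one_iff.mp (Nat.dvd_one.mp h3)
  have hPH' : ∀ w ∈ (P : Subgroup G), w ∈ H := fun w hw => hPH hw
  -- central modulo L
  have hCMZ : ∀ z ∈ Z, ∀ u ∈ U, z * u * z⁻¹ * u⁻¹ ∈ L := by
    intro z hz
    let S : Subgroup G :=
      { carrier := {u | u ∈ U ∧ z * u * z⁻¹ * u⁻¹ ∈ L}
        one_mem' := ⟨one_mem _, by simp⟩
        mul_mem' := by
          rintro u₁ u₂ ⟨hu₁, h₁⟩ ⟨hu₂, h₂⟩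
          refine ⟨mul_mem hu₁ hu₂, ?_⟩
          have h3 := hLn u₁ (hUH hu₁) _ h₂
          have h4 : z * (u₁ * u₂) * z⁻¹ * (u₁ * u₂)⁻¹ =
              (z * u₁ * z⁻¹ * u₁⁻¹) * (u₁ * (z * u₂ * z⁻¹ * u₂⁻¹) * u₁⁻¹) := by group
          rw [h4]
          exact mul_mem h₁ h3
        inv_mem' := by
          rintro u ⟨hu, h₁⟩
          refine ⟨inv_mem hu, ?_⟩
          have h3 := hLn u⁻¹ (inv_mem (hUH hu)) _ (inv_mem h₁)
          have h4 : z * u⁻¹ * z⁻¹ * u⁻¹⁻¹ = u⁻¹ * (z * u * z⁻¹ * u⁻¹)⁻¹ * u⁻¹⁻¹ := by group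
          rw [h4]
          exact h3 }
    have hLS : L ≤ S := by
      intro l hl
      refine ⟨hLU hl, ?_⟩
      exact mul_mem (hLn z (hPH (hZP hz)) l hl) (inv_mem hl)
    have hPS : (P : Subgroup G) ≤ S := by
      intro w hw
      refine ⟨hPU hw, ?_⟩
      have : z * w * z⁻¹ * w⁻¹ = 1 := by
        rw [hZc z hz w hw]; group
      rw [this]; exact one_mem _
    intro u hu
    have : u ∈ S := (sup_le hLS hPS) (hsup ▸ hu)
    exact this.2
  intro x hxP w hwP
  by_cases hx1 : x = 1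
  · rw [hx1]; simp
  · obtain ⟨h, hh, z, hz, rfl⟩ := hx x hxP hx1
    -- h z h⁻¹ is central modulo L
    have hu' : h⁻¹ * w * h⁻¹⁻¹ ∈ U := hUn h⁻¹ (inv_mem hh) w (hPU hwP)
    have h1 := hCMZ z hz _ hu'
    have h2 := hLn h hh _ h1
    have h3 : h * (z * (h⁻¹ * w * h⁻¹⁻¹) * z⁻¹ * (h⁻¹ * w * h⁻¹⁻¹)⁻¹) * h⁻¹ =
        (h * z * h⁻¹) * w * (h * z * h⁻¹)⁻¹ * w⁻¹ := by group
    rw [h3] at h2
    have h4 : (h * z * h⁻¹) * w * (h * z * h⁻¹)⁻¹ * w⁻¹ ∈ (P : Subgroup G) :=
      mul_mem (mul_mem (mul_mem hxP hwP) (inv_mem hxP)) (inv_mem hwP)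
    have h5 := hLP _ h2 h4
    calc h * z * h⁻¹ * w = (h * z * h⁻¹ * w * (h * z * h⁻¹)⁻¹ * w⁻¹) * w * (h * z * h⁻¹) := by
          group
      _ = w * (h * z * h⁻¹) := by rw [h5, one_mul]

end Cfsg.Agent.Lib.Helper9.EqOrdPSolv
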