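import Mathlib
import Cfsg.Agent.Lib.Helper9.EqualOrderPSolv
import Cfsg.Agent.S4023

/-!
Groups whose `p`-subgroups of equal order are conjugate and which have a normal `p`-solvable
subgroup of order divisible by `p` (helper9): the Sylow `p`-subgroup is abelian.
-/

set_option autoImplicit false

namespace Cfsg.Agent.Lib.Helper9.EqOrdPSolv

open Subgroup Cfsg.Agent.Lib.Helper9

theorem main {G : Type*} [Group G] [Finite G] {p : ℕ} [Fact p.Prime] (hp : p ≠ 2)
    (hC : ∀ H K : Subgroup G, IsPGroup p H → IsPGroup p K → Nat.card H = Nat.card K →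
      ∃ g : G, K = H.map (MulAut.conj g).toMonoidHom)
    (P : Sylow p G) (H : Subgroup G) [H.Normal] (hsolv : Cfsg.IsPSolvable p H)
    (hdiv : p ∣ Nat.card H) :
    IsMulCommutative P ∧ ((P : Subgroup G) ≤ H ∨ IsCyclic P) := by
  have hpp : p.Prime := Fact.out
  have hC' : ∀ A B : Subgroup G, Nat.card A = p → Nat.card B = p →
      ∃ g : G, B = A.map (MulAut.conj g).toMonoidHom := by
    intro A B hA hB
    exact hC A B (IsPGroup.of_card (n := 1) (by rw [hA, pow_one]))
      (IsPGroup.of_card (n := 1) (by rw [hB, pow_one])) (hA.trans hB.symm)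
  obtain ⟨h₀, hh₀⟩ := exists_prime_orderOf_dvd_card' (G := H) p hdiv
  have hordH : ∀ x : G, x ^ p = 1 → x ∈ H := by
    intro x hx
    by_cases hx1 : x = 1
    · rw [hx1]; exact one_mem _
    · have ho : orderOf x = p := orderOf_eq_prime hx hx1
      have hA : Nat.card (zpowers (h₀ : G)) = p := by
        rw [Nat.card_zpowers, Subgroup.orderOf_coe]; exact hh₀
      have hB : Nat.card (zpowers x) = p := by rw [Nat.card_zpowers, ho]
      obtain ⟨g, hg⟩ := hC' _ _ hA hB
      have hxm : x ∈ (zpowers (h₀ : G)).map (MulAut.conj g).toMonoidHom := hg ▸ mem_zpowers x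
      obtain ⟨y, hy, rfl⟩ := mem_map.mp hxm
      have hyH : y ∈ H := (zpowers_le.mpr h₀.2) hy
      simp only [MulEquiv.coe_toMonoidHom, MulAut.conj_apply]
      exact (inferInstance : H.Normal).conj_mem y hyH g
  have hexpH : (∀ x ∈ (P : Subgroup G), x ^ p = 1) → (P : Subgroup G) ≤ H :=
    fun h x hx => hordH x (h x hx)
  rcases Cfsg.Agent.S4023.result hC P with hcyc | hel | ⟨h2, _⟩ | ⟨_, hna, hcard, hexp⟩
  · refine ⟨?_, Or.inr hcyc⟩
    exact ⟨⟨fun a b => (IsCyclic.commGroup (α := P)).mul_comm a b⟩⟩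
  · exact ⟨hel.1, Or.inl (hexpH hel.2)⟩
  · exact absurd h2 hp
  · exfalso
    have hexp' : ∀ x ∈ (P : Subgroup G), x ^ p = 1 := by
      intro x hx
      have h1 : (⟨x, hx⟩ : (P : Subgroup G)) ^ p = 1 := by
        have h0 : (⟨x, hx⟩ : (P : Subgroup G)) ^ Monoid.exponent (P : Subgroup G) = 1 :=
          Monoid.pow_exponent_eq_one _
        rwa [hexp] at h0
      have := congrArg Subtype.val h1
      simpa using this
    have hPH := hexpH hexp'
    -- the centre
    obtain ⟨Z, hZdef⟩ : ∃ Z : Subgroup G, Z = (center P).map (P : Subgroup G).subtype := ⟨_, rfl⟩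
    have hZP : Z ≤ P := by rw [hZdef]; exact map_subtype_le _
    have hZcard : Nat.card Z = p := by
      rw [hZdef, Subgroup.card_map_of_injective (subtype_injective _)]
      exact card_center_of_card_eq_cube hcard hna
    have hZmem : ∀ z : G, z ∈ Z ↔ ∃ hz : z ∈ (P : Subgroup G),
        ∀ w : G, ∀ hw : w ∈ (P : Subgroup G), w * z = z * w := by
      intro z
      rw [hZdef, mem_map]
      constructor
      · rintro ⟨z', hz', rfl⟩
        refine ⟨z'.2, ?_⟩
        intro w hw
        have := mem_center_iff.mp hz' ⟨w, hw⟩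
        exact congrArg Subtype.val this
      · rintro ⟨hz, hcomm⟩
        refine ⟨⟨z, hz⟩, ?_, rfl⟩
        rw [mem_center_iff]
        intro w
        exact Subtype.ext (hcomm w.1 w.2)
    have hZc : ∀ z ∈ Z, ∀ w ∈ (P : Subgroup G), z * w = w * z := by
      intro z hz w hw
      obtain ⟨_, hcomm⟩ := (hZmem z).mp hz
      exact (hcomm w hw).symm
    have hZn : ∀ n ∈ normalizer ((P : Subgroup G) : Set G), ∀ z ∈ Z, n * z * n⁻¹ ∈ Z := by
      intro n hn z hz
      obtain ⟨hzP, hcomm⟩ := (hZmem z).mp hz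
      rw [hZmem]
      have hnP : ∀ y : G, y ∈ (P : Subgroup G) → n * y * n⁻¹ ∈ (P : Subgroup G) :=
        fun y hy => (mem_normalizer_iff.mp hn y).mp hy
      have hnP' : ∀ y : G, y ∈ (P : Subgroup G) → n⁻¹ * y * n ∈ (P : Subgroup G) := by
        intro y hy
        have := (mem_normalizer_iff.mp (inv_mem hn) y).mp hy
        rwa [inv_inv] at this
      refine ⟨hnP z hzP, ?_⟩
      intro w hw
      have h1 := hcomm (n⁻¹ * w * n) (hnP' w hw)
      calc w * (n * z * n⁻¹) = n * ((n⁻¹ * w * n) * z) * n⁻¹ := by group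
        _ = n * (z * (n⁻¹ * w * n)) * n⁻¹ := by rw [h1]
        _ = n * z * n⁻¹ * w := by group
    -- the first p-factor
    obtain ⟨L', U', hL'n, hU'n, hLU', hLp', hpU', m, hU'⟩ := exists_first_p_factor hsolv hdiv
    have hinj : Function.Injective (H.subtype) := subtype_injective _
    have hnorm : ∀ (K' : Subgroup H), K'.Normal → ∀ h ∈ H, ∀ k ∈ K'.map H.subtype,
        h * k * h⁻¹ ∈ K'.map H.subtype := by
      intro K' hK' h hh k hk
      obtain ⟨k', hk', rfl⟩ := mem_map.mp hk
      exact mem_map.mpr ⟨⟨h, hh⟩ * k' * ⟨h, hh⟩⁻¹, hK'.conj_mem k' hk' ⟨h, hh⟩, rfl⟩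
    have hcomm := comm_of_conj P H hPH hexp' hC' Z hZP hZcard hZc hZn
      (L'.map H.subtype) (U'.map H.subtype) (map_mono hLU') (map_subtype_le _)
      (hnorm L' hL'n) (hnorm U' hU'n)
      (by rw [Subgroup.card_map_of_injective hinj]; exact hLp')
      (by rw [Subgroup.card_map_of_injective hinj]; exact hpU') m
      (by rw [Subgroup.card_map_of_injective hinj, Subgroup.card_map_of_injective hinj]; exact hU')
    apply hna
    exact ⟨⟨fun a b => Subtype.ext (hcomm a.1 a.2 b.1 b.2)⟩⟩

end Cfsg.Agent.Lib.Helper9.EqOrdPSolv
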