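import Mathlib
import Cfsg.Prelude.Def_Transfer

/-!
Extraspecial 2-groups: an involutory automorphism whose fixed subgroup has index at most 2 is inner.
-/

set_option autoImplicit false

namespace Cfsg.Agent.Lib.Helper9

open Subgroup Finset
open scoped commutatorElement

section

variable {E : Type*} [Group E] [Finite E]

/-- The centre of an extraspecial 2-group is `{1, z}`. -/
theorem extraspecial_center (hE : Cfsg.IsExtraspecial 2 E) :
    ∃ z : E, z ≠ 1 ∧ z * z = 1 ∧ (∀ x : E, x ∈ center E ↔ x = 1 ∨ x = z) := by
  obtain ⟨_, hcard⟩ := hE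
  obtain ⟨z, hz1, hzu⟩ := (Nat.card_eq_two_iff' (1 : center E)).mp hcard
  have hcen : ∀ x : E, x ∈ center E ↔ x = 1 ∨ x = (z : E) := by
    intro x
    constructor
    · intro hx
      by_cases h1 : x = 1
      · exact Or.inl h1
      · right
        have := hzu ⟨x, hx⟩ (fun h => h1 (congrArg Subtype.val h))
        exact congrArg Subtype.val this
    · rintro (rfl | rfl)
      · exact one_mem _
      · exact z.2
  have hz1' : (z : E) ≠ 1 := fun h => hz1 (Subtype.ext h)
  refine ⟨z, hz1', ?_, hcen⟩
  have hzz : (z : E) * z ∈ center E := mul_mem z.2 z.2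
  rcases (hcen _).mp hzz with h | h
  · exact h
  · exfalso
    apply hz1'
    have : (z : E) * z = z * 1 := by rw [h, mul_one]
    exact mul_left_cancel this

/-- In an extraspecial 2-group with centre `{1, z}`, two elements commute up to `z`. -/
theorem extraspecial_comm_cases (hE : Cfsg.IsExtraspecial 2 E) {z : E}
    (hcen : ∀ x : E, x ∈ center E ↔ x = 1 ∨ x = z) (u v : E) :
    u * v = v * u ∨ u * v = z * (v * u) := by
  have hcomm : _root_.commutator E = center E := hE.1.2.2
  have h1 : ⁅u, v⁆ ∈ center E := by
    rw [← hcomm]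
    exact commutator_mem_commutator (mem_top u) (mem_top v)
  rw [commutatorElement_def] at h1
  rcases (hcen _).mp h1 with h | h
  · left
    calc u * v = (u * v * u⁻¹ * v⁻¹) * (v * u) := by group
      _ = v * u := by rw [h, one_mul]
  · right
    calc u * v = (u * v * u⁻¹ * v⁻¹) * (v * u) := by group
      _ = z * (v * u) := by rw [h]

omit [Finite E] in
/-- Halving lemma: in a subgroup `H`, the elements commuting with `g` are all or half of `H`. -/
theorem extraspecial_half [Fintype E] [DecidableEq E] {z : E} (hz1 : z ≠ 1) (hzz : z * z = 1)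
    (hzc : ∀ x : E, z * x = x * z)
    (hcases : ∀ u v : E, u * v = v * u ∨ u * v = z * (v * u)) (H : Subgroup E)
    [DecidablePred (· ∈ H)] (g : E) [Decidable (∀ h ∈ H, h * g = g * h)] :
    2 * (univ.filter (fun h : E => h ∈ H ∧ h * g = g * h)).card
      = Nat.card H * (if (∀ h ∈ H, h * g = g * h) then 2 else 1) := by
  have hHcard : Nat.card H = (univ.filter (fun h : E => h ∈ H)).card := by
    rw [Nat.card_eq_fintype_card, Fintype.card_subtype]
  by_cases hall : ∀ h ∈ H, h * g = g * h
  · rw [if_pos hall, hHcard, mul_comm]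
    congr 2
    ext h
    simp only [mem_filter, mem_univ, true_and]
    exact ⟨fun hh => hh.1, fun hh => ⟨hh, hall h hh⟩⟩
  · rw [if_neg hall, mul_one, hHcard]
    push Not at hall
    obtain ⟨a, haH, hag⟩ := hall
    have hag' : a * g = z * (g * a) := (hcases a g).resolve_left hag
    have hsplit := Finset.card_filter_add_card_filter_not (s := univ.filter (fun h : E => h ∈ H))
      (fun h : E => h * g = g * h)
    rw [Finset.filter_filter, Finset.filter_filter] at hsplit
    have hbij : (univ.filter (fun h : E => h ∈ H ∧ h * g = g * h)).card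
        = (univ.filter (fun h : E => h ∈ H ∧ ¬ h * g = g * h)).card := by
      apply Finset.card_bij (fun x _ => a * x)
      · intro x hx
        simp only [mem_filter, mem_univ, true_and] at hx ⊢
        refine ⟨H.mul_mem haH hx.1, ?_⟩
        intro hcontra
        have h1 : a * x * g = z * (g * (a * x)) := by
          rw [mul_assoc, hx.2, ← mul_assoc, hag']
          group
        rw [hcontra] at h1
        apply hz1
        have h2 : 1 * (g * (a * x)) = z * (g * (a * x)) := by rw [one_mul]; exact h1
        exact (mul_right_cancel h2).symm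
      · intro x _ y _ hxy
        exact mul_left_cancel hxy
      · intro b hb
        simp only [mem_filter, mem_univ, true_and] at hb
        have hbg : b * g = z * (g * b) := (hcases b g).resolve_left hb.2
        refine ⟨a⁻¹ * b, ?_, by group⟩
        simp only [mem_filter, mem_univ, true_and]
        refine ⟨H.mul_mem (H.inv_mem haH) hb.1, ?_⟩
        -- a⁻¹ g = z g a⁻¹
        have h1 : a⁻¹ * g = z * (g * a⁻¹) := by
          have : g = a⁻¹ * (z * (g * a)) := by rw [← hag']; group
          calc a⁻¹ * g = a⁻¹ * (a⁻¹ * (z * (g * a))) * (a * a⁻¹) := by rw [← this]; group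
            _ = z * (z * (a⁻¹ * (a⁻¹ * (z * (g * a))) * (a * a⁻¹))) := by
                rw [← mul_assoc z z, hzz, one_mul]
            _ = z * (g * a⁻¹) := by
                rw [← this]
                have e1 : z * (a⁻¹ * g * (a * a⁻¹)) = a⁻¹ * (z * g) := by
                  rw [mul_inv_cancel, mul_one, ← mul_assoc, hzc, mul_assoc]
                rw [e1]
                have e2 : z * g = a * g * a⁻¹ := by
                  rw [hag']; group
                rw [e2]; group
        calc a⁻¹ * b * g = a⁻¹ * (b * g) := by group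
          _ = a⁻¹ * (z * (g * b)) := by rw [hbg]
          _ = z * (a⁻¹ * g) * b := by rw [← mul_assoc a⁻¹ z, ← hzc a⁻¹]; group
          _ = z * (z * (g * a⁻¹)) * b := by rw [h1]
          _ = g * (a⁻¹ * b) := by rw [← mul_assoc z z, hzz]; group
    omega

omit [Finite E] in
theorem sum_ite_two_one [Fintype E] (s : Finset E) (P : E → Prop) [DecidablePred P] (c : ℕ) :
    ∑ x ∈ s, c * (if P x then 2 else 1) = c * (s.card + (s.filter P).card) := by
  rw [← Finset.mul_sum]
  congr 1
  have h : ∀ x ∈ s, (if P x then 2 else 1) = 1 + (if P x then 1 else 0) := by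
    intro x _
    split_ifs <;> rfl
  rw [Finset.sum_congr rfl h, Finset.sum_add_distrib, Finset.sum_const, smul_eq_mul, mul_one,
    Finset.card_filter]

/-- In an extraspecial 2-group, a subgroup of index 2 is centralized by some non-central element. -/
theorem extraspecial_exists_centralizing (hE : Cfsg.IsExtraspecial 2 E) {z : E} (hz1 : z ≠ 1)
    (hzz : z * z = 1) (hcen : ∀ x : E, x ∈ center E ↔ x = 1 ∨ x = z) (F : Subgroup E)
    (hidx : F.index = 2) (hzF : z ∈ F) :
    ∃ q : E, (∀ m ∈ F, m * q = q * m) ∧ q ∉ center E := by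
  classical
  haveI : Fintype E := Fintype.ofFinite E
  by_contra hno
  push Not at hno
  have hzc : ∀ x : E, z * x = x * z := by
    intro x
    have : z ∈ center E := (hcen z).mpr (Or.inr rfl)
    exact (mem_center_iff.mp this x).symm
  have hcases := extraspecial_comm_cases hE hcen
  have hiff : ∀ q : E, (∀ m ∈ F, m * q = q * m) ↔ q ∈ center E := by
    intro q
    refine ⟨hno q, fun hq m _ => ?_⟩
    exact mem_center_iff.mp hq m
  have hcard : Nat.card F * 2 = Nat.card E := by rw [← hidx]; exact F.card_mul_index
  have hFpos : 0 < Nat.card F := Nat.card_pos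
  have hFcard : Nat.card F = (univ.filter (fun h : E => h ∈ F)).card := by
    rw [Nat.card_eq_fintype_card, Fintype.card_subtype]
  have hEcard : Nat.card E = (univ : Finset E).card := by
    rw [Nat.card_eq_fintype_card, Finset.card_univ]
  have hpair : (univ.filter (fun x : E => x ∈ center E)) = {1, z} := by
    ext x
    simp only [mem_filter, mem_univ, true_and, mem_insert, mem_singleton]
    exact hcen x
  have hcencard : (univ.filter (fun x : E => x ∈ center E)).card = 2 := by
    rw [hpair, Finset.card_pair (Ne.symm hz1)]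
  have hpairF : ((univ.filter (fun h : E => h ∈ F)).filter (fun x : E => x ∈ center E)) = {1, z} := by
    ext x
    simp only [mem_filter, mem_univ, true_and, mem_insert, mem_singleton]
    constructor
    · rintro ⟨_, hx⟩; exact (hcen x).mp hx
    · rintro (rfl | rfl)
      · exact ⟨F.one_mem, one_mem _⟩
      · exact ⟨hzF, (hcen x).mpr (Or.inr rfl)⟩
  have hcencardF :
      ((univ.filter (fun h : E => h ∈ F)).filter (fun x : E => x ∈ center E)).card = 2 := by
    rw [hpairF, Finset.card_pair (Ne.symm hz1)]
  -- double counting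
  have hdc : ∑ m ∈ univ.filter (fun h : E => h ∈ F),
        (univ.filter (fun q : E => q ∈ (⊤ : Subgroup E) ∧ q * m = m * q)).card
      = ∑ q : E, (univ.filter (fun m : E => m ∈ F ∧ m * q = q * m)).card := by
    simp only [Finset.card_filter, Finset.sum_filter]
    rw [Finset.sum_comm]
    apply Finset.sum_congr rfl
    intro m _
    by_cases hm : m ∈ F
    · rw [if_pos hm]
      apply Finset.sum_congr rfl
      intro q _
      simp only [hm, mem_top, true_and]
      by_cases hc : q * m = m * q
      · rw [if_pos hc, if_pos hc.symm]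
      · rw [if_neg hc, if_neg (fun h => hc h.symm)]
    · rw [if_neg hm]
      symm
      apply Finset.sum_eq_zero
      intro q _
      simp [hm]
  have hL : 2 * ∑ m ∈ univ.filter (fun h : E => h ∈ F),
        (univ.filter (fun q : E => q ∈ (⊤ : Subgroup E) ∧ q * m = m * q)).card
      = Nat.card E * (Nat.card F + 2) := by
    rw [Finset.mul_sum]
    have h1 : ∀ m ∈ univ.filter (fun h : E => h ∈ F),
        2 * (univ.filter (fun q : E => q ∈ (⊤ : Subgroup E) ∧ q * m = m * q)).card
          = Nat.card E * (if m ∈ center E then 2 else 1) := by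
      intro m _
      rw [extraspecial_half hz1 hzz hzc hcases ⊤ m, Subgroup.card_top]
      congr 1
      have : (∀ h ∈ (⊤ : Subgroup E), h * m = m * h) ↔ m ∈ center E := by
        rw [mem_center_iff]
        exact ⟨fun h g => h g (mem_top g), fun h g _ => h g⟩
      simp only [this]
    rw [Finset.sum_congr rfl h1, sum_ite_two_one, hcencardF, ← hFcard]
  have hR : 2 * ∑ q : E, (univ.filter (fun m : E => m ∈ F ∧ m * q = q * m)).card
      = Nat.card F * (Nat.card E + 2) := by
    rw [Finset.mul_sum]
    have h1 : ∀ q ∈ (univ : Finset E),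
        2 * (univ.filter (fun m : E => m ∈ F ∧ m * q = q * m)).card
          = Nat.card F * (if q ∈ center E then 2 else 1) := by
      intro q _
      rw [extraspecial_half hz1 hzz hzc hcases F q]
      congr 1
      simp only [hiff q]
    rw [Finset.sum_congr rfl h1, sum_ite_two_one, hcencard, ← hEcard]
  rw [hdc, hR] at hL
  rw [← hcard] at hL
  nlinarith

/-- An involutory automorphism of an extraspecial 2-group whose fixed subgroup has index at most
2 is inner. -/
theorem extraspecial_inner_of_index_two (hE : Cfsg.IsExtraspecial 2 E) (α : E ≃* E)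
    (hα : ∀ x, α (α x) = x) (F : Subgroup E) (hF : ∀ x, x ∈ F ↔ α x = x) (hidx : F.index ≤ 2) :
    ∃ q : E, ∀ x, α x = q * x * q⁻¹ := by
  classical
  obtain ⟨z, hz1, hzz, hcen⟩ := extraspecial_center hE
  have hzcen : z ∈ center E := (hcen z).mpr (Or.inr rfl)
  have hzc : ∀ x : E, z * x = x * z := fun x => (mem_center_iff.mp hzcen x).symm
  have hcases := extraspecial_comm_cases hE hcen
  by_cases htop : F = ⊤
  · refine ⟨1, fun x => ?_⟩
    have hx : x ∈ F := by rw [htop]; exact mem_top x
    rw [(hF x).mp hx]; simp
  have hidx2 : F.index = 2 := by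
    have h0 : F.index ≠ 0 := index_ne_zero_of_finite
    have h1 : F.index ≠ 1 := fun h => htop (index_eq_one.mp h)
    omega
  obtain ⟨x0, hx0⟩ := SetLike.exists_not_mem_of_ne_top F htop
  -- α fixes the centre
  have hαcen : ∀ y : E, y ∈ center E → α y ∈ center E := by
    intro y hy
    rw [mem_center_iff]
    intro g
    have : g = α (α g) := (hα g).symm
    rw [this, ← map_mul, ← map_mul, mem_center_iff.mp hy]
  have hαz : α z = z := by
    rcases (hcen _).mp (hαcen z hzcen) with h | h
    · exfalso
      apply hz1
      have : α z = α 1 := by rw [h, map_one]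
      exact α.injective this
    · exact h
  have hzF : z ∈ F := (hF z).mpr hαz
  have hcenF : ∀ y : E, y ∈ center E → α y = y := by
    intro y hy
    rcases (hcen y).mp hy with rfl | rfl
    · exact map_one α
    · exact hαz
  set c := x0⁻¹ * α x0 with hc
  have h1 : α x0 = x0 * c := by rw [hc]; group
  have hαx0 : α x0 ∉ F := by
    rw [hF, hα]
    intro h
    exact hx0 ((hF x0).mpr h.symm)
  have hx0inv : x0⁻¹ ∉ F := fun h => hx0 (by simpa using F.inv_mem h)
  have hcF : c ∈ F := by
    rw [hc, mul_mem_iff_of_index_two hidx2]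
    exact ⟨fun h => absurd h hx0inv, fun h => absurd h hαx0⟩
  have hαc : α c = c := (hF c).mp hcF
  have hc2 : c * c = 1 := by
    have h2 := hα x0
    rw [h1, map_mul, h1, hαc, mul_assoc] at h2
    have : x0 * (c * c) = x0 * 1 := by rw [h2, mul_one]
    exact mul_left_cancel this
  have hcinv : c⁻¹ = c := by
    rw [inv_eq_iff_mul_eq_one]; exact hc2
  have hx0sq : x0 * x0 ∈ center E := by
    rw [mem_center_iff]
    intro y
    rcases hcases x0 y with h | h
    · calc y * (x0 * x0) = (y * x0) * x0 := by group
        _ = (x0 * y) * x0 := by rw [h]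
        _ = x0 * (y * x0) := by group
        _ = x0 * (x0 * y) := by rw [h]
        _ = x0 * x0 * y := by group
    · have h' : y * x0 = z * (x0 * y) := by rw [h, ← mul_assoc, hzz, one_mul]
      calc y * (x0 * x0) = (y * x0) * x0 := by group
        _ = z * (x0 * y) * x0 := by rw [h']
        _ = z * (x0 * (y * x0)) := by group
        _ = z * (x0 * (z * (x0 * y))) := by rw [h']
        _ = z * (z * (x0 * (x0 * y))) := by rw [← mul_assoc x0 z, ← hzc x0, mul_assoc z x0]
        _ = x0 * x0 * y := by rw [← mul_assoc z z, hzz, one_mul]; group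
  have hcx0 : c * x0 = x0 * c := by
    have h2 := hcenF _ hx0sq
    rw [map_mul, h1] at h2
    -- x0 c x0 c = x0 x0
    have h3 : c * x0 * c = x0 := by
      have : x0 * (c * x0 * c) = x0 * x0 := by rw [← h2]; group
      exact mul_left_cancel this
    calc c * x0 = c * x0 * c * c⁻¹ := by group
      _ = x0 * c := by rw [h3, hcinv]
  have hFn : F.Normal := normal_of_index_eq_two hidx2
  have hcm : ∀ m ∈ F, c * m = m * c := by
    intro m hm
    have hm' : x0⁻¹ * m * x0 ∈ F := by
      have := hFn.conj_mem m hm x0⁻¹
      rwa [inv_inv] at this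
    have e1 : α (m * x0) = m * (x0 * c) := by rw [map_mul, (hF m).mp hm, h1]
    have e2 : m * x0 = x0 * (x0⁻¹ * m * x0) := by group
    have e3 : α (x0 * (x0⁻¹ * m * x0)) = x0 * c * (x0⁻¹ * m * x0) := by
      rw [map_mul, h1, (hF _).mp hm']
    rw [e2, e3] at e1
    -- x0 c x0⁻¹ m x0 = m x0 c
    have e4 : x0 * c * (x0⁻¹ * m * x0) = c * m * x0 := by
      rw [← hcx0]; group
    have e5 : m * (x0 * c) = m * c * x0 := by rw [← hcx0]; group
    rw [e4, e5] at e1
    exact mul_right_cancel e1
  have hccen : c ∈ center E := by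
    rw [mem_center_iff]
    intro y
    by_cases hy : y ∈ F
    · exact (hcm y hy).symm
    · have hm : x0⁻¹ * y ∈ F := by
        rw [mul_mem_iff_of_index_two hidx2]
        exact ⟨fun h => absurd h hx0inv, fun h => absurd h hy⟩
      have : y = x0 * (x0⁻¹ * y) := by group
      rw [this, mul_assoc, ← hcm _ hm, ← mul_assoc, ← hcx0, mul_assoc]
  have hc1 : c ≠ 1 := by
    intro h
    apply hx0
    rw [hF, h1, h, mul_one]
  have hcz : c = z := ((hcen c).mp hccen).resolve_left hc1
  obtain ⟨q, hqF, hqc⟩ := extraspecial_exists_centralizing hE hz1 hzz hcen F hidx2 hzF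
  have hqx0 : q * x0 = z * (x0 * q) := by
    refine (hcases q x0).resolve_left ?_
    intro hcomm
    apply hqc
    rw [mem_center_iff]
    intro y
    by_cases hy : y ∈ F
    · exact hqF y hy
    · have hm : x0⁻¹ * y ∈ F := by
        rw [mul_mem_iff_of_index_two hidx2]
        exact ⟨fun h => absurd h hx0inv, fun h => absurd h hy⟩
      have : y = x0 * (x0⁻¹ * y) := by group
      rw [this, mul_assoc, hqF _ hm, ← mul_assoc, ← hcomm, mul_assoc]
  refine ⟨q, fun x => ?_⟩
  by_cases hx : x ∈ F
  · rw [(hF x).mp hx, ← hqF x hx]; group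
  · have hm : x0⁻¹ * x ∈ F := by
      rw [mul_mem_iff_of_index_two hidx2]
      exact ⟨fun h => absurd h hx0inv, fun h => absurd h hx⟩
    have hxe : x = x0 * (x0⁻¹ * x) := by group
    have hαx : α x = x0 * z * (x0⁻¹ * x) := by
      conv_lhs => rw [hxe]
      rw [map_mul, h1, hcz, (hF _).mp hm]
    rw [hαx]
    symm
    calc q * x * q⁻¹ = (q * x0) * (x0⁻¹ * x) * q⁻¹ := by group
      _ = z * (x0 * q) * (x0⁻¹ * x) * q⁻¹ := by rw [hqx0]
      _ = z * x0 * (q * (x0⁻¹ * x)) * q⁻¹ := by group
      _ = z * x0 * ((x0⁻¹ * x) * q) * q⁻¹ := by rw [← hqF _ hm]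
      _ = z * x0 * (x0⁻¹ * x) := by group
      _ = x0 * z * (x0⁻¹ * x) := by rw [hzc x0]

end

end Cfsg.Agent.Lib.Helper9
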