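import Cfsg.Agent.Lib.Helper9.RankTwoAbelian

/-!
Automorphisms of order `p ≥ 5` of abelian `p`-groups in which `Ω₁` has order `p²` and lies in the
`p`-th powers act trivially on `Ω₁` (helper9).
-/

set_option autoImplicit false
set_option linter.style.haveILetI false
set_option linter.unusedSectionVars false

namespace Cfsg.Agent.Lib.Helper9.HomocyclicAut

open Subgroup Cfsg.Agent.Lib.Helper9 Cfsg.Agent.Lib.Helper9.StabChain
  Cfsg.Agent.Lib.Helper9.PCubeAut Cfsg.Agent.Lib.Helper9.RankTwoAbelian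

/-- the binomial computation -/
theorem key {E A : Type*} [Ring E] [AddCommGroup A] [Module E A] (p : ℕ) (hp : p.Prime)
    (h5 : 5 ≤ p) (N : E) (hN : (N + 1) ^ p = 1) (y : A)
    (hA : (N ^ 2) • (p • y) = 0) (hB : (N ^ 2) • ((N ^ 2) • y) = 0) : p • (N • y) = 0 := by
  have hterm : ∀ m : ℕ, 2 ≤ m → m ≤ p → (N ^ m * 1 ^ (p - m) * ((p.choose m : ℕ) : E)) • y = 0 := by
    intro m hm2 hmp
    rw [one_pow, mul_one]
    rcases Nat.lt_or_ge m p with hlt | hge
    · obtain ⟨c, hc⟩ := hp.dvd_choose_self (by omega) hlt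
      rw [hc]
      have e : N ^ m * ((p * c : ℕ) : E) = ((c : E) * N ^ (m - 2)) * (N ^ 2 * (p : E)) := by
        have hm : m = (m - 2) + 2 := by omega
        conv_lhs => rw [hm]
        push_cast
        rw [pow_add]
        have h1 : N ^ (m - 2) * N ^ 2 * ((p : E) * (c : E)) =
            N ^ (m - 2) * N ^ 2 * ((c : E) * (p : E)) := by
          rw [(Nat.cast_commute p (c : E)).eq]
        rw [h1]
        have h2 : N ^ (m - 2) * N ^ 2 * ((c : E) * (p : E)) =
            (N ^ (m - 2) * N ^ 2 * (c : E)) * (p : E) := by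
          rw [mul_assoc, mul_assoc, mul_assoc]
        rw [h2, ← (Nat.cast_commute c (N ^ (m - 2) * N ^ 2)).eq]
        rw [mul_assoc, mul_assoc, mul_assoc]
      rw [e, mul_smul _ (N ^ 2 * (p : E)) y, mul_smul (N ^ 2) (p : E) y, Nat.cast_smul_eq_nsmul,
        hA, smul_zero]
    · have hmp' : m = p := le_antisymm hmp hge
      subst hmp'
      rw [Nat.choose_self, Nat.cast_one, mul_one]
      have hm : m = (m - 4) + 2 + 2 := by omega
      rw [hm, pow_add, pow_add, mul_smul, mul_smul, hB, smul_zero]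
  have hsum := (Commute.one_right N).add_pow p
  rw [hN] at hsum
  have h1 : (1 : E) • y = (∑ m ∈ Finset.range (p + 1), N ^ m * 1 ^ (p - m) * ((p.choose m : ℕ) : E)) • y := by
    rw [← hsum]
  rw [Finset.sum_smul] at h1
  have hp2 : p + 1 = (p - 1) + 1 + 1 := by omega
  rw [hp2, Finset.sum_range_succ', Finset.sum_range_succ'] at h1
  have hz : ∑ i ∈ Finset.range (p - 1),
      (N ^ (i + 1 + 1) * 1 ^ (p - (i + 1 + 1)) * ((p.choose (i + 1 + 1) : ℕ) : E)) • y = 0 := by
    apply Finset.sum_eq_zero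
    intro i hi
    rw [Finset.mem_range] at hi
    exact hterm (i + 1 + 1) (by omega) (by omega)
  rw [hz, zero_add] at h1
  simp only [zero_add, pow_one, pow_zero, one_pow, mul_one, Nat.choose_one_right, Nat.choose_zero_right,
    Nat.cast_one, one_smul, tsub_zero] at h1
  -- h1 : y = (N * p) • y + y
  have h2 : (N * (p : E)) • y = 0 := by
    exact add_eq_right.1 h1.symm
  rw [mul_smul, Nat.cast_smul_eq_nsmul] at h2
  rw [← h2, smul_comm]

variable {G : Type*} [Group G] [Finite G]

/-- **Main.** -/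
theorem fix_omega (p : ℕ) [hp : Fact p.Prime] (h5 : 5 ≤ p) (hcomm : ∀ x y : G, x * y = y * x)
    (α : MulAut G) (hα : α ^ p = 1) (hΩ : Nat.card {x : G // x ^ p = 1} = p ^ 2)
    (hsurj : ∀ x : G, x ^ p = 1 → ∃ y : G, y ^ p = x) : ∀ x : G, x ^ p = 1 → α x = x := by
  have hp0 := hp.out.pos
  have hmul : ∀ x y : G, (x * y) ^ p = x ^ p * y ^ p :=
    fun x y => Commute.mul_pow (show Commute x y from hcomm x y) p
  set f : G →* G := powHom p hmul with hf
  haveI hΩc := ker_characteristic f (powHom_comm p hmul)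
  have hcardΩ : Nat.card f.ker = p ^ 2 := hΩ
  -- a nontrivial fixed point in `Ω`
  set β : MulAut f.ker := resAut f.ker α with hβ
  have hβp : β ^ p = 1 := by rw [hβ, ← map_pow, hα, map_one]
  have hP : IsPGroup p (zpowers β) := by
    rintro ⟨x, hx⟩
    obtain ⟨i, rfl⟩ := mem_zpowers_iff.1 hx
    refine ⟨1, Subtype.ext ?_⟩
    show (β ^ i) ^ (p ^ 1) = 1
    rw [pow_one, ← zpow_natCast, ← zpow_mul, mul_comm, zpow_mul, zpow_natCast, hβp, one_zpow]
  have hfix1 : (1 : f.ker) ∈ MulAction.fixedPoints (zpowers β) f.ker := by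
    intro g
    show (g : MulAut f.ker) 1 = 1
    exact map_one _
  obtain ⟨b, hb, hb1⟩ := hP.exists_fixed_point_of_prime_dvd_card_of_fixed_point f.ker
    (by rw [hcardΩ]; exact dvd_pow_self p (by norm_num)) hfix1
  have hbfix : α (b : G) = b := by
    have := hb ⟨β, mem_zpowers β⟩
    exact congrArg Subtype.val this
  have hbp : (b : G) ^ p = 1 := b.2
  have hbne : (b : G) ≠ 1 := fun h => hb1 (Subtype.ext h.symm)
  have hbo : orderOf (b : G) = p := orderOf_eq_prime hbp hbne
  -- the chain `1 < R < Ω`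
  set R : Subgroup G := zpowers (b : G) with hR
  have hRcard : Nat.card R = p := by rw [hR, Nat.card_zpowers, hbo]
  haveI hRn : R.Normal := normal_of_comm hcomm R
  have hRfix : ∀ x ∈ R, α x = x := by
    intro x hx
    obtain ⟨i, rfl⟩ := mem_zpowers_iff.1 hx
    rw [map_zpow, hbfix]
  have hRmap : R.map α.toMonoidHom = R := by
    apply le_antisymm
    · rintro _ ⟨x, hx, rfl⟩
      show α x ∈ R
      rw [hRfix x hx]; exact hx
    · intro x hx
      exact ⟨x, hx, hRfix x hx⟩
  have hRle : R ≤ f.ker := by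
    rw [hR, zpowers_le]
    exact hbp
  have hNΩ : ∀ x ∈ f.ker, x⁻¹ * α x ∈ R := by
    apply inv_mul_mem_of_prime_index p α 1 (by rw [pow_one]; exact hα) R f.ker hRmap
      (fun x hx => apply_mem_of_characteristic f.ker α hx)
    have h2 := card_map_mk' R f.ker hRle
    rw [hRcard, hcardΩ] at h2
    apply Nat.eq_of_mul_eq_mul_right hp0
    rw [h2]; ring
  -- pass to the additive setting
  letI : CommGroup G := { (inferInstance : Group G) with mul_comm := hcomm }
  let toE : MulAut G →* AddMonoid.End (Additive G) :=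
    { toFun := fun g => (g.toMonoidHom).toAdditive
      map_one' := rfl
      map_mul' := fun _ _ => rfl }
  set N : AddMonoid.End (Additive G) := toE α - 1 with hNdef
  have hN1 : (N + 1) ^ p = 1 := by
    rw [hNdef, sub_add_cancel, ← map_pow, hα, map_one]
  have hNapp : ∀ x : G, N • (Additive.ofMul x) = Additive.ofMul (x⁻¹ * α x) := by
    intro x
    rw [AddMonoid.End.smul_def, hNdef]
    show Additive.ofMul (α x) - Additive.ofMul x = _
    rw [← ofMul_div, div_eq_mul_inv, mul_comm]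
  have hN2 : ∀ x : G, x ^ p = 1 → (N ^ 2) • (Additive.ofMul x) = 0 := by
    intro x hx
    rw [pow_two, mul_smul, hNapp, hNapp]
    have h1 := hNΩ x hx
    rw [hRfix _ h1, inv_mul_cancel]
    rfl
  intro x hx
  obtain ⟨y, rfl⟩ := hsurj x hx
  have hA : (N ^ 2) • (p • (Additive.ofMul y)) = 0 := by
    rw [← ofMul_pow]
    exact hN2 _ hx
  have hB : (N ^ 2) • ((N ^ 2) • (Additive.ofMul y)) = 0 := by
    have h1 : ∃ z : G, (N ^ 2) • (Additive.ofMul y) = Additive.ofMul z := ⟨_, rfl⟩
    obtain ⟨z, hz⟩ := h1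
    rw [hz]
    apply hN2
    have h2 : p • ((N ^ 2) • (Additive.ofMul y)) = 0 := by
      rw [smul_comm, hA]
    rw [hz, ← ofMul_pow] at h2
    exact h2
  have hkey := key p hp.out h5 N hN1 (Additive.ofMul y) hA hB
  rw [smul_comm, ← ofMul_pow, hNapp] at hkey
  have h3 : (y ^ p)⁻¹ * α (y ^ p) = 1 := hkey
  rw [inv_mul_eq_one] at h3
  exact h3.symm

end Cfsg.Agent.Lib.Helper9.HomocyclicAut
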