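import Mathlib
import Cfsg.Agent.Lib.Helper2.PGroupFrattini

/-!
A finite abelian `p`-group of order `p^(2k)`, exponent dividing `p^k`, with exactly `p²` solutions
of `x^p = 1`, is isomorphic to `C_{p^k} × C_{p^k}` (helper9).
-/

set_option autoImplicit false
set_option linter.style.haveILetI false
set_option linter.unusedSectionVars false

namespace Cfsg.Agent.Lib.Helper9.HomocyclicIso

open Subgroup

variable {G : Type*} [CommGroup G] [Finite G] (p : ℕ) [hp : Fact p.Prime]

/-- the number of solutions of `x^(p^m) = 1` is at most `(#Ω₁)^m` -/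
theorem card_ker_pow_le (c : ℕ) (hΩ : Nat.card {x : G // x ^ p = 1} ≤ c) (m : ℕ) :
    Nat.card (powMonoidHom (p ^ m) : G →* G).ker ≤ c ^ m := by
  induction m with
  | zero =>
    have : (powMonoidHom (p ^ 0) : G →* G).ker = ⊥ := by
      rw [eq_bot_iff]
      intro x hx
      have h1 : x ^ (p ^ 0) = 1 := hx
      rw [pow_zero, pow_one] at h1
      rw [mem_bot]; exact h1
    rw [this, card_bot, pow_zero]
  | succ m ih =>
    set K := (powMonoidHom (p ^ (m + 1)) : G →* G).ker with hK
    set g : K →* G := (powMonoidHom p : G →* G).comp K.subtype with hg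
    have h1 : Nat.card g.range * Nat.card g.ker = Nat.card K := by
      rw [← index_ker, mul_comm, card_mul_index]
    have h2 : Nat.card g.range ≤ Nat.card (powMonoidHom (p ^ m) : G →* G).ker := by
      apply Nat.card_le_card_of_injective (fun x : g.range =>
        (⟨x.1, by
          obtain ⟨⟨y, hy⟩, hyx⟩ := x.2
          have hy' : y ^ (p ^ (m + 1)) = 1 := hy
          show (x.1) ^ (p ^ m) = 1
          rw [← hyx]
          show (y ^ p) ^ (p ^ m) = 1
          rw [← pow_mul, ← pow_succ']
          exact hy'⟩ : (powMonoidHom (p ^ m) : G →* G).ker))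
      intro x y hxy
      apply Subtype.ext
      have h := congrArg Subtype.val hxy
      exact h
    have h3 : Nat.card g.ker ≤ c := by
      refine le_trans ?_ hΩ
      apply Nat.card_le_card_of_injective (fun x : g.ker =>
        (⟨((x.1 : K) : G), by
          have := x.2
          exact this⟩ : {x : G // x ^ p = 1}))
      intro x y hxy
      apply Subtype.ext
      apply Subtype.ext
      have h := congrArg Subtype.val hxy
      exact h
    calc Nat.card K = Nat.card g.range * Nat.card g.ker := h1.symm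
      _ ≤ c ^ m * c := Nat.mul_le_mul (le_trans h2 ih) h3
      _ = c ^ (m + 1) := (pow_succ _ _).symm

include hp in
/-- **Main.** -/
theorem main (k : ℕ) (hk : 1 ≤ k) (hG : IsPGroup p G) (hcard : Nat.card G = p ^ (2 * k))
    (hexp : ∀ x : G, x ^ (p ^ k) = 1) (hΩ : Nat.card {x : G // x ^ p = 1} = p ^ 2) :
    Nonempty (G ≃* Multiplicative (ZMod (p ^ k) × ZMod (p ^ k))) := by
  classical
  have hp0 := hp.out.pos
  have hp1 := hp.out.one_lt
  -- an element of order `p^k`
  obtain ⟨x, hx⟩ : ∃ x : G, x ^ (p ^ (k - 1)) ≠ 1 := by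
    by_contra hcon
    push Not at hcon
    have htop : (powMonoidHom (p ^ (k - 1)) : G →* G).ker = ⊤ := by
      rw [eq_top_iff]
      intro x _
      exact hcon x
    have h1 := card_ker_pow_le p (p ^ 2) hΩ.le (k - 1) (G := G)
    rw [htop, card_top, hcard, ← pow_mul] at h1
    have h2 : 2 * (k - 1) < 2 * k := by omega
    have := Nat.pow_lt_pow_right hp1 h2
    omega
  set Φ : Subgroup G := (powMonoidHom p : G →* G).range with hΦ
  have hΦfr : Φ ≤ frattini G := by
    rintro _ ⟨z, rfl⟩
    exact Cfsg.Agent.Lib.Helper2.pow_mem_frattini_of_isPGroup hG z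
  have hΦcard : Nat.card Φ * p ^ 2 = p ^ (2 * k) := by
    have h1 : Nat.card (powMonoidHom p : G →* G).range * Nat.card (powMonoidHom p : G →* G).ker
        = Nat.card G := by
      rw [← index_ker, mul_comm, card_mul_index]
    have h2 : Nat.card (powMonoidHom p : G →* G).ker = Nat.card {x : G // x ^ p = 1} := rfl
    rw [h2, hΩ, hcard] at h1
    exact h1
  have hxΦ : x ∉ Φ := by
    rintro ⟨z, rfl⟩
    apply hx
    show (z ^ p) ^ (p ^ (k - 1)) = 1
    rw [← pow_mul, ← pow_succ']
    have : k - 1 + 1 = k := by omega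
    rw [this]; exact hexp z
  -- `G` is not cyclic
  have hncyc : ¬ IsCyclic G := by
    intro hc
    haveI := Fintype.ofFinite G
    have h1 := IsCyclic.card_pow_eq_one_le (α := G) hp0
    have h2 : Nat.card {x : G // x ^ p = 1} = (Finset.univ.filter (fun a : G => a ^ p = 1)).card := by
      rw [Nat.card_eq_fintype_card, Fintype.card_subtype]
    rw [hΩ] at h2
    have : p < p ^ 2 := by nlinarith
    omega
  -- `y ∉ ⟨x⟩ Φ`
  obtain ⟨y, hy⟩ : ∃ y : G, y ∉ zpowers x ⊔ Φ := by
    by_contra hcon
    push Not at hcon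
    have htop : zpowers x ⊔ Φ = ⊤ := eq_top_iff.2 fun y _ => hcon y
    have h1 : zpowers x ⊔ frattini G = ⊤ := by
      rw [eq_top_iff, ← htop]
      exact sup_le_sup_left hΦfr _
    have h2 := frattini_nongenerating h1
    apply hncyc
    refine ⟨x, fun g => ?_⟩
    have : g ∈ zpowers x := h2 ▸ mem_top g
    exact this
  -- `⟨x, y⟩ Φ = G`
  set L := zpowers x ⊔ Φ with hL
  set L' := closure {x, y} ⊔ Φ with hL'
  have hLL' : L ≤ L' := by
    apply sup_le_sup_right
    rw [zpowers_le]
    exact subset_closure (by simp)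
  have hΦL : Φ ≤ L := le_sup_right
  have hxL : x ∈ L := mem_sup_left (mem_zpowers x)
  have hyL' : y ∈ L' := mem_sup_left (subset_closure (by simp))
  obtain ⟨a, ha⟩ := IsPGroup.iff_card.1 (hG.to_subgroup Φ)
  obtain ⟨b, hb⟩ := IsPGroup.iff_card.1 (hG.to_subgroup L)
  obtain ⟨c, hc⟩ := IsPGroup.iff_card.1 (hG.to_subgroup L')
  have hak : a + 2 = 2 * k := by
    rw [ha, ← pow_add] at hΦcard
    exact Nat.pow_right_injective hp1 hΦcard
  have hab : a < b := by
    have h1 : Nat.card Φ ≤ Nat.card L := card_le_of_le hΦL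
    rw [ha, hb] at h1
    have h2 : a ≤ b := (Nat.pow_le_pow_iff_right hp1).1 h1
    rcases Nat.lt_or_ge a b with h | h
    · exact h
    · exfalso
      have hab : a = b := le_antisymm h2 h
      apply hxΦ
      have : Φ = L := eq_of_le_of_card_ge hΦL (by rw [ha, hb, hab])
      rw [this]; exact hxL
  have hbc : b < c := by
    have h1 : Nat.card L ≤ Nat.card L' := card_le_of_le hLL'
    rw [hb, hc] at h1
    have h2 : b ≤ c := (Nat.pow_le_pow_iff_right hp1).1 h1
    rcases Nat.lt_or_ge b c with h | h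
    · exact h
    · exfalso
      have hbc : b = c := le_antisymm h2 h
      apply hy
      have : L = L' := eq_of_le_of_card_ge hLL' (by rw [hb, hc, hbc])
      rw [this]; exact hyL'
  have hck : c ≤ 2 * k := by
    have h1 : Nat.card L' ≤ Nat.card G := card_le_card_group L'
    rw [hc, hcard] at h1
    exact (Nat.pow_le_pow_iff_right hp1).1 h1
  have hL'top : L' = ⊤ := by
    apply (card_eq_iff_eq_top _).1
    rw [hc, hcard]
    congr 1
    omega
  have hgen : closure {x, y} = ⊤ := by
    apply frattini_nongenerating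
    rw [eq_top_iff, ← hL'top]
    exact sup_le_sup_left hΦfr _
  -- the homomorphism
  haveI : NeZero (p ^ k) := ⟨pow_ne_zero _ hp.out.ne_zero⟩
  have hzx : ∀ z : G, (zmultiplesHom (Additive G) (Additive.ofMul z)) ((p ^ k : ℕ) : ℤ) = 0 := by
    intro z
    rw [zmultiplesHom_apply, natCast_zsmul, ← ofMul_pow, hexp z]
    rfl
  let φ₁ : ZMod (p ^ k) →+ Additive G :=
    ZMod.lift (p ^ k) ⟨zmultiplesHom (Additive G) (Additive.ofMul x), hzx x⟩
  let φ₂ : ZMod (p ^ k) →+ Additive G :=
    ZMod.lift (p ^ k) ⟨zmultiplesHom (Additive G) (Additive.ofMul y), hzx y⟩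
  let φ : Multiplicative (ZMod (p ^ k) × ZMod (p ^ k)) →* G :=
    AddMonoidHom.toMultiplicativeLeft (φ₁.coprod φ₂)
  have hφx : φ (Multiplicative.ofAdd (1, 0)) = x := by
    show (φ₁ 1 + φ₂ 0).toMul = x
    rw [map_zero, add_zero]
    show (ZMod.lift (p ^ k) ⟨zmultiplesHom (Additive G) (Additive.ofMul x), hzx x⟩ 1).toMul = x
    have : (1 : ZMod (p ^ k)) = ((1 : ℤ) : ZMod (p ^ k)) := by simp
    rw [this, ZMod.lift_coe]
    simp
  have hφy : φ (Multiplicative.ofAdd (0, 1)) = y := by
    show (φ₁ 0 + φ₂ 1).toMul = y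
    rw [map_zero, zero_add]
    show (ZMod.lift (p ^ k) ⟨zmultiplesHom (Additive G) (Additive.ofMul y), hzx y⟩ 1).toMul = y
    have : (1 : ZMod (p ^ k)) = ((1 : ℤ) : ZMod (p ^ k)) := by simp
    rw [this, ZMod.lift_coe]
    simp
  have hsurj : Function.Surjective φ := by
    rw [← MonoidHom.range_eq_top, eq_top_iff, ← hgen, closure_le]
    rintro z (rfl | rfl)
    · exact ⟨_, hφx⟩
    · exact ⟨_, hφy⟩
  have hbij : Function.Bijective φ := by
    apply Function.Surjective.bijective_of_nat_card_le hsurj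
    rw [hcard]
    have : Nat.card (Multiplicative (ZMod (p ^ k) × ZMod (p ^ k))) = p ^ k * p ^ k := by
      show Nat.card (ZMod (p ^ k) × ZMod (p ^ k)) = _
      rw [Nat.card_prod, Nat.card_zmod]
    rw [this, ← pow_add]
    apply le_of_eq
    congr 1
    omega
  exact ⟨(MulEquiv.ofBijective φ hbij).symm⟩

end Cfsg.Agent.Lib.Helper9.HomocyclicIso
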