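import Mathlib
import Cfsg.Agent.Lib.Helper2.NilpotentCoprime

/-!
Baer's characterisation of the hypercenter (helper9):
`g` lies in the hypercenter iff `⟨x, g⟩` is nilpotent for all `x`.
-/

set_option autoImplicit false

namespace Cfsg.Agent.Lib.Helper9

universe u

/-- `Z_n(G) ∩ H ≤ Z_n(H)`. -/
theorem mem_upperCentralSeries_subgroup {G : Type*} [Group G] (H : Subgroup G) :
    ∀ (n : ℕ) (h : H), (h : G) ∈ Subgroup.upperCentralSeries G n → h ∈ Subgroup.upperCentralSeries H n := by
  intro n
  induction n with
  | zero =>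
    intro h hh
    rw [Subgroup.upperCentralSeries_zero, Subgroup.mem_bot] at hh ⊢
    exact Subtype.ext hh
  | succ n ih =>
    intro h hh
    rw [Subgroup.mem_upperCentralSeries_succ_iff] at hh ⊢
    intro y
    apply ih
    have := hh (y : G)
    simpa [commutatorElement_def] using this

/-- A subgroup of a nilpotent subgroup is nilpotent. -/
theorem isNilpotent_of_le {G : Type*} [Group G] {K H : Subgroup G} (hKH : K ≤ H)
    (hH : Group.IsNilpotent H) : Group.IsNilpotent K :=
  Group.nilpotent_of_mulEquiv (Subgroup.subgroupOfEquivOfLe hKH)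

/-- If `g` lies in the hypercenter, then `⟨x, g⟩` is nilpotent. -/
theorem isNilpotent_closure_pair_of_mem_upperCentralSeries {G : Type*} [Group G] {n : ℕ} {g : G}
    (hg : g ∈ Subgroup.upperCentralSeries G n) (x : G) :
    Group.IsNilpotent ↥(Subgroup.closure ({x, g} : Set G)) := by
  set N := Subgroup.upperCentralSeries G n with hN
  set H := Subgroup.closure ({x, g} : Set G) with hH
  -- commutators of H lie in N
  have hcomm : ∀ a ∈ H, ∀ b ∈ H, a * b * a⁻¹ * b⁻¹ ∈ N := by
    have himg : H.map (QuotientGroup.mk' N) ≤ Subgroup.zpowers (QuotientGroup.mk' N x) := by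
      rw [hH, MonoidHom.map_closure, Subgroup.closure_le]
      rintro _ ⟨y, hy, rfl⟩
      rcases hy with rfl | hy
      · exact Subgroup.mem_zpowers _
      · rw [Set.mem_singleton_iff] at hy
        rw [hy]
        have : QuotientGroup.mk' N g = 1 := (QuotientGroup.eq_one_iff g).mpr hg
        rw [this]
        exact one_mem _
    intro a ha b hb
    have ha' : QuotientGroup.mk' N a ∈ Subgroup.zpowers (QuotientGroup.mk' N x) :=
      himg (Subgroup.mem_map_of_mem _ ha)
    have hb' : QuotientGroup.mk' N b ∈ Subgroup.zpowers (QuotientGroup.mk' N x) :=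
      himg (Subgroup.mem_map_of_mem _ hb)
    obtain ⟨i, hi⟩ := Subgroup.mem_zpowers_iff.mp ha'
    obtain ⟨j, hj⟩ := Subgroup.mem_zpowers_iff.mp hb'
    have h1 : QuotientGroup.mk' N (a * b * a⁻¹ * b⁻¹) = 1 := by
      rw [map_mul, map_mul, map_mul, map_inv, map_inv, ← hi, ← hj]
      rw [(Commute.refl (QuotientGroup.mk' N x)).zpow_zpow i j |>.eq]
      group
    exact (QuotientGroup.eq_one_iff _).mp h1
  refine ⟨⟨n + 1, ?_⟩⟩
  rw [eq_top_iff]
  intro a _
  rw [Subgroup.mem_upperCentralSeries_succ_iff]
  intro b
  apply mem_upperCentralSeries_subgroup H n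
  have := hcomm a a.2 b b.2
  simpa [commutatorElement_def] using this

/-- A subgroup containing a Sylow `q`-subgroup for every prime `q` is everything. -/
theorem eq_top_of_forall_sylow_le {G : Type*} [Group G] [Finite G] (C : Subgroup G)
    (h : ∀ (q : ℕ) [Fact q.Prime], ∃ S : Sylow q G, (S : Subgroup G) ≤ C) : C = ⊤ := by
  apply Subgroup.eq_top_of_card_eq
  apply Nat.dvd_antisymm (Subgroup.card_subgroup_dvd_card C)
  rw [← Nat.factorization_prime_le_iff_dvd Nat.card_pos.ne' Nat.card_pos.ne']
  intro q hq
  haveI : Fact q.Prime := ⟨hq⟩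
  obtain ⟨S, hS⟩ := h q
  have h1 := Subgroup.card_dvd_of_le hS
  rw [Sylow.card_eq_multiplicity] at h1
  exact (hq.pow_dvd_iff_le_factorization Nat.card_pos.ne').mp h1

/-- Key step: trivial Subgroup.center, `g` of prime order with all `⟨x, g⟩` nilpotent: impossible. -/
theorem false_of_center_eq_bot {G : Type u} [Group G] [Finite G] (hZ : Subgroup.center G = ⊥)
    {p : ℕ} (hp : p.Prime) (g : G) (hgo : orderOf g = p)
    (hL : ∀ x : G, Group.IsNilpotent ↥(Subgroup.closure ({x, g} : Set G))) : False := by
  haveI : Fact p.Prime := ⟨hp⟩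
  have hg1 : g ≠ 1 := by
    intro h; rw [h, orderOf_one] at hgo; exact hp.one_lt.ne hgo
  -- C = elements commuting with all p'-elements
  set C : Subgroup G := Subgroup.centralizer {x : G | (orderOf x).Coprime p} with hC
  have hgC : g ∈ C := by
    rw [hC, Subgroup.mem_centralizer_iff]
    intro x hx
    have hx' : (orderOf x).Coprime p := hx
    exact Cfsg.Agent.Lib.Helper2.commute_of_coprime_orderOf_of_mem _ (hL x) x g
      (Subgroup.subset_closure (by simp)) (Subgroup.subset_closure (by simp)) (by rw [hgo]; exact hx')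
  have hCn : C.Normal := by
    constructor
    intro c hc y
    rw [hC, Subgroup.mem_centralizer_iff] at hc ⊢
    intro x hx
    have hx' : (orderOf x).Coprime p := hx
    have h1 : y⁻¹ * x * y ∈ {x : G | (orderOf x).Coprime p} := by
      show (orderOf (y⁻¹ * x * y)).Coprime p
      have : y⁻¹ * x * y = MulAut.conj y⁻¹ x := by rw [MulAut.conj_apply, inv_inv]
      rw [this, MulEquiv.orderOf_eq]
      exact hx'
    have h2 := hc _ h1
    calc x * (y * c * y⁻¹) = y * ((y⁻¹ * x * y) * c) * y⁻¹ := by group
      _ = y * (c * (y⁻¹ * x * y)) * y⁻¹ := by rw [h2]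
      _ = y * c * y⁻¹ * x := by group
  -- a Sylow p-subgroup containing g
  obtain ⟨P, hP⟩ := (IsPGroup.of_card (p := p) (n := 1)
    (by rw [Nat.card_zpowers, hgo, pow_one]) : IsPGroup p (Subgroup.zpowers g)).exists_le_sylow
  have hgP : g ∈ (P : Subgroup G) := hP (Subgroup.mem_zpowers g)
  haveI : Group.IsNilpotent ↥(P : Subgroup G) := P.isPGroup'.isNilpotent
  haveI : (C.subgroupOf (P : Subgroup G)).Normal := hCn.subgroupOf _
  have hne : C.subgroupOf (P : Subgroup G) ≠ ⊥ := by
    intro h
    have : (⟨g, hgP⟩ : (P : Subgroup G)) ∈ C.subgroupOf (P : Subgroup G) := by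
      rw [Subgroup.mem_subgroupOf]; exact hgC
    rw [h, Subgroup.mem_bot] at this
    exact hg1 (congrArg Subtype.val this)
  have h3 := Cfsg.Agent.Lib.Helper2.normal_inf_center_ne_bot (C.subgroupOf (P : Subgroup G)) hne
  obtain ⟨⟨z, hz⟩, hz1⟩ := Subgroup.ne_bot_iff_exists_ne_one.mp h3
  obtain ⟨hzC, hzc⟩ := Subgroup.mem_inf.mp hz
  rw [Subgroup.mem_subgroupOf] at hzC
  rw [Subgroup.mem_center_iff] at hzc
  have hzne : (z : G) ≠ 1 := by
    intro h
    apply hz1
    apply Subtype.ext
    apply Subtype.ext
    exact h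
  have htop : Subgroup.centralizer ({(z : G)} : Set G) = ⊤ := by
    apply eq_top_of_forall_sylow_le
    intro q hq
    by_cases hqp : q = p
    · subst hqp
      refine ⟨P, ?_⟩
      intro u hu
      rw [Subgroup.mem_centralizer_iff]
      intro h hh
      rw [Set.mem_singleton_iff] at hh
      subst hh
      have := hzc ⟨u, hu⟩
      exact (congrArg Subtype.val this).symm
    · obtain ⟨S⟩ := (inferInstance : Nonempty (Sylow q G))
      refine ⟨S, ?_⟩
      intro u hu
      rw [Subgroup.mem_centralizer_iff]
      intro h hh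
      rw [Set.mem_singleton_iff] at hh
      subst hh
      have hu' : u ∈ {x : G | (orderOf x).Coprime p} := by
        show (orderOf u).Coprime p
        obtain ⟨k, hk⟩ := S.isPGroup'.exists_orderOf_eq_pow ⟨u, hu⟩
        rw [Subgroup.orderOf_mk] at hk
        rw [hk]
        apply Nat.Coprime.pow_left
        exact (Nat.coprime_primes hq.out hp).mpr hqp
      rw [hC, Subgroup.mem_centralizer_iff] at hzC
      exact (hzC u hu').symm
  have hzcen : (z : G) ∈ Subgroup.center G := by
    rw [Subgroup.mem_center_iff]
    intro y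
    have hy : y ∈ Subgroup.centralizer ({(z : G)} : Set G) := by rw [htop]; exact Subgroup.mem_top y
    rw [Subgroup.mem_centralizer_iff] at hy
    exact (hy _ (Set.mem_singleton _)).symm
  rw [hZ, Subgroup.mem_bot] at hzcen
  exact hzne hzcen

/-- Baer: if `⟨x, g⟩` is nilpotent for all `x`, then `g` lies in the hypercenter. -/
theorem mem_hypercenter_aux : ∀ (n : ℕ) (G : Type u) [Group G] [Finite G], Nat.card G = n →
    ∀ g : G, (∀ x : G, Group.IsNilpotent ↥(Subgroup.closure ({x, g} : Set G))) →
      ∃ m, g ∈ Subgroup.upperCentralSeries G m := by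
  intro n
  induction n using Nat.strong_induction_on with
  | _ n ih =>
    intro G _ _ hcard g hL
    by_cases hZ : Subgroup.center G = ⊥
    · -- show g = 1
      refine ⟨0, ?_⟩
      rw [Subgroup.upperCentralSeries_zero, Subgroup.mem_bot]
      by_contra hg1
      have ho : orderOf g ≠ 1 := fun h => hg1 (orderOf_eq_one_iff.mp h)
      set p := (orderOf g).minFac with hp
      have hpp : p.Prime := Nat.minFac_prime ho
      have hpd : p ∣ orderOf g := Nat.minFac_dvd _
      have hgo : orderOf (g ^ (orderOf g / p)) = p :=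
        orderOf_pow_orderOf_div (orderOf_pos g).ne' hpd
      apply false_of_center_eq_bot hZ hpp _ hgo
      intro x
      apply isNilpotent_of_le _ (hL x)
      rw [Subgroup.closure_le]
      rintro y (rfl | hy)
      · exact Subgroup.subset_closure (by simp)
      · rw [Set.mem_singleton_iff] at hy
        rw [hy]
        exact Subgroup.pow_mem _ (Subgroup.subset_closure (by simp)) _
    · -- pass to the quotient by the center
      have hlt : Nat.card (G ⧸ Subgroup.center G) < n := by
        rw [← hcard, Subgroup.card_eq_card_quotient_mul_card_subgroup (Subgroup.center G)]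
        have h1 : 1 < Nat.card (Subgroup.center G) :=
          (Subgroup.one_lt_card_iff_ne_bot _).mpr hZ
        have h2 : 0 < Nat.card (G ⧸ Subgroup.center G) := Nat.card_pos
        nlinarith
      have hLq : ∀ y : G ⧸ Subgroup.center G, Group.IsNilpotent
          ↥(Subgroup.closure ({y, QuotientGroup.mk' (Subgroup.center G) g} : Set _)) := by
        intro y
        obtain ⟨x, rfl⟩ := QuotientGroup.mk'_surjective (Subgroup.center G) y
        have heq : Subgroup.closure ({QuotientGroup.mk' (Subgroup.center G) x,
            QuotientGroup.mk' (Subgroup.center G) g} : Set _) =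
            (Subgroup.closure ({x, g} : Set G)).map (QuotientGroup.mk' (Subgroup.center G)) := by
          rw [MonoidHom.map_closure, Set.image_pair]
        rw [heq]
        haveI := hL x
        exact Group.nilpotent_of_surjective _
          (MonoidHom.subgroupMap_surjective (QuotientGroup.mk' (Subgroup.center G)) _)
      obtain ⟨m, hm⟩ := ih _ hlt (G ⧸ Subgroup.center G) rfl _ hLq
      refine ⟨m + 1, ?_⟩
      rw [← Subgroup.comap_upperCentralSeries_quotient_center]
      exact hm

theorem mem_hypercenter_of_forall_isNilpotent {G : Type u} [Group G] [Finite G] (g : G)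
    (hL : ∀ x : G, Group.IsNilpotent ↥(Subgroup.closure ({x, g} : Set G))) :
    ∃ m, g ∈ Subgroup.upperCentralSeries G m :=
  mem_hypercenter_aux _ G rfl g hL

/-- Baer's characterisation of the hypercenter. -/
theorem forall_isNilpotent_closure_pair_iff {G : Type u} [Group G] [Finite G] (g : G) :
    (∀ x : G, Group.IsNilpotent ↥(Subgroup.closure ({x, g} : Set G))) ↔
      g ∈ ⨆ n : ℕ, Subgroup.upperCentralSeries G n := by
  rw [Subgroup.mem_iSup_of_directed (Subgroup.upperCentralSeries_mono G).directed_le]
  constructor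
  · exact mem_hypercenter_of_forall_isNilpotent g
  · rintro ⟨n, hn⟩ x
    exact isNilpotent_closure_pair_of_mem_upperCentralSeries hn x

end Cfsg.Agent.Lib.Helper9
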