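import Mathlib
import Cfsg.Agent.Lib.Helper2.NilpotentCoprime

/-!
Ito's theorem on groups with two conjugacy class sizes `{1, n}` (helper9): basic lemmas.
-/

set_option autoImplicit false

namespace Cfsg.Agent.Lib.Helper9.Ito

open Subgroup

section

variable {G : Type*} [Group G]

/-- `x ∈ Z(G)` iff its centralizer has index one. -/
theorem mem_center_iff_index_eq_one (x : G) :
    x ∈ center G ↔ (centralizer ({x} : Set G)).index = 1 := by
  rw [index_eq_one, centralizer_eq_top_iff_subset, Set.singleton_subset_iff]
  rfl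

theorem mem_centralizer_self (x : G) : x ∈ centralizer ({x} : Set G) := by
  rw [mem_centralizer_singleton_iff]

theorem center_le_centralizer_singleton (x : G) : center G ≤ centralizer ({x} : Set G) :=
  center_le_centralizer _

/-- if `y` is a power of `x` then `C(x) ≤ C(y)`. -/
theorem centralizer_le_of_mem_zpowers {x y : G} (hy : y ∈ zpowers x) :
    centralizer ({x} : Set G) ≤ centralizer ({y} : Set G) := by
  intro c hc
  rw [mem_centralizer_singleton_iff] at hc ⊢
  obtain ⟨k, rfl⟩ := mem_zpowers_iff.mp hy
  exact (Commute.zpow_right (show Commute c x from hc) k).eq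

/-- If `y ^ j ∈ H` with `j` coprime to the order of `y`, then `y ∈ H`. -/
theorem mem_of_pow_mem_of_coprime (H : Subgroup G) {y : G} {j : ℕ} (hy : y ^ j ∈ H)
    (hc : (orderOf y).Coprime j) : y ∈ H := by
  have h1 : y ∈ zpowers (y ^ j) := by
    obtain ⟨m, hm⟩ := exists_pow_eq_self_of_coprime (x := y) hc.symm
    have h2 := Subgroup.pow_mem (zpowers (y ^ j)) (mem_zpowers _) m
    rwa [hm] at h2
  exact (zpowers_le.mpr hy) h1

end

section Two

variable {G : Type*} [Group G] [Finite G] {n : ℕ}

/-- The two class size hypothesis. -/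
def TwoSizes (G : Type*) [Group G] (n : ℕ) : Prop :=
  ∀ x : G, (centralizer ({x} : Set G)).index = 1 ∨ (centralizer ({x} : Set G)).index = n

theorem index_eq (h : TwoSizes G n) {x : G} (hx : x ∉ center G) :
    (centralizer ({x} : Set G)).index = n := by
  rcases h x with h1 | h1
  · exact absurd ((mem_center_iff_index_eq_one x).mpr h1) hx
  · exact h1

theorem n_pos (h : TwoSizes G n) {x : G} (hx : x ∉ center G) : 0 < n := by
  rw [← index_eq h hx]
  exact Nat.pos_of_ne_zero (Subgroup.index_ne_zero_of_finite)

/-- The F-property: comparable centralizers of noncentral elements are equal. -/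
theorem centralizer_eq_of_le (h : TwoSizes G n) {x y : G} (hx : x ∉ center G)
    (hy : y ∉ center G) (hle : centralizer ({x} : Set G) ≤ centralizer ({y} : Set G)) :
    centralizer ({x} : Set G) = centralizer ({y} : Set G) := by
  apply le_antisymm hle
  have h1 := relIndex_mul_index hle
  rw [index_eq h hx, index_eq h hy] at h1
  have hpos : 0 < n := n_pos h hx
  have : (centralizer ({x} : Set G)).relIndex (centralizer {y}) = 1 :=
    Nat.eq_of_mul_eq_mul_right hpos (by rw [h1, one_mul])
  exact relIndex_eq_one.mp this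

/-- `L2`: if `y` commutes with the noncentral `x` and has coprime order, then `C(x) ≤ C(y)`. -/
theorem centralizer_le_of_commute_coprime (h : TwoSizes G n) {x y : G} (hx : x ∉ center G)
    (hxy : Commute x y) (hc : (orderOf x).Coprime (orderOf y)) :
    centralizer ({x} : Set G) ≤ centralizer ({y} : Set G) := by
  -- x and y are powers of x * y
  have hord : orderOf (x * y) = orderOf x * orderOf y :=
    hxy.orderOf_mul_eq_mul_orderOf_of_coprime hc
  have hxpow : x ∈ zpowers (x * y) := by
    have h1 : (x * y) ^ orderOf y = x ^ orderOf y := by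
      rw [hxy.mul_pow, pow_orderOf_eq_one, mul_one]
    have h2 : x ∈ zpowers (x ^ orderOf y) := by
      obtain ⟨m, hm⟩ := exists_pow_eq_self_of_coprime (x := x) hc.symm
      have h2' := Subgroup.pow_mem (zpowers (x ^ orderOf y)) (mem_zpowers _) m
      rwa [hm] at h2'
    have h3 : x ^ orderOf y ∈ zpowers (x * y) := by
      rw [← h1]; exact Subgroup.pow_mem _ (mem_zpowers _) _
    exact (zpowers_le.mpr h3) h2
  have hypow : y ∈ zpowers (x * y) := by
    have hyy : x⁻¹ * (x * y) = y := by group
    have h4 : x⁻¹ * (x * y) ∈ zpowers (x * y) :=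
      Subgroup.mul_mem _ (Subgroup.inv_mem _ hxpow) (mem_zpowers _)
    rw [hyy] at h4
    exact h4
  have hxyZ : x * y ∉ center G := by
    intro hz
    apply hx
    exact (zpowers_le.mpr hz) hxpow
  have h1 : centralizer ({x * y} : Set G) ≤ centralizer ({x} : Set G) :=
    centralizer_le_of_mem_zpowers hxpow
  have h2 : centralizer ({x * y} : Set G) = centralizer ({x} : Set G) :=
    centralizer_eq_of_le h hxyZ hx h1
  rw [← h2]
  exact centralizer_le_of_mem_zpowers hypow

/-- `L1`: every noncentral element has a noncentral power of prime power order with the same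
centralizer. -/
theorem exists_primary_power (h : TwoSizes G n) :
    ∀ (N : ℕ) (w : G), orderOf w = N → w ∉ center G →
      ∃ (s : ℕ) (w' : G), s.Prime ∧ w' ∈ zpowers w ∧ w' ∉ center G ∧ (∃ k, orderOf w' = s ^ k) ∧
        centralizer ({w} : Set G) = centralizer ({w'} : Set G) := by
  intro N
  induction N using Nat.strong_induction_on with
  | _ N ih =>
    intro w hN hw
    have hw1 : w ≠ 1 := by rintro rfl; exact hw (one_mem _)
    have ho : orderOf w ≠ 1 := fun h1 => hw1 (orderOf_eq_one_iff.mp h1)
    set p := (orderOf w).minFac with hp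
    have hpp : p.Prime := Nat.minFac_prime ho
    have hpd : p ∣ orderOf w := Nat.minFac_dvd _
    obtain ⟨a, b, ha, hb, hab, ⟨k, hak⟩, hbc⟩ :=
      Cfsg.Agent.Lib.Helper2.exists_p_decomp w p hpp
    by_cases haZ : a ∈ center G
    · -- then b is noncentral of smaller order
      have hbZ : b ∉ center G := by
        intro hbZ
        apply hw
        rw [hab]
        exact mul_mem haZ hbZ
      have hbo : orderOf b ∣ orderOf w := orderOf_dvd_of_mem_zpowers hb
      have hlt : orderOf b < N := by
        rw [← hN]
        apply lt_of_le_of_ne (Nat.le_of_dvd (orderOf_pos w) hbo)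
        intro heq
        rw [heq] at hbc
        exact hpp.one_lt.ne' (hbc.symm.eq_one_of_dvd hpd)
      obtain ⟨s, w', hs, hw'b, hw'Z, hw'k, hC⟩ := ih _ hlt b rfl hbZ
      have hw'w : w' ∈ zpowers w := (zpowers_le.mpr hb) hw'b
      refine ⟨s, w', hs, hw'w, hw'Z, hw'k, ?_⟩
      exact centralizer_eq_of_le h hw hw'Z (centralizer_le_of_mem_zpowers hw'w)
    · obtain ⟨k', hk'⟩ := (Nat.dvd_prime_pow hpp).mp hak
      exact ⟨p, a, hpp, ha, haZ, ⟨k', hk'.2⟩,
        centralizer_eq_of_le h hw haZ (centralizer_le_of_mem_zpowers ha)⟩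

end Two

end Cfsg.Agent.Lib.Helper9.Ito
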