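import Mathlib
import Cfsg.Agent.Lib.Helper9.ItoBasic
import Cfsg.Agent.Lib.Helper9.FittingPower

/-!
Ito's theorem on groups with two conjugacy class sizes `{1, n}` (helper9): commuting pairs of
noncentral elements of coprime prime power orders force all centralizers to be abelian.
-/

set_option autoImplicit false

namespace Cfsg.Agent.Lib.Helper9.Ito

open Subgroup

variable {G : Type*} [Group G] [Finite G] {n : ℕ}

theorem card_centralizer_eq (h : TwoSizes G n) {x y : G} (hx : x ∉ center G)
    (hy : y ∉ center G) :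
    Nat.card (centralizer ({x} : Set G)) = Nat.card (centralizer ({y} : Set G)) := by
  have h1 := Subgroup.card_mul_index (centralizer ({x} : Set G))
  have h2 := Subgroup.card_mul_index (centralizer ({y} : Set G))
  rw [index_eq h hx] at h1
  rw [index_eq h hy] at h2
  have hpos : 0 < n := n_pos h hx
  exact Nat.eq_of_mul_eq_mul_right hpos (h1.trans h2.symm)

/-- If there is a noncentral `q`-element, then the centralizer of every noncentral element
contains a noncentral `q`-element. -/
theorem exists_noncentral_primary_mem (h : TwoSizes G n) {q : ℕ} (hq : q.Prime) {x w : G}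
    (hx : x ∉ center G) (hxq : ∃ k, orderOf x = q ^ k) (hw : w ∉ center G) :
    ∃ x' ∈ centralizer ({w} : Set G), x' ∉ center G ∧ ∃ k, orderOf x' = q ^ k := by
  haveI : Fact q.Prime := ⟨hq⟩
  by_contra hcon
  push Not at hcon
  -- a Sylow q-subgroup of C(w) is central
  obtain ⟨S⟩ := (inferInstance : Nonempty (Sylow q ↥(centralizer ({w} : Set G))))
  have hSZ : (S : Subgroup ↥(centralizer ({w} : Set G))).map (centralizer ({w} : Set G)).subtype
      ≤ center G := by
    rintro _ ⟨s, hs, rfl⟩
    by_contra hsZ
    obtain ⟨k, hk⟩ := S.isPGroup'.exists_orderOf_eq_pow ⟨s, hs⟩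
    rw [Subgroup.orderOf_mk] at hk
    apply hcon (s : G) s.2 hsZ k
    rw [← hk, Subgroup.orderOf_coe]
  have hcardS : Nat.card ((S : Subgroup ↥(centralizer ({w} : Set G))).map
      (centralizer ({w} : Set G)).subtype) =
      q ^ (Nat.card (centralizer ({w} : Set G))).factorization q := by
    rw [Subgroup.card_map_of_injective (Subgroup.subtype_injective _)]
    exact S.card_eq_multiplicity
  have hdvd : q ^ (Nat.card (centralizer ({w} : Set G))).factorization q ∣
      Nat.card (center G) := by
    rw [← hcardS]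
    exact Subgroup.card_dvd_of_le hSZ
  -- but q divides |C(x) : Z|
  have hZx : center G ≤ centralizer ({x} : Set G) := center_le_centralizer_singleton x
  have hcard := card_mul_relIndex_of_le hZx
  set j := (center G).relIndex (centralizer ({x} : Set G)) with hj
  have hqj : q ∣ j := by
    by_contra hqj
    apply hx
    have h1 : (⟨x, mem_centralizer_self x⟩ : centralizer ({x} : Set G)) ^ j ∈
        (center G).subgroupOf (centralizer ({x} : Set G)) := by
      haveI : ((center G).subgroupOf (centralizer ({x} : Set G))).Normal := inferInstance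
      exact Subgroup.pow_index_mem _ _
    rw [mem_subgroupOf] at h1
    have h2 : x ^ j ∈ center G := by simpa using h1
    apply mem_of_pow_mem_of_coprime _ h2
    obtain ⟨k, hk⟩ := hxq
    rw [hk]
    exact Nat.Coprime.pow_left k ((Nat.Prime.coprime_iff_not_dvd hq).mpr hqj)
  have hcZ : Nat.card (center G) ≠ 0 := Nat.card_pos.ne'
  have hj0 : j ≠ 0 := by
    intro h0
    rw [h0] at hqj
    rw [h0, mul_zero] at hcard
    exact (Nat.card_pos (α := centralizer ({x} : Set G))).ne' hcard.symm
  have hfac : (Nat.card (centralizer ({x} : Set G))).factorization q =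
      (Nat.card (center G)).factorization q + j.factorization q := by
    rw [← hcard, Nat.factorization_mul hcZ hj0]
    rfl
  have hjpos : 0 < j.factorization q := hq.factorization_pos_of_dvd hj0 hqj
  rw [card_centralizer_eq h hw hx] at hdvd
  have := (hq.pow_dvd_iff_le_factorization hcZ).mp hdvd
  omega

/-- A commuting pair of noncentral elements of coprime prime power orders has an abelian common
centralizer. -/
theorem centralizer_abelian_of_pair (h : TwoSizes G n) {q r : ℕ} (hq : q.Prime) (hr : r.Prime)
    (hqr : q ≠ r) {x y : G} (hx : x ∉ center G) (hy : y ∉ center G)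
    (hxq : ∃ k, orderOf x = q ^ k) (hyr : ∃ k, orderOf y = r ^ k) (hxy : Commute x y) :
    centralizer ({x} : Set G) = centralizer ({y} : Set G) ∧
      ∀ a ∈ centralizer ({x} : Set G), ∀ b ∈ centralizer ({x} : Set G), a * b = b * a := by
  obtain ⟨kx, hkx⟩ := hxq
  obtain ⟨ky, hky⟩ := hyr
  have hcop : (orderOf x).Coprime (orderOf y) := by
    rw [hkx, hky]
    exact Nat.Coprime.pow _ _ ((Nat.coprime_primes hq hr).mpr hqr)
  have hle : centralizer ({x} : Set G) ≤ centralizer ({y} : Set G) :=
    centralizer_le_of_commute_coprime h hx hxy hcop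
  have heq : centralizer ({x} : Set G) = centralizer ({y} : Set G) :=
    centralizer_eq_of_le h hx hy hle
  refine ⟨heq, ?_⟩
  -- every element of D is central in D
  have hcentral : ∀ a ∈ centralizer ({x} : Set G), ∀ b ∈ centralizer ({x} : Set G),
      b * a = a * b := by
    intro a ha b hb
    obtain ⟨a1, a2, ha1, ha2, haa, ⟨k1, hk1⟩, hk2⟩ :=
      Cfsg.Agent.Lib.Helper2.exists_p_decomp a q hq
    have ha1D : a1 ∈ centralizer ({x} : Set G) :=
      (zpowers_le.mpr ha) ha1
    have ha2D : a2 ∈ centralizer ({x} : Set G) :=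
      (zpowers_le.mpr ha) ha2
    -- a2 is a q'-element commuting with x
    have h2 : centralizer ({x} : Set G) ≤ centralizer ({a2} : Set G) := by
      apply centralizer_le_of_commute_coprime h hx
      · exact (mem_centralizer_singleton_iff.mp ha2D).symm
      · rw [hkx]
        exact Nat.Coprime.pow_left _ hk2.symm
    -- a1 is a q-element, hence r'-element, commuting with y
    have h1 : centralizer ({y} : Set G) ≤ centralizer ({a1} : Set G) := by
      apply centralizer_le_of_commute_coprime h hy
      · rw [heq] at ha1D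
        exact (mem_centralizer_singleton_iff.mp ha1D).symm
      · obtain ⟨k1', hk1'⟩ := (Nat.dvd_prime_pow hq).mp hk1
        rw [hky, hk1'.2]
        exact Nat.Coprime.pow _ _ ((Nat.coprime_primes hr hq).mpr hqr.symm)
    have hb1 : b * a1 = a1 * b := by
      have := h1 (heq ▸ hb)
      exact mem_centralizer_singleton_iff.mp this
    have hb2 : b * a2 = a2 * b := by
      have := h2 hb
      exact mem_centralizer_singleton_iff.mp this
    rw [haa]
    calc b * (a1 * a2) = (b * a1) * a2 := by group
      _ = a1 * (b * a2) := by rw [hb1]; group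
      _ = a1 * a2 * b := by rw [hb2]; group
  intro a ha b hb
  exact (hcentral b hb a ha)

/-- Given a commuting pair as above, every centralizer of a noncentral element is abelian. -/
theorem centralizer_abelian_all (h : TwoSizes G n) {q r : ℕ} (hq : q.Prime) (hr : r.Prime)
    (hqr : q ≠ r) {x y : G} (hx : x ∉ center G) (hy : y ∉ center G)
    (hxq : ∃ k, orderOf x = q ^ k) (hyr : ∃ k, orderOf y = r ^ k) {w : G} (hw : w ∉ center G) :
    ∀ a ∈ centralizer ({w} : Set G), ∀ b ∈ centralizer ({w} : Set G), a * b = b * a := by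
  obtain ⟨s, w', hs, hw'w, hw'Z, ⟨ks, hks⟩, hC⟩ := exists_primary_power h _ w rfl hw
  rw [hC]
  -- generic step: s ≠ q₁, noncentral q₁-element x₁ and r₁-element y₁ exist, q₁ ≠ r₁
  have key : ∀ (q₁ r₁ : ℕ) (hq₁ : q₁.Prime) (hr₁ : r₁.Prime) (hne : q₁ ≠ r₁) (x₁ y₁ : G),
      x₁ ∉ center G → y₁ ∉ center G → (∃ k, orderOf x₁ = q₁ ^ k) → (∃ k, orderOf y₁ = r₁ ^ k) →
      s ≠ q₁ →
      ∀ a ∈ centralizer ({w'} : Set G), ∀ b ∈ centralizer ({w'} : Set G), a * b = b * a := by
    intro q₁ r₁ hq₁ hr₁ hne x₁ y₁ hx₁ hy₁ hxq₁ hyr₁ hsq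
    obtain ⟨x', hx'C, hx'Z, kx', hkx'⟩ := exists_noncentral_primary_mem h hq₁ hx₁ hxq₁ hw'Z
    have hle : centralizer ({w'} : Set G) ≤ centralizer ({x'} : Set G) := by
      apply centralizer_le_of_commute_coprime h hw'Z
      · exact (mem_centralizer_singleton_iff.mp hx'C).symm
      · rw [hks, hkx']
        exact Nat.Coprime.pow _ _ ((Nat.coprime_primes hs hq₁).mpr hsq)
    have heq := centralizer_eq_of_le h hw'Z hx'Z hle
    obtain ⟨y', hy'C, hy'Z, ky', hky'⟩ := exists_noncentral_primary_mem h hr₁ hy₁ hyr₁ hx'Z
    have hpair := centralizer_abelian_of_pair h hq₁ hr₁ hne hx'Z hy'Z ⟨kx', hkx'⟩ ⟨ky', hky'⟩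
      (mem_centralizer_singleton_iff.mp hy'C).symm
    rw [heq]
    exact hpair.2
  by_cases hsq : s = q
  · exact key r q hr hq hqr.symm y x hy hx hyr hxq (by rw [hsq]; exact hqr)
  · exact key q r hq hr hqr x y hx hy hxq hyr hsq

/-- With all centralizers abelian: a noncentral element of `C(w)` has centralizer `C(w)`. -/
theorem centralizer_eq_of_mem_of_abelian (h : TwoSizes G n) {w z : G} (hw : w ∉ center G)
    (hz : z ∉ center G) (hzw : z ∈ centralizer ({w} : Set G))
    (hab : ∀ a ∈ centralizer ({w} : Set G), ∀ b ∈ centralizer ({w} : Set G), a * b = b * a) :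
    centralizer ({z} : Set G) = centralizer ({w} : Set G) := by
  symm
  apply centralizer_eq_of_le h hw hz
  intro c hc
  rw [mem_centralizer_singleton_iff]
  exact hab c hc z hzw

end Cfsg.Agent.Lib.Helper9.Ito
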