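import Mathlib

/-!
Counting `u`-torsion in finite abelian groups of order `u * v` with `u, v` coprime (helper9).
-/

set_option autoImplicit false

namespace Cfsg.Agent.Lib.Helper9.Ito

open Subgroup

/-- In a finite abelian group of order `u * v` (`u, v` coprime) the `u`-torsion has order
dividing `u`. -/
theorem card_ker_pow_dvd {B : Type*} [CommGroup B] [Finite B] {u v : ℕ} (hc : u.Coprime v)
    (hB : Nat.card B = u * v) : Nat.card (powMonoidHom u : B →* B).ker ∣ u := by
  have h1 : Nat.card (powMonoidHom u : B →* B).ker ∣ u * v := by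
    rw [← hB]; exact Subgroup.card_subgroup_dvd_card _
  have h2 : (Nat.card (powMonoidHom u : B →* B).ker).Coprime v := by
    apply Nat.coprime_of_dvd
    intro s hs hs1 hs2
    haveI : Fact s.Prime := ⟨hs⟩
    obtain ⟨b, hb⟩ := exists_prime_orderOf_dvd_card' s hs1
    have hbu : (b : B) ^ u = 1 := by
      have := b.2
      rwa [MonoidHom.mem_ker, powMonoidHom_apply] at this
    have hsu : s ∣ u := by
      rw [← hb, ← Subgroup.orderOf_coe]
      exact orderOf_dvd_of_pow_eq_one hbu
    have : s ∣ Nat.gcd u v := Nat.dvd_gcd hsu hs2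
    rw [hc] at this
    exact hs.one_lt.ne' (Nat.dvd_one.mp this)
  exact h2.dvd_of_dvd_mul_right h1

/-- In a finite abelian group of order `u * v` (`u, v` coprime) exactly `u` elements satisfy
`b ^ u = 1`. -/
theorem card_ker_pow_eq {B : Type*} [CommGroup B] [Finite B] {u v : ℕ} (hc : u.Coprime v)
    (hB : Nat.card B = u * v) : Nat.card (powMonoidHom u : B →* B).ker = u := by
  have hpos : 0 < u * v := by rw [← hB]; exact Nat.card_pos
  have hu : 0 < u := Nat.pos_of_mul_pos_right hpos
  have hv : 0 < v := Nat.pos_of_mul_pos_left hpos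
  have hdu := card_ker_pow_dvd hc hB
  have hdv := card_ker_pow_dvd hc.symm (by rw [hB, mul_comm] : Nat.card B = v * u)
  -- range of x ↦ x^v is inside the u-torsion
  have hrange : (powMonoidHom v : B →* B).range ≤ (powMonoidHom u : B →* B).ker := by
    rintro _ ⟨b, rfl⟩
    rw [MonoidHom.mem_ker, powMonoidHom_apply, powMonoidHom_apply, ← pow_mul, mul_comm, ← hB]
    exact pow_card_eq_one'
  have h1 := Subgroup.card_mul_index (powMonoidHom v : B →* B).ker
  rw [Subgroup.index_ker, hB] at h1
  have h2 : Nat.card (powMonoidHom v : B →* B).range ≤ Nat.card (powMonoidHom u : B →* B).ker :=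
    Nat.le_of_dvd Nat.card_pos (Subgroup.card_dvd_of_le hrange)
  have h3 : Nat.card (powMonoidHom v : B →* B).ker ≤ v := Nat.le_of_dvd hv hdv
  have h4 : Nat.card (powMonoidHom u : B →* B).ker ≤ u := Nat.le_of_dvd hu hdu
  by_contra hne
  have h5 : Nat.card (powMonoidHom u : B →* B).ker < u := lt_of_le_of_ne h4 hne
  have h6 : Nat.card (powMonoidHom v : B →* B).ker * Nat.card (powMonoidHom v : B →* B).range
      < u * v := by
    calc Nat.card (powMonoidHom v : B →* B).ker * Nat.card (powMonoidHom v : B →* B).range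
        ≤ v * Nat.card (powMonoidHom u : B →* B).ker := Nat.mul_le_mul h3 h2
      _ < v * u := Nat.mul_lt_mul_of_pos_left h5 hv
      _ = u * v := mul_comm _ _
  omega

/-- Relative version: `Z0 ≤ A` of index `u * v` in the finite abelian group `A`; exactly
`u * |Z0|` elements `a` satisfy `a ^ u ∈ Z0`. -/
theorem card_pow_mem_eq {A : Type*} [CommGroup A] [Finite A] (Z0 : Subgroup A) {u v : ℕ}
    (hc : u.Coprime v) (hidx : Z0.index = u * v) :
    Nat.card {a : A // a ^ u ∈ Z0} = u * Nat.card Z0 := by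
  have hB : Nat.card (A ⧸ Z0) = u * v := by rw [← Subgroup.index_eq_card, hidx]
  have hpos : 0 < u * v := by rw [← hB]; exact Nat.card_pos
  have hu : 0 < u := Nat.pos_of_mul_pos_right hpos
  have hv : 0 < v := Nat.pos_of_mul_pos_left hpos
  have hker := card_ker_pow_eq hc hB
  set K : Subgroup A := (powMonoidHom u : (A ⧸ Z0) →* (A ⧸ Z0)).ker.comap (QuotientGroup.mk' Z0)
    with hK
  have hKmem : ∀ a : A, a ∈ K ↔ a ^ u ∈ Z0 := by
    intro a
    rw [hK, Subgroup.mem_comap, MonoidHom.mem_ker, powMonoidHom_apply, ← map_pow,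
      QuotientGroup.mk'_apply, QuotientGroup.eq_one_iff]
  have hcardK : Nat.card {a : A // a ^ u ∈ Z0} = Nat.card K := by
    apply Nat.card_congr
    exact Equiv.subtypeEquivRight (fun a => (hKmem a).symm)
  rw [hcardK]
  have hidxK : K.index = (powMonoidHom u : (A ⧸ Z0) →* (A ⧸ Z0)).ker.index :=
    Subgroup.index_comap_of_surjective _ (QuotientGroup.mk'_surjective Z0)
  have h1 := Subgroup.card_mul_index K
  have h2 := Subgroup.card_mul_index (powMonoidHom u : (A ⧸ Z0) →* (A ⧸ Z0)).ker
  have h3 := Subgroup.card_mul_index Z0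
  rw [hker, hB] at h2
  have h4 : (powMonoidHom u : (A ⧸ Z0) →* (A ⧸ Z0)).ker.index = v :=
    Nat.eq_of_mul_eq_mul_left hu h2
  rw [hidxK, h4, ← h3, hidx] at h1
  -- card K * v = card Z0 * (u * v)
  have : Nat.card K * v = (u * Nat.card Z0) * v := by rw [h1]; ring
  exact Nat.eq_of_mul_eq_mul_right hv this

end Cfsg.Agent.Lib.Helper9.Ito
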