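import Mathlib
import Cfsg.Agent.Lib.Helper9.ItoCases
import Cfsg.Agent.Lib.Helper9.ItoTorsion
import Cfsg.Agent.Lib.Helper9.ClassSize

/-!
Ito's theorem on groups with two conjugacy class sizes `{1, n}` (helper9): the counting argument
excluding the case where all centralizers are abelian and two primes are involved.
-/

set_option autoImplicit false

namespace Cfsg.Agent.Lib.Helper9.Ito

open Subgroup

variable {G : Type*} [Group G]

/-- All centralizers of noncentral elements are abelian. -/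
def AllAbelian (G : Type*) [Group G] : Prop :=
  ∀ w : G, w ∉ center G → ∀ a ∈ centralizer ({w} : Set G), ∀ b ∈ centralizer ({w} : Set G),
    a * b = b * a

theorem mem_of_pow_mem_of_pow_mem_coprime (H : Subgroup G) {g : G} {u v : ℕ}
    (hu : g ^ u ∈ H) (hv : g ^ v ∈ H) (hc : u.Coprime v) : g ∈ H := by
  have h1 := Int.gcd_eq_gcd_ab (u : ℤ) (v : ℤ)
  rw [Int.gcd_natCast_natCast, hc] at h1
  have h2 : g = (g ^ u) ^ (Int.gcdA u v) * (g ^ v) ^ (Int.gcdB u v) := by
    rw [← zpow_natCast g u, ← zpow_natCast g v, ← zpow_mul, ← zpow_mul, ← zpow_add, ← h1]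
    simp
  rw [h2]
  exact H.mul_mem (H.zpow_mem hu _) (H.zpow_mem hv _)

theorem pow_relIndex_mem_center {D : Subgroup G} (hZD : center G ≤ D) {d : G} (hd : d ∈ D) :
    d ^ (center G).relIndex D ∈ center G := by
  have h1 : (⟨d, hd⟩ : D) ^ (center G).relIndex D ∈ (center G).subgroupOf D := by
    haveI : ((center G).subgroupOf D).Normal := inferInstance
    exact Subgroup.pow_index_mem _ _
  rw [mem_subgroupOf] at h1
  simpa using h1

theorem prime_dvd_relIndex {D : Subgroup G} (hZD : center G ≤ D) {q : ℕ} (hq : q.Prime) {x : G}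
    (hx : x ∉ center G) (hxq : ∃ k, orderOf x = q ^ k) (hxD : x ∈ D) :
    q ∣ (center G).relIndex D := by
  by_contra hqj
  apply hx
  apply mem_of_pow_mem_of_coprime _ (pow_relIndex_mem_center hZD hxD)
  obtain ⟨k, hk⟩ := hxq
  rw [hk]
  exact Nat.Coprime.pow_left k ((Nat.Prime.coprime_iff_not_dvd hq).mpr hqj)

theorem inv_conj_pow (g d : G) (k : ℕ) : (g⁻¹ * d * g) ^ k = g⁻¹ * d ^ k * g := by
  have := conj_pow (a := g⁻¹) (b := d) (i := k)
  rwa [inv_inv] at this

theorem conj_pow_eq {z d g : G} (hz : z ∈ center G) (hd : g⁻¹ * d * g = d * z) (k : ℕ) :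
    (g ^ k)⁻¹ * d * g ^ k = d * z ^ k := by
  induction k with
  | zero => simp
  | succ k ih =>
    have hzk : z ^ k ∈ center G := Subgroup.pow_mem _ hz k
    rw [mem_center_iff] at hzk
    calc (g ^ (k + 1))⁻¹ * d * g ^ (k + 1) = g⁻¹ * ((g ^ k)⁻¹ * d * g ^ k) * g := by
          rw [pow_succ]; group
      _ = g⁻¹ * (d * z ^ k) * g := by rw [ih]
      _ = (g⁻¹ * d * g) * (g⁻¹ * (z ^ k * g)) := by group
      _ = (d * z) * (g⁻¹ * (g * z ^ k)) := by rw [hd, hzk g]
      _ = d * z ^ (k + 1) := by rw [pow_succ']; group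

variable [Finite G] {n : ℕ}

/-- The key semiregularity statement. -/
theorem mem_centralizer_of_comm_mod_center (h : TwoSizes G n) (hab : AllAbelian G) {u v : ℕ}
    (hc : u.Coprime v) {d : G}
    (hm : (center G).relIndex (centralizer ({d} : Set G)) = u * v)
    (hdu : d ^ u ∉ center G) (hdv : d ^ v ∉ center G) {g : G}
    (hg : d⁻¹ * (g⁻¹ * d * g) ∈ center G) : g ∈ centralizer ({d} : Set G) := by
  set z := d⁻¹ * (g⁻¹ * d * g) with hz
  have hgd : g⁻¹ * d * g = d * z := by rw [hz]; group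
  have hdZ : d ∉ center G := fun hd => hdu (Subgroup.pow_mem _ hd u)
  have hZD : center G ≤ centralizer ({d} : Set G) := center_le_centralizer_singleton d
  have hdm : d ^ (u * v) ∈ center G := by
    rw [← hm]; exact pow_relIndex_mem_center hZD (mem_centralizer_self d)
  have hzc : ∀ k : ℕ, Commute d (z ^ k) := by
    intro k
    have := Subgroup.pow_mem _ hg k
    rw [mem_center_iff] at this
    exact this d
  -- z^(uv) = 1
  have hzm : z ^ (u * v) = 1 := by
    have h1 : (g⁻¹ * d * g) ^ (u * v) = g⁻¹ * d ^ (u * v) * g := inv_conj_pow g d _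
    have h2 : g⁻¹ * d ^ (u * v) * g = d ^ (u * v) := by
      rw [mem_center_iff] at hdm
      rw [mul_assoc, ← hdm g]; group
    have h3 : (d * z) ^ (u * v) = d ^ (u * v) * z ^ (u * v) := by
      have := (hzc 1); rw [pow_one] at this
      exact this.mul_pow _
    rw [hgd, h3] at h1
    rw [h2] at h1
    exact mul_left_cancel (a := d ^ (u * v)) (by rw [h1, mul_one])
  -- g^u centralizes d^v
  have hD : ∀ w : G, w ∉ center G → w ∈ centralizer ({d} : Set G) →
      centralizer ({w} : Set G) = centralizer ({d} : Set G) := fun w hw hwd =>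
    centralizer_eq_of_mem_of_abelian h hdZ hw hwd (hab d hdZ)
  have hdpow : ∀ k : ℕ, d ^ k ∈ centralizer ({d} : Set G) := fun k =>
    Subgroup.pow_mem _ (mem_centralizer_self d) k
  have hgu : g ^ u ∈ centralizer ({d} : Set G) := by
    rw [← hD (d ^ v) hdv (hdpow v), mem_centralizer_singleton_iff]
    have h1 := conj_pow_eq hg hgd u
    have h2 : (g ^ u)⁻¹ * d ^ v * g ^ u = ((g ^ u)⁻¹ * d * g ^ u) ^ v :=
      (inv_conj_pow (g ^ u) d v).symm
    rw [h1, (hzc u).mul_pow, ← pow_mul, hzm, mul_one] at h2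
    calc g ^ u * d ^ v = g ^ u * ((g ^ u)⁻¹ * d ^ v * g ^ u) := by rw [h2]
      _ = d ^ v * g ^ u := by group
  have hgv : g ^ v ∈ centralizer ({d} : Set G) := by
    rw [← hD (d ^ u) hdu (hdpow u), mem_centralizer_singleton_iff]
    have h1 := conj_pow_eq hg hgd v
    have h2 : (g ^ v)⁻¹ * d ^ u * g ^ v = ((g ^ v)⁻¹ * d * g ^ v) ^ u :=
      (inv_conj_pow (g ^ v) d u).symm
    rw [h1, (hzc v).mul_pow, ← pow_mul, mul_comm v u, hzm, mul_one] at h2
    calc g ^ v * d ^ u = g ^ v * ((g ^ v)⁻¹ * d ^ u * g ^ v) := by rw [h2]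
      _ = d ^ u * g ^ v := by group
  exact mem_of_pow_mem_of_pow_mem_coprime _ hgu hgv hc

end Cfsg.Agent.Lib.Helper9.Ito
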