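import Mathlib
import Cfsg.Agent.Lib.Helper9.ItoCount

/-!
Ito's theorem (helper9): counting with the partition of `G ∖ Z(G)` into abelian centralizers.
-/

set_option autoImplicit false

namespace Cfsg.Agent.Lib.Helper9.Ito

open Subgroup Finset

open scoped Classical

variable {G : Type*} [Group G] [Fintype G] {n : ℕ}

/-- The set of centralizers of noncentral elements. -/
noncomputable def cents (G : Type*) [Group G] [Fintype G] : Finset (Subgroup G) :=
  (univ.filter (fun w : G => w ∉ center G)).image (fun w => centralizer ({w} : Set G))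

theorem card_filter_eq_sum (h : TwoSizes G n) (hab : AllAbelian G) (Pd : G → Prop)
    (hPd : ∀ w, Pd w → w ∉ center G) :
    (univ.filter Pd).card = ∑ D ∈ cents G, (univ.filter (fun w => Pd w ∧ w ∈ D)).card := by
  have hmaps : Set.MapsTo (fun w : G => centralizer ({w} : Set G)) ↑(univ.filter Pd)
      ↑(cents G) := by
    intro w hw
    rw [Finset.mem_coe, Finset.mem_filter] at hw
    rw [Finset.mem_coe, cents, Finset.mem_image]
    refine ⟨w, ?_, rfl⟩
    rw [Finset.mem_filter]
    exact ⟨Finset.mem_univ _, hPd w hw.2⟩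
  rw [Finset.card_eq_sum_card_fiberwise hmaps]
  apply Finset.sum_congr rfl
  intro D hD
  rw [cents, Finset.mem_image] at hD
  obtain ⟨w0, hw0, rfl⟩ := hD
  rw [Finset.mem_filter] at hw0
  congr 1
  ext w
  simp only [Finset.mem_filter, Finset.mem_univ, true_and]
  constructor
  · rintro ⟨hw, hC⟩
    refine ⟨hw, ?_⟩
    rw [← hC]
    exact mem_centralizer_self w
  · rintro ⟨hw, hwD⟩
    exact ⟨hw, centralizer_eq_of_mem_of_abelian h hw0.2 (hPd w hw) hwD (hab w0 hw0.2)⟩

omit [Group G] in
theorem card_filter_eq_natCard (p : G → Prop) [DecidablePred p] :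
    (univ.filter p).card = Nat.card {w // p w} := by
  rw [Nat.card_eq_fintype_card, Fintype.card_subtype]

theorem card_filter_mem (H : Subgroup G) [DecidablePred (fun w : G => w ∈ H)] :
    (univ.filter (fun w : G => w ∈ H)).card = Nat.card H :=
  card_filter_eq_natCard _

/-- Each member of `cents G` contributes `|D| - |Z|` noncentral elements. -/
theorem card_noncentral_in (h : TwoSizes G n) {u v : ℕ}
    (hm : ∀ w : G, w ∉ center G → (center G).relIndex (centralizer ({w} : Set G)) = u * v)
    {D : Subgroup G} (hD : D ∈ cents G) :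
    (univ.filter (fun w : G => w ∉ center G ∧ w ∈ D)).card + Nat.card (center G) =
      Nat.card (center G) * (u * v) := by
  rw [cents, Finset.mem_image] at hD
  obtain ⟨w0, hw0, rfl⟩ := hD
  rw [Finset.mem_filter] at hw0
  have hZD : center G ≤ centralizer ({w0} : Set G) := center_le_centralizer_singleton w0
  have hcard := card_mul_relIndex_of_le hZD
  rw [hm w0 hw0.2] at hcard
  rw [hcard, ← card_filter_mem (centralizer ({w0} : Set G)), ← card_filter_mem (center G)]
  have hsplit : (univ.filter (fun w : G => w ∈ centralizer ({w0} : Set G))) =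
      (univ.filter (fun w : G => w ∉ center G ∧ w ∈ centralizer ({w0} : Set G))) ∪
        (univ.filter (fun w : G => w ∈ center G)) := by
    ext w
    simp only [Finset.mem_filter, Finset.mem_univ, true_and, Finset.mem_union]
    constructor
    · intro hw
      by_cases hwZ : w ∈ center G
      · exact Or.inr hwZ
      · exact Or.inl ⟨hwZ, hw⟩
    · rintro (⟨_, hw⟩ | hw)
      · exact hw
      · exact hZD hw
  have hdisj : Disjoint (univ.filter (fun w : G => w ∉ center G ∧ w ∈ centralizer ({w0} : Set G)))
      (univ.filter (fun w : G => w ∈ center G)) := by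
    rw [Finset.disjoint_left]
    intro w hw1 hw2
    simp only [Finset.mem_filter, Finset.mem_univ, true_and] at hw1 hw2
    exact hw1.1 hw2
  rw [hsplit, Finset.card_union_of_disjoint hdisj]

/-- The number of `w ∈ D` with `w ^ u ∈ Z(G)`. -/
theorem card_pow_mem_center_in {u v : ℕ} (hc : u.Coprime v) {D : Subgroup G}
    (hDab : ∀ a ∈ D, ∀ b ∈ D, a * b = b * a) (hZD : center G ≤ D)
    (hidx : (center G).relIndex D = u * v) :
    (univ.filter (fun w : G => w ∈ D ∧ w ^ u ∈ center G)).card = u * Nat.card (center G) := by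
  letI : CommGroup ↥D :=
    { (inferInstance : Group ↥D) with
      mul_comm := fun a b => Subtype.ext (hDab a.1 a.2 b.1 b.2) }
  have h1 := card_pow_mem_eq ((center G).subgroupOf D) hc hidx
  have h2 : Nat.card ((center G).subgroupOf D) = Nat.card (center G) :=
    Nat.card_congr (Subgroup.subgroupOfEquivOfLe hZD).toEquiv
  rw [h2] at h1
  rw [card_filter_eq_natCard, ← h1]
  apply Nat.card_congr
  exact
    { toFun := fun w => ⟨⟨w.1, w.2.1⟩, by
        rw [mem_subgroupOf]; exact w.2.2⟩
      invFun := fun a => ⟨a.1.1, a.1.2, by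
        have := a.2; rw [mem_subgroupOf] at this; exact this⟩
      left_inv := fun w => rfl
      right_inv := fun a => rfl }

/-- Each member of `cents G` contributes `|Z| (u-1)(v-1)` elements with `w^u, w^v ∉ Z`. -/
theorem card_special_in (h : TwoSizes G n) (hab : AllAbelian G) {u v : ℕ} (hc : u.Coprime v)
    (hm : ∀ w : G, w ∉ center G → (center G).relIndex (centralizer ({w} : Set G)) = u * v)
    {D : Subgroup G} (hD : D ∈ cents G) :
    (univ.filter (fun w : G => (w ^ u ∉ center G ∧ w ^ v ∉ center G) ∧ w ∈ D)).card +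
        u * Nat.card (center G) + v * Nat.card (center G) =
      Nat.card (center G) * (u * v) + Nat.card (center G) := by
  rw [cents, Finset.mem_image] at hD
  obtain ⟨w0, hw0, rfl⟩ := hD
  rw [Finset.mem_filter] at hw0
  set D := centralizer ({w0} : Set G) with hDdef
  have hZD : center G ≤ D := center_le_centralizer_singleton w0
  have hDab : ∀ a ∈ D, ∀ b ∈ D, a * b = b * a := hab w0 hw0.2
  have hidx := hm w0 hw0.2
  have hcard := card_mul_relIndex_of_le hZD
  rw [hidx] at hcard
  have hKu := card_pow_mem_center_in hc hDab hZD hidx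
  have hKv := card_pow_mem_center_in hc.symm hDab hZD (by rw [hidx, mul_comm])
  set X := univ.filter (fun w : G => (w ^ u ∉ center G ∧ w ^ v ∉ center G) ∧ w ∈ D) with hX
  set Ku := univ.filter (fun w : G => w ∈ D ∧ w ^ u ∈ center G) with hKudef
  set Kv := univ.filter (fun w : G => w ∈ D ∧ w ^ v ∈ center G) with hKvdef
  have hinter : Ku ∩ Kv = univ.filter (fun w : G => w ∈ center G) := by
    ext w
    simp only [hKudef, hKvdef, Finset.mem_inter, Finset.mem_filter, Finset.mem_univ, true_and]
    constructor
    · rintro ⟨⟨_, h1⟩, ⟨_, h2⟩⟩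
      exact mem_of_pow_mem_of_pow_mem_coprime _ h1 h2 hc
    · intro hw
      exact ⟨⟨hZD hw, Subgroup.pow_mem _ hw _⟩, ⟨hZD hw, Subgroup.pow_mem _ hw _⟩⟩
  have hsplit : univ.filter (fun w : G => w ∈ D) = X ∪ (Ku ∪ Kv) := by
    ext w
    simp only [hX, hKudef, hKvdef, Finset.mem_union, Finset.mem_filter, Finset.mem_univ, true_and]
    constructor
    · intro hw
      by_cases h1 : w ^ u ∈ center G
      · exact Or.inr (Or.inl ⟨hw, h1⟩)
      · by_cases h2 : w ^ v ∈ center G
        · exact Or.inr (Or.inr ⟨hw, h2⟩)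
        · exact Or.inl ⟨⟨h1, h2⟩, hw⟩
    · rintro (⟨_, hw⟩ | ⟨hw, _⟩ | ⟨hw, _⟩) <;> exact hw
  have hdisj : Disjoint X (Ku ∪ Kv) := by
    rw [Finset.disjoint_left]
    intro w hw1 hw2
    simp only [hX, hKudef, hKvdef, Finset.mem_union, Finset.mem_filter, Finset.mem_univ,
      true_and] at hw1 hw2
    rcases hw2 with hw2 | hw2
    · exact hw1.1.1 hw2.2
    · exact hw1.1.2 hw2.2
  have h3 := Finset.card_union_add_card_inter Ku Kv
  rw [hinter, card_filter_mem, hKu, hKv] at h3
  have h4 : (univ.filter (fun w : G => w ∈ D)).card = X.card + (Ku ∪ Kv).card := by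
    rw [hsplit, Finset.card_union_of_disjoint hdisj]
  rw [card_filter_mem, ← hcard] at h4
  omega

end Cfsg.Agent.Lib.Helper9.Ito
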