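import Mathlib
import Cfsg.Agent.Lib.Helper9.ItoCount2

/-!
Ito's theorem (helper9): totals and the quotient by the center.
-/

set_option autoImplicit false

namespace Cfsg.Agent.Lib.Helper9.Ito

open Subgroup Finset

open scoped Classical

section

variable {G : Type*} [Group G] [Fintype G] {n : ℕ}

theorem total_counts (h : TwoSizes G n) (hab : AllAbelian G) {u v : ℕ} (hc : u.Coprime v)
    (hm : ∀ w : G, w ∉ center G → (center G).relIndex (centralizer ({w} : Set G)) = u * v) :
    ∃ k : ℕ,
      Nat.card G + k * Nat.card (center G) =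
        Nat.card (center G) + k * (Nat.card (center G) * (u * v)) ∧
      Nat.card {d : G // d ^ u ∉ center G ∧ d ^ v ∉ center G} +
          k * (u * Nat.card (center G) + v * Nat.card (center G)) =
        k * (Nat.card (center G) * (u * v) + Nat.card (center G)) := by
  refine ⟨(cents G).card, ?_, ?_⟩
  · have h1 : (univ.filter (fun w : G => w ∉ center G)).card =
        ∑ D ∈ cents G, (univ.filter (fun w : G => w ∉ center G ∧ w ∈ D)).card := by
      convert card_filter_eq_sum h hab (fun w => w ∉ center G) (fun w hw => hw)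
    have h2 : ∑ D ∈ cents G, ((univ.filter (fun w : G => w ∉ center G ∧ w ∈ D)).card +
        Nat.card (center G)) = ∑ _D ∈ cents G, Nat.card (center G) * (u * v) :=
      Finset.sum_congr rfl (fun D hD => card_noncentral_in h hm hD)
    rw [Finset.sum_add_distrib, Finset.sum_const, Finset.sum_const, smul_eq_mul, smul_eq_mul,
      ← h1] at h2
    have h3 := Finset.card_filter_add_card_filter_not (s := (univ : Finset G))
      (fun w : G => w ∈ center G)
    rw [card_filter_mem, Finset.card_univ, ← Nat.card_eq_fintype_card] at h3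
    omega
  · have h1 : (univ.filter (fun w : G => w ^ u ∉ center G ∧ w ^ v ∉ center G)).card =
        ∑ D ∈ cents G,
          (univ.filter (fun w : G => (w ^ u ∉ center G ∧ w ^ v ∉ center G) ∧ w ∈ D)).card := by
      convert card_filter_eq_sum h hab (fun w => w ^ u ∉ center G ∧ w ^ v ∉ center G)
        (fun w hw hwZ => hw.1 (Subgroup.pow_mem _ hwZ u))
    have h2 : ∑ D ∈ cents G,
        ((univ.filter (fun w : G => (w ^ u ∉ center G ∧ w ^ v ∉ center G) ∧ w ∈ D)).card +
          u * Nat.card (center G) + v * Nat.card (center G)) =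
        ∑ _D ∈ cents G, (Nat.card (center G) * (u * v) + Nat.card (center G)) :=
      Finset.sum_congr rfl (fun D hD => card_special_in h hab hc hm hD)
    rw [Finset.sum_add_distrib, Finset.sum_add_distrib, Finset.sum_const, Finset.sum_const,
      Finset.sum_const, smul_eq_mul, smul_eq_mul, smul_eq_mul, ← h1, card_filter_eq_natCard] at h2
    rw [mul_add, ← h2]
    ring

end

section Quot

variable {G : Type*} [Group G] [Finite G] {n : ℕ}

/-- The class of `a ∈ G / Z(G)` with `a^u ≠ 1 ≠ a^v` has size `n`. -/
theorem card_class_quotient (h : TwoSizes G n) (hab : AllAbelian G) {u v : ℕ} (hc : u.Coprime v)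
    (hm : ∀ w : G, w ∉ center G → (center G).relIndex (centralizer ({w} : Set G)) = u * v)
    (a : G ⧸ center G) (hau : a ^ u ≠ 1) (hav : a ^ v ≠ 1) :
    Nat.card (ConjClasses.mk a).carrier = n := by
  obtain ⟨d, rfl⟩ := QuotientGroup.mk'_surjective (center G) a
  have hdu : d ^ u ∉ center G := by
    intro hd
    apply hau
    rw [← map_pow]
    exact (QuotientGroup.eq_one_iff _).mpr hd
  have hdv : d ^ v ∉ center G := by
    intro hd
    apply hav
    rw [← map_pow]
    exact (QuotientGroup.eq_one_iff _).mpr hd
  have hdZ : d ∉ center G := fun hd => hdu (Subgroup.pow_mem _ hd u)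
  have hcomap : (centralizer ({QuotientGroup.mk' (center G) d} : Set (G ⧸ center G))).comap
      (QuotientGroup.mk' (center G)) = centralizer ({d} : Set G) := by
    ext g
    rw [Subgroup.mem_comap, mem_centralizer_singleton_iff]
    constructor
    · intro hg
      apply mem_centralizer_of_comm_mod_center h hab hc (hm d hdZ) hdu hdv
      rw [← QuotientGroup.eq_one_iff, ← QuotientGroup.mk'_apply, map_mul, map_mul, map_mul,
        map_inv, map_inv]
      calc (QuotientGroup.mk' (center G) d)⁻¹ * ((QuotientGroup.mk' (center G) g)⁻¹ *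
            QuotientGroup.mk' (center G) d * QuotientGroup.mk' (center G) g)
          = (QuotientGroup.mk' (center G) d)⁻¹ * ((QuotientGroup.mk' (center G) g)⁻¹ *
            (QuotientGroup.mk' (center G) g * QuotientGroup.mk' (center G) d)) := by
              rw [mul_assoc ((QuotientGroup.mk' (center G) g)⁻¹), hg]
        _ = 1 := by group
    · intro hg
      rw [mem_centralizer_singleton_iff] at hg
      rw [← map_mul, ← map_mul, hg]
  have hidx : (centralizer ({QuotientGroup.mk' (center G) d} : Set (G ⧸ center G))).index = n := by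
    rw [← Subgroup.index_comap_of_surjective _ (QuotientGroup.mk'_surjective (center G)), hcomap]
    exact index_eq h hdZ
  have h1 := Cfsg.Agent.Lib.Helper9.card_carrier_mul_card_centralizer
    (QuotientGroup.mk' (center G) d)
  have h2 := Subgroup.card_mul_index
    (centralizer ({QuotientGroup.mk' (center G) d} : Set (G ⧸ center G)))
  rw [hidx] at h2
  have hpos : 0 < Nat.card (centralizer ({QuotientGroup.mk' (center G) d} : Set (G ⧸ center G))) :=
    Nat.card_pos
  have h3 : Nat.card (ConjClasses.mk (QuotientGroup.mk' (center G) d)).carrier *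
      Nat.card (centralizer ({QuotientGroup.mk' (center G) d} : Set (G ⧸ center G))) =
      n * Nat.card (centralizer ({QuotientGroup.mk' (center G) d} : Set (G ⧸ center G))) := by
    rw [h1, ← h2, mul_comm]
  exact Nat.eq_of_mul_eq_mul_right hpos h3

theorem dvd_card_special_quotient (h : TwoSizes G n) (hab : AllAbelian G) {u v : ℕ}
    (hc : u.Coprime v)
    (hm : ∀ w : G, w ∉ center G → (center G).relIndex (centralizer ({w} : Set G)) = u * v) :
    n ∣ Nat.card {a : G ⧸ center G // a ^ u ≠ 1 ∧ a ^ v ≠ 1} := by
  haveI : Fintype (G ⧸ center G) := Fintype.ofFinite _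
  rw [← card_filter_eq_natCard]
  set X := univ.filter (fun a : G ⧸ center G => a ^ u ≠ 1 ∧ a ^ v ≠ 1) with hX
  have hmaps : Set.MapsTo (ConjClasses.mk : G ⧸ center G → ConjClasses (G ⧸ center G)) ↑X
      ↑(X.image ConjClasses.mk) := by
    intro a ha
    exact Finset.mem_coe.mpr (Finset.mem_image_of_mem _ (Finset.mem_coe.mp ha))
  rw [Finset.card_eq_sum_card_fiberwise hmaps]
  apply Finset.dvd_sum
  intro c hc'
  rw [Finset.mem_image] at hc'
  obtain ⟨a0, ha0, rfl⟩ := hc'
  rw [hX, Finset.mem_filter] at ha0
  have hfib : (X.filter (fun a => ConjClasses.mk a = ConjClasses.mk a0)) =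
      univ.filter (fun a : G ⧸ center G => a ∈ (ConjClasses.mk a0).carrier) := by
    ext a
    simp only [hX, Finset.mem_filter, Finset.mem_univ, true_and,
      ConjClasses.mem_carrier_iff_mk_eq]
    constructor
    · rintro ⟨_, ha⟩
      exact ha
    · intro ha
      refine ⟨?_, ha⟩
      rw [ConjClasses.mk_eq_mk_iff_isConj, isConj_comm, isConj_iff] at ha
      obtain ⟨g, rfl⟩ := ha
      rw [conj_pow, conj_pow]
      constructor
      · intro h1
        apply ha0.2.1
        have := congrArg (fun t => g⁻¹ * t * g) h1
        simpa [mul_assoc] using this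
      · intro h1
        apply ha0.2.2
        have := congrArg (fun t => g⁻¹ * t * g) h1
        simpa [mul_assoc] using this
  rw [hfib, card_filter_eq_natCard]
  have := card_class_quotient h hab hc hm a0 ha0.2.1 ha0.2.2
  rw [← this]

theorem card_special_eq (u v : ℕ) :
    Nat.card {d : G // d ^ u ∉ center G ∧ d ^ v ∉ center G} =
      Nat.card (center G) * Nat.card {a : G ⧸ center G // a ^ u ≠ 1 ∧ a ^ v ≠ 1} := by
  have h1 := QuotientGroup.card_preimage_mk (center G)
    {a : G ⧸ center G | a ^ u ≠ 1 ∧ a ^ v ≠ 1}
  have h2 : Nat.card {d : G // d ^ u ∉ center G ∧ d ^ v ∉ center G} =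
      Nat.card ↑(QuotientGroup.mk ⁻¹' {a : G ⧸ center G | a ^ u ≠ 1 ∧ a ^ v ≠ 1}) := by
    apply Nat.card_congr
    apply Equiv.subtypeEquivRight
    intro d
    simp only [Set.mem_setOf_eq, Set.mem_preimage]
    rw [← QuotientGroup.mk_pow, ← QuotientGroup.mk_pow, ne_eq, ne_eq, QuotientGroup.eq_one_iff,
      QuotientGroup.eq_one_iff]
  rw [h2, h1]
  rfl

end Quot

end Cfsg.Agent.Lib.Helper9.Ito
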