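import Mathlib
import Cfsg.Agent.Lib.Helper9.ItoCount3

/-!
Ito's theorem (helper9): in a group with class sizes `{1, n}` all noncentral elements of prime
power order belong to one prime.
-/

set_option autoImplicit false

namespace Cfsg.Agent.Lib.Helper9.Ito

open Subgroup

theorem arithmetic_contra {n z0 k a b Xq cardG : ℕ} (hn : 2 ≤ n) (hz0 : 0 < z0) (ha : 1 ≤ a)
    (hb : 1 ≤ b)
    (hA : cardG + k * z0 = z0 + k * (z0 * ((a + 1) * (b + 1))))
    (hB : cardG = n * (z0 * ((a + 1) * (b + 1))))
    (hC : z0 * Xq + k * ((a + 1) * z0 + (b + 1) * z0) = k * (z0 * ((a + 1) * (b + 1)) + z0))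
    (hD : n ∣ Xq) : False := by
  set m := (a + 1) * (b + 1) with hm
  -- n m + k = 1 + k m
  have h1 : n * m + k = 1 + k * m := by
    have : z0 * (n * m + k) = z0 * (1 + k * m) := by
      rw [hB] at hA
      calc z0 * (n * m + k) = n * (z0 * m) + k * z0 := by ring
        _ = z0 + k * (z0 * m) := hA
        _ = z0 * (1 + k * m) := by ring
    exact Nat.eq_of_mul_eq_mul_left hz0 this
  -- Xq = k a b
  have h2 : Xq = k * (a * b) := by
    have : z0 * (Xq + k * (a + b + 2)) = z0 * (k * (a * b) + k * (a + b + 2)) := by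
      calc z0 * (Xq + k * (a + b + 2)) = z0 * Xq + k * ((a + 1) * z0 + (b + 1) * z0) := by ring
        _ = k * (z0 * m + z0) := hC
        _ = z0 * (k * (a * b) + k * (a + b + 2)) := by rw [hm]; ring
    have h3 := Nat.eq_of_mul_eq_mul_left hz0 this
    omega
  -- gcd(n, k) = 1
  have hcop : n.Coprime k := by
    have hg1 : Nat.gcd n k ∣ n * m + k :=
      Nat.dvd_add (Dvd.dvd.mul_right (Nat.gcd_dvd_left n k) m) (Nat.gcd_dvd_right n k)
    rw [h1] at hg1
    have hg2 : Nat.gcd n k ∣ k * m := Dvd.dvd.mul_right (Nat.gcd_dvd_right n k) m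
    have hg3 : Nat.gcd n k ∣ 1 := (Nat.dvd_add_left hg2).mp hg1
    exact Nat.dvd_one.mp hg3
  rw [h2] at hD
  have h4 : n ∣ a * b := hcop.dvd_of_dvd_mul_left hD
  have hab : 0 < a * b := Nat.mul_pos ha hb
  have h5 : n ≤ a * b := Nat.le_of_dvd hab h4
  have h6 : n + 3 ≤ m := by
    have : m = a * b + a + b + 1 := by rw [hm]; ring
    omega
  rcases le_or_gt k n with hk | hk
  · -- k ≤ n
    have : k * m ≤ n * m := Nat.mul_le_mul_right m hk
    have hk1 : k ≤ 1 := by omega
    interval_cases k
    · simp at h1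
      have : 0 < n * m := Nat.mul_pos (by omega) (by omega)
      omega
    · have : n * m + 1 = 1 + m := by simpa using h1
      have : 2 * m ≤ n * m := Nat.mul_le_mul_right m hn
      omega
  · obtain ⟨t, rfl⟩ : ∃ t, k = n + t + 1 := ⟨k - n - 1, by omega⟩
    have h7 : (t + 1) * m + 1 = n + t + 1 := by
      have : (n + t + 1) * m = n * m + (t + 1) * m := by ring
      omega
    have h8 : m ≤ (t + 1) * m := Nat.le_mul_of_pos_left m (by omega)
    have h9 : (t + 1) * m + 1 = (t + 1) * (m - 1) + (t + 1) + 1 := by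
      have : m = (m - 1) + 1 := by omega
      conv_lhs => rw [this]
      ring
    have h10 : (m - 1) ≤ (t + 1) * (m - 1) := Nat.le_mul_of_pos_left _ (by omega)
    omega

variable {G : Type*} [Group G] [Finite G] {n : ℕ}

/-- Ito: all noncentral elements of prime power order are `p`-elements for a single prime. -/
theorem unique_prime (h : TwoSizes G n) (hn : 1 < n) {q r : ℕ} (hq : q.Prime) (hr : r.Prime)
    {x y : G} (hx : x ∉ center G) (hy : y ∉ center G) (hxq : ∃ k, orderOf x = q ^ k)
    (hyr : ∃ k, orderOf y = r ^ k) : q = r := by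
  by_contra hqr
  haveI : Fintype G := Fintype.ofFinite G
  have hab : AllAbelian G := fun w hw =>
    centralizer_abelian_all h hq hr hqr hx hy hxq hyr hw
  obtain ⟨m, hmdef⟩ : ∃ m, m = (center G).relIndex (centralizer ({x} : Set G)) := ⟨_, rfl⟩
  have hZx : center G ≤ centralizer ({x} : Set G) := center_le_centralizer_singleton x
  have hz0 : 0 < Nat.card (center G) := Nat.card_pos
  have hcardx := card_mul_relIndex_of_le hZx
  rw [← hmdef] at hcardx
  have hm : ∀ w : G, w ∉ center G → (center G).relIndex (centralizer ({w} : Set G)) = m := by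
    intro w hw
    have h1 := card_mul_relIndex_of_le (center_le_centralizer_singleton w)
    rw [card_centralizer_eq h hw hx, ← hcardx] at h1
    exact Nat.eq_of_mul_eq_mul_left hz0 h1
  have hqm : q ∣ m := by
    rw [hmdef]; exact prime_dvd_relIndex hZx hq hx hxq (mem_centralizer_self x)
  obtain ⟨y', hy'C, hy'Z, hy'r⟩ := exists_noncentral_primary_mem h hr hy hyr hx
  have hrm : r ∣ m := by
    rw [hmdef]; exact prime_dvd_relIndex hZx hr hy'Z hy'r hy'C
  have hm0 : m ≠ 0 := by
    intro h0
    rw [h0, mul_zero] at hcardx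
    exact (Nat.card_pos (α := centralizer ({x} : Set G))).ne' hcardx.symm
  obtain ⟨u, hu⟩ : ∃ u, u = q ^ m.factorization q := ⟨_, rfl⟩
  obtain ⟨v, hv⟩ : ∃ v, v = m / q ^ m.factorization q := ⟨_, rfl⟩
  have huv : u * v = m := by rw [hu, hv]; exact Nat.ordProj_mul_ordCompl_eq_self m q
  have hc : u.Coprime v := by rw [hu, hv]; exact (Nat.coprime_ordCompl hq hm0).pow_left _
  have hfq : 0 < m.factorization q := hq.factorization_pos_of_dvd hm0 hqm
  have hu2 : 2 ≤ u := by
    rw [hu]
    calc 2 ≤ q := hq.two_le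
      _ = q ^ 1 := (pow_one q).symm
      _ ≤ q ^ m.factorization q := Nat.pow_le_pow_right hq.pos hfq
  have hv0 : v ≠ 0 := by
    intro h0
    rw [h0, mul_zero] at huv
    exact hm0 huv.symm
  have hv2 : 2 ≤ v := by
    have hrv : r ∣ v := by
      have h1 : r ∣ u * v := by rw [huv]; exact hrm
      have h2 : r.Coprime u := by
        rw [hu]
        exact Nat.Coprime.pow_right _ ((Nat.coprime_primes hr hq).mpr (Ne.symm hqr))
      exact h2.dvd_of_dvd_mul_left h1
    exact le_trans hr.two_le (Nat.le_of_dvd (Nat.pos_of_ne_zero hv0) hrv)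
  have hm' : ∀ w : G, w ∉ center G →
      (center G).relIndex (centralizer ({w} : Set G)) = u * v := by
    intro w hw; rw [huv]; exact hm w hw
  obtain ⟨k, hA, hC⟩ := total_counts h hab hc hm'
  have hD := dvd_card_special_quotient h hab hc hm'
  have hE := card_special_eq (G := G) u v
  rw [hE] at hC
  obtain ⟨a, rfl⟩ : ∃ a, u = a + 1 := ⟨u - 1, by omega⟩
  obtain ⟨b, rfl⟩ : ∃ b, v = b + 1 := ⟨v - 1, by omega⟩
  have hB : Nat.card G = n * (Nat.card (center G) * ((a + 1) * (b + 1))) := by
    have h1 := Subgroup.card_mul_index (centralizer ({x} : Set G))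
    rw [index_eq h hx, ← hcardx, ← huv] at h1
    rw [← h1, mul_comm]
  exact arithmetic_contra (by omega) hz0 (by omega) (by omega) hA hB hC hD

end Cfsg.Agent.Lib.Helper9.Ito
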