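import Mathlib

/-!
A "partition of `C_p × C_p` into lines" identity for two commuting automorphisms of a commutative
group, used for S4365.
-/

set_option autoImplicit false

namespace Cfsg.Agent.Lib.Helper9

open Finset

/-- reindexing `j ↦ j * i mod p` on `range p`. -/
theorem prod_range_pow_mul_reindex {M : Type*} [Monoid M] {A : Type*} [CommMonoid A]
    {p : ℕ} (hp : p.Prime) (ρ : M) (hρ : ρ ^ p = 1) (i : ℕ) (hi0 : 0 < i) (hip : i < p)
    (F : M → A) :
    ∏ j ∈ range p, F (ρ ^ (j * i)) = ∏ k ∈ range p, F (ρ ^ k) := by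
  have hcop : Nat.Coprime p i := by
    rw [Nat.Prime.coprime_iff_not_dvd hp]
    exact Nat.not_dvd_of_pos_of_lt hi0 hip
  have hinj : Set.InjOn (fun j => (j * i) % p) (range p : Set ℕ) := by
    intro j hj j' hj' h
    simp only [coe_range, Set.mem_Iio] at hj hj'
    have h1 : j * i ≡ j' * i [MOD p] := h
    have h2 : j ≡ j' [MOD p] := Nat.ModEq.cancel_right_of_coprime hcop h1
    exact Nat.ModEq.eq_of_lt_of_lt h2 hj hj'
  have himg : (range p).image (fun j => (j * i) % p) = range p := by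
    apply Finset.eq_of_subset_of_card_le
    · intro k hk
      rw [mem_image] at hk
      obtain ⟨j, _, rfl⟩ := hk
      rw [mem_range]
      exact Nat.mod_lt _ hp.pos
    · rw [card_image_of_injOn hinj]
  have h1 : ∀ j ∈ range p, F (ρ ^ (j * i)) = F (ρ ^ ((j * i) % p)) := by
    intro j _
    rw [pow_eq_pow_mod (j * i) hρ]
  rw [prod_congr rfl h1]
  conv_rhs => rw [← himg]
  rw [prod_image hinj]

/-- The key identity. -/
theorem norm_identity {A : Type*} [CommGroup A] {p : ℕ} (hp : p.Prime) (σ ρ : MulAut A)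
    (hc : Commute σ ρ) (hρ : ρ ^ p = 1) (b : A) :
    ∏ j ∈ range p, ∏ i ∈ range p, ((σ * ρ ^ j) ^ i) b
      = b ^ p * ∏ i ∈ Ico 1 p, (σ ^ i) (∏ k ∈ range p, (ρ ^ k) b) := by
  have h1 : ∀ j i : ℕ, ((σ * ρ ^ j) ^ i) b = (σ ^ i) ((ρ ^ (j * i)) b) := by
    intro j i
    rw [(hc.pow_right j).mul_pow, ← pow_mul]
    rfl
  simp_rw [h1]
  rw [prod_comm]
  rw [range_eq_Ico, prod_eq_prod_Ico_succ_bot hp.pos]
  congr 1
  · simp
  · apply prod_congr rfl
    intro i hi
    rw [mem_Ico] at hi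
    rw [map_prod, ← range_eq_Ico]
    exact prod_range_pow_mul_reindex hp ρ hρ i (by omega) hi.2 (fun τ => (σ ^ i) (τ b))

end Cfsg.Agent.Lib.Helper9
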