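import Mathlib
import Cfsg.Agent.Lib.Helper9.NormIdentity

/-!
Isaacs (1970): a finite `p`-group with class sizes `{1, p^a}` has `P / Z(P)` of exponent `p`
(S4365).
-/

set_option autoImplicit false

namespace Cfsg.Agent.Lib.Helper9

open Subgroup Finset

section TwoClassSizes

variable {P : Type*} [Group P] [Finite P] {p : ℕ} [hp : Fact p.Prime] {a : ℕ}

theorem centralizer_eq_of_le_of_index
    (h1 : ∀ x : P, x ∉ center P → (centralizer ({x} : Set P)).index = p ^ a)
    {y y' : P} (hy : y ∉ center P) (hy' : y' ∉ center P)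
    (hle : centralizer ({y} : Set P) ≤ centralizer {y'}) :
    centralizer ({y} : Set P) = centralizer {y'} := by
  apply le_antisymm hle
  have h := relIndex_mul_index hle
  rw [h1 y hy, h1 y' hy'] at h
  have hpos : 0 < p ^ a := pow_pos hp.out.pos a
  have : (centralizer ({y} : Set P)).relIndex (centralizer {y'}) = 1 :=
    Nat.eq_of_mul_eq_mul_right hpos (by rw [h, one_mul])
  exact relIndex_eq_one.mp this

theorem centralizer_pow_eq_of_not_mem_center
    (h1 : ∀ x : P, x ∉ center P → (centralizer ({x} : Set P)).index = p ^ a)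
    {g : P} (hg : g ^ p ∉ center P) :
    centralizer ({g} : Set P) = centralizer {g ^ p} := by
  have hg' : g ∉ center P := fun h => hg ((center P).pow_mem h p)
  apply centralizer_eq_of_le_of_index h1 hg' hg
  intro c hc
  rw [mem_centralizer_singleton_iff] at hc ⊢
  have : Commute c g := hc
  exact this.pow_right p

/-- structural data extracted from an element `x` with `x ^ p ∉ Z(P)`. -/
theorem exists_special_centralizer (hP : IsPGroup p P)
    (h1 : ∀ x : P, x ∉ center P → (centralizer ({x} : Set P)).index = p ^ a)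
    {x : P} (hx : x ^ p ∉ center P) :
    ∃ u : P, u ∉ center P ∧ (centralizer ({u} : Set P)).Normal ∧
      (∀ g : P, g ^ p ∈ centralizer ({u} : Set P)) ∧
      (∀ g h : P, g * h * g⁻¹ * h⁻¹ ∈ centralizer ({u} : Set P)) ∧
      centralizer ({x} : Set P) = centralizer ({u} : Set P) := by
  have hxZ : x ∉ center P := fun h => hx ((center P).pow_mem h p)
  -- an element `u` of the second center
  obtain ⟨u, huZ, hu⟩ : ∃ u : P, u ∉ center P ∧ ∀ g : P, u * g * u⁻¹ * g⁻¹ ∈ center P := by
    haveI : Nontrivial (P ⧸ center P) := by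
      rw [← not_subsingleton_iff_nontrivial]
      intro hs
      apply hxZ
      rw [← QuotientGroup.eq_one_iff]
      exact Subsingleton.elim _ _
    have hPQ : IsPGroup p (P ⧸ center P) := hP.to_quotient _
    haveI := hPQ.center_nontrivial
    obtain ⟨⟨ubar, hubar⟩, hne⟩ := exists_ne (1 : center (P ⧸ center P))
    obtain ⟨u, rfl⟩ := QuotientGroup.mk_surjective ubar
    refine ⟨u, ?_, ?_⟩
    · intro h
      apply hne
      ext
      exact (QuotientGroup.eq_one_iff u).mpr h
    · intro g
      rw [← QuotientGroup.eq_one_iff]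
      rw [mem_center_iff] at hubar
      have := hubar (g : P ⧸ center P)
      simp only [QuotientGroup.mk_mul, QuotientGroup.mk_inv]
      rw [← this]; group
  -- the homomorphism `g ↦ [u, g]`
  let f : P →* center P := MonoidHom.mk' (fun g => ⟨u * g * u⁻¹ * g⁻¹, hu g⟩) (by
    intro g h
    ext
    simp only [Subgroup.coe_mul]
    have hc := mem_center_iff.mp (hu h) g⁻¹
    calc u * (g * h) * u⁻¹ * (g * h)⁻¹
        = u * g * u⁻¹ * ((u * h * u⁻¹ * h⁻¹) * g⁻¹) := by group
      _ = u * g * u⁻¹ * (g⁻¹ * (u * h * u⁻¹ * h⁻¹)) := by rw [← hc]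
      _ = _ := by group)
  have hf : ∀ g, (f g : P) = u * g * u⁻¹ * g⁻¹ := fun g => rfl
  have hfk : ∀ g, f g = 1 ↔ g ∈ centralizer ({u} : Set P) := by
    intro g
    rw [mem_centralizer_singleton_iff, Subtype.ext_iff, hf, OneMemClass.coe_one, mul_inv_eq_one,
      mul_inv_eq_iff_eq_mul, eq_comm]
  have hker : f.ker = centralizer ({u} : Set P) := by
    ext g
    rw [MonoidHom.mem_ker, hfk]
  have hnormal : (centralizer ({u} : Set P)).Normal := hker ▸ MonoidHom.normal_ker f
  have hpowu : ∀ (n : ℕ) (g : P), u ^ n * g * (u ^ n)⁻¹ * g⁻¹ = (u * g * u⁻¹ * g⁻¹) ^ n := by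
    intro n g
    induction n with
    | zero => simp
    | succ n ih =>
      have hc := mem_center_iff.mp (hu g) (u ^ n)
      calc u ^ (n + 1) * g * (u ^ (n + 1))⁻¹ * g⁻¹
          = u ^ n * (u * g * u⁻¹ * g⁻¹) * g * (u ^ n)⁻¹ * g⁻¹ := by rw [pow_succ]; group
        _ = (u * g * u⁻¹ * g⁻¹) * (u ^ n * g * (u ^ n)⁻¹ * g⁻¹) := by rw [hc]; group
        _ = _ := by rw [ih, pow_succ']
  -- `u ^ p` is central
  have hup : u ^ p ∈ center P := by
    by_contra hupZ
    have hC := centralizer_pow_eq_of_not_mem_center h1 hupZ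
    have hfne : ∃ g, f g ≠ 1 := by
      by_contra hall
      push Not at hall
      apply huZ
      rw [mem_center_iff]
      intro g
      have := (hfk g).mp (hall g)
      rwa [mem_centralizer_singleton_iff] at this
    obtain ⟨g, hg⟩ := hfne
    obtain ⟨k, hk⟩ := (IsPGroup.iff_orderOf.mp (hP.to_subgroup (center P))) (f g)
    have hk0 : k ≠ 0 := by
      rintro rfl
      rw [pow_zero, orderOf_eq_one_iff] at hk
      exact hg hk
    set g' := g ^ p ^ (k - 1) with hg'
    have hz1 : (f g') ^ p = 1 := by
      rw [hg', map_pow, ← pow_mul, ← pow_succ, Nat.sub_add_cancel (Nat.pos_of_ne_zero hk0), ← hk,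
        pow_orderOf_eq_one]
    have hz2 : f g' ≠ 1 := by
      rw [hg', map_pow]
      apply pow_ne_one_of_lt_orderOf
      · exact (pow_pos hp.out.pos _).ne'
      · rw [hk]; exact Nat.pow_lt_pow_right hp.out.one_lt (by omega)
    have h3 : g' ∈ centralizer ({u ^ p} : Set P) := by
      rw [mem_centralizer_singleton_iff]
      have h5 := hpowu p g'
      have h4 : (u * g' * u⁻¹ * g'⁻¹) ^ p = 1 := by
        have := congrArg Subtype.val hz1
        simpa [hf] using this
      rw [h4, mul_inv_eq_one, mul_inv_eq_iff_eq_mul] at h5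
      exact h5.symm
    rw [← hC] at h3
    exact hz2 ((hfk g').mpr h3)
  have hpowE : ∀ g : P, g ^ p ∈ centralizer ({u} : Set P) := by
    intro g
    rw [← hfk, map_pow, Subtype.ext_iff, SubmonoidClass.coe_pow, hf, ← hpowu, OneMemClass.coe_one,
      mul_inv_eq_one, mul_inv_eq_iff_eq_mul]
    exact ((mem_center_iff.mp hup) g).symm
  have hcommE : ∀ g h : P, g * h * g⁻¹ * h⁻¹ ∈ centralizer ({u} : Set P) := by
    intro g h
    rw [← hfk, map_mul, map_mul, map_mul, map_inv, map_inv]
    have hcm : f g * f h = f h * f g := by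
      ext
      simp only [Subgroup.coe_mul]
      exact (mem_center_iff.mp (f h).2 (f g : P))
    rw [hcm]
    group
  -- elements with non-central `p`-th power lie in `E`
  have hTE : ∀ y : P, y ^ p ∉ center P → y ∈ centralizer ({u} : Set P) := by
    intro y hy
    have hCy := centralizer_pow_eq_of_not_mem_center h1 hy
    have h2 : u ∈ centralizer ({y ^ p} : Set P) := by
      have := hpowE y
      rw [mem_centralizer_singleton_iff] at this ⊢
      exact this.symm
    rw [← hCy, mem_centralizer_singleton_iff] at h2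
    rw [mem_centralizer_singleton_iff]
    exact h2.symm
  have hxE : x ∈ centralizer ({u} : Set P) := hTE x hx
  have hle : centralizer ({x} : Set P) ≤ centralizer ({u} : Set P) := by
    intro g hg
    by_contra hgE
    have hgp : g ^ p ∈ center P := by
      by_contra h
      exact hgE (hTE g h)
    have hgx : g * x ∉ centralizer ({u} : Set P) := by
      intro h
      apply hgE
      have := (centralizer ({u} : Set P)).mul_mem h ((centralizer ({u} : Set P)).inv_mem hxE)
      simpa using this
    have hgxp : (g * x) ^ p ∈ center P := by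
      by_contra h
      exact hgx (hTE _ h)
    rw [mem_centralizer_singleton_iff] at hg
    have hcomm : Commute g x := hg
    rw [hcomm.mul_pow] at hgxp
    apply hx
    have := (center P).mul_mem ((center P).inv_mem hgp) hgxp
    simpa using this
  exact ⟨u, huZ, hnormal, hpowE, hcommE, centralizer_eq_of_le_of_index h1 hxZ huZ hle⟩

/-- Isaacs: if all non-central classes of the `p`-group `P` have size `p ^ a`, then `P / Z(P)`
has exponent `p`. -/
theorem pow_p_mem_center_of_two_class_sizes (hP : IsPGroup p P) (ha : 1 ≤ a)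
    (h1 : ∀ x : P, x ∉ center P → (centralizer ({x} : Set P)).index = p ^ a) (x : P) :
    x ^ p ∈ center P := by
  by_contra hx
  have hxZ : x ∉ center P := fun h => hx ((center P).pow_mem h p)
  obtain ⟨u, huZ, hnormal, hpowE, hcommE, hCx⟩ := exists_special_centralizer hP h1 hx
  set E := centralizer ({u} : Set P) with hE
  haveI : E.Normal := hnormal
  have hZE : center P ≤ E := center_le_centralizer _
  have hxE : x ∈ E := by
    rw [← hCx, mem_centralizer_singleton_iff]
  set B := E ⊓ centralizer (E : Set P) with hB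
  haveI : B.Normal := inferInstance
  have hxB : x ∈ B := by
    rw [hB, Subgroup.mem_inf]
    refine ⟨hxE, ?_⟩
    rw [mem_centralizer_iff]
    intro e he
    rw [SetLike.mem_coe, ← hCx, mem_centralizer_singleton_iff] at he
    exact he
  have hZB : center P ≤ B := le_inf hZE (center_le_centralizer _)
  have hBcomm : ∀ b ∈ B, ∀ b' ∈ B, b * b' = b' * b := by
    intro b hb b' hb'
    exact (mem_centralizer_iff.mp (Subgroup.mem_inf.mp hb').2 b (Subgroup.mem_inf.mp hb).1)
  have hBE : ∀ b ∈ B, ∀ e ∈ E, e * b = b * e := by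
    intro b hb e he
    exact mem_centralizer_iff.mp (Subgroup.mem_inf.mp hb).2 e he
  have hfix : ∀ w : P, w ∉ E → ∀ b ∈ B, w * b = b * w → b ∈ center P := by
    intro w hw b hb hwb
    by_contra hbZ
    have hle : centralizer ({u} : Set P) ≤ centralizer ({b} : Set P) := by
      intro e he
      rw [mem_centralizer_singleton_iff]
      exact hBE b hb e he
    have heq := centralizer_eq_of_le_of_index h1 huZ hbZ hle
    apply hw
    rw [hE, heq, mem_centralizer_singleton_iff]
    exact hwb
  have hEtop : ∃ g : P, g ∉ E := by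
    by_contra hall
    push Not at hall
    apply huZ
    rw [mem_center_iff]
    intro g
    have := hall g
    rwa [hE, mem_centralizer_singleton_iff] at this
  have hEidx : E.index = p ^ a := h1 u huZ
  rcases Nat.lt_or_ge a 2 with ha2 | ha2
  · -- a = 1
    have ha1 : a = 1 := by omega
    obtain ⟨g, hgE⟩ := hEtop
    have hgZ : g ∉ center P := fun h => hgE (hZE h)
    have hidx := h1 g hgZ
    rw [ha1, pow_one] at hidx
    have hle : (centralizer ({g} : Set P)).relIndex B ≤ p := by
      have := relIndex_le_of_le_right (H := centralizer ({g} : Set P)) (K := B) (L := ⊤) le_top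
        (by rw [relIndex_top_right]; exact index_ne_zero_of_finite)
      rwa [relIndex_top_right, hidx] at this
    have hinf : centralizer ({g} : Set P) ⊓ B = center P := by
      apply le_antisymm
      · intro b hb
        obtain ⟨hb1, hb2⟩ := Subgroup.mem_inf.mp hb
        rw [mem_centralizer_singleton_iff] at hb1
        exact hfix g hgE b hb2 hb1.symm
      · exact le_inf (center_le_centralizer _) hZB
    rw [← inf_relIndex_right, hinf] at hle
    haveI : ((center P).subgroupOf B).Normal := inferInstance
    have hmem := Subgroup.pow_index_mem ((center P).subgroupOf B) (⟨x, hxB⟩ : B)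
    rw [mem_subgroupOf] at hmem
    have hidx2 : ((center P).subgroupOf B).index = (center P).relIndex B := rfl
    rw [hidx2] at hmem
    obtain ⟨n, hn⟩ := (hP.to_subgroup B).index ((center P).subgroupOf B)
    rw [hidx2] at hn
    rw [hn] at hle hmem
    have hn1 : n ≤ 1 := by
      by_contra h
      push Not at h
      have : p ^ 2 ≤ p ^ n := Nat.pow_le_pow_right hp.out.pos h
      have : p < p ^ 2 := by
        have := hp.out.one_lt
        nlinarith
      omega
    interval_cases n
    · apply hxZ
      simpa using hmem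
    · apply hx
      simpa using hmem
  · -- a ≥ 2
    have hQcard : Nat.card (P ⧸ E) = p ^ a := by rw [← hEidx]; rfl
    have hQexp : ∀ q : P ⧸ E, q ^ p = 1 := by
      intro q
      obtain ⟨g, rfl⟩ := QuotientGroup.mk_surjective q
      rw [← QuotientGroup.mk_pow, QuotientGroup.eq_one_iff]
      exact hpowE g
    obtain ⟨h, hhE⟩ := hEtop
    have hzp : zpowers (h : P ⧸ E) ≠ ⊤ := by
      intro htop
      have h2 : Nat.card (zpowers (h : P ⧸ E)) = orderOf (h : P ⧸ E) := Nat.card_zpowers _
      rw [htop, card_top, hQcard] at h2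
      have h3 : orderOf (h : P ⧸ E) ∣ p := orderOf_dvd_of_pow_eq_one (hQexp _)
      have h4 : p ^ a ≤ p := by rw [h2]; exact Nat.le_of_dvd hp.out.pos h3
      have h5 : p ^ 2 ≤ p ^ a := Nat.pow_le_pow_right hp.out.pos ha2
      have h6 : p < p ^ 2 := by have := hp.out.one_lt; nlinarith
      omega
    obtain ⟨gbar, hgbar⟩ : ∃ q : P ⧸ E, q ∉ zpowers (h : P ⧸ E) := by
      by_contra hall
      push Not at hall
      exact hzp (eq_top_iff.mpr (fun q _ => hall q))
    obtain ⟨g, rfl⟩ := QuotientGroup.mk_surjective gbar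
    have hgh : ∀ j : ℕ, g * h ^ j ∉ E := by
      intro j hj
      apply hgbar
      rw [← QuotientGroup.eq_one_iff, QuotientGroup.mk_mul, QuotientGroup.mk_pow] at hj
      have : (g : P ⧸ E) = ((h : P ⧸ E) ^ j)⁻¹ := eq_inv_of_mul_eq_one_left hj
      rw [this]
      exact (zpowers _).inv_mem ((zpowers _).pow_mem (mem_zpowers _) j)
    -- the conjugation action on B
    letI : CommGroup ↥B := { (inferInstance : Group ↥B) with
      mul_comm := fun b b' => Subtype.ext (hBcomm b b.2 b' b'.2) }
    let φ : P →* MulAut ↥B := MulAut.conjNormal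
    have hφ : ∀ (w : P) (b : ↥B), ((φ w b : ↥B) : P) = w * b * w⁻¹ :=
      fun w b => MulAut.conjNormal_apply w b
    have hφE : ∀ e ∈ E, φ e = 1 := by
      intro e he
      ext b
      rw [hφ, MulAut.one_apply, hBE b b.2 e he]
      group
    have hφpow : ∀ w : P, (φ w) ^ p = 1 := by
      intro w
      rw [← map_pow]
      exact hφE _ (hpowE w)
    set σ := φ g with hσ
    set ρ := φ h with hρ
    have hc : Commute σ ρ := by
      show σ * ρ = ρ * σ
      rw [hσ, hρ, ← map_mul, ← map_mul]
      have : g * h = (g * h * g⁻¹ * h⁻¹) * (h * g) := by group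
      rw [this, map_mul, hφE _ (hcommE g h), one_mul]
    have hφgh : ∀ j : ℕ, φ (g * h ^ j) = σ * ρ ^ j := by
      intro j
      rw [map_mul, map_pow]
    set ZB := (center P).subgroupOf B with hZB'
    have hZfix : ∀ (w : P) (z : ↥B), z ∈ ZB → φ w z = z := by
      intro w z hz
      rw [mem_subgroupOf] at hz
      ext
      rw [hφ, mem_center_iff.mp hz w]
      group
    have hN : ∀ w : P, w ∉ E → ∀ b : ↥B, (∏ i ∈ range p, ((φ w) ^ i) b) ∈ ZB := by
      intro w hw b
      set Nb := ∏ i ∈ range p, ((φ w) ^ i) b with hNb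
      have hfixN : φ w Nb = Nb := by
        rw [hNb, map_prod]
        have h1 : ∀ i ∈ range p, φ w (((φ w) ^ i) b) = ((φ w) ^ (i + 1)) b := by
          intro i _
          rw [pow_succ']
          rfl
        rw [prod_congr rfl h1]
        have h2 := prod_range_succ' (fun i => ((φ w) ^ i) b) p
        have h3 := prod_range_succ (fun i => ((φ w) ^ i) b) p
        rw [h3] at h2
        rw [hφpow w, pow_zero] at h2
        exact (mul_right_cancel h2).symm
      rw [mem_subgroupOf]
      apply hfix w hw Nb Nb.2
      have := congrArg Subtype.val hfixN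
      rw [hφ, mul_inv_eq_iff_eq_mul] at this
      exact this
    have hid := norm_identity hp.out σ ρ hc (hφpow h) (⟨x, hxB⟩ : ↥B)
    have hL : (∏ j ∈ range p, ∏ i ∈ range p, ((σ * ρ ^ j) ^ i) (⟨x, hxB⟩ : ↥B)) ∈ ZB := by
      apply Subgroup.prod_mem
      intro j _
      rw [← hφgh j]
      exact hN _ (hgh j) _
    have hz : (∏ k ∈ range p, (ρ ^ k) (⟨x, hxB⟩ : ↥B)) ∈ ZB := hN h hhE _
    have hR : (∏ i ∈ Ico 1 p, (σ ^ i) (∏ k ∈ range p, (ρ ^ k) (⟨x, hxB⟩ : ↥B))) ∈ ZB := by
      apply Subgroup.prod_mem
      intro i _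
      have : ∀ n : ℕ, (σ ^ n) (∏ k ∈ range p, (ρ ^ k) (⟨x, hxB⟩ : ↥B))
          = ∏ k ∈ range p, (ρ ^ k) (⟨x, hxB⟩ : ↥B) := by
        intro n
        induction n with
        | zero => rfl
        | succ n ih => rw [pow_succ', MulAut.mul_apply, ih, hZfix g _ hz]
      rw [this]
      exact hz
    rw [hid] at hL
    have hxp : (⟨x, hxB⟩ : ↥B) ^ p ∈ ZB := by
      have := ZB.mul_mem hL (ZB.inv_mem hR)
      simpa using this
    rw [mem_subgroupOf] at hxp
    exact hx (by simpa using hxp)

end TwoClassSizes

end Cfsg.Agent.Lib.Helper9
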