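import Mathlib
import Cfsg.Agent.Lib.Helper9.ItoMain
import Cfsg.Agent.Lib.Helper9.TwoClassSizes

/-!
Ito's theorem (helper9): a finite group with class sizes `{1, n}` is `P × A` with `P` a Sylow
`p`-subgroup and `A` abelian; `n` is a power of `p`; `P / Z(P)` has exponent `p`.
-/

set_option autoImplicit false

namespace Cfsg.Agent.Lib.Helper9.Ito

open Subgroup

variable {G : Type*} [Group G] [Finite G] {n : ℕ}

/-- The central `p'`-elements form a subgroup. -/
def centralPrime (G : Type*) [Group G] (p : ℕ) : Subgroup G where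
  carrier := {g | g ∈ center G ∧ (orderOf g).Coprime p}
  one_mem' := ⟨one_mem _, by rw [orderOf_one]; exact Nat.coprime_one_left p⟩
  mul_mem' := by
    rintro a b ⟨ha, hac⟩ ⟨hb, hbc⟩
    refine ⟨mul_mem ha hb, ?_⟩
    have hcomm : Commute a b := by
      rw [mem_center_iff] at hb
      exact (hb a)
    have h1 := hcomm.orderOf_mul_dvd_lcm
    have h2 : (orderOf a * orderOf b).Coprime p := Nat.Coprime.mul_left hac hbc
    exact Nat.Coprime.coprime_dvd_left (h1.trans (Nat.lcm_dvd_mul _ _)) h2
  inv_mem' := by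
    rintro a ⟨ha, hac⟩
    exact ⟨inv_mem ha, by rw [orderOf_inv]; exact hac⟩

theorem centralPrime_le_center (p : ℕ) : centralPrime G p ≤ center G := fun _ hg => hg.1

theorem ito_structure (hn : 1 < n) (h : TwoSizes G n)
    (hex : ∃ x : G, (centralizer ({x} : Set G)).index = n) :
    ∃ (p : ℕ) (_ : Fact p.Prime) (a : ℕ), n = p ^ a ∧ ∀ P : Sylow p G, (P : Subgroup G).Normal ∧
      (∃ N : Subgroup G, N.Normal ∧ N.IsComplement' (P : Subgroup G) ∧ IsMulCommutative N ∧
        ∀ x ∈ N, ∀ y ∈ (P : Subgroup G), x * y = y * x) ∧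
      ∃ A : Subgroup (P : Subgroup G), A.Normal ∧ IsMulCommutative A ∧
        ∀ y : (P : Subgroup G), y ^ p ∈ A := by
  obtain ⟨x0, hx0⟩ := hex
  have hx0Z : x0 ∉ center G := by
    intro hz
    rw [mem_center_iff_index_eq_one, hx0] at hz
    omega
  obtain ⟨p, w0, hp, -, hw0Z, hw0p, -⟩ := exists_primary_power h _ x0 rfl hx0Z
  haveI hpF : Fact p.Prime := ⟨hp⟩
  -- all p'-elements are central
  have hcentral : ∀ g : G, (orderOf g).Coprime p → g ∈ center G := by
    intro g hg
    by_contra hgZ
    obtain ⟨s, w', hs, hw'g, hw'Z, ⟨k, hk⟩, -⟩ := exists_primary_power h _ g rfl hgZ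
    have hsp : s = p := unique_prime h hn hs hp hw'Z hw0Z ⟨k, hk⟩ hw0p
    have hk0 : k ≠ 0 := by
      rintro rfl
      rw [pow_zero, orderOf_eq_one_iff] at hk
      rw [hk] at hw'Z
      exact hw'Z (one_mem _)
    have h1 : p ∣ orderOf g := by
      have h2 : orderOf w' ∣ orderOf g := orderOf_dvd_of_mem_zpowers hw'g
      rw [hk, hsp] at h2
      exact (dvd_pow_self p hk0).trans h2
    exact hp.one_lt.ne' (Nat.Coprime.eq_one_of_dvd hg.symm h1)
  set N := centralPrime G p with hN
  have hNZ : N ≤ center G := centralPrime_le_center p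
  have hNnormal : N.Normal := by
    constructor
    intro x hx g
    have := hNZ hx
    rw [mem_center_iff] at this
    have h2 : g * x * g⁻¹ = x := by rw [this g]; group
    rw [h2]; exact hx
  have hNcomm : IsMulCommutative N := by
    refine ⟨⟨?_⟩⟩
    rintro ⟨a, ha⟩ ⟨b, hb⟩
    apply Subtype.ext
    have := hNZ hb
    rw [mem_center_iff] at this
    exact this a
  -- card N is prime to p
  have hNp : (Nat.card N).Coprime p := by
    rw [Nat.coprime_comm, Nat.Prime.coprime_iff_not_dvd hp]
    intro hdvd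
    obtain ⟨g, hg⟩ := exists_prime_orderOf_dvd_card' (G := N) p hdvd
    have hgN := g.2
    have h1 : (orderOf (g : G)).Coprime p := hgN.2
    rw [Subgroup.orderOf_coe, hg] at h1
    exact hp.one_lt.ne' ((Nat.coprime_self p).mp h1)
  -- the Sylow q-subgroups for q ≠ p lie in N
  have hsylow : ∀ (q : ℕ) [Fact q.Prime], q ≠ p → ∀ S : Sylow q G, (S : Subgroup G) ≤ N := by
    intro q hq hqp S s hs
    obtain ⟨k, hk⟩ := S.isPGroup'.exists_orderOf_eq_pow ⟨s, hs⟩
    rw [Subgroup.orderOf_mk] at hk
    have hc : (orderOf s).Coprime p := by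
      rw [hk]
      exact Nat.Coprime.pow_left k ((Nat.coprime_primes hq.out hp).mpr hqp)
    exact ⟨hcentral s hc, hc⟩
  have hcardN : ∀ P : Sylow p G, Nat.card N * Nat.card (P : Subgroup G) = Nat.card G := by
    intro P
    rw [P.card_eq_multiplicity]
    have hG0 : Nat.card G ≠ 0 := Nat.card_pos.ne'
    have hN0 : Nat.card N ≠ 0 := Nat.card_pos.ne'
    have hpow0 : p ^ (Nat.card G).factorization p ≠ 0 := pow_ne_zero _ hp.pos.ne'
    apply Nat.eq_of_factorization_eq (mul_ne_zero hN0 hpow0) hG0
    intro s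
    rw [Nat.factorization_mul hN0 hpow0, Nat.factorization_pow, hp.factorization]
    simp only [Finsupp.coe_add, Finsupp.coe_smul, Pi.add_apply, Pi.smul_apply, smul_eq_mul]
    by_cases hsp : s = p
    · subst hsp
      rw [Finsupp.single_eq_same, mul_one]
      have : (Nat.card N).factorization s = 0 := by
        apply Nat.factorization_eq_zero_of_not_dvd
        intro hd
        exact hp.one_lt.ne' (Nat.Coprime.eq_one_of_dvd hNp.symm hd)
      rw [this, zero_add]
    · rw [Finsupp.single_eq_of_ne (by exact hsp), mul_zero, add_zero]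
      by_cases hs : s.Prime
      · haveI : Fact s.Prime := ⟨hs⟩
        apply le_antisymm
        · exact (Nat.factorization_le_iff_dvd hN0 hG0).mpr (Subgroup.card_subgroup_dvd_card N) s
        · obtain ⟨S⟩ := (inferInstance : Nonempty (Sylow s G))
          have h1 := Subgroup.card_dvd_of_le (hsylow s hsp S)
          rw [S.card_eq_multiplicity] at h1
          exact (hs.pow_dvd_iff_le_factorization hN0).mp h1
      · rw [Nat.factorization_eq_zero_of_not_prime _ hs, Nat.factorization_eq_zero_of_not_prime _ hs]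
  -- n is a power of p
  obtain ⟨P0⟩ := (inferInstance : Nonempty (Sylow p G))
  have hNidx : N.index = p ^ (Nat.card G).factorization p := by
    have h1 := Subgroup.card_mul_index N
    have h2 := hcardN P0
    rw [P0.card_eq_multiplicity] at h2
    rw [← h2] at h1
    exact Nat.eq_of_mul_eq_mul_left Nat.card_pos h1
  have hnp : ∃ a, n = p ^ a := by
    have h1 : (centralizer ({x0} : Set G)).index ∣ N.index :=
      Subgroup.index_dvd_of_le (hNZ.trans (center_le_centralizer_singleton x0))
    rw [hx0, hNidx] at h1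
    obtain ⟨a, -, ha⟩ := (Nat.dvd_prime_pow hp).mp h1
    exact ⟨a, ha⟩
  obtain ⟨a, ha⟩ := hnp
  have ha1 : 1 ≤ a := by
    by_contra h0
    have : a = 0 := by omega
    rw [this, pow_zero] at ha
    omega
  refine ⟨p, hpF, a, ha, ?_⟩
  intro P
  have hPcard : (Nat.card N).Coprime (Nat.card (P : Subgroup G)) := by
    rw [P.card_eq_multiplicity]
    exact Nat.Coprime.pow_right _ hNp
  have hcompl : N.IsComplement' (P : Subgroup G) :=
    Subgroup.isComplement'_of_coprime (hcardN P) hPcard
  have hcomm : ∀ x ∈ N, ∀ y ∈ (P : Subgroup G), x * y = y * x := by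
    intro x hx y _
    have := hNZ hx
    rw [mem_center_iff] at this
    exact (this y).symm
  have hPnormal : (P : Subgroup G).Normal := by
    rw [← Subgroup.normalizer_eq_top_iff, eq_top_iff, ← hcompl.sup_eq_top]
    apply sup_le
    · intro x hx
      rw [Subgroup.mem_normalizer_iff]
      intro y
      have := hNZ hx
      rw [mem_center_iff] at this
      have h2 : x * y * x⁻¹ = y := by rw [← this y]; group
      rw [h2]
    · exact Subgroup.le_normalizer
  refine ⟨hPnormal, ⟨N, hNnormal, hcompl, hNcomm, hcomm⟩, ?_⟩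
  refine ⟨center ↥(P : Subgroup G), inferInstance, inferInstance, ?_⟩
  intro y
  apply Cfsg.Agent.Lib.Helper9.pow_p_mem_center_of_two_class_sizes P.isPGroup' ha1
  intro y hy
  -- y is noncentral in G
  have hyG : (y : G) ∉ center G := by
    intro hz
    apply hy
    rw [mem_center_iff] at hz ⊢
    intro g
    exact Subtype.ext (hz g)
  have hidxG := index_eq h hyG
  set C := centralizer ({(y : G)} : Set G) with hC
  have hsub : centralizer ({y} : Set ↥(P : Subgroup G)) = C.subgroupOf (P : Subgroup G) := by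
    ext g
    rw [mem_centralizer_singleton_iff, mem_subgroupOf, hC, mem_centralizer_singleton_iff,
      Subtype.ext_iff]
    rfl
  rw [hsub]
  show C.relIndex (P : Subgroup G) = p ^ a
  rw [← ha]
  haveI := hPnormal
  -- C.relIndex P ∣ n
  have h1 : C.relIndex (P : Subgroup G) ∣ n := by
    rw [← hidxG]
    exact Cfsg.Agent.Lib.Helper9.relIndex_dvd_index_of_normal_right C (P : Subgroup G)
  -- n ∣ C.relIndex P
  have h2 : (C ⊓ (P : Subgroup G)).index = C.relIndex (P : Subgroup G) * (P : Subgroup G).index := by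
    rw [← Subgroup.inf_relIndex_right, Subgroup.relIndex_mul_index inf_le_right]
  have h3 : (C ⊓ (P : Subgroup G)).index = (P : Subgroup G).relIndex C * C.index := by
    rw [← Subgroup.inf_relIndex_left, Subgroup.relIndex_mul_index inf_le_left]
  have hPidx : (P : Subgroup G).index = Nat.card N := by
    have h4 := Subgroup.card_mul_index (P : Subgroup G)
    have h5 := hcardN P
    rw [← h5, mul_comm] at h4
    exact Nat.eq_of_mul_eq_mul_right Nat.card_pos h4
  rw [h2, hPidx, hidxG] at h3
  have h6 : n ∣ C.relIndex (P : Subgroup G) * Nat.card N := ⟨_, by rw [h3, mul_comm]⟩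
  have h7 : n.Coprime (Nat.card N) := by
    rw [ha]
    exact Nat.Coprime.pow_left _ hNp.symm
  exact Nat.dvd_antisymm h1 (h7.dvd_of_dvd_mul_right h6)

end Cfsg.Agent.Lib.Helper9.Ito
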