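import Cfsg.Agent.Lib.Helper9.M11Data

/-!
Kernel-checked certificates for the automorphisms of the Mathieu group `M11` (helper9).
-/

set_option autoImplicit false
set_option maxRecDepth 100000

namespace Cfsg.Agent.Lib.Helper9.M11Aut

open Cfsg Cfsg.Agent.Lib.Helper21 Cfsg.Agent.Lib.Helper9.M24Coset

/-- words of table permutations, possibly inverted -/
abbrev TW := List ((ℕ × ℕ) × Bool)

/-- one letter acting on a position -/
def stepT (e : (ℕ × ℕ) × Bool) (j : ℕ) : ℕ := if e.2 then tabGet e.1.2 j else tabGet e.1.1 j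

/-- the image of a position under a word -/
def img (L : TW) (i : ℕ) : ℕ := L.foldr stepT i

/-- the list of images -/
def imgs (L : TW) : List ℕ := (List.range 24).map (img L)

/-- the word is the identity -/
def idOn (L : TW) : Bool := (List.range 24).all fun i => img L i == i

/-- positive words -/
def pos (L : List (ℕ × ℕ)) : TW := L.map fun p => (p, false)

/-- the inverse word -/
def invW (L : TW) : TW := (L.map fun e => (e.1, !e.2)).reverse

/-- powers of a word -/
def rep (n : ℕ) (L : TW) : TW := (List.replicate n L).flatten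

/-- the identity table -/
def idT : ℕ × ℕ := (0xbdab49ca307b9ac5a928398a418820, 0xbdab49ca307b9ac5a928398a418820)

/-- the element with the given transversal indices -/
def elt (t : ℕ × ℕ × ℕ × ℕ) : TW :=
  pos [U1.getD t.1 idT, U2.getD t.2.1 idT, U3.getD t.2.2.1 idT, U4.getD t.2.2.2 idT]

/-- the table is valid, preserves the dodecad of squares and fixes the position `0` -/
def TabOK (p : ℕ × ℕ) : Prop := ValidTab p ∧ actF p dsq = dsq ∧ tabGet p.1 0 = 0

instance : DecidablePred TabOK := fun p => by unfold TabOK; infer_instance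

/-- the word of the involution -/
def xW : TW := [(xT, false)]
/-- the word of the element of order four -/
def yW : TW := [(yT, false)]

/-- the distinguishing word `x y x y y x y y y` -/
def wordW (X Y : TW) : TW := X ++ Y ++ X ++ Y ++ Y ++ X ++ Y ++ Y ++ Y

/-- the relations characterising the partners of the involution -/
def chkP (L : TW) : Bool :=
  idOn (rep 4 L) && idOn (rep 11 (xW ++ L)) && idOn (rep 3 (wordW xW L))

/-- the letters of the generator words -/
def letter (b : Bool) : (ℕ × ℕ) × Bool := (if b then xT else yT, false)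

theorem idT_ok : TabOK idT := by decide +kernel
theorem xT_ok : TabOK xT := by decide +kernel
theorem yT_ok : TabOK yT := by decide +kernel
theorem U1_ok : ∀ u ∈ U1, TabOK u := by decide +kernel
theorem U2_ok : ∀ u ∈ U2, TabOK u := by decide +kernel
theorem U3_ok : ∀ u ∈ U3, TabOK u := by decide +kernel
theorem U4_ok : ∀ u ∈ U4, TabOK u := by decide +kernel

theorem U1_fix : ∀ u ∈ U1, ∀ i < 1, tabGet u.1 i = i := by decide +kernel
theorem U2_fix : ∀ u ∈ U2, ∀ i < 2, tabGet u.1 i = i := by decide +kernel
theorem U3_fix : ∀ u ∈ U3, ∀ i < 3, tabGet u.1 i = i := by decide +kernel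
theorem U4_fix : ∀ u ∈ U4, ∀ i < 4, tabGet u.1 i = i := by decide +kernel

theorem U1_cover : ∀ t < 24, dsq.testBit t = true → 1 ≤ t → ∃ u ∈ U1, tabGet u.1 1 = t := by
  decide +kernel
theorem U2_cover : ∀ t < 24, dsq.testBit t = true → 2 ≤ t → ∃ u ∈ U2, tabGet u.1 2 = t := by
  decide +kernel
theorem U3_cover : ∀ t < 24, dsq.testBit t = true → 3 ≤ t → ∃ u ∈ U3, tabGet u.1 3 = t := by
  decide +kernel
theorem U4_cover : ∀ t < 24, dsq.testBit t = true → 4 ≤ t → ∃ u ∈ U4, tabGet u.1 4 = t := by
  decide +kernel

theorem dsq_low : ∀ k < 5, dsq.testBit k = true := by decide +kernel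

/-- relations of the generators -/
theorem gen_rel : idOn (rep 2 xW) = true ∧ img xW 4 ≠ 4 ∧ idOn (rep 4 yW) = true ∧
    idOn (rep 11 (xW ++ yW)) = true ∧ idOn (rep 3 (wordW xW yW)) = true := by decide +kernel

theorem conjX_ok : ∀ e ∈ conjX, imgs (elt e.2 ++ xW ++ invW (elt e.2)) = e.1 := by decide +kernel

theorem conjY_ok : ∀ e ∈ conjY, imgs (elt e.2 ++ yW ++ invW (elt e.2)) = e.1 ∧
    imgs (elt e.2 ++ xW) = imgs (xW ++ elt e.2) := by decide +kernel

theorem W1_ok : ∀ u ∈ U1, ∃ w ∈ W1, imgs (w.map letter) = imgs (pos [u]) := by decide +kernel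
theorem W2_ok : ∀ u ∈ U2, ∃ w ∈ W2, imgs (w.map letter) = imgs (pos [u]) := by decide +kernel
theorem W3_ok : ∀ u ∈ U3, ∃ w ∈ W3, imgs (w.map letter) = imgs (pos [u]) := by decide +kernel
theorem W4_ok : ∀ u ∈ U4, ∃ w ∈ W4, imgs (w.map letter) = imgs (pos [u]) := by decide +kernel

/-- the images of the identity -/
def idL : List ℕ := List.range 24

/-- the main enumeration: involutions and partners of the involution -/
def chkAll : Bool :=
  U1.all fun a => U2.all fun b => U3.all fun c => U4.all fun d =>
    (!(idOn (rep 2 (pos [a, b, c, d]))) ||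
      (imgs (pos [a, b, c, d]) == idL || (conjX.map Prod.fst).contains (imgs (pos [a, b, c, d])))) &&
    (!(chkP (pos [a, b, c, d])) || (conjY.map Prod.fst).contains (imgs (pos [a, b, c, d])))

theorem chkAll_ok : chkAll = true := by decide +kernel

end Cfsg.Agent.Lib.Helper9.M11Aut
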