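import Cfsg.Agent.Lib.Helper9.M24Fast
import Cfsg.Agent.Lib.Helper21.GolayM12Gen

/-!
Data for the automorphisms of the Mathieu group `M11` (generated offline, checked by the kernel)
(helper9).
-/

set_option autoImplicit false

namespace Cfsg.Agent.Lib.Helper9.M11Aut

/-- the standard involution -/
def xT : ℕ × ℕ := (0xbae957b6289ba44b1cd0524ac18820, 0xbae957b6289ba44b1cd0524ac18820)
/-- the standard element of order four -/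
def yT : ℕ × ℕ := (0x9c54e7c0a35d1b2bd528b04e261880, 0x59d4ebb2d29d1a37d52828a21810c0)
/-- transversal of level 1 -/
def U1 : List (ℕ × ℕ) := [
  (0xbdab49ca307b9ac5a928398a418820, 0xbdab49ca307b9ac5a928398a418820),
  (0x2ceb4b36295ba4c79e06522e418440, 0x2ceb4b36295ba4c79e06522e418440),
  (0x2d66fb22e65ba0ca2a493b62410460, 0x8cecbaa4ada38cc7a9123c2e408c40),
  (0x7ba65b496dbd52ca1d1051a2310480, 0x7cdcbac8a8bda0c89da951a8120c40),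
  (0xa968e520f08cc897d9b25b2e3104c0, 0x2aaf5721f05d1263cd92886cd20c40),
  (0x55cf1a26a6759b05bd849c8a310500, 0xb3a3339a8c53da95de41ac0a820c40),
  (0xa16ae3c1488bd869ae4db12e310520, 0x29eb75a5f27510d544309b2c620c40),
  (0x9b9e55b6d2bd0c4aaa083a62310580, 0x7c56ebc0a9ada419a8c83b68c20c40),
  (0x5c6d77926c2aa123d526a21c3105a0, 0xa55478b2cd99430bb9265a1f220c40),
  (0x3dd51a9a8972e48b4c8c7b4a310600, 0xb2e71536813bcc87560cbc8a920c40),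
  (0xb45779b1e429d0d550c9ac1c310640, 0xa5cea986c689592aad0d725f020c40)]

/-- words in the generators for the transversal of level 1 (`true` for the involution) -/
def W1 : List (List Bool) := [
  [],
  [false, false, true, false, false, true, false, false],
  [false, true, false, true, false, true, false, false, false, true, false, true, false, false, false, true, false, false],
  [false, true, false, true, false, false, true, false, true, false, false, true, false, true, false, true, false, false, false, true],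
  [false, false, true, false, true, false, false, true, false, true, false, true, false, false, true, false, true, false, false, false],
  [false, false, true, false, false, false, true, false, false, false, true, false, false, false, true, false, false, true],
  [true, false, false, true, false, true, false, false, true, false, true, false, true, false, false, true, false, true, false, false, false],
  [true, false, true, false, true, false, false, true, false, true, false, false, true, false, true, false, true, false, false, false, true],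
  [true, false, true, false, false, true, false, true, false, false, true, false, true, false, false, false, true, false],
  [true, false, false, true, false, false, false, true, false, false, false, true, false, false, false, true, false, false, true],
  [false, true, false, false, true, false, true, false, false, true, false, true, false, false, false, true, false]]

/-- transversal of level 2 -/
def U2 : List (ℕ × ℕ) := [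
  (0xbdab49ca307b9ac5a928398a418820, 0xbdab49ca307b9ac5a928398a418820),
  (0x8da6fac2f2a390c59ccd524a410c20, 0x8da6fac2f2a390c59ccd524a410c20),
  (0x8da6572568a564cba9a63c1e311020, 0x5d9cfab6e62cd2c8aa503a28220c20),
  (0xbaa8e290ed7cd098ae0cb4aa311820, 0xb9cb5719697d2085598d88a7220c20),
  (0x2d0f1bb6ac5d93074cd27914312020, 0x9ba365228c3ae50795a2aa6e620c20),
  (0xb9eae2b1529be068d9045b68312420, 0xbaaa57c16d750d23c449b326820c20),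
  (0x8ade571ad0ad1a4b9e495226313020, 0x5c5ee2a6f0acda2b1d0654a8c20c20),
  (0x73ed78c2693a8922d188a996313420, 0xa54ea8b272b5c492ba087996d20c20),
  (0x2d551bca84b2cc873d2d9b0e314020, 0x9bed13ca8252d067552c2b6f020c20),
  (0x74d778a1e651d8d2d490a26c314820, 0xa1547b0a688dd8dabcd27416920c20)]

/-- words in the generators for the transversal of level 2 (`true` for the involution) -/
def W2 : List (List Bool) := [
  [],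
  [false, true, false, true, false, true, false, false, false, true, false, true, false, true, false, false],
  [false, true, false, false, false, true, false, true, false, false, true, false, true, false, true, false, false, false],
  [true, false, false, true, false, true, false, true, false, false, true, false, true, false, true, false, false, true, false, true, false, true, false, false],
  [false, false, true, false, false, false, true, false, false, false, true, false, true, false, false, true],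
  [false, false, true, false, true, false, true, false, false, true, false, true, false, true, false, false, true, false, true, false, true, false, false],
  [true, false, true, false, false, false, true, false, true, false, false, true, false, true, false, true, false, false, false],
  [false, false, false, true, false, false, false, true, false, true, false, false, true, false, true, false, true, false, false, true, false, true],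
  [true, false, false, true, false, false, false, true, false, false, false, true, false, true, false, false, true],
  [true, false, false, false, true, false, false, false, true, false, true, false, false, true, false, true, false, true, false, false, true, false, true]]

/-- transversal of level 3 -/
def U3 : List (ℕ × ℕ) := [
  (0xbdab49ca307b9ac5a928398a418820, 0xbdab49ca307b9ac5a928398a418820),
  (0x5d9d49a2292d4ccb9e12535e320820, 0x5d9d49a2292d4ccb9e12535e320820),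
  (0x3a8afa36e474d898da485c2a330820, 0x8a8b372566a3e4d3d988b8eb020820),
  (0xad2eb3b0ad8da5073c899994340820, 0xabaf63b5ec52e12a150399a2920820),
  (0x51cb3acaec73c868adb0b228348820, 0x89e65a496873d3055c66b32ad20820),
  (0xb2dd57c2262d124ba90d3ca6360820, 0x5de8e29a329d503b29a93c1ec20820),
  (0x9be27b25d0ba9122d4c4a316368820, 0x7cd47bb2b0b44662ba4da256820820),
  (0xa56f6510b28ada874d867a4e380820, 0xad2d7541e33ada974ccc2a23220820),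
  (0x7ce2a599c8b9e0d2d12ca92c390820, 0x794eab0eadbc5889d1307496620820)]

/-- words in the generators for the transversal of level 3 (`true` for the involution) -/
def W3 : List (List Bool) := [
  [],
  [false, true, false, false, false, true, false, true, false, true, false, true, false, false, true, false, false, false, true, false, true, false],
  [true, false, true, false, false, true, false, false, false, true, false, false, true, false, true, false, true, false, false, false, true, false],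
  [false, true, false, true, false, true, false, false, false, true, false, false, true, false, false, false, true],
  [false, true, false, false, true, false, false, false, true, false, false, true, false, true, false, true, false, false, false, true, false],
  [true, false, true, false, false, false, true, false, true, false, true, false, true, false, false, true, false, false, false, true, false, true, false],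
  [true, false, true, false, false, true, false, true, false, true, false, false, true, false, true, false, true, false, true, false, true, false, true],
  [true, false, true, false, true, false, true, false, false, false, true, false, false, true, false, false, false, true],
  [false, true, false, false, true, false, true, false, true, false, false, true, false, true, false, true, false, true, false, true, false, true]]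

/-- transversal of level 4 -/
def U4 : List (ℕ × ℕ) := [
  (0xbdab49ca307b9ac5a928398a418820, 0xbdab49ca307b9ac5a928398a418820),
  (0x8aa6fa22f2a96093ac8db31c618820, 0x89df3ac2eda150655992591c918820),
  (0x752cb3a4a455cd0acdac7ca2818820, 0x75576518ac3dd28a3e449b63018820),
  (0x89df3ac2eda150655992591c918820, 0x8aa6fa22f2a96093ac8db31c618820),
  (0xbae957b6289ba44b1cd0524ac18820, 0xbae957b6289ba44b1cd0524ac18820),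
  (0x2bd47b11c65c5929d209aa2ed18820, 0x2ccea5b1c9b448d7d506a42f218820),
  (0x75576518ac3dd28a3e449b63018820, 0x752cb3a4a455cd0acdac7ca2818820),
  (0x2ccea5b1c9b448d7d506a42f218820, 0x2bd47b11c65c5929d209aa2ed18820)]

/-- words in the generators for the transversal of level 4 (`true` for the involution) -/
def W4 : List (List Bool) := [
  [],
  [false, false, false, true, false, true, false, true, false, false, false, true, false, false, true, false],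
  [false, true, false, false, false, true, false, false, true, false, true, false, true, false, true, false, false, true, false],
  [true, false, false, false, true, false, true, false, true, false, false, false, true, false, false, true, false],
  [true],
  [false, true, false, true, false, false, true, false, true, false, true, false, false, true, false, false, true, false],
  [true, false, true, false, false, false, true, false, false, true, false, true, false, true, false, true, false, false, true, false],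
  [true, false, true, false, true, false, false, true, false, true, false, true, false, false, true, false, false, true, false]]

/-- the involutions, with conjugators -/
def conjX : List (List ℕ × (ℕ × ℕ × ℕ × ℕ)) := [
  ([0, 1, 2, 3, 12, 5, 9, 10, 16, 6, 7, 22, 4, 18, 14, 19, 8, 17, 13, 15, 21, 20, 11, 23], (0, 0, 0, 0)),
  ([0, 1, 2, 4, 3, 15, 13, 10, 18, 16, 7, 23, 12, 6, 21, 5, 9, 17, 8, 19, 20, 14, 22, 11], (0, 0, 5, 0)),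
  ([0, 1, 2, 6, 18, 19, 3, 17, 13, 9, 10, 22, 16, 8, 21, 15, 12, 7, 4, 5, 20, 14, 11, 23], (0, 0, 4, 0)),
  ([0, 1, 2, 8, 13, 5, 18, 7, 3, 12, 17, 11, 9, 4, 21, 19, 16, 10, 6, 15, 20, 14, 23, 22], (0, 0, 7, 0)),
  ([0, 1, 2, 9, 8, 15, 6, 7, 4, 3, 17, 22, 13, 12, 20, 5, 18, 10, 16, 19, 14, 21, 11, 23], (0, 0, 2, 0)),
  ([0, 1, 2, 12, 4, 19, 8, 10, 6, 18, 7, 11, 3, 16, 20, 15, 13, 17, 9, 5, 14, 21, 23, 22], (0, 0, 1, 0)),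
  ([0, 1, 2, 13, 9, 19, 16, 7, 12, 4, 17, 23, 8, 3, 14, 15, 6, 10, 18, 5, 21, 20, 22, 11], (0, 0, 8, 0)),
  ([0, 1, 2, 16, 6, 5, 4, 17, 8, 13, 10, 23, 18, 9, 20, 19, 3, 7, 12, 15, 14, 21, 22, 11], (0, 0, 3, 0)),
  ([0, 1, 2, 18, 16, 15, 12, 17, 9, 8, 10, 11, 6, 13, 14, 5, 4, 7, 3, 19, 21, 20, 23, 22], (0, 0, 6, 0)),
  ([0, 1, 3, 2, 4, 5, 9, 10, 13, 6, 7, 11, 12, 8, 14, 20, 18, 23, 16, 21, 15, 19, 22, 17], (0, 2, 5, 0)),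
  ([0, 1, 3, 2, 6, 14, 4, 11, 16, 12, 22, 7, 9, 13, 5, 15, 8, 17, 18, 19, 21, 20, 10, 23], (0, 7, 5, 0)),
  ([0, 1, 3, 2, 9, 14, 12, 22, 8, 4, 11, 10, 6, 18, 5, 19, 16, 17, 13, 15, 20, 21, 7, 23], (0, 4, 5, 0)),
  ([0, 1, 3, 2, 12, 5, 6, 7, 18, 9, 10, 22, 4, 16, 14, 21, 13, 23, 8, 20, 19, 15, 11, 17], (0, 3, 5, 0)),
  ([0, 1, 4, 3, 2, 20, 18, 10, 9, 8, 7, 17, 12, 16, 19, 15, 13, 11, 6, 14, 5, 21, 22, 23], (0, 1, 5, 0)),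
  ([0, 1, 4, 12, 2, 14, 9, 7, 18, 6, 10, 17, 3, 13, 5, 15, 16, 11, 8, 20, 19, 21, 23, 22], (0, 7, 8, 0)),
  ([0, 1, 4, 13, 2, 5, 6, 22, 8, 18, 23, 11, 16, 3, 20, 21, 12, 17, 9, 19, 14, 15, 7, 10], (0, 3, 6, 0)),
  ([0, 1, 4, 16, 2, 19, 8, 23, 6, 9, 22, 11, 13, 12, 14, 21, 3, 17, 18, 5, 20, 15, 10, 7], (0, 5, 7, 0)),
  ([0, 1, 6, 3, 13, 20, 2, 23, 12, 9, 10, 22, 8, 4, 15, 14, 18, 17, 16, 19, 5, 21, 11, 7], (0, 1, 2, 0)),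
  ([0, 1, 6, 9, 12, 14, 2, 23, 13, 3, 17, 11, 4, 8, 5, 20, 16, 10, 18, 19, 15, 21, 22, 7], (0, 8, 8, 0)),
  ([0, 1, 6, 16, 8, 15, 2, 7, 4, 18, 22, 17, 12, 13, 14, 5, 3, 11, 9, 21, 20, 19, 10, 23], (0, 6, 6, 0)),
  ([0, 1, 6, 18, 4, 5, 2, 7, 8, 16, 11, 10, 13, 12, 20, 15, 9, 22, 3, 21, 14, 19, 17, 23], (0, 2, 7, 0)),
  ([0, 1, 8, 3, 6, 21, 4, 23, 2, 18, 10, 17, 13, 12, 14, 19, 16, 11, 9, 15, 20, 5, 22, 7], (0, 1, 8, 0)),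
  ([0, 1, 8, 4, 3, 5, 16, 17, 2, 9, 22, 11, 18, 13, 15, 14, 6, 7, 12, 20, 19, 21, 10, 23], (0, 5, 2, 0)),
  ([0, 1, 8, 6, 16, 5, 3, 7, 2, 13, 22, 23, 12, 9, 19, 20, 4, 17, 18, 14, 15, 21, 10, 11], (0, 6, 4, 0)),
  ([0, 1, 8, 16, 4, 21, 6, 11, 2, 12, 10, 7, 9, 18, 20, 15, 3, 23, 13, 19, 14, 5, 22, 17], (0, 2, 3, 0)),
  ([0, 1, 9, 3, 16, 21, 6, 7, 13, 2, 23, 22, 18, 8, 19, 15, 4, 17, 12, 14, 20, 5, 11, 10], (0, 1, 4, 0)),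
  ([0, 1, 9, 6, 12, 14, 3, 17, 8, 2, 23, 11, 4, 13, 5, 15, 18, 7, 16, 21, 20, 19, 22, 10], (0, 4, 8, 0)),
  ([0, 1, 9, 8, 4, 19, 13, 11, 3, 2, 10, 7, 16, 6, 14, 20, 12, 22, 18, 5, 15, 21, 17, 23], (0, 2, 6, 0)),
  ([0, 1, 9, 13, 18, 5, 8, 22, 6, 2, 10, 17, 12, 3, 21, 20, 16, 11, 4, 19, 15, 14, 7, 23], (0, 6, 7, 0)),
  ([0, 1, 12, 3, 4, 21, 16, 10, 18, 13, 7, 11, 2, 9, 15, 14, 6, 22, 8, 19, 20, 5, 17, 23], (0, 1, 1, 0)),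
  ([0, 1, 12, 4, 3, 14, 9, 7, 8, 6, 10, 23, 2, 16, 5, 21, 13, 22, 18, 19, 20, 15, 17, 11], (0, 4, 3, 0)),
  ([0, 1, 12, 8, 18, 15, 6, 11, 3, 16, 23, 7, 2, 13, 14, 5, 9, 17, 4, 20, 19, 21, 22, 10], (0, 3, 7, 0)),
  ([0, 1, 12, 18, 8, 5, 13, 23, 4, 9, 11, 10, 2, 6, 21, 15, 16, 17, 3, 20, 19, 14, 22, 7], (0, 5, 6, 0)),
  ([0, 1, 13, 3, 8, 5, 12, 23, 4, 16, 10, 11, 6, 2, 19, 15, 9, 22, 18, 14, 21, 20, 17, 7], (0, 1, 7, 0)),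
  ([0, 1, 13, 6, 4, 21, 3, 7, 9, 8, 11, 10, 18, 2, 14, 20, 16, 17, 12, 19, 15, 5, 23, 22], (0, 2, 2, 0)),
  ([0, 1, 13, 12, 16, 20, 18, 17, 8, 9, 11, 10, 3, 2, 14, 21, 4, 7, 6, 19, 5, 15, 22, 23], (0, 4, 6, 0)),
  ([0, 1, 13, 18, 9, 15, 6, 22, 16, 4, 10, 11, 12, 2, 19, 5, 8, 23, 3, 14, 20, 21, 7, 17], (0, 3, 3, 0)),
  ([0, 1, 16, 3, 18, 20, 13, 7, 8, 12, 23, 11, 9, 6, 14, 19, 2, 22, 4, 15, 5, 21, 17, 10], (0, 1, 6, 0)),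
  ([0, 1, 16, 8, 6, 20, 4, 7, 3, 9, 22, 11, 12, 18, 21, 15, 2, 23, 13, 19, 5, 14, 10, 17], (0, 5, 8, 0)),
  ([0, 1, 16, 9, 4, 5, 18, 11, 12, 3, 10, 7, 8, 13, 15, 14, 2, 17, 6, 21, 20, 19, 23, 22], (0, 2, 4, 0)),
  ([0, 1, 16, 12, 13, 5, 6, 11, 9, 8, 17, 7, 3, 4, 19, 21, 2, 10, 18, 14, 20, 15, 22, 23], (0, 3, 2, 0)),
  ([0, 1, 18, 3, 9, 5, 8, 7, 6, 4, 23, 17, 16, 13, 15, 14, 12, 11, 2, 19, 21, 20, 22, 10], (0, 1, 3, 0)),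
  ([0, 1, 18, 4, 3, 21, 6, 22, 12, 13, 17, 11, 8, 9, 14, 15, 16, 10, 2, 20, 19, 5, 7, 23], (0, 3, 4, 0)),
  ([0, 1, 18, 9, 13, 20, 16, 22, 8, 3, 10, 23, 12, 4, 14, 15, 6, 17, 2, 21, 5, 19, 7, 11], (0, 4, 7, 0)),
  ([0, 1, 18, 13, 4, 19, 12, 7, 16, 9, 11, 10, 6, 3, 15, 14, 8, 23, 2, 5, 20, 21, 22, 17], (0, 2, 8, 0)),
  ([0, 2, 1, 3, 4, 23, 8, 10, 6, 16, 7, 15, 12, 18, 14, 11, 9, 17, 13, 22, 20, 21, 19, 5], (2, 2, 5, 0)),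
  ([0, 2, 1, 3, 12, 23, 16, 7, 9, 8, 10, 19, 4, 13, 14, 22, 6, 17, 18, 11, 21, 20, 15, 5], (2, 3, 5, 0)),
  ([0, 2, 1, 3, 13, 5, 9, 20, 8, 6, 21, 11, 18, 4, 17, 19, 16, 14, 12, 15, 7, 10, 22, 23], (2, 7, 5, 0)),
  ([0, 2, 1, 3, 18, 5, 6, 21, 16, 9, 20, 22, 13, 12, 17, 15, 8, 14, 4, 19, 10, 7, 11, 23], (2, 4, 5, 0)),
  ([0, 2, 1, 4, 3, 11, 18, 7, 13, 9, 10, 5, 12, 8, 21, 23, 16, 17, 6, 22, 20, 14, 19, 15], (6, 7, 5, 0)),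
  ([0, 2, 1, 6, 4, 19, 3, 14, 12, 9, 20, 11, 8, 16, 7, 15, 13, 21, 18, 5, 10, 17, 22, 23], (3, 7, 5, 0)),
  ([0, 2, 1, 8, 4, 5, 12, 20, 3, 18, 14, 11, 6, 13, 10, 15, 16, 21, 9, 19, 7, 17, 23, 22], (3, 4, 5, 0)),
  ([0, 2, 1, 9, 16, 15, 6, 21, 18, 3, 14, 11, 12, 13, 10, 5, 4, 20, 8, 19, 17, 7, 22, 23], (4, 3, 5, 0)),
  ([0, 2, 1, 12, 4, 22, 6, 7, 8, 13, 10, 15, 3, 9, 20, 11, 18, 17, 16, 23, 14, 21, 5, 19], (3, 3, 5, 0)),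
  ([0, 2, 1, 13, 8, 11, 6, 7, 4, 12, 17, 5, 9, 3, 14, 22, 16, 10, 18, 23, 20, 21, 15, 19], (4, 4, 5, 0)),
  ([0, 2, 1, 16, 9, 5, 13, 14, 8, 4, 21, 23, 12, 6, 7, 15, 3, 20, 18, 19, 17, 10, 22, 11], (5, 3, 5, 0)),
  ([0, 2, 1, 18, 6, 22, 4, 17, 8, 9, 10, 19, 16, 13, 14, 23, 12, 7, 3, 11, 20, 21, 5, 15], (5, 7, 5, 0)),
  ([0, 3, 2, 1, 4, 17, 18, 10, 16, 13, 7, 20, 12, 9, 14, 15, 8, 5, 6, 19, 11, 22, 21, 23], (1, 2, 5, 0)),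
  ([0, 3, 2, 1, 8, 5, 9, 19, 4, 6, 15, 11, 16, 13, 23, 10, 12, 17, 18, 7, 21, 20, 22, 14], (1, 7, 5, 0)),
  ([0, 3, 2, 1, 12, 17, 13, 7, 8, 18, 10, 21, 4, 6, 14, 19, 16, 5, 9, 15, 22, 11, 20, 23], (1, 3, 5, 0)),
  ([0, 3, 2, 1, 16, 5, 6, 15, 12, 9, 19, 22, 8, 18, 23, 7, 4, 17, 13, 10, 20, 21, 11, 14], (1, 4, 5, 0)),
  ([0, 3, 4, 1, 2, 11, 6, 7, 13, 16, 10, 5, 12, 8, 19, 15, 9, 20, 18, 14, 17, 22, 21, 23], (4, 3, 6, 0)),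
  ([0, 3, 6, 1, 18, 20, 2, 14, 8, 9, 19, 11, 12, 16, 7, 23, 13, 17, 4, 10, 5, 21, 22, 15], (5, 5, 7, 0)),
  ([0, 3, 8, 1, 13, 11, 12, 23, 2, 9, 10, 5, 6, 4, 14, 15, 16, 21, 18, 19, 22, 17, 20, 7], (6, 5, 7, 0)),
  ([0, 3, 9, 1, 4, 21, 6, 15, 18, 2, 14, 11, 13, 12, 10, 7, 16, 17, 8, 23, 20, 5, 22, 19], (3, 3, 6, 0)),
  ([0, 3, 12, 1, 4, 22, 8, 7, 6, 9, 10, 20, 2, 13, 15, 14, 18, 21, 16, 19, 11, 17, 5, 23], (3, 7, 8, 0)),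
  ([0, 3, 13, 1, 4, 5, 16, 14, 8, 12, 15, 11, 9, 2, 7, 10, 6, 22, 18, 23, 20, 21, 17, 19], (3, 5, 7, 0)),
  ([0, 3, 16, 1, 9, 22, 6, 7, 8, 4, 23, 21, 18, 13, 14, 15, 2, 20, 12, 19, 17, 11, 5, 10], (4, 5, 7, 0)),
  ([0, 3, 18, 1, 6, 5, 4, 19, 9, 8, 14, 17, 12, 13, 10, 23, 16, 11, 2, 7, 20, 21, 22, 15], (7, 5, 7, 0)),
  ([0, 4, 2, 3, 1, 5, 16, 10, 13, 18, 7, 11, 12, 8, 22, 17, 6, 15, 9, 19, 23, 21, 14, 20], (1, 1, 5, 0)),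
  ([0, 4, 2, 9, 1, 10, 8, 19, 6, 3, 5, 21, 18, 13, 14, 15, 16, 17, 12, 7, 20, 11, 23, 22], (1, 5, 7, 0)),
  ([0, 4, 2, 12, 1, 19, 13, 7, 16, 9, 10, 11, 3, 6, 23, 17, 8, 15, 18, 5, 22, 21, 20, 14], (1, 7, 8, 0)),
  ([0, 4, 2, 18, 1, 7, 6, 5, 8, 12, 19, 21, 9, 16, 20, 15, 13, 17, 3, 10, 14, 11, 22, 23], (1, 3, 6, 0)),
  ([0, 4, 3, 2, 1, 5, 18, 7, 8, 16, 10, 11, 12, 13, 22, 23, 9, 20, 6, 21, 17, 19, 14, 15], (5, 5, 2, 0)),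
  ([0, 4, 6, 3, 1, 7, 2, 5, 8, 13, 21, 19, 16, 9, 14, 15, 12, 22, 18, 11, 20, 10, 17, 23], (2, 5, 7, 0)),
  ([0, 4, 8, 13, 1, 11, 6, 21, 2, 9, 19, 5, 12, 3, 14, 15, 18, 23, 16, 10, 20, 7, 22, 17], (4, 3, 3, 0)),
  ([0, 4, 9, 16, 1, 5, 6, 11, 12, 2, 10, 7, 8, 13, 23, 22, 3, 20, 18, 19, 17, 21, 15, 14], (4, 4, 6, 0)),
  ([0, 4, 12, 3, 1, 21, 6, 7, 9, 8, 10, 11, 2, 18, 17, 22, 16, 14, 13, 19, 23, 5, 15, 20], (2, 7, 8, 0)),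
  ([0, 4, 13, 8, 1, 11, 9, 19, 3, 6, 21, 5, 12, 2, 14, 20, 16, 17, 18, 7, 15, 10, 22, 23], (7, 5, 6, 0)),
  ([0, 4, 16, 3, 1, 10, 12, 21, 18, 9, 5, 19, 6, 13, 15, 14, 2, 17, 8, 11, 20, 7, 22, 23], (2, 3, 6, 0)),
  ([0, 4, 18, 6, 1, 5, 3, 7, 8, 9, 11, 10, 13, 12, 17, 23, 16, 14, 2, 19, 22, 21, 20, 15], (5, 6, 4, 0)),
  ([0, 6, 2, 3, 8, 10, 1, 7, 4, 9, 5, 22, 18, 16, 14, 17, 13, 15, 12, 19, 20, 23, 11, 21], (1, 1, 8, 0)),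
  ([0, 6, 2, 4, 3, 5, 1, 19, 9, 8, 17, 14, 13, 12, 11, 15, 16, 10, 18, 7, 22, 21, 20, 23], (1, 5, 2, 0)),
  ([0, 6, 2, 8, 9, 15, 1, 19, 3, 4, 10, 20, 12, 13, 22, 5, 18, 17, 16, 7, 11, 21, 14, 23], (1, 6, 4, 0)),
  ([0, 6, 2, 9, 4, 17, 1, 7, 8, 3, 15, 11, 16, 18, 20, 10, 12, 5, 13, 19, 14, 23, 22, 21], (1, 2, 3, 0)),
  ([0, 6, 3, 2, 18, 10, 1, 7, 12, 9, 5, 11, 8, 13, 14, 23, 16, 21, 4, 20, 19, 17, 22, 15], (6, 4, 3, 0)),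
  ([0, 6, 4, 18, 2, 17, 1, 22, 8, 13, 21, 11, 12, 9, 14, 23, 16, 5, 3, 19, 20, 10, 7, 15], (5, 5, 8, 0)),
  ([0, 6, 8, 12, 4, 23, 1, 11, 2, 16, 15, 7, 3, 13, 14, 10, 9, 21, 18, 19, 20, 17, 22, 5], (3, 8, 8, 0)),
  ([0, 6, 9, 3, 13, 23, 1, 7, 16, 2, 21, 11, 12, 4, 19, 17, 8, 15, 18, 14, 20, 10, 22, 5], (2, 5, 8, 0)),
  ([0, 6, 12, 3, 16, 5, 1, 20, 8, 18, 23, 19, 2, 13, 22, 15, 4, 17, 9, 11, 7, 21, 14, 10], (2, 3, 2, 0)),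
  ([0, 6, 13, 16, 4, 5, 1, 14, 18, 9, 10, 20, 12, 2, 7, 15, 3, 23, 8, 22, 11, 21, 19, 17], (3, 6, 6, 0)),
  ([0, 6, 16, 13, 12, 5, 1, 14, 8, 9, 10, 19, 4, 3, 7, 21, 2, 17, 18, 11, 22, 15, 20, 23], (5, 3, 2, 0)),
  ([0, 6, 18, 3, 4, 21, 1, 20, 13, 12, 10, 14, 9, 8, 11, 15, 16, 17, 2, 22, 7, 5, 19, 23], (2, 2, 4, 0)),
  ([0, 8, 2, 3, 18, 10, 12, 7, 1, 13, 5, 14, 6, 9, 11, 19, 16, 17, 4, 15, 23, 21, 22, 20], (1, 1, 2, 0)),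
  ([0, 8, 2, 9, 6, 5, 4, 19, 1, 3, 10, 23, 12, 16, 14, 17, 13, 15, 18, 7, 20, 22, 21, 11], (1, 6, 6, 0)),
  ([0, 8, 2, 13, 4, 5, 6, 15, 1, 16, 10, 11, 18, 3, 20, 7, 9, 19, 12, 17, 14, 22, 21, 23], (1, 2, 7, 0)),
  ([0, 8, 2, 16, 12, 10, 18, 17, 1, 9, 5, 20, 4, 13, 23, 15, 3, 7, 6, 19, 11, 21, 22, 14], (1, 8, 8, 0)),
  ([0, 8, 3, 2, 13, 11, 6, 22, 1, 18, 14, 5, 12, 4, 10, 15, 16, 17, 9, 19, 23, 21, 7, 20], (4, 3, 4, 0)),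
  ([0, 8, 4, 3, 2, 5, 6, 21, 1, 12, 23, 11, 9, 13, 14, 22, 18, 19, 16, 17, 20, 7, 15, 10], (2, 3, 4, 0)),
  ([0, 8, 6, 12, 4, 5, 2, 15, 1, 9, 11, 10, 3, 18, 14, 7, 16, 21, 13, 22, 20, 17, 19, 23], (3, 4, 8, 0)),
  ([0, 8, 9, 18, 4, 23, 16, 7, 1, 2, 14, 20, 12, 13, 10, 15, 6, 17, 3, 21, 11, 19, 22, 5], (3, 6, 7, 0)),
  ([0, 8, 12, 6, 9, 14, 3, 19, 1, 4, 10, 11, 2, 13, 5, 22, 16, 21, 18, 7, 20, 17, 15, 23], (8, 6, 6, 0)),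
  ([0, 8, 13, 4, 3, 11, 6, 7, 1, 9, 20, 5, 16, 2, 23, 21, 12, 17, 18, 19, 10, 15, 22, 14], (4, 4, 7, 0)),
  ([0, 8, 16, 3, 4, 23, 9, 7, 1, 6, 20, 14, 13, 12, 11, 15, 2, 22, 18, 19, 10, 21, 17, 5], (2, 2, 8, 0)),
  ([0, 8, 18, 3, 16, 20, 13, 21, 1, 9, 10, 11, 12, 6, 14, 17, 4, 15, 2, 22, 5, 7, 19, 23], (2, 4, 7, 0)),
  ([0, 9, 2, 3, 13, 7, 6, 5, 18, 1, 10, 22, 16, 4, 14, 15, 12, 19, 8, 17, 23, 21, 11, 20], (1, 1, 6, 0)),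
  ([0, 9, 2, 6, 8, 17, 3, 19, 4, 1, 10, 11, 12, 18, 21, 15, 16, 5, 13, 7, 23, 14, 22, 20], (1, 5, 8, 0)),
  ([0, 9, 2, 12, 18, 5, 16, 17, 8, 1, 15, 21, 3, 13, 22, 10, 6, 7, 4, 19, 20, 11, 14, 23], (1, 3, 2, 0)),
  ([0, 9, 2, 16, 4, 19, 12, 7, 13, 1, 15, 14, 6, 8, 11, 10, 3, 17, 18, 5, 20, 22, 21, 23], (1, 2, 4, 0)),
  ([0, 9, 3, 2, 16, 7, 6, 5, 8, 1, 10, 11, 13, 12, 14, 21, 4, 20, 18, 23, 17, 15, 22, 19], (4, 4, 3, 0)),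
  ([0, 9, 4, 3, 2, 5, 13, 23, 12, 1, 21, 14, 8, 6, 11, 22, 16, 17, 18, 19, 20, 10, 15, 7], (2, 5, 2, 0)),
  ([0, 9, 6, 3, 4, 23, 2, 20, 16, 1, 10, 11, 18, 13, 15, 14, 8, 19, 12, 17, 7, 21, 22, 5], (2, 2, 3, 0)),
  ([0, 9, 8, 18, 12, 5, 6, 7, 2, 1, 14, 21, 4, 13, 10, 22, 16, 17, 3, 20, 19, 11, 15, 23], (4, 5, 6, 0)),
  ([0, 9, 12, 13, 4, 17, 18, 20, 8, 1, 11, 10, 2, 3, 14, 15, 16, 5, 6, 23, 7, 21, 22, 19], (3, 4, 6, 0)),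
  ([0, 9, 13, 3, 6, 20, 4, 7, 8, 1, 21, 15, 12, 2, 22, 11, 18, 17, 16, 19, 5, 10, 14, 23], (2, 6, 4, 0)),
  ([0, 9, 16, 4, 3, 23, 8, 19, 6, 1, 22, 11, 12, 13, 14, 15, 2, 20, 18, 7, 17, 21, 10, 5], (7, 8, 8, 0)),
  ([0, 9, 18, 8, 4, 5, 6, 7, 3, 1, 14, 15, 12, 16, 10, 11, 13, 23, 2, 19, 20, 22, 21, 17], (3, 3, 3, 0)),
  ([0, 12, 2, 3, 4, 5, 13, 10, 9, 8, 7, 14, 1, 6, 11, 15, 18, 19, 16, 17, 20, 23, 22, 21], (1, 1, 1, 0)),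
  ([0, 12, 2, 4, 3, 15, 6, 7, 16, 18, 10, 21, 1, 13, 23, 5, 8, 19, 9, 17, 20, 11, 22, 14], (1, 4, 3, 0)),
  ([0, 12, 2, 6, 13, 7, 3, 5, 8, 16, 15, 23, 1, 4, 14, 10, 9, 17, 18, 19, 22, 21, 20, 11], (1, 3, 7, 0)),
  ([0, 12, 2, 13, 6, 10, 4, 15, 18, 9, 5, 11, 1, 3, 21, 7, 16, 17, 8, 19, 22, 14, 20, 23], (1, 5, 6, 0)),
  ([0, 12, 3, 2, 4, 5, 8, 7, 6, 13, 10, 14, 1, 9, 11, 20, 16, 21, 18, 23, 15, 17, 22, 19], (3, 4, 3, 0)),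
  ([0, 12, 4, 3, 2, 20, 16, 7, 8, 9, 10, 19, 1, 18, 17, 15, 6, 14, 13, 11, 5, 23, 22, 21], (2, 4, 3, 0)),
  ([0, 12, 6, 8, 16, 5, 2, 7, 3, 9, 22, 19, 1, 13, 23, 15, 4, 21, 18, 11, 20, 17, 10, 14], (6, 4, 6, 0)),
  ([0, 12, 8, 3, 9, 7, 6, 5, 2, 4, 20, 11, 1, 16, 19, 22, 13, 17, 18, 14, 10, 21, 15, 23], (2, 5, 6, 0)),
  ([0, 12, 9, 3, 8, 10, 18, 20, 4, 2, 5, 17, 1, 13, 14, 22, 16, 11, 6, 19, 7, 21, 15, 23], (2, 3, 7, 0)),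
  ([0, 12, 13, 9, 18, 5, 6, 22, 8, 3, 10, 21, 1, 2, 17, 15, 16, 14, 4, 23, 20, 11, 7, 19], (4, 8, 8, 0)),
  ([0, 12, 16, 18, 4, 22, 6, 15, 13, 9, 20, 11, 1, 8, 14, 7, 2, 23, 3, 19, 10, 21, 5, 17], (3, 3, 7, 0)),
  ([0, 12, 18, 16, 4, 22, 9, 20, 8, 6, 15, 11, 1, 13, 14, 10, 3, 17, 2, 21, 7, 19, 5, 23], (3, 5, 6, 0)),
  ([0, 13, 2, 3, 16, 7, 8, 5, 6, 12, 10, 14, 9, 1, 11, 17, 4, 15, 18, 19, 21, 20, 22, 23], (1, 1, 3, 0)),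
  ([0, 13, 2, 4, 3, 5, 12, 17, 8, 9, 19, 11, 6, 1, 14, 15, 18, 7, 16, 10, 22, 23, 20, 21], (1, 3, 4, 0)),
  ([0, 13, 2, 16, 18, 15, 6, 7, 9, 8, 19, 11, 12, 1, 14, 5, 3, 17, 4, 10, 23, 22, 21, 20], (1, 4, 7, 0)),
  ([0, 13, 2, 18, 4, 17, 9, 15, 12, 6, 10, 14, 8, 1, 11, 7, 16, 5, 3, 19, 20, 21, 23, 22], (1, 2, 8, 0)),
  ([0, 13, 3, 2, 8, 11, 16, 14, 4, 9, 22, 5, 12, 1, 7, 17, 6, 15, 18, 19, 20, 21, 10, 23], (6, 5, 2, 0)),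
  ([0, 13, 4, 8, 2, 11, 6, 15, 3, 9, 10, 5, 18, 1, 17, 7, 16, 14, 12, 20, 19, 21, 22, 23], (4, 6, 7, 0)),
  ([0, 13, 6, 3, 9, 5, 2, 7, 18, 4, 21, 17, 12, 1, 14, 15, 16, 11, 8, 22, 23, 10, 19, 20], (2, 6, 6, 0)),
  ([0, 13, 8, 3, 4, 5, 18, 7, 2, 9, 20, 11, 16, 1, 15, 14, 12, 17, 6, 22, 10, 23, 19, 21], (2, 2, 7, 0)),
  ([0, 13, 9, 12, 6, 14, 4, 7, 8, 2, 21, 11, 3, 1, 5, 15, 16, 17, 18, 23, 22, 10, 20, 19], (5, 3, 3, 0)),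
  ([0, 13, 12, 9, 4, 5, 6, 11, 16, 3, 20, 7, 2, 1, 14, 15, 8, 17, 18, 23, 10, 22, 21, 19], (3, 3, 2, 0)),
  ([0, 13, 16, 6, 4, 17, 3, 14, 8, 18, 10, 15, 12, 1, 7, 11, 2, 5, 9, 21, 20, 19, 22, 23], (3, 5, 8, 0)),
  ([0, 13, 18, 3, 12, 7, 6, 5, 8, 16, 23, 15, 4, 1, 17, 11, 9, 14, 2, 19, 20, 21, 22, 10], (2, 8, 8, 0)),
  ([0, 16, 2, 3, 9, 7, 18, 5, 8, 4, 10, 11, 13, 12, 22, 19, 1, 17, 6, 15, 20, 23, 14, 21], (1, 1, 4, 0)),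
  ([0, 16, 2, 6, 4, 5, 3, 7, 18, 12, 15, 20, 9, 13, 14, 10, 1, 19, 8, 17, 11, 21, 23, 22], (1, 2, 6, 0)),
  ([0, 16, 2, 8, 12, 7, 6, 5, 3, 13, 17, 11, 4, 9, 23, 15, 1, 10, 18, 19, 20, 22, 21, 14], (1, 4, 8, 0)),
  ([0, 16, 2, 18, 13, 5, 8, 7, 6, 9, 19, 20, 12, 4, 21, 17, 1, 15, 3, 10, 11, 14, 22, 23], (1, 6, 7, 0)),
  ([0, 16, 3, 2, 4, 22, 13, 14, 8, 9, 11, 10, 18, 6, 7, 15, 1, 17, 12, 19, 20, 23, 5, 21], (3, 5, 2, 0)),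
  ([0, 16, 4, 9, 2, 14, 12, 7, 8, 3, 15, 19, 6, 13, 5, 10, 1, 20, 18, 11, 17, 21, 22, 23], (5, 3, 7, 0)),
  ([0, 16, 6, 13, 4, 23, 2, 14, 9, 8, 10, 11, 12, 3, 7, 20, 1, 17, 18, 19, 15, 22, 21, 5], (3, 6, 4, 0)),
  ([0, 16, 8, 3, 18, 23, 9, 21, 2, 6, 10, 17, 12, 13, 22, 15, 1, 11, 4, 19, 20, 7, 14, 5], (2, 3, 3, 0)),
  ([0, 16, 9, 4, 3, 5, 6, 22, 8, 2, 19, 15, 12, 18, 14, 11, 1, 20, 13, 10, 17, 21, 7, 23], (4, 3, 2, 0)),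
  ([0, 16, 12, 3, 6, 5, 4, 23, 13, 9, 20, 19, 2, 8, 14, 17, 1, 15, 18, 11, 10, 21, 22, 7], (2, 4, 6, 0)),
  ([0, 16, 13, 3, 4, 21, 6, 7, 12, 18, 20, 15, 8, 2, 14, 11, 1, 19, 9, 17, 10, 5, 22, 23], (2, 2, 2, 0)),
  ([0, 16, 18, 12, 8, 22, 6, 21, 4, 9, 10, 11, 3, 13, 23, 15, 1, 17, 2, 20, 19, 7, 5, 14], (4, 5, 8, 0)),
  ([0, 18, 2, 3, 6, 10, 4, 7, 12, 16, 5, 11, 8, 13, 22, 15, 9, 19, 1, 17, 21, 20, 14, 23], (1, 1, 7, 0)),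
  ([0, 18, 2, 8, 4, 19, 16, 15, 3, 9, 10, 20, 13, 12, 14, 7, 6, 17, 1, 5, 11, 23, 22, 21], (1, 2, 2, 0)),
  ([0, 18, 2, 12, 9, 5, 6, 15, 13, 4, 17, 21, 3, 8, 14, 7, 16, 10, 1, 19, 23, 11, 22, 20], (1, 4, 6, 0)),
  ([0, 18, 2, 13, 16, 17, 9, 7, 8, 6, 19, 23, 12, 3, 22, 15, 4, 5, 1, 10, 20, 21, 14, 11], (1, 3, 3, 0)),
  ([0, 18, 3, 2, 4, 22, 6, 11, 9, 8, 14, 7, 16, 13, 10, 15, 12, 19, 1, 17, 20, 21, 5, 23], (3, 3, 4, 0)),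
  ([0, 18, 4, 6, 2, 5, 3, 21, 16, 9, 22, 20, 12, 13, 14, 23, 8, 17, 1, 19, 11, 7, 10, 15], (6, 4, 8, 0)),
  ([0, 18, 6, 4, 3, 14, 2, 20, 8, 12, 10, 21, 9, 13, 5, 23, 16, 17, 1, 19, 7, 11, 22, 15], (5, 6, 6, 0)),
  ([0, 18, 8, 9, 4, 17, 13, 7, 2, 3, 14, 11, 12, 6, 10, 20, 16, 5, 1, 22, 15, 21, 19, 23], (3, 4, 7, 0)),
  ([0, 18, 9, 3, 4, 5, 12, 20, 8, 2, 10, 15, 6, 16, 14, 11, 13, 22, 1, 19, 7, 23, 17, 21], (2, 2, 6, 0)),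
  ([0, 18, 12, 16, 13, 22, 6, 7, 8, 9, 19, 11, 2, 4, 17, 21, 3, 14, 1, 10, 20, 15, 5, 23], (4, 6, 4, 0)),
  ([0, 18, 13, 3, 12, 10, 8, 23, 6, 9, 5, 11, 4, 2, 17, 15, 16, 14, 1, 22, 20, 21, 19, 7], (2, 4, 8, 0)),
  ([0, 18, 16, 3, 8, 5, 6, 21, 4, 13, 10, 15, 12, 9, 19, 11, 2, 17, 1, 14, 23, 7, 22, 20], (2, 6, 7, 0))]

/-- the partners of the involution, with conjugators -/
def conjY : List (List ℕ × (ℕ × ℕ × ℕ × ℕ)) := [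
  ([0, 4, 6, 12, 2, 7, 1, 22, 8, 9, 21, 23, 18, 13, 20, 11, 3, 5, 16, 15, 14, 10, 17, 19], (0, 0, 0, 0)),
  ([0, 4, 12, 8, 6, 23, 18, 11, 2, 9, 15, 7, 3, 13, 22, 5, 16, 20, 1, 17, 21, 19, 14, 10], (1, 1, 0, 4)),
  ([0, 4, 12, 9, 3, 10, 6, 19, 8, 1, 22, 17, 16, 13, 15, 14, 18, 21, 2, 7, 11, 20, 23, 5], (0, 1, 0, 0)),
  ([0, 4, 13, 12, 9, 17, 6, 20, 8, 16, 11, 10, 2, 3, 22, 19, 1, 7, 18, 21, 5, 23, 14, 15], (2, 1, 0, 4)),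
  ([0, 4, 13, 18, 3, 14, 16, 5, 8, 9, 23, 21, 12, 6, 20, 10, 2, 22, 1, 15, 7, 11, 17, 19], (2, 0, 0, 3)),
  ([0, 4, 16, 8, 2, 14, 6, 17, 9, 18, 5, 19, 12, 13, 15, 10, 1, 21, 3, 11, 7, 20, 23, 22], (1, 0, 0, 3)),
  ([0, 6, 9, 4, 1, 21, 3, 23, 2, 18, 17, 10, 12, 13, 11, 7, 16, 14, 8, 15, 22, 5, 20, 19], (0, 1, 0, 3)),
  ([0, 6, 9, 13, 4, 10, 12, 22, 1, 3, 5, 21, 8, 2, 17, 19, 16, 11, 18, 20, 23, 14, 7, 15], (1, 1, 0, 7)),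
  ([0, 6, 12, 9, 4, 15, 2, 17, 18, 8, 23, 19, 1, 13, 22, 5, 16, 20, 3, 11, 21, 7, 10, 14], (0, 0, 0, 1)),
  ([0, 6, 16, 8, 4, 15, 3, 19, 1, 9, 23, 17, 18, 13, 5, 22, 12, 20, 2, 7, 21, 11, 14, 10], (2, 0, 0, 7)),
  ([0, 6, 16, 9, 18, 10, 4, 11, 8, 2, 5, 7, 12, 13, 23, 14, 3, 21, 1, 17, 19, 20, 15, 22], (2, 1, 0, 5)),
  ([0, 6, 18, 13, 8, 21, 2, 20, 3, 9, 17, 14, 12, 4, 5, 22, 16, 10, 1, 15, 7, 11, 23, 19], (1, 0, 0, 5)),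
  ([0, 8, 4, 12, 1, 22, 6, 21, 2, 3, 19, 15, 13, 9, 20, 5, 16, 23, 18, 17, 14, 7, 11, 10], (1, 0, 0, 0)),
  ([0, 8, 6, 9, 2, 20, 18, 10, 3, 1, 19, 15, 12, 13, 7, 17, 16, 23, 4, 14, 5, 22, 21, 11], (2, 0, 0, 2)),
  ([0, 8, 6, 16, 1, 15, 3, 22, 13, 9, 7, 17, 12, 4, 10, 11, 2, 5, 18, 21, 23, 19, 14, 20], (2, 1, 0, 2)),
  ([0, 8, 16, 12, 4, 11, 6, 5, 18, 1, 17, 22, 2, 13, 19, 21, 3, 14, 9, 10, 23, 15, 7, 20], (1, 1, 0, 1)),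
  ([0, 8, 16, 13, 9, 22, 6, 15, 3, 2, 23, 21, 12, 1, 17, 7, 4, 19, 18, 20, 14, 5, 11, 10], (0, 1, 0, 5)),
  ([0, 8, 18, 16, 3, 17, 6, 10, 2, 4, 21, 23, 12, 13, 7, 20, 9, 15, 1, 22, 5, 14, 19, 11], (0, 0, 0, 2)),
  ([0, 9, 4, 6, 1, 19, 16, 23, 8, 2, 17, 7, 12, 3, 11, 22, 13, 21, 18, 5, 10, 20, 15, 14], (0, 0, 0, 3)),
  ([0, 9, 6, 12, 4, 20, 13, 17, 8, 3, 23, 21, 1, 16, 22, 19, 2, 14, 18, 10, 5, 11, 7, 15], (0, 1, 0, 1)),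
  ([0, 9, 6, 18, 16, 7, 3, 5, 8, 4, 11, 10, 12, 13, 17, 21, 1, 22, 2, 15, 14, 23, 20, 19], (1, 1, 0, 5)),
  ([0, 9, 8, 6, 4, 7, 2, 5, 3, 12, 22, 19, 13, 1, 23, 17, 16, 20, 18, 14, 21, 15, 10, 11], (2, 1, 0, 7)),
  ([0, 9, 8, 16, 13, 19, 6, 23, 4, 3, 15, 14, 12, 2, 5, 10, 1, 21, 18, 11, 22, 20, 17, 7], (2, 0, 0, 5)),
  ([0, 9, 13, 18, 4, 20, 6, 17, 8, 2, 21, 23, 16, 1, 5, 19, 3, 7, 12, 11, 22, 10, 14, 15], (1, 0, 0, 7)),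
  ([0, 12, 4, 6, 8, 7, 1, 11, 13, 9, 15, 23, 3, 2, 19, 10, 16, 20, 18, 14, 21, 22, 17, 5], (0, 1, 0, 4)),
  ([0, 12, 4, 16, 3, 23, 6, 19, 8, 13, 22, 14, 9, 1, 11, 17, 2, 21, 18, 5, 15, 20, 10, 7], (1, 1, 0, 0)),
  ([0, 12, 8, 16, 4, 14, 13, 5, 1, 9, 17, 23, 2, 3, 19, 22, 6, 20, 18, 7, 21, 10, 15, 11], (1, 0, 0, 1)),
  ([0, 12, 9, 4, 13, 10, 6, 20, 3, 1, 11, 17, 2, 8, 21, 19, 16, 5, 18, 22, 7, 14, 23, 15], (0, 0, 0, 4)),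
  ([0, 12, 18, 4, 2, 17, 8, 22, 1, 9, 21, 14, 6, 13, 11, 20, 16, 10, 3, 15, 23, 5, 7, 19], (2, 1, 0, 0)),
  ([0, 12, 18, 13, 4, 14, 6, 23, 2, 8, 5, 17, 3, 1, 21, 19, 16, 11, 9, 7, 22, 10, 20, 15], (2, 0, 0, 1)),
  ([0, 13, 6, 9, 3, 15, 1, 21, 8, 16, 7, 20, 12, 2, 10, 5, 4, 11, 18, 22, 23, 14, 19, 17], (1, 0, 0, 2)),
  ([0, 13, 8, 18, 6, 22, 3, 17, 1, 9, 20, 19, 12, 2, 23, 14, 16, 7, 4, 5, 10, 15, 11, 21], (0, 0, 0, 5)),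
  ([0, 13, 12, 4, 1, 22, 2, 21, 6, 9, 19, 20, 8, 3, 15, 14, 16, 7, 18, 10, 5, 23, 11, 17], (2, 0, 0, 0)),
  ([0, 13, 12, 18, 4, 11, 1, 23, 8, 9, 5, 22, 3, 16, 21, 17, 6, 15, 2, 20, 19, 7, 10, 14], (2, 1, 0, 1)),
  ([0, 13, 18, 9, 1, 20, 6, 10, 4, 2, 22, 23, 12, 8, 7, 17, 16, 15, 3, 21, 11, 19, 14, 5], (1, 1, 0, 2)),
  ([0, 13, 18, 16, 2, 23, 4, 19, 8, 9, 7, 17, 12, 3, 10, 5, 1, 11, 6, 14, 15, 22, 21, 20], (0, 1, 0, 2)),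
  ([0, 16, 8, 4, 2, 22, 1, 17, 3, 9, 5, 10, 12, 6, 15, 7, 13, 14, 18, 20, 19, 23, 11, 21], (1, 1, 0, 3)),
  ([0, 16, 8, 18, 4, 11, 2, 23, 12, 9, 19, 22, 6, 13, 17, 21, 3, 15, 1, 10, 5, 14, 20, 7], (0, 1, 0, 7)),
  ([0, 16, 9, 6, 4, 21, 1, 15, 8, 13, 7, 20, 2, 12, 10, 14, 3, 23, 18, 17, 11, 5, 19, 22], (2, 0, 0, 6)),
  ([0, 16, 9, 8, 4, 19, 6, 10, 2, 3, 11, 14, 1, 13, 7, 20, 18, 5, 12, 22, 15, 23, 17, 21], (2, 1, 0, 6)),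
  ([0, 16, 12, 4, 18, 11, 3, 15, 8, 9, 20, 22, 1, 13, 21, 17, 2, 23, 6, 5, 10, 14, 19, 7], (1, 0, 0, 4)),
  ([0, 16, 13, 8, 4, 17, 12, 20, 6, 9, 7, 15, 3, 1, 10, 11, 2, 19, 18, 21, 14, 5, 23, 22], (0, 0, 0, 6)),
  ([0, 18, 4, 12, 16, 11, 6, 15, 8, 2, 20, 22, 1, 13, 19, 7, 9, 10, 3, 14, 23, 5, 21, 17], (2, 0, 0, 4)),
  ([0, 18, 4, 13, 3, 22, 6, 5, 9, 1, 23, 7, 12, 2, 20, 21, 16, 19, 8, 17, 10, 15, 11, 14], (2, 1, 0, 3)),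
  ([0, 18, 9, 6, 4, 19, 8, 10, 12, 1, 20, 15, 3, 13, 7, 11, 16, 22, 2, 5, 14, 23, 21, 17], (1, 0, 0, 6)),
  ([0, 18, 13, 6, 4, 21, 2, 11, 8, 9, 7, 14, 1, 3, 10, 20, 12, 19, 16, 17, 15, 22, 23, 5], (1, 1, 0, 6)),
  ([0, 18, 13, 8, 4, 23, 6, 10, 1, 12, 15, 20, 2, 9, 7, 14, 16, 22, 3, 5, 11, 19, 17, 21], (0, 1, 0, 6)),
  ([0, 18, 16, 13, 4, 11, 6, 21, 8, 3, 17, 22, 9, 12, 23, 5, 1, 10, 2, 14, 19, 7, 15, 20], (0, 0, 0, 7))]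

end Cfsg.Agent.Lib.Helper9.M11Aut
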