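import Cfsg.Agent.Lib.Helper9.M11FusCert
import Cfsg.Agent.Lib.Helper9.M11Aut
import Cfsg.Agent.Lib.Helper9.FusSimple
import Cfsg.Agent.Lib.Helper21.GolayM12

/-!
The `2`-fusion system of the Mathieu group `M11` is simple (helper9).
-/

set_option autoImplicit false

namespace Cfsg.Agent.Lib.Helper9.M11Aut

open Cfsg Cfsg.Agent.Lib.Helper21 Cfsg.Agent.Lib.Helper9.M24Coset Cfsg.Agent.Lib.Helper29
  Cfsg.Agent.Lib.Helper9.FusSimple

/-! ### elements of `M11` from words -/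

theorem img_eq_of_eq (L L' : TW) (hv : ∀ e ∈ L, ValidTab e.1) (hv' : ∀ e ∈ L', ValidTab e.1)
    (h : prodT L = prodT L') (i : ℕ) (hi : i < 24) : img L i = img L' i := by
  have h1 := prodT_ptN L hv i hi
  have h2 := prodT_ptN L' hv' i hi
  rw [h] at h1
  exact ptN_injOn h1.2 h2.2 (h1.1.symm.trans h2.1)

theorem imgs_eq_of_eq (L L' : TW) (hv : ∀ e ∈ L, ValidTab e.1) (hv' : ∀ e ∈ L', ValidTab e.1)
    (h : prodT L = prodT L') : imgs L = imgs L' := by
  unfold imgs
  apply List.map_congr_left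
  intro i hi
  rw [List.mem_range] at hi
  exact img_eq_of_eq L L' hv hv' h i hi

/-- the element of `M11` of a well-formed word -/
def mk (L : TW) (h : WOK L) : ↥Spor.M11 := ⟨prodT L, prodT_mem L h⟩

theorem mk_eq_of_imgs {L L' : TW} (h : WOK L) (h' : WOK L') (e : imgs L = imgs L') :
    mk L h = mk L' h' := Subtype.ext (eq_of_imgs_eq L L' h.valid h'.valid e)

theorem imgs_of_mk_eq {L L' : TW} (h : WOK L) (h' : WOK L') (e : mk L h = mk L' h') :
    imgs L = imgs L' := imgs_eq_of_eq L L' h.valid h'.valid (congrArg Subtype.val e)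

theorem mk_append {L L' : TW} (h : WOK L) (h' : WOK L') :
    mk L h * mk L' h' = mk (L ++ L') (h.append h') := Subtype.ext (prodT_append L L').symm

theorem mk_invW {L : TW} (h : WOK L) : (mk L h)⁻¹ = mk (invW L) h.invW :=
  Subtype.ext (prodT_invW L).symm

theorem mk_rep {L : TW} (h : WOK L) (n : ℕ) : (mk L h) ^ n = mk (rep n L) (h.rep n) := by
  apply Subtype.ext
  rw [Subgroup.coe_pow]
  exact (prodT_rep n L).symm

theorem mk_conj {L W : TW} (h : WOK L) (hW : WOK W) :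
    mk W hW * mk L h * (mk W hW)⁻¹ = mk (W ++ L ++ invW W) ((hW.append h).append hW.invW) := by
  rw [mk_invW, mk_append, mk_append]

theorem wok_pos1 {p : ℕ × ℕ} (h : TabOK p) : WOK (pos [p]) := by
  intro e he
  unfold pos at he
  simp only [List.map_cons, List.map_nil, List.mem_cons, List.not_mem_nil, or_false] at he
  rw [he]
  exact h

theorem wok_pos2 {p q : ℕ × ℕ} (hp : TabOK p) (hq : TabOK q) : WOK (pos [p, q]) := by
  have : pos [p, q] = pos [p] ++ pos [q] := rfl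
  rw [this]
  exact (wok_pos1 hp).append (wok_pos1 hq)

theorem mk_one {L : TW} (h : WOK L) (e : imgs L = idL) : mk L h = 1 :=
  Subtype.ext (eq_one_of_imgs_eq_idL L h.valid e)

/-! ### the Sylow `2`-subgroup -/

theorem tabOK_S0 {p : ℕ × ℕ} (hp : p ∈ S0L) : TabOK p := S0_ok.1 p hp

/-- the element of a table of the Sylow subgroup -/
def s0 (p : ℕ × ℕ) (hp : p ∈ S0L) : ↥Spor.M11 := mk (pos [p]) (wok_pos1 (tabOK_S0 hp))

theorem s0_mul (p q : ℕ × ℕ) (hp : p ∈ S0L) (hq : q ∈ S0L) :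
    ∃ r, ∃ hr : r ∈ S0L, s0 p hp * s0 q hq = s0 r hr := by
  obtain ⟨r, hr, e⟩ := S0_ok.2.2.2.2.2 p hp q hq
  refine ⟨r, hr, ?_⟩
  unfold s0
  rw [mk_append]
  exact mk_eq_of_imgs _ _ e

theorem s0_idT : s0 idT S0_ok.2.1 = 1 := mk_one _ (by decide +kernel)

/-- the submonoid of the listed elements -/
def mon0 : Submonoid ↥Spor.M11 where
  carrier := {g | ∃ p, ∃ hp : p ∈ S0L, g = s0 p hp}
  mul_mem' := by
    rintro g h ⟨p, hp, rfl⟩ ⟨q, hq, rfl⟩
    obtain ⟨r, hr, e⟩ := s0_mul p q hp hq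
    exact ⟨r, hr, e⟩
  one_mem' := ⟨idT, S0_ok.2.1, s0_idT.symm⟩

/-- a Sylow `2`-subgroup of `M11` -/
def syl0 : Subgroup ↥Spor.M11 :=
  { mon0 with
    inv_mem' := by
      intro g hg
      have : g⁻¹ = g ^ (orderOf g - 1) := by
        apply inv_eq_of_mul_eq_one_right
        rw [← pow_succ', Nat.sub_add_cancel (orderOf_pos g), pow_orderOf_eq_one]
      rw [this]
      exact mon0.pow_mem hg _ }

theorem mem_syl0_iff {g : ↥Spor.M11} : g ∈ syl0 ↔ ∃ p, ∃ hp : p ∈ S0L, g = s0 p hp := Iff.rfl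

theorem s0_mem (p : ℕ × ℕ) (hp : p ∈ S0L) : s0 p hp ∈ syl0 := ⟨p, hp, rfl⟩

theorem mem_S0I_iff (I : List ℕ) : I ∈ S0I ↔ ∃ p ∈ S0L, imgs (pos [p]) = I := by
  rw [S0_ok.2.2.1, List.mem_map]

theorem s0_inj {p q : ℕ × ℕ} (hp : p ∈ S0L) (hq : q ∈ S0L) (h : s0 p hp = s0 q hq) : p = q := by
  have h1 := imgs_of_mk_eq _ _ h
  have hnd := S0_ok.2.2.2.1
  rw [S0_ok.2.2.1] at hnd
  exact List.inj_on_of_nodup_map hnd hp hq h1

theorem card_syl0 : Nat.card syl0 = 16 := by
  classical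
  have hbij : Function.Bijective (fun p : {p // p ∈ S0L} =>
      (⟨s0 p.1 p.2, s0_mem p.1 p.2⟩ : syl0)) := by
    constructor
    · intro p q h
      have h1 := congrArg Subtype.val h
      exact Subtype.ext (s0_inj p.2 q.2 h1)
    · intro g
      obtain ⟨p, hp, e⟩ := mem_syl0_iff.1 g.2
      exact ⟨⟨p, hp⟩, Subtype.ext e.symm⟩
  have hnd : S0L.Nodup := by
    have hnd := S0_ok.2.2.2.1
    rw [S0_ok.2.2.1] at hnd
    exact List.Nodup.of_map _ hnd
  rw [← Nat.card_eq_of_bijective _ hbij, Nat.card_eq_fintype_card,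
    Fintype.card_of_subtype S0L.toFinset (by simp), List.toFinset_card_of_nodup hnd,
    S0_ok.2.2.2.2.1]

theorem memS0_of_mem {L : TW} (h : WOK L) (hm : mk L h ∈ syl0) : memS0 L = true := by
  obtain ⟨p, hp, e⟩ := mem_syl0_iff.1 hm
  unfold memS0
  rw [List.contains_iff_mem, mem_S0I_iff]
  exact ⟨p, hp, (imgs_of_mk_eq _ _ e).symm⟩

theorem mem_of_memS0 {L : TW} (h : WOK L) (hm : memS0 L = true) : mk L h ∈ syl0 := by
  unfold memS0 at hm
  rw [List.contains_iff_mem, mem_S0I_iff] at hm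
  obtain ⟨p, hp, e⟩ := hm
  exact ⟨p, hp, mk_eq_of_imgs _ _ e.symm⟩

/-! ### the Sylow subgroup is self-normalizing -/

/-- the central involution -/
def zel : ↥Spor.M11 := s0 zT certB_ok.1

theorem zel_ne_one : zel ≠ 1 := by
  intro h
  have h1 : zel = mk (pos [idT]) (wok_pos1 idT_ok) := by
    rw [h]
    exact s0_idT.symm
  have := imgs_of_mk_eq (wok_pos1 (tabOK_S0 certB_ok.1)) (wok_pos1 idT_ok) h1
  apply center_ok.2.2
  rw [this]
  decide +kernel

theorem zel_central (s : ↥Spor.M11) (hs : s ∈ syl0) : zel * s = s * zel := by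
  obtain ⟨p, hp, rfl⟩ := mem_syl0_iff.1 hs
  unfold zel s0
  rw [mk_append, mk_append]
  exact mk_eq_of_imgs _ _ (center_ok.1 p hp)

theorem eq_zel_of_central (y : ↥Spor.M11) (hy : y ∈ syl0) (hy1 : y ≠ 1)
    (hc : ∀ s ∈ syl0, y * s = s * y) : y = zel := by
  obtain ⟨p, hp, rfl⟩ := mem_syl0_iff.1 hy
  have h1 : ∀ q ∈ S0L, imgs (pos [p, q]) = imgs (pos [q, p]) := by
    intro q hq
    have := hc (s0 q hq) (s0_mem q hq)
    unfold s0 at this
    rw [mk_append, mk_append] at this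
    exact imgs_of_mk_eq _ _ this
  rcases center_ok.2.1 p hp h1 with h | h
  · exact absurd (mk_one _ h) hy1
  · subst h
    rfl

theorem selfNorm_syl0 : SelfNorm syl0 := by
  intro g hg hg'
  obtain ⟨a, ha, b, hb, c, hc, d, hd, e⟩ := enum_M11 g.1 g.2
  have hW : WOK (pos [a, b, c, d]) := wok_pos4 ha hb hc hd
  have hgW : g = mk (pos [a, b, c, d]) hW := Subtype.ext e
  have hzm : zel ∈ syl0 := s0_mem _ _
  -- `g` centralizes the central involution
  have hy : g * zel * g⁻¹ = zel := by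
    apply eq_zel_of_central _ (hg _ hzm)
    · intro h
      apply zel_ne_one
      have : zel = g⁻¹ * (g * zel * g⁻¹) * g := by group
      rw [this, h]
      group
    · intro s hs
      have hs' := hg' s hs
      have h1 := zel_central _ hs'
      have e1 : g * zel * g⁻¹ * s = g * (zel * (g⁻¹ * s * g)) * g⁻¹ := by group
      have e2 : s * (g * zel * g⁻¹) = g * ((g⁻¹ * s * g) * zel) * g⁻¹ := by group
      rw [e1, e2, h1]
  have hcz : g * zel = zel * g := by
    have : g * zel = (g * zel * g⁻¹) * g := by group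
    rw [this, hy]
  have hcomm : commZ (pos [a, b, c, d]) = true := by
    unfold commZ
    rw [List.all_eq_true]
    intro i hi
    rw [List.mem_range] at hi
    rw [beq_iff_eq]
    have hwz : WOK (pos [zT]) := wok_pos1 (tabOK_S0 certB_ok.1)
    rw [hgW] at hcz
    unfold zel s0 at hcz
    rw [mk_append, mk_append] at hcz
    exact img_eq_of_eq _ _ (hW.append hwz).valid (hwz.append hW).valid
      (congrArg Subtype.val hcz) i hi
  have hall := chkNAll_ok
  unfold chkNAll at hall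
  rw [List.all_eq_true] at hall
  have h1 := hall a ha
  rw [List.all_eq_true] at h1
  have h2 := h1 b hb
  rw [List.all_eq_true] at h2
  have h3 := h2 c hc
  rw [List.all_eq_true] at h3
  have h4 := h3 d hd
  unfold chkN at h4
  rw [hcomm] at h4
  simp only [Bool.not_true, Bool.false_or, Bool.or_eq_true, List.any_eq_true,
    Bool.not_eq_eq_eq_not] at h4
  rcases h4 with h4 | ⟨s, hs, h4⟩
  · rw [hgW]
    exact mem_of_memS0 hW h4
  · exfalso
    have hsm := hg _ (s0_mem s hs)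
    rw [hgW] at hsm
    unfold s0 at hsm
    rw [mk_conj] at hsm
    have := memS0_of_mem _ hsm
    rw [this] at h4
    exact absurd h4 (by decide)

/-! ### strongly closed subgroups -/

theorem noSC_syl0 : NoSC syl0 := by
  intro T hT hne hcl
  obtain ⟨⟨x, hx⟩, hx1⟩ := (Subgroup.ne_bot_iff_exists_ne_one).1 hne
  have hx1' : x ≠ 1 := fun h => hx1 (Subtype.ext h)
  obtain ⟨p, hp, rfl⟩ := mem_syl0_iff.1 (hT hx)
  obtain ⟨hz0, ht1, ht2, hv0, c1, c2, c3⟩ := certB_ok
  -- the central involution is in `T`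
  have hzT : zel ∈ T := by
    rcases certA_ok p hp with hid | ⟨e, _, rfl, hconj⟩
    · exact absurd (mk_one _ hid) hx1'
    · have h1 : (s0 e.1 hp) ^ e.2.1 ∈ T := T.pow_mem hx _
      have h2 : mk (elt e.2.2) (wok_elt _) * (s0 e.1 hp) ^ e.2.1 * (mk (elt e.2.2) (wok_elt _))⁻¹ =
          zel := by
        unfold zel s0
        rw [mk_rep, mk_conj]
        exact mk_eq_of_imgs _ _ hconj
      have h3 := hcl _ h1 (mk (elt e.2.2) (wok_elt _))
      rw [h2] at h3
      exact h3 (s0_mem _ _)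
  have ht1T : s0 t1T ht1 ∈ T := by
    have h2 : mk (elt g1I) (wok_elt _) * zel * (mk (elt g1I) (wok_elt _))⁻¹ = s0 t1T ht1 := by
      unfold zel s0
      rw [mk_conj]
      exact mk_eq_of_imgs _ _ c1
    have h3 := hcl _ hzT (mk (elt g1I) (wok_elt _))
    rw [h2] at h3
    exact h3 (s0_mem _ _)
  have ht2T : s0 t2T ht2 ∈ T := by
    have h2 : mk (elt g2I) (wok_elt _) * zel * (mk (elt g2I) (wok_elt _))⁻¹ = s0 t2T ht2 := by
      unfold zel s0
      rw [mk_conj]
      exact mk_eq_of_imgs _ _ c2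
    have h3 := hcl _ hzT (mk (elt g2I) (wok_elt _))
    rw [h2] at h3
    exact h3 (s0_mem _ _)
  have hvT : s0 vT hv0 ∈ T := by
    have h2 : mk (elt g3I) (wok_elt _) * (s0 t1T ht1 * s0 t2T ht2) *
        (mk (elt g3I) (wok_elt _))⁻¹ = s0 vT hv0 := by
      unfold s0
      rw [mk_append, mk_conj]
      exact mk_eq_of_imgs _ _ c3
    have h3 := hcl _ (T.mul_mem ht1T ht2T) (mk (elt g3I) (wok_elt _))
    rw [h2] at h3
    exact h3 (s0_mem _ _)
  apply le_antisymm hT
  intro s hs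
  obtain ⟨q, hq, rfl⟩ := mem_syl0_iff.1 hs
  obtain ⟨e, _, rfl, hw⟩ := certD_ok q hq
  have : s0 e.1 hq = (s0 t1T ht1 * s0 vT hv0) ^ e.2.1 * (s0 t1T ht1) ^ e.2.2 := by
    unfold s0
    rw [mk_append, mk_rep, mk_rep, mk_append]
    exact mk_eq_of_imgs _ _ hw.symm
  rw [this]
  exact T.mul_mem (T.pow_mem (T.mul_mem ht1T hvT) _) (T.pow_mem ht1T _)

/-! ### the fusion system -/

theorem isPGroup_syl0 : IsPGroup 2 syl0 := by
  have : Fact (Nat.Prime 2) := ⟨Nat.prime_two⟩
  apply IsPGroup.of_card (n := 4)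
  rw [card_syl0]
  norm_num

/-- every Sylow `2`-subgroup is a conjugate of the listed one -/
theorem sylow_eq_cj (S : Sylow 2 ↥Spor.M11) : ∃ k, cj k syl0 = (S : Subgroup ↥Spor.M11) := by
  have : Fact (Nat.Prime 2) := ⟨Nat.prime_two⟩
  obtain ⟨k, hk⟩ := exists_cj_le_sylow S isPGroup_syl0
  refine ⟨k, ?_⟩
  apply Subgroup.eq_of_le_of_card_ge hk
  rw [card_cj, card_syl0]
  -- the order of a Sylow 2-subgroup divides 7920 and is a power of two
  obtain ⟨n, hn⟩ := IsPGroup.iff_card.1 S.isPGroup'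
  have hdvd : Nat.card (S : Subgroup ↥Spor.M11) ∣ 7920 := by
    rw [← card_M11]
    exact Subgroup.card_subgroup_dvd_card _
  rw [hn] at hdvd ⊢
  have hn4 : n ≤ 4 := by
    by_contra hlt
    push Not at hlt
    have h32 : 2 ^ 5 ∣ 2 ^ n := pow_dvd_pow 2 hlt
    have := h32.trans hdvd
    norm_num at this
  calc 2 ^ n ≤ 2 ^ 4 := Nat.pow_le_pow_right (by norm_num) hn4
    _ = 16 := by norm_num

/-- The `2`-fusion system of `M11` is simple. -/
theorem fusion_simple (S : Sylow 2 ↥Spor.M11) :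
    (groupFusionSystem (S : Subgroup ↥Spor.M11)).IsSimple 2 := by
  obtain ⟨k, hk⟩ := sylow_eq_cj S
  apply isSimple_of_selfNorm S
  · intro hb
    have h1 : Nat.card (S : Subgroup ↥Spor.M11) = 16 := by
      rw [← hk, card_cj, card_syl0]
    rw [hb, Subgroup.card_bot] at h1
    norm_num at h1
  · rw [← hk]
    exact selfNorm_syl0.conj k
  · rw [← hk]
    exact noSC_syl0.conj k

end Cfsg.Agent.Lib.Helper9.M11Aut
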