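import Cfsg.Agent.Lib.Helper9.M11FusData

/-!
Kernel-checked certificates for the `2`-fusion system of the Mathieu group `M11` (helper9).
-/

set_option autoImplicit false
set_option maxRecDepth 100000

namespace Cfsg.Agent.Lib.Helper9.M11Aut

open Cfsg Cfsg.Agent.Lib.Helper21 Cfsg.Agent.Lib.Helper9.M24Coset

/-- the word is in the Sylow subgroup -/
def memS0 (L : TW) : Bool := S0I.contains (imgs L)

/-- the word commutes with the central involution -/
def commZ (W : TW) : Bool :=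
  (List.range 24).all fun i => img (W ++ pos [zT]) i == img (pos [zT] ++ W) i

/-- the normalizer check -/
def chkN (W : TW) : Bool :=
  !(commZ W) || (memS0 W || S0L.any fun s => !(memS0 (W ++ pos [s] ++ invW W)))

/-- the normalizer check on all elements -/
def chkNAll : Bool :=
  U1.all fun a => U2.all fun b => U3.all fun c => U4.all fun d => chkN (pos [a, b, c, d])

theorem S0_ok : (∀ p ∈ S0L, TabOK p) ∧ idT ∈ S0L ∧ S0I = S0L.map (fun p => imgs (pos [p])) ∧
    S0I.Nodup ∧ S0L.length = 16 ∧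
    ∀ p ∈ S0L, ∀ q ∈ S0L, ∃ r ∈ S0L, imgs (pos [p, q]) = imgs (pos [r]) := by decide +kernel

theorem certA_ok : ∀ p ∈ S0L, imgs (pos [p]) = idL ∨ ∃ e ∈ certA, e.1 = p ∧
    imgs (elt e.2.2 ++ rep e.2.1 (pos [p]) ++ invW (elt e.2.2)) = imgs (pos [zT]) := by
  decide +kernel

theorem certB_ok : zT ∈ S0L ∧ t1T ∈ S0L ∧ t2T ∈ S0L ∧ vT ∈ S0L ∧
    imgs (elt g1I ++ pos [zT] ++ invW (elt g1I)) = imgs (pos [t1T]) ∧
    imgs (elt g2I ++ pos [zT] ++ invW (elt g2I)) = imgs (pos [t2T]) ∧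
    imgs (elt g3I ++ pos [t1T, t2T] ++ invW (elt g3I)) = imgs (pos [vT]) := by decide +kernel

theorem certD_ok : ∀ s ∈ S0L, ∃ e ∈ certD, e.1 = s ∧
    imgs (rep e.2.1 (pos [t1T, vT]) ++ rep e.2.2 (pos [t1T])) = imgs (pos [s]) := by
  decide +kernel


theorem center_ok : (∀ p ∈ S0L, imgs (pos [zT, p]) = imgs (pos [p, zT])) ∧
    (∀ p ∈ S0L, (∀ q ∈ S0L, imgs (pos [p, q]) = imgs (pos [q, p])) →
      imgs (pos [p]) = idL ∨ p = zT) ∧ imgs (pos [zT]) ≠ idL := by decide +kernel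

theorem chkNAll_ok : chkNAll = true := by decide +kernel

end Cfsg.Agent.Lib.Helper9.M11Aut
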