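import Mathlib
import Cfsg.Prelude.Def_KGroupFacts

/-!
An abstract criterion for the outer automorphism group to have order two (helper9).
-/

set_option autoImplicit false

namespace Cfsg.Agent.Lib.Helper9.M12Aut

open Cfsg

theorem out_two_of_gen {G : Type*} [Group G] (x y h0 : G) (θ : MulAut G)
    (hθ2 : ∀ g, θ (θ g) = g) (hθx : θ x = x)
    (hh : h0 ^ 2 = x) (hh4 : h0 ^ 4 = 1) (hx1 : x ≠ 1)
    (hy3 : y ^ 3 = 1) (hxy : (x * y) ^ 11 = 1) (hW : (x * y * x * y * y) ^ 6 = 1)
    (H1 : ∀ h : G, h ^ 4 = 1 → h ^ 2 ≠ 1 → ∃ k, h ^ 2 = k * x * k⁻¹)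
    (H2 : ∀ y' : G, y' ^ 3 = 1 → (x * y') ^ 11 = 1 → (x * y' * x * y' * y') ^ 6 = 1 →
      ∃ c, c * x = x * c ∧ (y' = c * y * c⁻¹ ∨ y' = c * θ y * c⁻¹))
    (H3 : Subgroup.closure {x, y} = ⊤) (H4 : ∀ g, MulAut.conj g ≠ θ) :
    Nat.card (Cfsg.Out G) = 2 := by
  have key : ∀ β : MulAut G, (∃ g, MulAut.conj g = β) ∨ (∃ g, MulAut.conj g = β * θ) := by
    intro β
    obtain ⟨k, hk⟩ := H1 (β h0) (by rw [← map_pow, hh4, map_one]) (by
      rw [← map_pow, hh]
      intro h
      apply hx1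
      exact β.injective (h.trans (map_one β).symm))
    rw [← map_pow, hh] at hk
    have hβx : k⁻¹ * β x * k = x := by rw [hk]; group
    have conjp : ∀ (z : G) (n : ℕ), (k⁻¹ * z * k) ^ n = k⁻¹ * z ^ n * k := by
      intro z n
      have := conj_pow (a := k⁻¹) (b := z) (i := n)
      simpa using this
    obtain ⟨c, hcx, hc⟩ := H2 (k⁻¹ * β y * k)
      (by rw [conjp, ← map_pow, hy3, map_one]; group)
      (by
        have : (x * (k⁻¹ * β y * k)) = k⁻¹ * β (x * y) * k := by
          rw [map_mul]; nth_rewrite 1 [← hβx]; group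
        rw [this, conjp, ← map_pow, hxy, map_one]; group)
      (by
        have : (x * (k⁻¹ * β y * k) * x * (k⁻¹ * β y * k) * (k⁻¹ * β y * k)) =
            k⁻¹ * β (x * y * x * y * y) * k := by
          simp only [map_mul]
          nth_rewrite 1 [← hβx]
          nth_rewrite 2 [← hβx]
          group
        rw [this, conjp, ← map_pow, hW, map_one]; group)
    have agree : ∀ γ : MulAut G, γ x = β x → γ y = β y → γ = β := by
      intro γ h1 h2
      have hgen : Set.EqOn γ.toMonoidHom β.toMonoidHom (Subgroup.closure ({x, y} : Set G)) := by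
        apply MonoidHom.eqOn_closure
        intro g hg
        rcases hg with rfl | rfl
        · exact h1
        · exact h2
      ext g
      exact hgen (by rw [H3]; exact Subgroup.mem_top g)
    have e1 : k * c * x * (k * c)⁻¹ = β x := by
      have : k * c * x * (k * c)⁻¹ = k * (c * x * c⁻¹) * k⁻¹ := by group
      rw [this, hcx, hk]; group
    have e2 : ∀ v : G, k⁻¹ * β y * k = c * v * c⁻¹ → k * c * v * (k * c)⁻¹ = β y := by
      intro v hv
      have h1 : β y = k * (k⁻¹ * β y * k) * k⁻¹ := by group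
      rw [h1, hv]; group
    rcases hc with hc | hc
    · left
      refine ⟨k * c, agree _ ?_ ?_⟩
      · rw [MulAut.conj_apply]; exact e1
      · rw [MulAut.conj_apply]; exact e2 y hc
    · right
      refine ⟨k * c, ?_⟩
      have h3 : MulAut.conj (k * c) * θ = β := by
        apply agree
        · rw [MulAut.mul_apply, hθx, MulAut.conj_apply]; exact e1
        · rw [MulAut.mul_apply, MulAut.conj_apply]; exact e2 (θ y) hc
      have h4 : θ * θ = 1 := by
        ext g
        exact hθ2 g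
      rw [← h3, mul_assoc, h4, mul_one]
  show (Inn G).index = 2
  rw [Subgroup.index_eq_two_iff]
  refine ⟨θ, fun β => ?_⟩
  have hθ : θ ∉ Inn G := by
    rintro ⟨g, hg⟩
    exact H4 g hg
  have hsplit : θ = β⁻¹ * (β * θ) := by group
  rcases key β with ⟨g, hg⟩ | ⟨g, hg⟩
  · right
    refine ⟨⟨g, hg⟩, fun h => hθ ?_⟩
    rw [hsplit]
    exact (Inn G).mul_mem ((Inn G).inv_mem ⟨g, hg⟩) h
  · left
    refine ⟨⟨g, hg⟩, fun h => hθ ?_⟩
    rw [hsplit]
    exact (Inn G).mul_mem ((Inn G).inv_mem h) ⟨g, hg⟩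

end Cfsg.Agent.Lib.Helper9.M12Aut
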