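import Cfsg.Agent.Lib.Helper9.M12SliceA
import Cfsg.Agent.Lib.Helper9.M12SliceB
import Cfsg.Agent.Lib.Helper9.M12SliceC
import Cfsg.Agent.Lib.Helper9.M12Out
import Cfsg.Agent.Lib.Helper9.M11Aut

/-!
The outer automorphism group of the Mathieu group `M12` has order two (helper9).

`M12` is enumerated by a chain of five transversals (it is sharply `5`-transitive on the dodecad
of squares).  An automorphism maps the standard involution `x` (a square of an element of order
four) to a conjugate of `x`; once it fixes `x`, the image of the standard element `y` of order three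
is one of the `384` conjugates of `y` or of `t y t` under the centraliser of `x`, where `t` is an
involution of `M24` interchanging the dodecad and its complement.
-/

set_option autoImplicit false

namespace Cfsg.Agent.Lib.Helper9.M12Aut

open Cfsg Cfsg.Agent.Lib.Helper21 Cfsg.Agent.Lib.Helper9.M24Coset Cfsg.Agent.Lib.Helper9.M11Aut
open scoped Pointwise

/-! ### membership in `M12` -/

theorem tabOK12_of_tabOK {p : ℕ × ℕ} (h : TabOK p) : TabOK12 p := ⟨h.1, h.2.1⟩

theorem tp_mem_M12 {p : ℕ × ℕ} (h : TabOK12 p) : tp p ∈ Spor.M12 := by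
  rw [mem_M12_iff]
  refine ⟨tp_mem h.1, ?_⟩
  rw [tp_smul_eq_iff h.1, ← maskFS_dsq, fsMask_maskFS _ (by decide), ← actF_eq]
  exact h.2

/-- all tables of the word are in `M12` -/
def WOK2 (L : TW) : Prop := ∀ e ∈ L, TabOK12 e.1

theorem WOK2.valid {L : TW} (h : WOK2 L) : ∀ e ∈ L, ValidTab e.1 := fun e he => (h e he).1

theorem WOK2.append {L L' : TW} (h : WOK2 L) (h' : WOK2 L') : WOK2 (L ++ L') := by
  intro e he
  rw [List.mem_append] at he
  rcases he with he | he
  · exact h e he
  · exact h' e he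

theorem WOK2.rep {L : TW} (h : WOK2 L) (n : ℕ) : WOK2 (rep n L) := fun e he => h e (mem_rep he)

theorem WOK2.invW {L : TW} (h : WOK2 L) : WOK2 (invW L) := by
  intro e he
  obtain ⟨e', he', h1⟩ := mem_invW he
  rw [← h1]
  exact h e' he'

theorem WOK2.mem {L : TW} (h : WOK2 L) : prodT L ∈ Spor.M12 := by
  unfold prodT
  apply Subgroup.list_prod_mem
  intro g hg
  rw [List.mem_map] at hg
  obtain ⟨e, he, rfl⟩ := hg
  unfold tpw
  split
  · exact Spor.M12.inv_mem (tp_mem_M12 (h e he))
  · exact tp_mem_M12 (h e he)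

theorem wok2_single {p : ℕ × ℕ} (h : TabOK12 p) : WOK2 [(p, false)] := by
  intro e he
  rw [List.mem_singleton] at he
  rw [he]
  exact h

theorem wok2_wx : WOK2 wx := wok2_single mx_ok
theorem wok2_wy : WOK2 wy := wok2_single my_ok
theorem wok2_wh : WOK2 wh := wok2_single mh_ok

theorem wok2_pos5 {z a b c d : ℕ × ℕ} (hz : TabOK12 z) (ha : TabOK12 a) (hb : TabOK12 b)
    (hc : TabOK12 c) (hd : TabOK12 d) : WOK2 (pos [z, a, b, c, d]) := by
  intro e he
  unfold pos at he
  simp only [List.map_cons, List.map_nil, List.mem_cons, List.not_mem_nil, or_false] at he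
  rcases he with rfl | rfl | rfl | rfl | rfl
  · exact hz
  · exact ha
  · exact hb
  · exact hc
  · exact hd

theorem getD_ok12 (U : List (ℕ × ℕ)) (hU : ∀ u ∈ U, TabOK12 u) (i : ℕ) :
    TabOK12 (U.getD i idT) := by
  rw [List.getD_eq_getElem?_getD]
  cases h : U[i]? with
  | none => exact idT_ok12
  | some u => exact hU u (List.mem_of_getElem? h)

theorem wok2_elt5 (t : Code) : WOK2 (elt5 t) := by
  unfold elt5
  exact wok2_pos5 (getD_ok12 V0 V0_ok _)
    (getD_ok12 U1 (fun u hu => tabOK12_of_tabOK (U1_ok u hu)) _)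
    (getD_ok12 U2 (fun u hu => tabOK12_of_tabOK (U2_ok u hu)) _)
    (getD_ok12 U3 (fun u hu => tabOK12_of_tabOK (U3_ok u hu)) _)
    (getD_ok12 U4 (fun u hu => tabOK12_of_tabOK (U4_ok u hu)) _)

theorem wok2_letters (w : List Bool) : WOK2 (w.map letter2) := by
  intro e he
  rw [List.mem_map] at he
  obtain ⟨b, _, rfl⟩ := he
  unfold letter2
  cases b
  · exact my_ok
  · exact mx_ok

/-! ### the enumeration of `M12` -/

theorem chain_step0 (g : Equiv.Perm GolayPt) (hg : g ∈ Spor.M12) :
    ∃ u ∈ V0, (tp u)⁻¹ * g ∈ Spor.M11 := by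
  have hg' := (mem_M12_iff g).1 hg
  have hstab : StabM g dsq := (stabM_dsq_iff g).2 hg'.2
  have hmem : g (ptN 0) ∈ maskFS dsq := hstab.apply_mem (ptN_mem_dsq 0 (by norm_num))
  set t : ℕ := ((gEquiv (g (ptN 0)) : Fin 24) : ℕ) with ht
  have ht24 : t < 24 := (gEquiv (g (ptN 0))).isLt
  have hgt : g (ptN 0) = ptN t := (ptN_gEquiv _).symm
  have hbit : dsq.testBit t = true := by
    rw [mem_maskFS] at hmem
    exact hmem
  obtain ⟨u, hu, hut⟩ := V0_cover t ht24 hbit (Nat.zero_le t)
  refine ⟨u, hu, ?_⟩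
  have hv := (V0_ok u hu).1
  have hu12 : tp u ∈ Spor.M12 := tp_mem_M12 (V0_ok u hu)
  have h12 : (tp u)⁻¹ * g ∈ Spor.M12 := Spor.M12.mul_mem (Spor.M12.inv_mem hu12) hg
  rw [mem_M12_iff] at h12
  rw [mem_M11_iff]
  refine ⟨h12.1, h12.2, ?_⟩
  rw [Equiv.Perm.mul_apply, hgt, ← hut, ← tp_ptN hv 0 (by norm_num), perm_inv_apply]

theorem enum_M12 (g : Equiv.Perm GolayPt) (hg : g ∈ Spor.M12) :
    ∃ z ∈ V0, ∃ a ∈ U1, ∃ b ∈ U2, ∃ c ∈ U3, ∃ d ∈ U4, g = prodT (pos [z, a, b, c, d]) := by
  obtain ⟨z, hz, h1⟩ := chain_step0 g hg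
  obtain ⟨a, ha, b, hb, c, hc, d, hd, e⟩ := enum_M11 _ h1
  refine ⟨z, hz, a, ha, b, hb, c, hc, d, hd, ?_⟩
  have h4 : prodT (pos [a, b, c, d]) = tp a * (tp b * (tp c * (tp d * 1))) := by
    unfold prodT pos tpw
    simp
  have h5 : prodT (pos [z, a, b, c, d]) = tp z * (tp a * (tp b * (tp c * (tp d * 1)))) := by
    unfold prodT pos tpw
    simp
  rw [h5, ← h4, ← e]
  group

theorem wok2_mem5 {z a b c d : ℕ × ℕ} (hz : z ∈ V0) (ha : a ∈ U1) (hb : b ∈ U2) (hc : c ∈ U3)
    (hd : d ∈ U4) : WOK2 (pos [z, a, b, c, d]) :=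
  wok2_pos5 (V0_ok z hz) (tabOK12_of_tabOK (U1_ok a ha)) (tabOK12_of_tabOK (U2_ok b hb))
    (tabOK12_of_tabOK (U3_ok c hc)) (tabOK12_of_tabOK (U4_ok d hd))

/-! ### keys -/

theorem img_append (L L' : TW) (i : ℕ) : img (L ++ L') i = img L (img L' i) := by
  unfold img
  rw [List.foldr_append]

theorem img_eq_of_eq_one (L : TW) (hv : ∀ e ∈ L, ValidTab e.1) (h : prodT L = 1) (i : ℕ)
    (hi : i < 24) : img L i = i := by
  have h1 := prodT_ptN L hv i hi
  rw [h] at h1
  exact (ptN_injOn h1.2 hi h1.1.symm)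

theorem fix5_of_eq_one (L : TW) (hv : ∀ e ∈ L, ValidTab e.1) (h : prodT L = 1) :
    fix5 (img L) = true := by
  unfold fix5
  rw [img_eq_of_eq_one L hv h 0 (by norm_num), img_eq_of_eq_one L hv h 1 (by norm_num),
    img_eq_of_eq_one L hv h 2 (by norm_num), img_eq_of_eq_one L hv h 3 (by norm_num),
    img_eq_of_eq_one L hv h 4 (by norm_num)]
  rfl

/-- sharp five-fold transitivity -/
theorem eq_of_five {g g' : Equiv.Perm GolayPt} (hg : g ∈ Spor.M12) (hg' : g' ∈ Spor.M12)
    (h : ∀ i < 5, g (ptN i) = g' (ptN i)) : g = g' := by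
  have h1 : g⁻¹ * g' ∈ conSub [dsq] (m12Fs 5) := by
    have h12 : g⁻¹ * g' ∈ Spor.M12 := Spor.M12.mul_mem (Spor.M12.inv_mem hg) hg'
    rw [← conSub_dsq_nil, mem_conSub] at h12
    rw [mem_conSub]
    refine ⟨h12.1, h12.2.1, ?_⟩
    intro i hi
    rw [mem_m12Fs] at hi
    rw [Equiv.Perm.mul_apply, ← h i hi, perm_inv_apply]
  rw [conSub_m12_five, Subgroup.mem_bot] at h1
  have : g' = g * (g⁻¹ * g') := by group
  rw [this, h1, mul_one]

theorem eq_of_key5' (L L' : TW) (hv : ∀ e ∈ L, ValidTab e.1) (hv' : ∀ e ∈ L', ValidTab e.1)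
    (hm : prodT L ∈ Spor.M12) (hm' : prodT L' ∈ Spor.M12)
    (hk : key5 (img L) = key5 (img L')) : prodT L = prodT L' := by
  apply eq_of_five hm hm'
  intro i hi
  rw [(prodT_ptN L hv i (by omega)).1, (prodT_ptN L' hv' i (by omega)).1]
  congr 1
  have b0 := (prodT_ptN L hv 0 (by norm_num)).2
  have b1 := (prodT_ptN L hv 1 (by norm_num)).2
  have b2 := (prodT_ptN L hv 2 (by norm_num)).2
  have b3 := (prodT_ptN L hv 3 (by norm_num)).2
  have b4 := (prodT_ptN L hv 4 (by norm_num)).2
  have c0 := (prodT_ptN L' hv' 0 (by norm_num)).2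
  have c1 := (prodT_ptN L' hv' 1 (by norm_num)).2
  have c2 := (prodT_ptN L' hv' 2 (by norm_num)).2
  have c3 := (prodT_ptN L' hv' 3 (by norm_num)).2
  have c4 := (prodT_ptN L' hv' 4 (by norm_num)).2
  unfold key5 at hk
  interval_cases i <;> omega

theorem eq_of_key5 (L L' : TW) (h : WOK2 L) (h' : WOK2 L')
    (hk : key5 (img L) = key5 (img L')) : prodT L = prodT L' :=
  eq_of_key5' L L' h.valid h'.valid h.mem h'.mem hk

/-! ### words and their images -/

theorem prodT_single (p : ℕ × ℕ) : prodT [(p, false)] = tp p := by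
  unfold prodT tpw
  simp

theorem img_rep_zero (L : TW) (i : ℕ) : img (rep 0 L) i = i := rfl

theorem img_rep_succ (n : ℕ) (L : TW) (i : ℕ) : img (rep (n + 1) L) i = img L (img (rep n L) i) := by
  have : rep (n + 1) L = L ++ rep n L := by
    unfold rep
    rw [List.replicate_succ, List.flatten_cons]
  rw [this, img_append]

theorem img_rep (n : ℕ) (L : TW) (i : ℕ) : img (rep n L) i = (img L)^[n] i := by
  induction n with
  | zero => rfl
  | succ n ih => rw [img_rep_succ, ih, Function.iterate_succ_apply']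

theorem img_pos5 (z a b c d : ℕ × ℕ) : img (pos [z, a, b, c, d]) = ap5 z a b c d :=
  funext fun _ => rfl

theorem img_wx (i : ℕ) : img wx i = ap mx i := rfl

theorem eq_one_of_idOn2 (L : TW) (hv : ∀ e ∈ L, ValidTab e.1) (hid : idOn L = true) :
    prodT L = 1 := by
  apply perm_ext_ptN
  intro i
  rw [(prodT_ptN L hv i i.isLt).1]
  unfold idOn at hid
  rw [List.all_eq_true] at hid
  have := hid (i : ℕ) (List.mem_range.2 i.isLt)
  rw [beq_iff_eq] at this
  rw [this]
  rfl

theorem valid_append {L L' : TW} (h : ∀ e ∈ L, ValidTab e.1) (h' : ∀ e ∈ L', ValidTab e.1) :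
    ∀ e ∈ L ++ L', ValidTab e.1 := by
  intro e he
  rw [List.mem_append] at he
  rcases he with he | he
  · exact h e he
  · exact h' e he

theorem valid_wt : ∀ e ∈ wt, ValidTab e.1 := by
  intro e he
  unfold wt at he
  rw [List.mem_singleton] at he
  rw [he]
  exact mt_ok.1

/-- the relations of a partner of the involution, on the images -/
theorem relY_of (L : TW) (hL : WOK2 L) (h3 : prodT L ^ 3 = 1) (h11 : (tp mx * prodT L) ^ 11 = 1)
    (h6 : (tp mx * prodT L * tp mx * prodT L * prodT L) ^ 6 = 1) : relY (img L) = true := by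
  have hx : prodT wx = tp mx := prodT_single mx
  have e3 : fix5 (img (rep 3 L)) = true := by
    apply fix5_of_eq_one _ (hL.rep 3).valid
    rw [prodT_rep, h3]
  have e11 : fix5 (img (rep 11 (wx ++ L))) = true := by
    apply fix5_of_eq_one _ ((wok2_wx.append hL).rep 11).valid
    rw [prodT_rep, prodT_append, hx, h11]
  have e6 : fix5 (img (rep 6 (wx ++ L ++ wx ++ L ++ L))) = true := by
    apply fix5_of_eq_one _
      (((((wok2_wx.append hL).append wok2_wx).append hL).append hL).rep 6).valid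
    rw [prodT_rep, prodT_append, prodT_append, prodT_append, prodT_append, hx, h6]
  have f3 : img (rep 3 L) = fun i => img L (img L (img L i)) := by
    funext i
    rw [img_rep_succ, img_rep_succ, img_rep_succ, img_rep_zero]
  have f11 : img (rep 11 (wx ++ L)) = fun i => (fun j => ap mx (img L j))^[11] i := by
    funext i
    rw [img_rep]
    congr 1
  have f6 : img (rep 6 (wx ++ L ++ wx ++ L ++ L)) =
      fun i => (fun j => ap mx (img L (ap mx (img L (img L j)))))^[6] i := by
    funext i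
    rw [img_rep]
    congr 1
    funext j
    rw [img_append, img_append, img_append, img_append, img_wx, img_wx]
  unfold relY
  rw [← f3, ← f11, ← f6, e3, e11, e6]
  rfl

/-! ### the outer involution -/

theorem tT_sq : tp mt * tp mt = 1 := by
  have h := eq_one_of_idOn2 _ (by
    intro e he
    exact valid_wt e (mem_rep he)) gen_rel2.2.2.2.2.2.2.1
  rw [prodT_rep] at h
  unfold wt at h
  rw [prodT_single, pow_two] at h
  exact h

theorem tT_smul_D : tp mt • Spor.squareDodecad = maskFS dsqc := by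
  apply fsMask_injective
  rw [fsMask_tp_smul mt_ok.1, ← maskFS_dsq, fsMask_maskFS dsq (by decide),
    fsMask_maskFS dsqc (by decide), ← actF_eq]
  exact mt_ok.2.1

theorem tT_smul_Dc : tp mt • maskFS dsqc = Spor.squareDodecad := by
  apply fsMask_injective
  rw [fsMask_tp_smul mt_ok.1, ← maskFS_dsq, fsMask_maskFS dsq (by decide),
    fsMask_maskFS dsqc (by decide), ← actF_eq]
  exact mt_ok.2.2

theorem maskFS_dsqc : maskFS dsqc = Finset.univ \ Spor.squareDodecad := by
  ext p
  rw [Finset.mem_sdiff, ← maskFS_dsq, mem_maskFS, mem_maskFS]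
  have := dsqc_bits (gEquiv p)
  rw [this]
  cases dsq.testBit (gEquiv p) <;> simp

theorem smul_Dc {g : Equiv.Perm GolayPt} (hg : g ∈ Spor.M12) : g • maskFS dsqc = maskFS dsqc := by
  rw [maskFS_dsqc, Finset.smul_finset_sdiff, Finset.smul_finset_univ, ((mem_M12_iff g).1 hg).2]

theorem theta_mem {g : Equiv.Perm GolayPt} (hg : g ∈ Spor.M12) : tp mt * g * tp mt ∈ Spor.M12 := by
  rw [mem_M12_iff]
  refine ⟨M24.mul_mem (M24.mul_mem (tp_mem mt_ok.1) ((mem_M12_iff g).1 hg).1) (tp_mem mt_ok.1), ?_⟩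
  rw [mul_smul, mul_smul, tT_smul_D, smul_Dc hg, tT_smul_Dc]

/-- conjugation by the outer involution -/
def thetaAut : MulAut ↥Spor.M12 where
  toFun g := ⟨tp mt * g * tp mt, theta_mem g.2⟩
  invFun g := ⟨tp mt * g * tp mt, theta_mem g.2⟩
  left_inv g := by
    apply Subtype.ext
    show tp mt * (tp mt * (g : Equiv.Perm GolayPt) * tp mt) * tp mt = g
    have : tp mt * (tp mt * (g : Equiv.Perm GolayPt) * tp mt) * tp mt =
        (tp mt * tp mt) * g * (tp mt * tp mt) := by group
    rw [this, tT_sq, one_mul, mul_one]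
  right_inv g := by
    apply Subtype.ext
    show tp mt * (tp mt * (g : Equiv.Perm GolayPt) * tp mt) * tp mt = g
    have : tp mt * (tp mt * (g : Equiv.Perm GolayPt) * tp mt) * tp mt =
        (tp mt * tp mt) * g * (tp mt * tp mt) := by group
    rw [this, tT_sq, one_mul, mul_one]
  map_mul' g h := by
    apply Subtype.ext
    show tp mt * ((g : Equiv.Perm GolayPt) * h) * tp mt = (tp mt * g * tp mt) * (tp mt * h * tp mt)
    have : (tp mt * (g : Equiv.Perm GolayPt) * tp mt) * (tp mt * h * tp mt) =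
        tp mt * g * (tp mt * tp mt) * h * tp mt := by group
    rw [this, tT_sq]
    group

theorem thetaAut_coe (g : ↥Spor.M12) :
    ((thetaAut g : ↥Spor.M12) : Equiv.Perm GolayPt) = tp mt * g * tp mt := rfl

/-! ### the generators in `M12` -/

/-- the standard involution of `M12` -/
def gx : ↥Spor.M12 := ⟨tp mx, tp_mem_M12 mx_ok⟩
/-- the standard element of order three of `M12` -/
def gy : ↥Spor.M12 := ⟨tp my, tp_mem_M12 my_ok⟩
/-- an element of order four of `M12` -/
def gh : ↥Spor.M12 := ⟨tp mh, tp_mem_M12 mh_ok⟩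

theorem theta_not_inner (g : ↥Spor.M12) : MulAut.conj g ≠ thetaAut := by
  intro h
  have h1 : ((MulAut.conj g gh : ↥Spor.M12) : Equiv.Perm GolayPt) =
      ((thetaAut gh : ↥Spor.M12) : Equiv.Perm GolayPt) := by rw [h]
  have hgh : ((gh : ↥Spor.M12) : Equiv.Perm GolayPt) = tp mh := rfl
  rw [thetaAut_coe, MulAut.conj_apply, hgh] at h1
  have h2 : ((g * gh * g⁻¹ : ↥Spor.M12) : Equiv.Perm GolayPt) =
      (g : Equiv.Perm GolayPt) * tp mh * (g : Equiv.Perm GolayPt)⁻¹ := rfl
  rw [h2] at h1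
  have hg' := (mem_M12_iff _).1 g.2
  have hstab : StabM (g : Equiv.Perm GolayPt) dsq := (stabM_dsq_iff _).2 hg'.2
  have hmem : (g : Equiv.Perm GolayPt) (ptN 0) ∈ maskFS dsq :=
    hstab.apply_mem (ptN_mem_dsq 0 (by norm_num))
  set t : ℕ := ((gEquiv ((g : Equiv.Perm GolayPt) (ptN 0)) : Fin 24) : ℕ) with ht
  have ht24 : t < 24 := (gEquiv ((g : Equiv.Perm GolayPt) (ptN 0))).isLt
  have hgt : (g : Equiv.Perm GolayPt) (ptN 0) = ptN t := (ptN_gEquiv _).symm
  have hbit : dsq.testBit t = true := by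
    rw [mem_maskFS] at hmem
    exact hmem
  have hfix : tp mh (ptN 0) = ptN 0 := by
    rw [tp_ptN mh_ok.1 0 (by norm_num), show tabGet mh.1 0 = 0 from outer_rel.1]
  have h3 : ((g : Equiv.Perm GolayPt) * tp mh * (g : Equiv.Perm GolayPt)⁻¹) (ptN t) = ptN t := by
    rw [← hgt, Equiv.Perm.mul_apply, Equiv.Perm.mul_apply, perm_inv_apply, hfix]
  rw [h1] at h3
  have hv : ∀ e ∈ wt ++ wh ++ wt, ValidTab e.1 :=
    valid_append (valid_append valid_wt wok2_wh.valid) valid_wt
  have h4 : prodT (wt ++ wh ++ wt) = tp mt * tp mh * tp mt := by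
    rw [prodT_append, prodT_append]
    unfold wt wh
    rw [prodT_single, prodT_single]
  rw [← h4, (prodT_ptN _ hv t ht24).1] at h3
  exact outer_rel.2 t ht24 hbit (ptN_injOn (prodT_ptN _ hv t ht24).2 ht24 h3)

/-! ### generation -/

/-- the element of a word in the generators -/
def evalW2 (w : List Bool) : ↥Spor.M12 := (w.map fun b => if b then gx else gy).prod

theorem evalW2_coe (w : List Bool) : ((evalW2 w : ↥Spor.M12) : Equiv.Perm GolayPt) =
    prodT (w.map letter2) := by
  induction w with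
  | nil => rfl
  | cons b w ih =>
    unfold evalW2 prodT at *
    rw [List.map_cons, List.prod_cons, Subgroup.coe_mul, ih, List.map_cons, List.map_cons,
      List.prod_cons]
    congr 1
    unfold letter2 tpw gx gy
    cases b <;> rfl

theorem evalW2_mem (w : List Bool) :
    evalW2 w ∈ Subgroup.closure ({gx, gy} : Set ↥Spor.M12) := by
  unfold evalW2
  apply Subgroup.list_prod_mem
  intro g hg
  rw [List.mem_map] at hg
  obtain ⟨b, _, rfl⟩ := hg
  apply Subgroup.subset_closure
  cases b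
  · right; rfl
  · left; rfl

theorem tp_mem_closure2 (U : List (ℕ × ℕ)) (Wd : List (List Bool)) (hU : ∀ u ∈ U, TabOK12 u)
    (hW : ∀ u ∈ U, ∃ w ∈ Wd, imgs (w.map letter2) = imgs (pos [u])) (u : ℕ × ℕ) (hu : u ∈ U)
    (g : ↥Spor.M12) (hg : (g : Equiv.Perm GolayPt) = tp u) :
    g ∈ Subgroup.closure ({gx, gy} : Set ↥Spor.M12) := by
  obtain ⟨w, _, hw⟩ := hW u hu
  have hpu : WOK2 (pos [u]) := wok2_single (hU u hu)
  have h1 := eq_of_imgs_eq _ _ (wok2_letters w).valid hpu.valid hw
  have h2 : prodT (pos [u]) = tp u := prodT_single u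
  have : g = evalW2 w := by
    apply Subtype.ext
    rw [evalW2_coe, h1, h2, hg]
  rw [this]
  exact evalW2_mem w

theorem closure_gen2 : Subgroup.closure ({gx, gy} : Set ↥Spor.M12) = ⊤ := by
  rw [Subgroup.eq_top_iff']
  intro g
  obtain ⟨z, hz, a, ha, b, hb, c, hc, d, hd, e⟩ := enum_M12 g g.2
  have hprod : prodT (pos [z, a, b, c, d]) = tp z * (tp a * (tp b * (tp c * tp d))) := by
    unfold prodT pos tpw
    simp
  have o1 := fun u hu => tabOK12_of_tabOK (U1_ok u hu)
  have o2 := fun u hu => tabOK12_of_tabOK (U2_ok u hu)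
  have o3 := fun u hu => tabOK12_of_tabOK (U3_ok u hu)
  have o4 := fun u hu => tabOK12_of_tabOK (U4_ok u hu)
  have hg : g = (⟨tp z, tp_mem_M12 (V0_ok z hz)⟩ : ↥Spor.M12) *
      (⟨tp a, tp_mem_M12 (o1 a ha)⟩ * (⟨tp b, tp_mem_M12 (o2 b hb)⟩ *
        (⟨tp c, tp_mem_M12 (o3 c hc)⟩ * ⟨tp d, tp_mem_M12 (o4 d hd)⟩))) := by
    apply Subtype.ext
    rw [e, hprod]
    rfl
  rw [hg]
  exact Subgroup.mul_mem _ (tp_mem_closure2 V0 Wd0 V0_ok Wd0_ok z hz _ rfl)
    (Subgroup.mul_mem _ (tp_mem_closure2 U1 Wd1 o1 Wd1_ok a ha _ rfl)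
      (Subgroup.mul_mem _ (tp_mem_closure2 U2 Wd2 o2 Wd2_ok b hb _ rfl)
        (Subgroup.mul_mem _ (tp_mem_closure2 U3 Wd3 o3 Wd3_ok c hc _ rfl)
          (tp_mem_closure2 U4 Wd4 o4 Wd4_ok d hd _ rfl))))

/-! ### the enumeration, checked -/

theorem slice_all : ∀ z ∈ V0, chkSlice z = true := by
  intro z hz
  unfold V0 at hz
  simp only [List.mem_cons, List.not_mem_nil, or_false] at hz
  rcases hz with rfl | rfl | rfl | rfl | rfl | rfl | rfl | rfl | rfl | rfl | rfl | rfl
  exacts [slice_0, slice_1, slice_2, slice_3, slice_4, slice_5, slice_6, slice_7, slice_8,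
    slice_9, slice_10, slice_11]

theorem chk_spec {z a b c d : ℕ × ℕ} (hz : z ∈ V0) (ha : a ∈ U1) (hb : b ∈ U2) (hc : c ∈ U3)
    (hd : d ∈ U4) : chkH z a b c d = true ∧ chkY z a b c d = true := by
  have h := slice_all z hz
  unfold chkSlice at h
  rw [List.all_eq_true] at h
  have h1 := h a ha
  rw [List.all_eq_true] at h1
  have h2 := h1 b hb
  rw [List.all_eq_true] at h2
  have h3 := h2 c hc
  rw [List.all_eq_true] at h3
  have h4 := h3 d hd
  rw [Bool.and_eq_true] at h4
  exact h4

theorem wok2_nil : WOK2 [] := fun _ he => absurd he List.not_mem_nil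

/-- squares of elements of order four are conjugates of the involution -/
theorem sq_conj (h : ↥Spor.M12) (h4 : h ^ 4 = 1) (h2 : h ^ 2 ≠ 1) :
    ∃ k, h ^ 2 = k * gx * k⁻¹ := by
  obtain ⟨z, hz, a, ha, b, hb, c, hc, d, hd, e⟩ := enum_M12 h h.2
  have hL := wok2_mem5 hz ha hb hc hd
  have hx : prodT wx = tp mx := prodT_single mx
  have e4 : fix5 (img (rep 4 (pos [z, a, b, c, d]))) = true := by
    apply fix5_of_eq_one _ (hL.rep 4).valid
    rw [prodT_rep, ← e]
    exact congrArg Subtype.val h4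
  have f4 : img (rep 4 (pos [z, a, b, c, d])) =
      fun i => ap5 z a b c d (ap5 z a b c d (ap5 z a b c d (ap5 z a b c d i))) := by
    funext i
    rw [img_rep_succ, img_rep_succ, img_rep_succ, img_rep_succ, img_rep_zero, img_pos5]
  have f2 : img (rep 2 (pos [z, a, b, c, d])) = fun i => ap5 z a b c d (ap5 z a b c d i) := by
    funext i
    rw [img_rep_succ, img_rep_succ, img_rep_zero, img_pos5]
  have hchk := (chk_spec hz ha hb hc hd).1
  unfold chkH at hchk
  rw [← f4, ← f2, e4] at hchk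
  simp only [Bool.not_true, Bool.false_or, Bool.or_eq_true, List.any_eq_true] at hchk
  rcases hchk with hk | ⟨e', he', hk⟩
  · exfalso
    apply h2
    have hk' := Nat.eq_of_beq_eq_true hk
    have h5 : key5 (img (rep 2 (pos [z, a, b, c, d]))) = key5 (img []) := hk'
    have h6 := eq_of_key5 _ _ (hL.rep 2) wok2_nil h5
    rw [prodT_rep, ← e] at h6
    apply Subtype.ext
    exact h6
  · have hk' := Nat.eq_of_beq_eq_true hk
    rw [List.getD_eq_getElem?_getD] at he'
    cases hbk : conjXT[ap5 z a b c d (ap5 z a b c d 0)]? with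
    | none =>
      rw [hbk] at he'
      exact absurd he' List.not_mem_nil
    | some bk =>
      rw [hbk] at he'
      have hcert := conjXT_ok bk (List.mem_of_getElem? hbk) e' he'
      rw [hk'] at hcert
      have hk2 := ((wok2_elt5 e'.2).append wok2_wx).append (wok2_elt5 e'.2).invW
      have h6 := eq_of_key5 _ _ hk2 (hL.rep 2) hcert
      rw [prodT_append, prodT_append, prodT_invW, hx, prodT_rep, ← e] at h6
      refine ⟨⟨prodT (elt5 e'.2), (wok2_elt5 e'.2).mem⟩, ?_⟩
      apply Subtype.ext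
      exact h6.symm

/-- the partners of the involution -/
theorem partner_conj (y' : ↥Spor.M12) (h3 : y' ^ 3 = 1) (h11 : (gx * y') ^ 11 = 1)
    (h6 : (gx * y' * gx * y' * y') ^ 6 = 1) :
    ∃ c, c * gx = gx * c ∧ (y' = c * gy * c⁻¹ ∨ y' = c * thetaAut gy * c⁻¹) := by
  obtain ⟨z, hz, a, ha, b, hb, c, hc, d, hd, e⟩ := enum_M12 y' y'.2
  have hL := wok2_mem5 hz ha hb hc hd
  have hx : prodT wx = tp mx := prodT_single mx
  have hy : prodT wy = tp my := prodT_single my
  have ht : prodT wt = tp mt := prodT_single mt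
  have hrel : relY (img (pos [z, a, b, c, d])) = true := by
    apply relY_of _ hL
    · rw [← e]
      exact congrArg Subtype.val h3
    · rw [← e]
      exact congrArg Subtype.val h11
    · rw [← e]
      exact congrArg Subtype.val h6
  rw [img_pos5] at hrel
  have hchk := (chk_spec hz ha hb hc hd).2
  unfold chkY at hchk
  rw [hrel] at hchk
  simp only [Bool.not_true, Bool.false_or, List.any_eq_true] at hchk
  obtain ⟨e', he', hk⟩ := hchk
  have hk' := Nat.eq_of_beq_eq_true hk
  rw [← img_pos5] at hk'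
  obtain ⟨hc1, hc2⟩ := conjY_ok e' he'
  rw [hk'] at hc1
  have hcw := wok2_elt5 e'.2.1
  refine ⟨⟨prodT (elt5 e'.2.1), hcw.mem⟩, ?_, ?_⟩
  · apply Subtype.ext
    have h7 := eq_of_key5 _ _ (hcw.append wok2_wx) (wok2_wx.append hcw) hc2
    rw [prodT_append, prodT_append, hx] at h7
    exact h7
  · cases hflag : e'.2.2 with
    | false =>
      left
      rw [hflag] at hc1
      rw [if_neg (by decide)] at hc1
      have h7 := eq_of_key5 _ _ ((hcw.append wok2_wy).append hcw.invW) hL hc1
      rw [prodT_append, prodT_append, prodT_invW, hy, ← e] at h7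
      apply Subtype.ext
      exact h7.symm
    | true =>
      right
      rw [hflag] at hc1
      rw [if_pos rfl] at hc1
      have hv : ∀ e ∈ elt5 e'.2.1 ++ (wt ++ wy ++ wt) ++ invW (elt5 e'.2.1), ValidTab e.1 :=
        valid_append (valid_append hcw.valid
          (valid_append (valid_append valid_wt wok2_wy.valid) valid_wt)) hcw.invW.valid
      have hp : prodT (elt5 e'.2.1 ++ (wt ++ wy ++ wt) ++ invW (elt5 e'.2.1)) =
          prodT (elt5 e'.2.1) * (tp mt * tp my * tp mt) * (prodT (elt5 e'.2.1))⁻¹ := by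
        rw [prodT_append, prodT_append, prodT_append, prodT_append, prodT_invW, hy, ht]
      have hm : prodT (elt5 e'.2.1 ++ (wt ++ wy ++ wt) ++ invW (elt5 e'.2.1)) ∈ Spor.M12 := by
        rw [hp]
        exact Spor.M12.mul_mem (Spor.M12.mul_mem hcw.mem (theta_mem (tp_mem_M12 my_ok)))
          (Spor.M12.inv_mem hcw.mem)
      have h7 := eq_of_key5' _ _ hv hL.valid hm hL.mem hc1
      rw [hp, ← e] at h7
      apply Subtype.ext
      exact h7.symm

/-- The outer automorphism group of `M12` has order two. -/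
theorem card_out_M12 : Nat.card (Cfsg.Out ↥Spor.M12) = 2 := by
  obtain ⟨r1, r2, r3, r4, r5, r6, r7, r8⟩ := gen_rel2
  have hx : prodT wx = tp mx := prodT_single mx
  have hy : prodT wy = tp my := prodT_single my
  have hh : prodT wh = tp mh := prodT_single mh
  have ht : prodT wt = tp mt := prodT_single mt
  apply out_two_of_gen gx gy gh thetaAut
  · intro g
    apply Subtype.ext
    rw [thetaAut_coe, thetaAut_coe]
    have : tp mt * (tp mt * (g : Equiv.Perm GolayPt) * tp mt) * tp mt =
        (tp mt * tp mt) * g * (tp mt * tp mt) := by group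
    rw [this, tT_sq, one_mul, mul_one]
  · apply Subtype.ext
    rw [thetaAut_coe]
    have h := eq_of_imgs_eq _ _
      (valid_append (valid_append valid_wt wok2_wx.valid) valid_wt) wok2_wx.valid r8
    rw [prodT_append, prodT_append, hx, ht] at h
    exact h
  · apply Subtype.ext
    have h := eq_of_imgs_eq _ _ (wok2_wh.rep 2).valid wok2_wx.valid r1
    rw [prodT_rep, hh, hx] at h
    exact h
  · apply Subtype.ext
    have h := eq_one_of_idOn2 _ (wok2_wh.rep 4).valid r2
    rw [prodT_rep, hh] at h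
    exact h
  · intro h
    apply r3
    have h1 := (prodT_ptN wx wok2_wx.valid 4 (by norm_num)).1
    have h2 : prodT wx = 1 := by
      rw [hx]
      exact congrArg Subtype.val h
    rw [h2] at h1
    exact (ptN_injOn (prodT_ptN wx wok2_wx.valid 4 (by norm_num)).2 (by norm_num) h1.symm)
  · apply Subtype.ext
    have h := eq_one_of_idOn2 _ (wok2_wy.rep 3).valid r4
    rw [prodT_rep, hy] at h
    exact h
  · apply Subtype.ext
    have h := eq_one_of_idOn2 _ ((wok2_wx.append wok2_wy).rep 11).valid r5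
    rw [prodT_rep, prodT_append, hx, hy] at h
    exact h
  · apply Subtype.ext
    have h := eq_one_of_idOn2 _
      (((((wok2_wx.append wok2_wy).append wok2_wx).append wok2_wy).append wok2_wy).rep 6).valid r6
    rw [prodT_rep, prodT_append, prodT_append, prodT_append, prodT_append, hx, hy] at h
    exact h
  · exact sq_conj
  · exact partner_conj
  · exact closure_gen2
  · exact theta_not_inner

end Cfsg.Agent.Lib.Helper9.M12Aut
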