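import Cfsg.Agent.Lib.Helper9.M12Data

/-!
Kernel-checked certificates for the automorphisms of the Mathieu group `M12` (helper9).
-/

set_option autoImplicit false

namespace Cfsg.Agent.Lib.Helper9.M12Aut

open Cfsg Cfsg.Agent.Lib.Helper21 Cfsg.Agent.Lib.Helper9.M24Coset Cfsg.Agent.Lib.Helper9.M11Aut

/-- codes of elements: positions in the five transversals -/
abbrev Code := ℕ × ℕ × ℕ × ℕ × ℕ

/-- the image of a position under the first table -/
def ap (p : ℕ × ℕ) (i : ℕ) : ℕ := Nat.mod (Nat.shiftRight p.1 (Nat.mul (nat_lit 5) i)) (nat_lit 32)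

theorem ap_eq (p : ℕ × ℕ) (i : ℕ) : ap p i = tabGet p.1 i := rfl

/-- the image of a position under a product of five tables -/
def ap5 (z a b c d : ℕ × ℕ) (i : ℕ) : ℕ := ap z (ap a (ap b (ap c (ap d i))))

/-- the packed images of the positions `0..4` -/
def key5 (f : ℕ → ℕ) : ℕ := f 0 + 32 * f 1 + 1024 * f 2 + 32768 * f 3 + 1048576 * f 4

/-- the positions `0..4` are fixed -/
def fix5 (f : ℕ → ℕ) : Bool :=
  Nat.beq (f 0) 0 && (Nat.beq (f 1) 1 && (Nat.beq (f 2) 2 && (Nat.beq (f 3) 3 && Nat.beq (f 4) 4)))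

/-- the key of the identity -/
def idKey : ℕ := 4294688

/-- squares of the elements of order four are conjugates of the involution -/
def chkH (z a b c d : ℕ × ℕ) : Bool :=
  !(fix5 fun i => ap5 z a b c d (ap5 z a b c d (ap5 z a b c d (ap5 z a b c d i)))) ||
    (Nat.beq (key5 fun i => ap5 z a b c d (ap5 z a b c d i)) idKey ||
      (conjXT.getD (ap5 z a b c d (ap5 z a b c d 0)) []).any fun e =>
        Nat.beq e.1 (key5 fun i => ap5 z a b c d (ap5 z a b c d i)))

/-- the relations of a partner of the involution -/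
def relY (f : ℕ → ℕ) : Bool :=
  fix5 (fun i => f (f (f i))) &&
    (fix5 (fun i => Nat.iterate (fun j => ap mx (f j)) 11 i) &&
      fix5 (fun i => Nat.iterate (fun j => ap mx (f (ap mx (f (f j))))) 6 i))

/-- partners of the involution are known -/
def chkY (z a b c d : ℕ × ℕ) : Bool :=
  !(relY (ap5 z a b c d)) || conjY.any fun e => Nat.beq e.1 (key5 (ap5 z a b c d))

/-- the check of the elements with a given first factor -/
def chkSlice (z : ℕ × ℕ) : Bool :=
  U1.all fun a => U2.all fun b => U3.all fun c => U4.all fun d =>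
    chkH z a b c d && chkY z a b c d

/-! ### tables and words -/

/-- tables of elements of `M12` -/
def TabOK12 (p : ℕ × ℕ) : Prop := ValidTab p ∧ actF p dsq = dsq

instance : DecidablePred TabOK12 := fun p => by unfold TabOK12; infer_instance

/-- the mask of the complement of the dodecad of squares -/
def dsqc : ℕ := 0xFACCA0

/-- the word of the involution -/
def wx : TW := [(mx, false)]
/-- the word of the element of order three -/
def wy : TW := [(my, false)]
/-- the word of the element of order four -/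
def wh : TW := [(mh, false)]
/-- the word of the outer involution -/
def wt : TW := [(mt, false)]

/-- the word of a code -/
def elt5 (t : Code) : TW :=
  pos [V0.getD t.1 idT, U1.getD t.2.1 idT, U2.getD t.2.2.1 idT, U3.getD t.2.2.2.1 idT,
    U4.getD t.2.2.2.2 idT]

/-- the letters of the generators -/
def letter2 (b : Bool) : (ℕ × ℕ) × Bool := (if b then mx else my, false)

theorem idT_ok12 : TabOK12 idT := by decide +kernel
theorem mx_ok : TabOK12 mx := by decide +kernel
theorem my_ok : TabOK12 my := by decide +kernel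
theorem mh_ok : TabOK12 mh := by decide +kernel
theorem mt_ok : ValidTab mt ∧ actF mt dsq = dsqc ∧ actF mt dsqc = dsq := by decide +kernel
theorem V0_ok : ∀ u ∈ V0, TabOK12 u := by decide +kernel
theorem V0_cover : ∀ t < 24, dsq.testBit t = true → 0 ≤ t → ∃ u ∈ V0, tabGet u.1 0 = t := by
  decide +kernel
theorem dsqc_bits : ∀ i : Fin 24, dsqc.testBit i = !dsq.testBit i := by decide +kernel

/-- relations of the generators -/
theorem gen_rel2 : imgs (rep 2 wh) = imgs wx ∧ idOn (rep 4 wh) = true ∧ img wx 4 ≠ 4 ∧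
    idOn (rep 3 wy) = true ∧ idOn (rep 11 (wx ++ wy)) = true ∧
    idOn (rep 6 (wx ++ wy ++ wx ++ wy ++ wy)) = true ∧ idOn (rep 2 wt) = true ∧
    imgs (wt ++ wx ++ wt) = imgs wx := by decide +kernel

/-- the outer involution moves the element of order four to one without fixed points in the
dodecad -/
theorem outer_rel : img wh 0 = 0 ∧ ∀ i < 24, dsq.testBit i = true → img (wt ++ wh ++ wt) i ≠ i := by
  decide +kernel

theorem conjXT_ok : ∀ bk ∈ conjXT, ∀ e ∈ bk,
    key5 (img (elt5 e.2 ++ wx ++ invW (elt5 e.2))) = e.1 := by decide +kernel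

theorem conjY_ok : ∀ e ∈ conjY,
    key5 (img (elt5 e.2.1 ++ (if e.2.2 then wt ++ wy ++ wt else wy) ++ invW (elt5 e.2.1))) = e.1 ∧
    key5 (img (elt5 e.2.1 ++ wx)) = key5 (img (wx ++ elt5 e.2.1)) := by decide +kernel

theorem Wd0_ok : ∀ u ∈ V0, ∃ w ∈ Wd0, imgs (w.map letter2) = imgs (pos [u]) := by decide +kernel
theorem Wd1_ok : ∀ u ∈ U1, ∃ w ∈ Wd1, imgs (w.map letter2) = imgs (pos [u]) := by decide +kernel
theorem Wd2_ok : ∀ u ∈ U2, ∃ w ∈ Wd2, imgs (w.map letter2) = imgs (pos [u]) := by decide +kernel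
theorem Wd3_ok : ∀ u ∈ U3, ∃ w ∈ Wd3, imgs (w.map letter2) = imgs (pos [u]) := by decide +kernel
theorem Wd4_ok : ∀ u ∈ U4, ∃ w ∈ Wd4, imgs (w.map letter2) = imgs (pos [u]) := by decide +kernel

end Cfsg.Agent.Lib.Helper9.M12Aut
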