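import Cfsg.Agent.Lib.Helper9.M11Cert

/-!
Data for the automorphisms of the Mathieu group `M12` (generated offline, checked by the kernel)
(helper9).
-/

set_option autoImplicit false

namespace Cfsg.Agent.Lib.Helper9.M12Aut

/-- the standard involution (class `2B`) -/
def mx : ℕ × ℕ := (0xbae957b6289ba44b1cd0524ac18820, 0xbae957b6289ba44b1cd0524ac18820)
/-- the standard element of order three (class `3B`) -/
def my : ℕ × ℕ := (0x52eceb98e8a3e02acd8d28e2092481, 0x9d56f50cad75109b5c508c8e133004)
/-- an element of order four whose square is the standard involution -/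
def mh : ℕ × ℕ := (0x8aa6fa22f2a96093ac8db31c618820, 0x89df3ac2eda150655992591c918820)
/-- an involution of `M24` interchanging the dodecad of squares and its complement -/
def mt : ℕ × ℕ := (0x1191094c74685ea4b175258078ddc5, 0x1191094c74685ea4b175258078ddc5)
/-- element 0 of the transversal of level 0 -/
def v0_0 : ℕ × ℕ := (0xbdab49ca307b9ac5a928398a418820, 0xbdab49ca307b9ac5a928398a418820)
/-- element 1 of the transversal of level 0 -/
def v0_1 : ℕ × ℕ := (0xbd9f3a222da960c59cd2525c418801, 0xbd9f3a222da960c59cd2525c418801)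
/-- element 2 of the transversal of level 0 -/
def v0_2 : ℕ × ℕ := (0x2cd76a1a32add2c7a90d3c1c418402, 0x751f3b42265950caa9a93cae418041)
/-- element 3 of the transversal of level 0 -/
def v0_3 : ℕ × ℕ := (0x2d5767a6f09c4cca1da8549c410403, 0x8d2cb799d09952ca9e48536e400c41)
/-- element 4 of the transversal of level 0 -/
def v0_4 : ℕ × ℕ := (0x7baf62c1699c5aca28d23a2a310404, 0xad0ab7a1d2bd9ac8aa063a66020c41)
/-- element 5 of the transversal of level 0 -/
def v0_5 : ℕ × ℕ := (0xa962a748e4a5e097ad88b366310406, 0x71eef2caad5ccc955188882d020c41)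
/-- element 6 of the transversal of level 0 -/
def v0_6 : ℕ × ℕ := (0x55dd4892ad394d05ce497b2c310408, 0xb16345266c3d6065dd007b5d220c41)
/-- element 7 of the transversal of level 0 -/
def v0_7 : ℕ × ℕ := (0xa16277354cadd069d8905c9e310409, 0x729f759aa82ce503c40da32c920c41)
/-- element 8 of the transversal of level 0 -/
def v0_8 : ℕ × ℕ := (0x9baeb2a2c67c644a9d2d542831040c, 0xac565bb5c67d900a1d325426c20c41)
/-- element 9 of the transversal of level 0 -/
def v0_9 : ℕ × ℕ := (0x5c4afb9a70b39923d104aa5431040d, 0x9bcea8b2d0a380db94c95caa820c41)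
/-- element 10 of the transversal of level 0 -/
def v0_10 : ℕ × ℕ := (0x3ddd58b29251528b3da69916310410, 0xb2e913c260555322bdacba1c620c41)
/-- element 11 of the transversal of level 0 -/
def v0_11 : ℕ × ℕ := (0xb44b3ba5e85b88d5560ca18e310412, 0x9dd47a02c98b9887ae5029aad20c41)
/-- transversal of level 0 -/
def V0 : List (ℕ × ℕ) := [v0_0, v0_1, v0_2, v0_3, v0_4, v0_5, v0_6, v0_7, v0_8, v0_9, v0_10, v0_11]

/-- words in the generators for the transversal of level 0 (`true` for the involution) -/
def Wd0 : List (List Bool) := [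
  [],
  [false, false, true, false, false, true, false, false, true, false, true, false, true, false, true, false, true, false, false, true, false, true, false, true, false, true, false, true, false, false, true, false, true, false],
  [true, false, true, false, true, false, true, false, true, false, true, false, false, true, false, true, false, true, false, true, false, true, false, false, true, false, true, false, true, false, true, false, false, true, false, true, false, true, false, true, false, false, true, false, false],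
  [true, false, true, false, true, false, false, true, false, true, false, true, false, false, true, false, true, false, false, true, false, false, true, false, true, false, true, false, false, true, false, false, true, false, false, true, false, true, false, false],
  [false, true, false, true, false, true, false, false, true, false, false, true, false, true, false, true, false, false, true, false, true, false, false, true, false, false, true, false, true, false, true, false, true, false, false, true, false, true, false, false, true],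
  [false, true, false, false, true, false, true, false, false, true, false, true, false, true, false, true, false, false, true, false, false, true, false, true, false, true, false, true, false, true, false, true],
  [true, false, false, true, false, true, false, true, false, false, true, false, true, false, false, true, false, true, false, true, false, true, false, false, true, false, true, false, false, true, false, false, true, false, true, false, true, false, true],
  [true, false, true, false, false, true, false, true, false, false, true, false, true, false, true, false, true, false, false, true, false, false, true, false, true, false, true, false, true, false, true, false, true],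
  [false, false, true, false, true, false, true, false, true, false, false, true, false, true, false, true, false, false, true, false, true, false, false, true, false, true, false, true, false, false, true, false, true, false, true, false, true, false, true, false, true],
  [false, false, true, false, true, false, false, true, false, true, false, true, false, false, true, false, true, false, false, true, false, false, true, false, false, true, false, false, true, false, true, false, false, true, false, false, true],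
  [false, false, true, false, true, false, true, false, false, true, false, true, false, false, true, false, true, false, true, false, true, false, false, true, false, true, false, false, true, false, false, true, false, true, false, true, false, true],
  [false, false, true, false, true, false, true, false, false, true, false, false, true, false, true, false, false, true, false, true, false, true, false, true, false, false, true, false, true, false, true, false, true, false, true, false, true]]

/-- words in the generators for the transversal of level 1 (`true` for the involution) -/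
def Wd1 : List (List Bool) := [
  [],
  [false, true, false, true, false, false, true, false, false, true, false, true, false, true, false, true, false, true, false, false, true, false, true, false, true, false, true, false, true, false, false, true, false, true, false, false, true, false, false],
  [true, false, false, true, false, true, false, true, false, true, false, true, false, false, true, false, true, false, false, true, false, false, true, false, true, false, false, true, false, true, false, true, false, false, true, false, true, false, false, true, false, false, true, false, false],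
  [true, false, true, false, true, false, false, true, false, true, false, false, true, false, false, true, false, true, false, false, true, false, true, false, true, false, false, true, false, false, true, false, true, false, true, false, true, false, false, true, false, true],
  [true, false, true, false, true, false, true, false, false, true, false, true, false, false, true, false, false, true, false, true, false, false, true, false, true, false, true, false, true, false, false, true, false, true, false, true, false, false, true],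
  [false, true, false, true, false, true, false, true, false, true, false, false, true, false, true, false, false, true, false, true, false, true, false, false, true, false, false, true, false, true, false, true, false, true, false, false, true, false, true, false, true],
  [false, true, false, true, false, true, false, false, true, false, true, false, false, true, false, false, true, false, true, false, false, true, false, true, false, true, false, true, false, false, true, false, true, false, true, false, false, true],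
  [false, true, false, true, false, false, true, false, true, false, false, true, false, false, true, false, true, false, false, true, false, true, false, true, false, false, true, false, false, true, false, true, false, true, false, true, false, false, true, false, true],
  [true, false, true, false, true, false, true, false, true, false, false, true, false, true, false, true, false, false, true, false, false, true, false, true, false, true, false, false, true, false, false, true, false, false, true, false, false],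
  [false, false, true, false, true, false, false, true, false, true, false, false, true, false, false, true, false, true, false, true, false, false, true, false, false, true, false, false, true, false, true, false, true, false, false, true, false, false, true, false, true],
  [false, true, false, true, false, true, false, true, false, false, true, false, true, false, true, false, false, true, false, false, true, false, true, false, true, false, false, true, false, false, true, false, false, true, false, false]]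

/-- words in the generators for the transversal of level 2 (`true` for the involution) -/
def Wd2 : List (List Bool) := [
  [],
  [false, false, true, false, true, false, false, true, false, true, false, false, true, false],
  [false, true, false, false, true, false, true, false, true, false, true, false, false, true, false, true, false, false, true, false],
  [true, false, false, true, false, false, true, false, false, true, false, true, false, true, false, false, true, false, true, false, true, false, true, false, false, true, false, true, false, true, false, true, false, false, true, false, true, false],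
  [false, true, false, false, true, false, false, true, false, true, false, false, true, false, true, false, true, false, false, true, false, false, true, false, true, false, true, false, true, false],
  [false, false, true, false, false, true, false, false, true, false, true, false, true, false, false, true, false, true, false, true, false, true, false, false, true, false, true, false, true, false, true, false, false, true, false, true, false],
  [true, false, true, false, false, true, false, true, false, true, false, true, false, false, true, false, true, false, false, true, false],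
  [false, false, true, false, false, true, false, true, false, false, true, false, false, true, false, false, true, false, true, false, false, true, false, false, true, false, true, false, true, false, false, true, false, false, true, false, true],
  [true, false, true, false, false, true, false, false, true, false, true, false, false, true, false, true, false, true, false, false, true, false, false, true, false, true, false, true, false, true, false],
  [false, false, true, false, false, true, false, true, false, false, true, false, true, false, true, false, true, false, false, true, false, true, false, true, false, false, true, false, true, false, true, false, true, false, true, false, true]]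

/-- words in the generators for the transversal of level 3 (`true` for the involution) -/
def Wd3 : List (List Bool) := [
  [],
  [false, true, false, false, true, false, true, false, false],
  [false, false, true, false, true, false, true, false, true, false, false, true, false, false, true, false, false, true, false, true, false, false, true, false, true, false, true, false, false, true, false, false, true],
  [false, false, true, false, true, false, true, false, true, false, true, false, false, true, false, true, false, false, true, false, false, true, false, true, false, true, false, true, false],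
  [true, false, false, true, false, true, false, true, false, true, false, false, true, false, false, true, false, false, true, false, true, false, false, true, false, true, false, true, false, false, true, false, false, true],
  [true, false, true, false, false, true, false, true, false, false],
  [true, false, false, true, false, false, true, false, false, true, false, true, false, false, true, false, true, false, true, false, false, true, false, true, false, true, false, true, false, true, false],
  [true, false, false, true, false, true, false, true, false, true, false, true, false, false, true, false, true, false, false, true, false, false, true, false, true, false, true, false, true, false],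
  [false, false, true, false, false, true, false, false, true, false, true, false, false, true, false, true, false, true, false, false, true, false, true, false, true, false, true, false, true, false]]

/-- words in the generators for the transversal of level 4 (`true` for the involution) -/
def Wd4 : List (List Bool) := [
  [],
  [false, false, true, false, true, false, true, false, true, false, true, false, false, true, false, true, false, false, true, false, true, false, true, false, false, true, false, false, true, false, true, false, false, true, false, true, false, true, false],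
  [false, false, true, false, true, false, true, false, true, false, true, false, false, true, false, true, false, false, true, false, false, true, false, true, false, true, false, true, false, false, true, false, false, true, false, true, false, false],
  [true, false, false, true, false, true, false, true, false, true, false, true, false, false, true, false, true, false, false, true, false, true, false, true, false, false, true, false, false, true, false, true, false, false, true, false, true, false, true, false],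
  [true],
  [false, false, true, false, true, false, true, false, false, true, false, false, true, false, true, false, true, false, true, false, true, false, false, true, false, true, false, true, false, false, true, false, true, false, true, false, true, false],
  [true, false, false, true, false, true, false, true, false, true, false, true, false, false, true, false, true, false, false, true, false, false, true, false, true, false, true, false, true, false, false, true, false, false, true, false, true, false, false],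
  [true, false, false, true, false, true, false, true, false, false, true, false, false, true, false, true, false, true, false, true, false, true, false, false, true, false, true, false, true, false, false, true, false, true, false, true, false, true, false]]

/-- the conjugates of the involution, with conjugators, by the image of the point `0` -/
def conjXT : List (List (ℕ × (ℕ × ℕ × ℕ × ℕ × ℕ))) := [
  [(12683296, (0, 0, 0, 0, 0)), (3278880, (0, 0, 0, 5, 0)), (19073056, (0, 0, 0, 4, 0)), (13895712, (0, 0, 0, 7, 0)), (8685600, (0, 0, 0, 2, 0)), (4589600, (0, 0, 0, 1, 0)), (9865248, (0, 0, 0, 8, 0)), (6817824, (0, 0, 0, 3, 0)), (17369120, (0, 0, 0, 6, 0)), (4262944, (0, 0, 2, 5, 0)), (6360096, (0, 0, 7, 5, 0)), (9505824, (0, 0, 4, 5, 0)), (12651552, (0, 0, 3, 5, 0)), (2199584, (0, 0, 1, 5, 0)), (2494496, (0, 0, 7, 8, 0)), (2527264, (0, 0, 3, 6, 0)), (2625568, (0, 0, 5, 7, 0)), (13735968, (0, 0, 1, 2, 0)), (12884000, (0, 0, 8, 8, 0)), (8919072, (0, 0, 6, 6, 0)), (4790304, (0, 0, 2, 7, 0)), (6397984, (0,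 0, 1, 8, 0)), (3285024, (0, 0, 5, 2, 0)), (16982048, (0, 0, 6, 4, 0)), (4726816, (0, 0, 2, 3, 0)), (16884768, (0, 0, 1, 4, 0)), (12788768, (0, 0, 4, 8, 0)), (4465696, (0, 0, 2, 6, 0)), (19309600, (0, 0, 6, 7, 0)), (4304928, (0, 0, 1, 1, 0)), (3289120, (0, 0, 4, 3, 0)), (19148832, (0, 0, 3, 7, 0)), (8990752, (0, 0, 5, 6, 0)), (8500256, (0, 0, 1, 7, 0)), (4404256, (0, 0, 2, 2, 0)), (17183776, (0, 0, 4, 6, 0)), (10040352, (0, 0, 3, 3, 0)), (18989088, (0, 0, 1, 6, 0)), (6570016, (0, 0, 5, 8, 0)), (4505632, (0, 0, 2, 4, 0)), (14041120, (0, 0, 3, 2, 0)), (9553952, (0, 0, 1, 3, 0)), (3295264, (0, 0, 3, 4, 0)), (13944864, (0, 0, 4, 7, 0)), (4638752, (0, 0, 2, 8, 0)), (4293696, (0, 2, 2, 5, 0)), (12682304, (0, 2, 3, 5, 0)), (13730880, (0, 2, 7, 5, 0)), (18973760, (0, 2, 4, 5, 0)), (3277888, (0, 6, 7, 5, 0)), (4392000, (0, 3, 7, 5, 0)), (4457536, (0, 3, 4, 5, 0)), (17073216, (0, 4, 3, 5, 0)), (4588608, (0, 3, 3, 5, 0)), (8815680, (0, 4, 4, 5, 0)), (9962560, (0, 5, 3, 5, 0)), (6882368, (0, 5, 7, 5, 0)), (4229216,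 (0, 1, 2, 5, 0)), (8423520, (0, 1, 7, 5, 0)), (12617824, (0, 1, 3, 5, 0)), (16812128, (0, 1, 4, 5, 0)), (2134112, (0, 4, 3, 6, 0)), (18913376, (0, 5, 5, 7, 0)), (13672544, (0, 6, 5, 7, 0)), (4236384, (0, 3, 3, 6, 0)), (4239456, (0, 3, 7, 8, 0)), (4240480, (0, 3, 5, 7, 0)), (9486432, (0, 4, 5, 7, 0)), (6342752, (0, 7, 5, 7, 0)), (1149056, (0, 1, 1, 5, 0)), (1345664, (0, 1, 5, 7, 0)), (1443968, (0, 1, 7, 8, 0)), (1640576, (0, 1, 3, 6, 0)), (1117312, (0, 5, 5, 2, 0)), (1153152, (0, 2, 5, 7, 0)), (1482880, (0, 4, 3, 3, 0)), (1582208, (0, 4, 4, 6, 0)), (1159296, (0, 2, 7, 8, 0)), (1324160, (0, 7, 5, 6, 0)), (1163392, (0, 2, 3, 6, 0)), (1263744, (0, 5, 6, 4, 0)), (8489152, (0, 1, 1, 8, 0)), (3279040, (0, 1, 5, 2, 0)), (9701568, (0, 1, 6, 4, 0)), (4491456, (0, 1, 2, 3, 0)), (18943168, (0, 6, 4, 3, 0)), (2691264, (0, 5, 5, 8, 0)), (4595904, (0, 3, 8, 8, 0)), (13739200, (0, 2, 5, 8, 0)), (16888000, (0, 2, 3, 2, 0)), (4732096, (0, 3, 6, 6, 0)), (13025472, (0, 5, 3, 2, 0)), (4311232, (0, 2, 2, 4, 0)), (18974976,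 (0, 1, 1, 2, 0)), (6588672, (0, 1, 6, 6, 0)), (4622592, (0, 1, 2, 7, 0)), (13109504, (0, 1, 8, 8, 0)), (13700352, (0, 4, 3, 4, 0)), (2199808, (0, 2, 3, 4, 0)), (4593920, (0, 3, 4, 8, 0)), (4793600, (0, 3, 6, 7, 0)), (9646336, (0, 8, 6, 6, 0)), (3290368, (0, 4, 4, 7, 0)), (4309248, (0, 2, 2, 8, 0)), (16894208, (0, 2, 4, 7, 0)), (13732128, (0, 1, 1, 6, 0)), (8587552, (0, 1, 5, 8, 0)), (19269920, (0, 1, 3, 2, 0)), (4720928, (0, 1, 2, 4, 0)), (16846112, (0, 4, 4, 3, 0)), (2199840, (0, 2, 5, 2, 0)), (4299040, (0, 2, 2, 3, 0)), (13181216, (0, 4, 5, 6, 0)), (4632864, (0, 3, 4, 6, 0)), (6403360, (0, 2, 6, 4, 0)), (3293472, (0, 7, 8, 8, 0)), (4475168, (0, 3, 3, 3, 0)), (4295040, (0, 1, 1, 1, 0)), (3279232, (0, 1, 4, 3, 0)), (13830528, (0, 1, 3, 7, 0)), (6719872, (0, 1, 5, 6, 0)), (4263296, (0, 3, 4, 3, 0)), (2199936, (0, 2, 4, 3, 0)), (17045888, (0, 6, 4, 6, 0)), (9544064, (0, 2, 5, 6, 0)), (8496512, (0, 2, 3, 7, 0)), (19182976, (0, 4, 8, 8, 0)), (4800896, (0, 3, 3, 7, 0)), (4737408, (0, 3, 5, 6, 0)), (16877984,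 (0, 1, 1, 3, 0)), (3279264, (0, 1, 3, 4, 0)), (19401120, (0, 1, 4, 7, 0)), (4786592, (0, 1, 2, 8, 0)), (8457632, (0, 6, 5, 2, 0)), (2363808, (0, 4, 6, 7, 0)), (9542048, (0, 2, 6, 6, 0)), (4301216, (0, 2, 2, 7, 0)), (6694304, (0, 5, 3, 3, 0)), (4501920, (0, 3, 3, 2, 0)), (4407712, (0, 3, 5, 8, 0)), (12700064, (0, 2, 8, 8, 0)), (9538048, (0, 1, 1, 4, 0)), (4393472, (0, 1, 2, 6, 0)), (12847616, (0, 1, 4, 8, 0)), (14223872, (0, 1, 6, 7, 0)), (4263424, (0, 3, 5, 2, 0)), (2396672, (0, 5, 3, 7, 0)), (4626944, (0, 3, 6, 4, 0)), (18981376, (0, 2, 3, 3, 0)), (3286528, (0, 4, 3, 2, 0)), (6402560, (0, 2, 4, 6, 0)), (4306432, (0, 2, 2, 2, 0)), (8800768, (0, 4, 5, 8, 0)), (6392384, (0, 1, 1, 7, 0)), (4459072, (0, 1, 2, 2, 0)), (9833024, (0, 1, 4, 6, 0)), (17205824, (0, 1, 3, 3, 0)), (4263488, (0, 3, 3, 4, 0)), (2298432, (0, 6, 4, 8, 0)), (3283520, (0, 5, 6, 6, 0)), (4497984, (0, 3, 4, 7, 0)), (4302400, (0, 2, 2, 6, 0)), (14168640, (0, 4, 6, 4, 0)), (12695104, (0, 2, 4, 8, 0)), (8503872, (0, 2, 6, 7, 0))],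
  [(4294657, (2, 2, 2, 5, 0)), (6391809, (2, 2, 4, 5, 0)), (9537537, (2, 2, 7, 5, 0)), (12683265, (2, 2, 3, 5, 0)), (3278849, (2, 6, 7, 5, 0)), (16975873, (2, 5, 7, 5, 0)), (19138561, (2, 4, 3, 5, 0)), (13928449, (2, 4, 4, 5, 0)), (4589569, (2, 3, 3, 5, 0)), (4622337, (2, 3, 4, 5, 0)), (4720641, (2, 3, 7, 5, 0)), (8980481, (2, 5, 3, 5, 0)), (4262913, (4, 6, 7, 5, 0)), (12651521, (6, 6, 7, 5, 0)), (2199553, (3, 6, 7, 5, 0)), (2494465, (5, 5, 3, 5, 0)), (8493057, (3, 4, 4, 5, 0)), (4495361, (4, 4, 3, 5, 0)), (4300801, (3, 3, 4, 5, 0)), (6823937, (7, 4, 4, 5, 0)), (18981889, (3, 5, 7, 5, 0)), (4400129, (4, 5, 3, 5, 0)), (4304897, (3, 3, 3, 5, 0)), (3289089, (5, 4, 3, 5, 0)), (16888833, (3, 4, 3, 5, 0)), (4797441, (4, 4, 4, 5, 0)), (13746177, (3, 5, 3, 5, 0)), (4472833, (4, 5, 7, 5, 0)), (4311041, (3, 3, 7, 5, 0)), (9881601, (5, 5, 7, 5, 0))],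
  [(4292642, (1, 2, 2, 5, 0)), (8486946, (1, 2, 4, 5, 0)), (12681250, (1, 2, 3, 5, 0)), (16875554, (1, 2, 7, 5, 0)), (3276834, (1, 6, 7, 5, 0)), (13828130, (1, 4, 3, 5, 0)), (9699362, (1, 5, 7, 5, 0)), (4489250, (1, 3, 7, 5, 0)), (4587554, (1, 3, 3, 5, 0)), (6717474, (1, 5, 3, 5, 0)), (19398690, (1, 4, 4, 5, 0)), (4784162, (1, 3, 4, 5, 0)), (4227170, (4, 4, 3, 6, 0)), (12615778, (5, 4, 3, 6, 0)), (1147010, (3, 4, 3, 6, 0)), (1441922, (5, 4, 5, 7, 0)), (4292802, (3, 3, 5, 7, 0)), (8683714, (8, 4, 5, 7, 0)), (6390018, (3, 6, 5, 7, 0)), (4718850, (4, 5, 5, 7, 0)), (18972962, (3, 7, 5, 7, 0)), (4391202, (4, 4, 5, 7, 0)), (4292994, (3, 3, 7, 8, 0)), (3277186, (6, 5, 5, 7, 0)), (4293026, (3, 3, 3, 6, 0)), (17367458, (5, 5, 5, 7, 0)), (13730306, (3, 4, 5, 7, 0)), (4456962, (4, 7, 5, 7, 0)), (9536066, (3, 5, 5, 7, 0)), (4620866, (4, 6, 5, 7, 0))],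
  [(4196387, (1, 1, 2, 5, 0)), (12584995, (1, 1, 3, 5, 0)), (13633571, (1, 1, 4, 5, 0)), (18876451, (1, 1, 7, 5, 0)), (2101283, (1, 4, 3, 6, 0)), (4200483, (1, 3, 3, 6, 0)), (9445411, (1, 7, 5, 7, 0)), (8397859, (1, 5, 5, 7, 0)), (4206627, (1, 3, 7, 8, 0)), (6304803, (1, 4, 5, 7, 0)), (4210723, (1, 3, 5, 7, 0)), (16795683, (1, 6, 5, 7, 0)), (4195395, (4, 5, 5, 2, 0)), (12584003, (5, 5, 5, 2, 0)), (1050755, (2, 4, 3, 6, 0)), (1060995, (6, 5, 6, 4, 0)), (16779459, (2, 7, 5, 7, 0)), (4203715, (4, 4, 4, 6, 0)), (4196611, (2, 3, 3, 6, 0)), (18891011, (5, 4, 3, 3, 0)), (4196643, (2, 3, 5, 7, 0)), (13637923, (6, 4, 3, 3, 0)), (4196739, (2, 3, 7, 8, 0)), (2101635, (5, 4, 4, 6, 0)), (9439651, (2, 6, 5, 7, 0)), (4213155, (4, 7, 5, 6, 0)), (6294019, (2, 5, 5, 7, 0)), (4203011, (4, 5, 6, 4, 0)), (8391235, (2, 4, 5, 7, 0)), (4208195, (4, 4, 3, 3, 0))],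
  [(100388, (1, 1, 1, 5, 0)), (198692, (1, 1, 5, 7, 0)), (264228, (1, 1, 3, 6, 0)), (395300, (1, 1, 7, 8, 0)), (68644, (1, 5, 5, 2, 0)), (432164, (1, 4, 4, 6, 0)), (303140, (1, 5, 6, 4, 0)), (107556, (1, 2, 5, 7, 0)), (110628, (1, 2, 7, 8, 0)), (111652, (1, 2, 3, 6, 0)), (606244, (1, 7, 5, 6, 0)), (542756, (1, 4, 3, 3, 0)), (99396, (3, 5, 5, 2, 0)), (394308, (7, 4, 4, 3, 0)), (34916, (2, 5, 5, 2, 0)), (45156, (5, 5, 3, 7, 0)), (526532, (2, 5, 6, 4, 0)), (106692, (3, 7, 5, 6, 0)), (592132, (2, 4, 4, 6, 0)), (104708, (3, 4, 3, 3, 0)), (428324, (2, 7, 5, 6, 0)), (117028, (3, 5, 6, 4, 0)), (100740, (2, 2, 7, 8, 0)), (68996, (5, 4, 3, 2, 0)), (297380, (2, 4, 3, 3, 0)), (115108, (3, 4, 4, 6, 0)), (100868, (2, 2, 5, 7, 0)), (210436, (6, 4, 6, 4, 0)), (100932, (2, 2, 3, 6, 0)), (271940, (5, 4, 5, 8, 0))],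
  [],
  [(16877606, (1, 1, 1, 6, 0)), (19171366, (1, 1, 5, 8, 0)), (8783910, (1, 1, 3, 2, 0)), (4622374, (1, 1, 2, 4, 0)), (13700134, (1, 4, 4, 3, 0)), (2199590, (1, 2, 5, 2, 0)), (4792358, (1, 3, 3, 3, 0)), (4301862, (1, 2, 2, 3, 0)), (4730918, (1, 3, 4, 6, 0)), (3290150, (1, 7, 8, 8, 0)), (9551910, (1, 2, 6, 4, 0)), (12863526, (1, 4, 5, 6, 0)), (8488006, (3, 6, 5, 2, 0)), (4490310, (4, 4, 4, 3, 0)), (4229222, (2, 3, 3, 4, 0)), (16819302, (6, 4, 6, 7, 0)), (1575046, (2, 6, 4, 8, 0)), (1155206, (3, 4, 6, 7, 0)), (4294918, (2, 2, 2, 6, 0)), (2527494, (7, 4, 8, 8, 0)), (12683558, (2, 2, 4, 8, 0)), (4263206, (4, 7, 8, 8, 0)), (10029446, (2, 4, 6, 4, 0)), (4306310, (3, 3, 3, 2, 0)), (4458918, (2, 3, 4, 7, 0)), (18985382, (3, 5, 3, 3, 0)), (3279366, (2, 5, 6, 6, 0)), (4311558, (3, 3, 5, 8, 0)), (13732422, (2, 2, 6, 7, 0)), (4604486, (4, 4, 5, 6, 0))],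
  [],
  [(9537576, (1, 1, 1, 7, 0)), (6686760, (1, 1, 4, 6, 0)), (14157864, (1, 1, 3, 3, 0)), (4786216, (1, 1, 2, 2, 0)), (4262952, (1, 3, 3, 4, 0)), (2396200, (1, 6, 4, 8, 0)), (4298792, (1, 2, 2, 6, 0)), (3286056, (1, 5, 6, 6, 0)), (17215528, (1, 4, 6, 4, 0)), (18986024, (1, 2, 6, 7, 0)), (12697640, (1, 2, 4, 8, 0)), (4409384, (1, 3, 4, 7, 0)), (6390856, (3, 4, 3, 4, 0)), (4719688, (4, 6, 4, 3, 0)), (18909288, (2, 4, 4, 3, 0)), (4243560, (4, 5, 5, 8, 0)), (1149064, (2, 2, 5, 2, 0)), (1644680, (7, 5, 3, 3, 0)), (4622536, (2, 3, 3, 3, 0)), (2199752, (3, 4, 4, 7, 0)), (16877864, (2, 2, 6, 4, 0)), (4601128, (4, 5, 3, 2, 0)), (4491656, (2, 3, 4, 6, 0)), (13748616, (3, 8, 6, 6, 0)), (12781992, (2, 4, 5, 6, 0)), (4302248, (3, 3, 6, 7, 0)), (4295176, (2, 2, 2, 3, 0)), (9506312, (5, 4, 4, 7, 0)), (3279432, (2, 7, 8, 8, 0)), (4305480, (3, 3, 4, 8, 0))],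
  [(18974761, (1, 1, 1, 8, 0)), (3278889, (1, 1, 5, 2, 0)), (4393001, (1, 1, 2, 3, 0)), (6883369, (1, 1, 6, 4, 0)), (8457257, (1, 6, 4, 3, 0)), (2363433, (1, 5, 5, 8, 0)), (16881705, (1, 2, 5, 8, 0)), (4300841, (1, 2, 2, 4, 0)), (13742121, (1, 2, 3, 2, 0)), (13120553, (1, 5, 3, 2, 0)), (4636713, (1, 3, 6, 6, 0)), (4605993, (1, 3, 8, 8, 0)), (4293705, (3, 3, 3, 4, 0)), (19072073, (6, 4, 3, 4, 0)), (13666409, (2, 6, 5, 2, 0)), (4233321, (4, 5, 3, 7, 0)), (1476745, (2, 4, 6, 7, 0)), (1165449, (3, 6, 4, 8, 0)), (12683465, (2, 2, 8, 8, 0)), (4263113, (4, 4, 3, 2, 0)), (17172745, (2, 5, 3, 3, 0)), (4306185, (3, 3, 4, 7, 0)), (4458889, (2, 3, 3, 2, 0)), (6406537, (3, 4, 6, 4, 0)), (4295081, (2, 2, 2, 7, 0)), (3285417, (5, 6, 4, 6, 0)), (8489481, (2, 2, 6, 6, 0)), (4796937, (4, 4, 5, 8, 0)), (4721225, (2, 3, 5, 8, 0)), (2200137, (3, 5, 6, 6, 0))],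
  [],
  [],
  [(4294700, (1, 1, 1, 1, 0)), (3278892, (1, 1, 4, 3, 0)), (17074220, (1, 1, 3, 7, 0)), (9963564, (1, 1, 5, 6, 0)), (4262956, (1, 3, 4, 3, 0)), (2199596, (1, 2, 4, 3, 0)), (18978860, (1, 2, 3, 7, 0)), (4628524, (1, 3, 5, 6, 0)), (14230572, (1, 6, 4, 6, 0)), (4469804, (1, 3, 3, 7, 0)), (8601644, (1, 4, 8, 8, 0)), (6408236, (1, 2, 5, 6, 0)), (4293708, (3, 3, 4, 3, 0)), (3277900, (5, 4, 4, 3, 0)), (4229228, (2, 3, 4, 3, 0)), (2134124, (6, 5, 5, 8, 0)), (1149068, (2, 2, 4, 3, 0)), (1117324, (5, 7, 8, 8, 0)), (4786380, (2, 3, 5, 6, 0)), (9549004, (3, 4, 8, 8, 0)), (13732108, (2, 2, 3, 7, 0)), (4507916, (4, 6, 4, 6, 0)), (6555948, (2, 4, 8, 8, 0)), (4309292, (3, 3, 5, 6, 0)), (8489388, (2, 2, 5, 6, 0)), (4725164, (4, 4, 8, 8, 0)), (19302924, (2, 6, 4, 6, 0)), (4302348, (3, 3, 3, 7, 0)), (4393548, (2, 3, 3, 7, 0)), (16884300, (3, 6, 4, 6, 0))],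
  [(6391853, (1, 1, 1, 4, 0)), (17041453, (1, 1, 6, 7, 0)), (4491309, (1, 1, 2, 6, 0)), (13174829, (1, 1, 4, 8, 0)), (4262957, (1, 3, 5, 2, 0)), (2297901, (1, 5, 3, 7, 0)), (3282989, (1, 4, 3, 2, 0)), (19275821, (1, 4, 5, 8, 0)), (4727853, (1, 3, 6, 4, 0)), (9547821, (1, 2, 4, 6, 0)), (4309037, (1, 2, 2, 2, 0)), (8505389, (1, 2, 3, 3, 0)), (16876621, (3, 4, 4, 3, 0)), (4785229, (4, 6, 5, 2, 0)), (9472109, (2, 4, 3, 4, 0)), (4245613, (4, 4, 6, 7, 0)), (1149069, (2, 2, 3, 4, 0)), (1360013, (5, 5, 3, 2, 0)), (18974925, (2, 2, 4, 7, 0)), (4468941, (4, 5, 3, 3, 0)), (4393229, (2, 3, 6, 7, 0)), (12690701, (3, 4, 5, 6, 0)), (3279149, (2, 4, 4, 7, 0)), (4301101, (3, 3, 3, 3, 0)), (8915341, (2, 8, 6, 6, 0)), (4299149, (3, 3, 4, 6, 0)), (4590093, (2, 3, 4, 8, 0)), (2200077, (3, 7, 8, 8, 0)), (4295245, (2, 2, 2, 8, 0)), (6360653, (6, 4, 3, 2, 0))],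
  [],
  [],
  [(13731888, (1, 1, 1, 3, 0)), (3278896, (1, 1, 3, 4, 0)), (4458544, (1, 1, 2, 8, 0)), (8816688, (1, 1, 4, 7, 0)), (18943024, (1, 6, 5, 2, 0)), (2691120, (1, 4, 6, 7, 0)), (9836592, (1, 5, 3, 3, 0)), (12689456, (1, 2, 8, 8, 0)), (6399024, (1, 2, 6, 6, 0)), (4403248, (1, 3, 3, 2, 0)), (4502576, (1, 3, 5, 8, 0)), (4311088, (1, 2, 2, 7, 0)), (4293712, (3, 3, 5, 2, 0)), (13894736, (5, 6, 5, 2, 0)), (6326384, (2, 6, 4, 3, 0)), (4235376, (4, 6, 4, 8, 0)), (1247376, (2, 5, 5, 8, 0)), (1160336, (3, 5, 3, 7, 0)), (4294864, (2, 2, 2, 4, 0)), (3295440, (6, 4, 8, 8, 0)), (9537808, (2, 2, 5, 8, 0)), (4263184, (4, 5, 6, 6, 0)), (4786480, (2, 3, 6, 6, 0)), (8499504, (3, 4, 5, 8, 0)), (18975120, (2, 2, 3, 2, 0)), (4629904, (4, 4, 6, 4, 0)), (4590000, (2, 3, 8, 8, 0)), (2199984, (3, 4, 3, 2, 0)), (12880464, (2, 5, 3, 2, 0)), (4299344, (3, 3, 6, 4, 0))],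
  [],
  [(8489010, (1, 1, 1, 2, 0)), (9635890, (1, 1, 6, 6, 0)), (13010994, (1, 1, 8, 8, 0)), (4720690, (1, 1, 2, 7, 0)), (16845874, (1, 4, 3, 4, 0)), (2199602, (1, 2, 3, 4, 0)), (4462642, (1, 3, 6, 7, 0)), (13738034, (1, 2, 4, 7, 0)), (4596786, (1, 3, 4, 8, 0)), (6598706, (1, 8, 6, 6, 0)), (4305970, (1, 2, 2, 8, 0)), (3293234, (1, 4, 4, 7, 0)), (9536594, (3, 6, 4, 3, 0)), (4621394, (4, 4, 3, 4, 0)), (4229234, (2, 3, 5, 2, 0)), (8434802, (5, 6, 4, 8, 0)), (1312914, (2, 5, 3, 7, 0)), (1156242, (3, 5, 5, 8, 0)), (14026962, (2, 4, 5, 8, 0)), (4309202, (3, 3, 6, 6, 0)), (3279122, (2, 4, 3, 2, 0)), (4305170, (3, 3, 8, 8, 0)), (4294962, (2, 2, 2, 2, 0)), (2625842, (5, 4, 6, 4, 0)), (16877970, (2, 2, 4, 6, 0)), (4399506, (4, 8, 6, 6, 0)), (6392242, (2, 2, 3, 3, 0)), (4263346, (4, 4, 4, 7, 0)), (4491794, (2, 3, 6, 4, 0)), (12687890, (3, 5, 3, 2, 0))],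
  [],
  [],
  [],
  [],
  []]

/-- the partners of the involution, with conjugators -/
def conjY : List (ℕ × (ℕ × ℕ × ℕ × ℕ × ℕ) × Bool) := [
  (42189, (3, 0, 1, 0, 2), true),
  (42376, (3, 1, 0, 0, 4), false),
  (45318, (3, 1, 1, 0, 3), false),
  (45576, (3, 2, 0, 0, 5), true),
  (72072, (3, 2, 1, 0, 3), false),
  (74258, (3, 0, 0, 0, 2), true),
  (75142, (3, 1, 0, 0, 5), true),
  (78342, (3, 2, 0, 0, 4), false),
  (139843, (0, 2, 0, 0, 0), false),
  (143779, (0, 0, 0, 0, 0), true),
  (144579, (0, 2, 1, 0, 0), false),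
  (149891, (0, 1, 0, 0, 0), true),
  (197928, (2, 0, 1, 0, 2), true),
  (198029, (2, 1, 0, 0, 4), false),
  (200073, (2, 1, 0, 0, 5), true),
  (213121, (0, 0, 1, 0, 0), false),
  (266530, (0, 1, 1, 0, 0), false),
  (274514, (1, 1, 0, 0, 4), false),
  (274544, (1, 1, 0, 0, 5), true),
  (278598, (1, 0, 1, 0, 2), true),
  (298381, (2, 2, 1, 0, 3), false),
  (307329, (0, 2, 1, 0, 0), true),
  (394665, (2, 1, 1, 0, 3), false),
  (394829, (2, 2, 0, 0, 5), true),
  (396873, (2, 2, 0, 0, 4), false),
  (397570, (0, 0, 1, 0, 0), true),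
  (399489, (0, 1, 1, 0, 0), true),
  (406610, (1, 2, 0, 0, 5), true),
  (406640, (1, 2, 0, 0, 4), false),
  (411728, (1, 1, 1, 0, 3), false),
  (429648, (2, 0, 0, 0, 2), true),
  (430594, (0, 1, 0, 0, 0), false),
  (528770, (0, 2, 0, 0, 0), true),
  (536690, (1, 2, 1, 0, 3), false),
  (599169, (0, 0, 0, 0, 0), false),
  (603241, (1, 0, 0, 0, 2), true),
  (1055241, (3, 1, 1, 0, 2), true),
  (1055308, (3, 0, 0, 0, 4), false),
  (1061170, (3, 0, 1, 0, 3), false),
  (1061453, (3, 2, 1, 0, 5), true),
  (1120556, (3, 0, 0, 0, 5), true),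
  (1123916, (3, 2, 0, 0, 3), false),
  (1126701, (3, 2, 1, 0, 4), false),
  (1132813, (3, 1, 0, 0, 2), true),
  (1187948, (1, 1, 0, 0, 0), true),
  (1192048, (1, 0, 0, 0, 0), true),
  (1196137, (1, 2, 1, 0, 0), false),
  (1198184, (1, 2, 0, 0, 0), false),
  (1248780, (2, 2, 0, 0, 3), false),
  (1257476, (1, 2, 1, 0, 0), true),
  (1316868, (1, 0, 0, 0, 0), false),
  (1327299, (0, 0, 0, 0, 2), true),
  (1344012, (2, 0, 0, 0, 4), false),
  (1344070, (2, 1, 1, 0, 2), true),
  (1346764, (2, 0, 0, 0, 5), true),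
  (1356804, (1, 0, 1, 0, 0), false),
  (1442000, (2, 0, 1, 0, 3), false),
  (1442312, (2, 2, 1, 0, 5), true),
  (1445064, (2, 2, 1, 0, 4), false),
  (1445970, (1, 0, 1, 0, 0), true),
  (1450402, (0, 1, 1, 0, 3), false),
  (1451012, (1, 1, 1, 0, 0), true),
  (1458434, (0, 2, 0, 0, 5), true),
  (1458595, (0, 2, 0, 0, 4), false),
  (1478732, (1, 2, 0, 0, 0), true),
  (1487107, (0, 2, 1, 0, 3), false),
  (1576360, (2, 1, 0, 0, 2), true),
  (1577037, (1, 1, 0, 0, 0), false),
  (1642566, (1, 1, 1, 0, 0), false),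
  (1650946, (0, 1, 0, 0, 4), false),
  (1651107, (0, 1, 0, 0, 5), true),
  (1652002, (0, 0, 1, 0, 2), true),
  (2106640, (3, 2, 1, 0, 2), true),
  (2110732, (3, 0, 1, 0, 4), false),
  (2110866, (3, 1, 1, 0, 5), true),
  (2113933, (3, 0, 0, 0, 3), false),
  (2136498, (3, 2, 0, 0, 2), true),
  (2143756, (3, 1, 0, 0, 3), false),
  (2146572, (3, 0, 1, 0, 5), true),
  (2146706, (3, 1, 1, 0, 4), false),
  (2231500, (2, 1, 0, 0, 0), true),
  (2231600, (2, 2, 1, 0, 0), false),
  (2231689, (2, 0, 0, 0, 0), true),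
  (2231718, (2, 2, 0, 0, 0), false),
  (2294020, (2, 0, 0, 0, 0), false),
  (2302243, (0, 1, 0, 0, 2), true),
  (2359684, (2, 2, 1, 0, 0), true),
  (2368620, (1, 2, 0, 0, 3), false),
  (2393234, (2, 1, 0, 0, 0), false),
  (2410598, (1, 1, 0, 0, 2), true),
  (2490884, (2, 1, 1, 0, 0), true),
  (2491533, (2, 0, 1, 0, 0), true),
  (2496801, (0, 2, 1, 0, 5), true),
  (2498569, (1, 0, 1, 0, 3), false),
  (2498662, (1, 2, 1, 0, 4), false),
  (2499590, (1, 2, 1, 0, 5), true),
  (2508993, (0, 0, 1, 0, 3), false),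
  (2509091, (0, 2, 1, 0, 4), false),
  (2524296, (2, 1, 1, 0, 0), false),
  (2529665, (0, 0, 0, 0, 4), false),
  (2540097, (0, 1, 1, 0, 2), true),
  (2541955, (0, 0, 0, 0, 5), true),
  (2622020, (2, 0, 1, 0, 0), false),
  (2629740, (1, 0, 0, 0, 5), true),
  (2630668, (1, 0, 0, 0, 4), false),
  (2634760, (1, 1, 1, 0, 2), true),
  (2688140, (2, 2, 0, 0, 0), true),
  (2693507, (0, 2, 0, 0, 3), false),
  (3155364, (3, 0, 0, 0, 0), false),
  (3158596, (3, 1, 1, 0, 0), true),
  (3159428, (3, 2, 1, 0, 0), true),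
  (3164676, (3, 0, 1, 0, 0), false),
  (3184784, (3, 1, 0, 0, 0), false),
  (3186829, (3, 1, 1, 0, 0), false),
  (3190920, (3, 0, 1, 0, 0), true),
  (3195020, (3, 2, 0, 0, 0), true),
  (3215570, (3, 2, 1, 0, 0), false),
  (3215625, (3, 2, 0, 0, 0), false),
  (3215660, (3, 1, 0, 0, 0), true),
  (3215750, (3, 0, 0, 0, 0), true),
  (3342770, (2, 2, 1, 0, 2), true),
  (3354633, (1, 1, 1, 0, 5), true),
  (3355724, (1, 1, 0, 0, 3), false),
  (3360780, (1, 0, 1, 0, 4), false),
  (3408272, (2, 1, 1, 0, 5), true),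
  (3408300, (2, 0, 1, 0, 4), false),
  (3409484, (2, 1, 0, 0, 3), false),
  (3426317, (1, 2, 1, 0, 2), true),
  (3441936, (2, 2, 0, 0, 2), true),
  (3449217, (0, 0, 1, 0, 4), false),
  (3453121, (0, 1, 1, 0, 5), true),
  (3457410, (0, 1, 0, 0, 3), false),
  (3581122, (0, 2, 0, 0, 2), true),
  (3584006, (1, 0, 0, 0, 3), false),
  (3584073, (1, 1, 1, 0, 4), false),
  (3590220, (1, 0, 1, 0, 5), true),
  (3676233, (1, 2, 0, 0, 2), true),
  (3678594, (0, 0, 1, 0, 5), true),
  (3682498, (0, 1, 1, 0, 4), false),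
  (3682593, (0, 0, 0, 0, 3), false),
  (3735944, (2, 0, 0, 0, 3), false),
  (3736976, (2, 1, 1, 0, 4), false),
  (3737004, (2, 0, 1, 0, 5), true),
  (3744257, (0, 2, 1, 0, 2), true),
  (6295986, (3, 2, 1, 0, 7), true),
  (6300808, (3, 0, 1, 0, 5), false),
  (6365769, (3, 2, 1, 0, 6), false),
  (6366352, (3, 2, 1, 0, 1), false),
  (6369417, (3, 0, 0, 0, 4), true),
  (6373645, (3, 0, 0, 0, 6), true),
  (6375856, (3, 0, 0, 0, 1), true),
  (6375948, (3, 2, 1, 0, 7), false),
  (6423986, (2, 2, 0, 0, 7), true),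
  (6432129, (0, 1, 1, 0, 4), true),
  (6436129, (0, 0, 1, 0, 1), false),
  (6441250, (0, 1, 0, 0, 5), false),
  (6557264, (2, 1, 0, 0, 6), true),
  (6567425, (0, 1, 1, 0, 1), true),
  (6570084, (1, 0, 0, 0, 7), true),
  (6570114, (0, 0, 1, 0, 7), true),
  (6587908, (2, 1, 1, 0, 5), false),
  (6589700, (2, 2, 0, 0, 1), false),
  (6590476, (1, 2, 1, 0, 4), true),
  (6594573, (1, 0, 0, 0, 6), false),
  (6688036, (2, 1, 0, 0, 4), true),
  (6703112, (1, 0, 0, 0, 7), false),
  (6720786, (2, 1, 0, 0, 1), true),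
  (6720904, (2, 2, 0, 0, 7), false),
  (6721641, (1, 2, 0, 0, 5), false),
  (6730241, (0, 0, 1, 0, 7), false),
  (6819117, (2, 2, 0, 0, 6), false),
  (6825537, (0, 0, 1, 0, 6), false),
  (6829074, (1, 2, 1, 0, 6), true),
  (6885385, (1, 0, 0, 0, 1), false),
  (6889889, (0, 1, 1, 0, 6), true),
  (6897672, (1, 2, 1, 0, 1), true),
  (8393222, (3, 0, 0, 0, 5), false),
  (8407181, (3, 1, 1, 0, 7), true),
  (8425872, (3, 0, 1, 0, 4), true),
  (8425993, (3, 1, 1, 0, 1), false),
  (8427826, (3, 0, 1, 0, 6), true),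
  (8431020, (3, 1, 1, 0, 7), false),
  (8434896, (3, 1, 1, 0, 6), false),
  (8440233, (3, 0, 1, 0, 1), true),
  (8532482, (0, 0, 1, 0, 4), true),
  (8536481, (0, 0, 0, 0, 5), false),
  (8536642, (0, 1, 1, 0, 1), false),
  (8538189, (1, 2, 0, 0, 7), true),
  (8588580, (2, 0, 0, 0, 7), true),
  (8589601, (0, 1, 1, 0, 7), true),
  (8595010, (0, 0, 1, 0, 1), true),
  (8598633, (1, 1, 0, 0, 6), true),
  (8684109, (2, 2, 1, 0, 6), true),
  (8697346, (0, 1, 1, 0, 6), false),
  (8700018, (1, 2, 0, 0, 6), false),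
  (8782246, (2, 0, 0, 0, 7), false),
  (8798308, (1, 1, 0, 0, 4), true),
  (8814736, (2, 0, 0, 0, 1), false),
  (8814886, (2, 2, 1, 0, 1), true),
  (8833218, (0, 0, 1, 0, 6), true),
  (8913036, (2, 2, 1, 0, 4), true),
  (8913106, (2, 0, 0, 0, 6), false),
  (8919140, (1, 2, 0, 0, 1), false),
  (8922180, (1, 1, 1, 0, 5), false),
  (8981648, (2, 2, 0, 0, 5), false),
  (8984685, (1, 1, 0, 0, 1), true),
  (8988034, (0, 1, 1, 0, 7), false),
  (8990822, (1, 2, 0, 0, 7), false),
  (9474320, (3, 2, 0, 0, 7), true),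
  (9476676, (3, 1, 1, 0, 5), false),
  (9509284, (3, 2, 0, 0, 1), false),
  (9511309, (3, 2, 0, 0, 7), false),
  (9511344, (3, 1, 0, 0, 1), true),
  (9515204, (3, 1, 0, 0, 4), true),
  (9516562, (3, 1, 0, 0, 6), true),
  (9521352, (3, 2, 0, 0, 6), false),
  (9568528, (2, 2, 1, 0, 7), true),
  (9574412, (1, 1, 1, 0, 4), true),
  (9576518, (1, 1, 0, 0, 5), false),
  (9584646, (1, 0, 1, 0, 1), false),
  (9633933, (2, 0, 1, 0, 5), false),
  (9637010, (2, 2, 1, 0, 1), false),
  (9638273, (0, 2, 1, 0, 4), true),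
  (9652737, (0, 0, 0, 0, 6), false),
  (9703617, (0, 0, 0, 0, 1), false),
  (9713217, (0, 2, 1, 0, 1), true),
  (9717776, (1, 1, 1, 0, 6), true),
  (9833606, (2, 0, 0, 0, 4), true),
  (9839169, (0, 0, 0, 0, 7), false),
  (9866758, (2, 2, 1, 0, 6), false),
  (9869320, (1, 0, 1, 0, 6), false),
  (9879809, (0, 2, 1, 0, 6), true),
  (9964818, (2, 0, 0, 0, 1), true),
  (9965132, (2, 2, 1, 0, 7), false),
  (9965763, (0, 2, 0, 0, 5), false),
  (9973773, (1, 0, 1, 0, 7), false),
  (10030504, (2, 0, 0, 0, 6), true),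
  (10040388, (1, 0, 1, 0, 7), true),
  (10040451, (0, 0, 0, 0, 7), true),
  (10043405, (1, 1, 1, 0, 1), true),
  (12591686, (3, 0, 1, 0, 2), false),
  (12596424, (3, 0, 0, 0, 2), false),
  (12599590, (3, 2, 1, 0, 3), true),
  (12599592, (3, 1, 1, 0, 3), true),
  (12629286, (3, 2, 0, 0, 3), true),
  (12629574, (3, 0, 1, 0, 3), true),
  (12632649, (3, 1, 0, 0, 2), false),
  (12634408, (3, 1, 1, 0, 2), false),
  (12662064, (3, 2, 0, 0, 2), false),
  (12662344, (3, 0, 0, 0, 3), true),
  (12665254, (3, 2, 1, 0, 2), false),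
  (12665416, (3, 1, 0, 0, 3), true),
  (12787792, (1, 2, 0, 0, 3), true),
  (12787821, (1, 2, 0, 0, 2), false),
  (12788816, (1, 0, 1, 0, 3), true),
  (12788850, (1, 0, 0, 0, 3), true),
  (12795922, (1, 0, 0, 0, 2), false),
  (12798210, (0, 1, 1, 0, 2), false),
  (12845357, (2, 0, 0, 0, 2), false),
  (12846281, (2, 2, 0, 0, 3), true),
  (12846601, (2, 0, 1, 0, 3), true),
  (12848338, (2, 2, 0, 0, 2), false),
  (12848653, (2, 0, 0, 0, 3), true),
  (12851617, (0, 0, 1, 0, 2), false),
  (12884227, (0, 0, 0, 0, 3), true),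
  (12884386, (0, 0, 1, 0, 3), true),
  (12886098, (1, 1, 1, 0, 2), false),
  (12891393, (0, 0, 0, 0, 2), false),
  (12896674, (0, 2, 0, 0, 3), true),
  (12896771, (0, 2, 0, 0, 2), false),
  (13009417, (2, 0, 1, 0, 2), false),
  (13015152, (1, 2, 1, 0, 2), false),
  (13017104, (1, 2, 1, 0, 3), true),
  (13017106, (1, 1, 1, 0, 3), true),
  (13018184, (1, 1, 0, 0, 2), false),
  (13018226, (1, 1, 0, 0, 3), true),
  (13108429, (2, 1, 1, 0, 2), false),
  (13113603, (0, 1, 0, 0, 3), true),
  (13113922, (0, 1, 0, 0, 2), false),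
  (13116835, (0, 2, 1, 0, 2), false),
  (13125889, (0, 1, 1, 0, 3), true),
  (13126049, (0, 2, 1, 0, 3), true),
  (13172937, (2, 2, 1, 0, 3), true),
  (13172941, (2, 1, 1, 0, 3), true),
  (13174278, (2, 1, 0, 0, 2), false),
  (13176073, (2, 2, 1, 0, 2), false),
  (13176333, (2, 1, 0, 0, 3), true),
  (13181968, (1, 0, 1, 0, 2), false),
  (13638152, (3, 2, 1, 0, 6), true),
  (13639826, (3, 0, 0, 0, 1), false),
  (13639881, (3, 2, 1, 0, 1), true),
  (13644041, (3, 0, 0, 0, 7), false),
  (13650060, (3, 2, 1, 0, 4), true),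
  (13650224, (3, 0, 0, 0, 6), false),
  (13706436, (3, 0, 0, 0, 7), true),
  (13713554, (3, 2, 0, 0, 5), false),
  (13763145, (2, 0, 0, 0, 5), false),
  (13763986, (2, 0, 1, 0, 4), true),
  (13764166, (2, 1, 1, 0, 1), false),
  (13771969, (0, 2, 1, 0, 7), true),
  (13829388, (2, 1, 1, 0, 7), false),
  (13837827, (0, 0, 0, 0, 1), true),
  (13844867, (0, 2, 1, 0, 7), false),
  (13846628, (1, 2, 1, 0, 5), false),
  (13894962, (2, 1, 1, 0, 6), false),
  (13900355, (0, 2, 1, 0, 6), false),
  (13902918, (1, 2, 0, 0, 6), true),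
  (13927632, (2, 0, 1, 0, 6), true),
  (13942856, (1, 2, 0, 0, 1), true),
  (13944900, (1, 1, 0, 0, 1), false),
  (14029379, (0, 0, 0, 0, 4), true),
  (14041161, (1, 1, 0, 0, 7), false),
  (14155912, (2, 1, 1, 0, 7), true),
  (14157062, (2, 0, 1, 0, 1), true),
  (14159976, (1, 1, 0, 0, 7), true),
  (14164259, (0, 0, 0, 0, 6), true),
  (14225665, (0, 0, 1, 0, 5), false),
  (14225923, (0, 2, 1, 0, 1), false),
  (14227536, (1, 1, 0, 0, 6), false),
  (14233668, (1, 2, 0, 0, 4), true),
  (16818564, (3, 2, 0, 0, 4), true),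
  (16818598, (3, 1, 0, 0, 6), false),
  (16819789, (3, 2, 0, 0, 6), true),
  (16822482, (3, 1, 0, 0, 7), false),
  (16828617, (3, 2, 0, 0, 1), true),
  (16828676, (3, 1, 0, 0, 1), false),
  (16849033, (3, 1, 0, 0, 7), true),
  (16856324, (3, 2, 1, 0, 5), false),
  (16908556, (2, 1, 1, 0, 4), true),
  (16908584, (2, 0, 1, 0, 1), false),
  (16909512, (2, 1, 0, 0, 5), false),
  (16914441, (1, 2, 1, 0, 7), true),
  (16974249, (2, 1, 1, 0, 6), true),
  (16982146, (0, 1, 0, 0, 1), false),
  (16987714, (0, 2, 0, 0, 1), true),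
  (17043474, (1, 0, 1, 0, 5), false),
  (17043565, (1, 2, 1, 0, 1), false),
  (17048994, (0, 1, 0, 0, 6), false),
  (17051778, (0, 2, 0, 0, 4), true),
  (17072530, (2, 0, 1, 0, 7), false),
  (17078381, (1, 0, 0, 0, 1), true),
  (17080451, (0, 2, 1, 0, 5), false),
  (17085548, (1, 2, 1, 0, 7), false),
  (17174632, (1, 0, 0, 0, 4), true),
  (17183938, (0, 1, 0, 0, 7), false),
  (17203506, (2, 1, 1, 0, 1), true),
  (17204804, (2, 0, 1, 0, 7), true),
  (17207875, (0, 1, 0, 0, 7), true),
  (17221734, (1, 0, 0, 0, 6), true),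
  (17367302, (2, 0, 1, 0, 6), false),
  (17373474, (0, 2, 0, 0, 6), true),
  (17376360, (1, 2, 1, 0, 6), false),
  (18878669, (3, 0, 1, 0, 1), false),
  (18878892, (3, 1, 1, 0, 4), true),
  (18880912, (3, 0, 1, 0, 7), false),
  (18882768, (3, 1, 1, 0, 1), true),
  (18883846, (3, 1, 1, 0, 6), true),
  (18891177, (3, 0, 1, 0, 6), false),
  (18911533, (3, 1, 0, 0, 5), false),
  (18915844, (3, 0, 1, 0, 7), true),
  (19014146, (0, 2, 0, 0, 7), true),
  (19017805, (1, 0, 1, 0, 4), true),
  (19018768, (1, 0, 0, 0, 5), false),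
  (19018824, (1, 1, 1, 0, 1), false),
  (19072520, (2, 2, 0, 0, 6), true),
  (19084547, (0, 2, 0, 0, 6), false),
  (19087437, (1, 1, 1, 0, 6), false),
  (19140004, (2, 2, 1, 0, 5), false),
  (19142732, (1, 1, 1, 0, 7), false),
  (19146243, (0, 1, 0, 0, 1), true),
  (19149091, (0, 2, 0, 0, 7), false),
  (19172486, (2, 1, 0, 0, 7), true),
  (19173382, (1, 1, 1, 0, 7), true),
  (19175496, (1, 0, 1, 0, 1), true),
  (19185859, (0, 1, 0, 0, 6), true),
  (19268912, (2, 1, 0, 0, 7), false),
  (19281027, (0, 1, 0, 0, 4), true),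
  (19301641, (2, 1, 0, 0, 6), false),
  (19301764, (2, 2, 0, 0, 4), true),
  (19306626, (0, 1, 1, 0, 5), false),
  (19309699, (0, 2, 0, 0, 1), false),
  (19399974, (2, 2, 0, 0, 1), true),
  (19400100, (2, 1, 0, 0, 1), false),
  (19406921, (1, 0, 1, 0, 6), true)]

end Cfsg.Agent.Lib.Helper9.M12Aut
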