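import Cfsg.Agent.Lib.Helper9.M12FusSlices
import Cfsg.Agent.Lib.Helper9.M12Aut
import Cfsg.Agent.Lib.Helper9.FusSimple
import Cfsg.Agent.Lib.Helper21.GolayM12

/-!
The `2`-fusion system of the Mathieu group `M12` is simple (helper9).
-/

set_option autoImplicit false

namespace Cfsg.Agent.Lib.Helper9.M12Aut

open Cfsg Cfsg.Agent.Lib.Helper21 Cfsg.Agent.Lib.Helper9.M24Coset Cfsg.Agent.Lib.Helper29
  Cfsg.Agent.Lib.Helper9.FusSimple Cfsg.Agent.Lib.Helper9.M11Aut

/-! ### elements of `M12` from words -/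

theorem img_eq_of_eq2 (L L' : TW) (hv : ∀ e ∈ L, ValidTab e.1) (hv' : ∀ e ∈ L', ValidTab e.1)
    (h : prodT L = prodT L') (i : ℕ) (hi : i < 24) : img L i = img L' i := by
  have h1 := prodT_ptN L hv i hi
  have h2 := prodT_ptN L' hv' i hi
  rw [h] at h1
  exact ptN_injOn h1.2 h2.2 (h1.1.symm.trans h2.1)

/-- the element of `M12` of a well-formed word -/
def mk2 (L : TW) (h : WOK2 L) : ↥Spor.M12 := ⟨prodT L, h.mem⟩

theorem mk2_eq_of_key {L L' : TW} (h : WOK2 L) (h' : WOK2 L')
    (e : key5 (img L) = key5 (img L')) : mk2 L h = mk2 L' h' :=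
  Subtype.ext (eq_of_key5 L L' h h' e)

theorem key_of_mk2_eq {L L' : TW} (h : WOK2 L) (h' : WOK2 L') (e : mk2 L h = mk2 L' h') :
    key5 (img L) = key5 (img L') := by
  have e' : prodT L = prodT L' := congrArg Subtype.val e
  unfold key5
  rw [img_eq_of_eq2 L L' h.valid h'.valid e' 0 (by norm_num),
    img_eq_of_eq2 L L' h.valid h'.valid e' 1 (by norm_num),
    img_eq_of_eq2 L L' h.valid h'.valid e' 2 (by norm_num),
    img_eq_of_eq2 L L' h.valid h'.valid e' 3 (by norm_num),
    img_eq_of_eq2 L L' h.valid h'.valid e' 4 (by norm_num)]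

theorem mk2_append {L L' : TW} (h : WOK2 L) (h' : WOK2 L') :
    mk2 L h * mk2 L' h' = mk2 (L ++ L') (h.append h') := Subtype.ext (prodT_append L L').symm

theorem mk2_invW {L : TW} (h : WOK2 L) : (mk2 L h)⁻¹ = mk2 (invW L) h.invW :=
  Subtype.ext (prodT_invW L).symm

theorem mk2_conj {L W : TW} (h : WOK2 L) (hW : WOK2 W) :
    mk2 W hW * mk2 L h * (mk2 W hW)⁻¹ =
      mk2 (W ++ L ++ invW W) ((hW.append h).append hW.invW) := by
  rw [mk2_invW, mk2_append, mk2_append]

theorem wok2_pos1 {p : ℕ × ℕ} (h : TabOK12 p) : WOK2 (pos [p]) := wok2_single h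

theorem wok2_pos2 {p q : ℕ × ℕ} (hp : TabOK12 p) (hq : TabOK12 q) : WOK2 (pos [p, q]) := by
  have : pos [p, q] = pos [p] ++ pos [q] := rfl
  rw [this]
  exact (wok2_pos1 hp).append (wok2_pos1 hq)

/-! ### the Sylow `2`-subgroup -/

theorem tabOK_S0L {p : ℕ × ℕ} (hp : p ∈ S0L) : TabOK12 p := S0_ok12.1 p hp

/-- the element of a table of the Sylow subgroup -/
def s12 (p : ℕ × ℕ) (hp : p ∈ S0L) : ↥Spor.M12 := mk2 (pos [p]) (wok2_pos1 (tabOK_S0L hp))

theorem mem_S0K_iff (k : ℕ) : k ∈ S0K ↔ ∃ p ∈ S0L, key5 (img (pos [p])) = k := by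
  rw [S0_ok12.2.2.2.1, List.mem_map]

theorem s12_mul (p q : ℕ × ℕ) (hp : p ∈ S0L) (hq : q ∈ S0L) :
    ∃ r, ∃ hr : r ∈ S0L, s12 p hp * s12 q hq = s12 r hr := by
  have h := S0_ok12.2.2.2.2.2.2 p hp q hq
  rw [List.contains_iff_mem, mem_S0K_iff] at h
  obtain ⟨r, hr, e⟩ := h
  refine ⟨r, hr, ?_⟩
  unfold s12
  rw [mk2_append]
  exact mk2_eq_of_key _ _ e.symm

theorem s12_idT : s12 idT S0_ok12.2.1 = 1 := by
  apply Subtype.ext
  show prodT (pos [idT]) = 1
  apply eq_one_of_idOn2 _ (wok2_pos1 idT_ok12).valid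
  decide +kernel

/-- the submonoid of the listed elements -/
def mon12 : Submonoid ↥Spor.M12 where
  carrier := {g | ∃ p, ∃ hp : p ∈ S0L, g = s12 p hp}
  mul_mem' := by
    rintro g h ⟨p, hp, rfl⟩ ⟨q, hq, rfl⟩
    obtain ⟨r, hr, e⟩ := s12_mul p q hp hq
    exact ⟨r, hr, e⟩
  one_mem' := ⟨idT, S0_ok12.2.1, s12_idT.symm⟩

/-- a Sylow `2`-subgroup of `M12` -/
def syl12 : Subgroup ↥Spor.M12 :=
  { mon12 with
    inv_mem' := by
      intro g hg
      have : g⁻¹ = g ^ (orderOf g - 1) := by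
        apply inv_eq_of_mul_eq_one_right
        rw [← pow_succ', Nat.sub_add_cancel (orderOf_pos g), pow_orderOf_eq_one]
      rw [this]
      exact mon12.pow_mem hg _ }

theorem mem_syl12_iff {g : ↥Spor.M12} : g ∈ syl12 ↔ ∃ p, ∃ hp : p ∈ S0L, g = s12 p hp :=
  Iff.rfl

theorem s12_mem (p : ℕ × ℕ) (hp : p ∈ S0L) : s12 p hp ∈ syl12 := ⟨p, hp, rfl⟩

theorem s12_inj {p q : ℕ × ℕ} (hp : p ∈ S0L) (hq : q ∈ S0L) (h : s12 p hp = s12 q hq) :
    p = q := by
  have h1 := key_of_mk2_eq _ _ h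
  have hnd := S0_ok12.2.2.2.2.1
  rw [S0_ok12.2.2.2.1] at hnd
  exact List.inj_on_of_nodup_map hnd hp hq h1

theorem card_syl12 : Nat.card syl12 = 64 := by
  classical
  have hbij : Function.Bijective (fun p : {p // p ∈ S0L} =>
      (⟨s12 p.1 p.2, s12_mem p.1 p.2⟩ : syl12)) := by
    constructor
    · intro p q h
      have h1 := congrArg Subtype.val h
      exact Subtype.ext (s12_inj p.2 q.2 h1)
    · intro g
      obtain ⟨p, hp, e⟩ := mem_syl12_iff.1 g.2
      exact ⟨⟨p, hp⟩, Subtype.ext e.symm⟩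
  have hnd : S0L.Nodup := by
    have hnd := S0_ok12.2.2.2.2.1
    rw [S0_ok12.2.2.2.1] at hnd
    exact List.Nodup.of_map _ hnd
  rw [← Nat.card_eq_of_bijective _ hbij, Nat.card_eq_fintype_card,
    Fintype.card_of_subtype S0L.toFinset (by simp), List.toFinset_card_of_nodup hnd,
    S0_ok12.2.2.2.2.2.1]

theorem key_mem_of_mem {L : TW} (h : WOK2 L) (hm : mk2 L h ∈ syl12) :
    S0K.contains (key5 (img L)) = true := by
  obtain ⟨p, hp, e⟩ := mem_syl12_iff.1 hm
  rw [List.contains_iff_mem, mem_S0K_iff]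
  exact ⟨p, hp, (key_of_mk2_eq _ _ e).symm⟩

theorem mem_of_key_mem {L : TW} (h : WOK2 L) (hm : S0K.contains (key5 (img L)) = true) :
    mk2 L h ∈ syl12 := by
  rw [List.contains_iff_mem, mem_S0K_iff] at hm
  obtain ⟨p, hp, e⟩ := hm
  exact ⟨p, hp, mk2_eq_of_key _ _ e.symm⟩

/-! ### the Sylow subgroup is self-normalizing -/

/-- the central involution -/
def cel : ↥Spor.M12 := s12 cT S0_ok12.2.2.1

theorem cel_ne_one : cel ≠ 1 := by
  intro h
  have h1 : cel = mk2 (pos [idT]) (wok2_pos1 idT_ok12) := by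
    rw [h]
    exact s12_idT.symm
  exact center_ok12.2.2 (key_of_mk2_eq (wok2_pos1 (tabOK_S0L S0_ok12.2.2.1)) (wok2_pos1 idT_ok12) h1)

theorem cel_central (s : ↥Spor.M12) (hs : s ∈ syl12) : cel * s = s * cel := by
  obtain ⟨p, hp, rfl⟩ := mem_syl12_iff.1 hs
  unfold cel s12
  rw [mk2_append, mk2_append]
  exact mk2_eq_of_key _ _ (center_ok12.1 p hp)

theorem eq_cel_of_central (y : ↥Spor.M12) (hy : y ∈ syl12) (hy1 : y ≠ 1)
    (hc : ∀ s ∈ syl12, y * s = s * y) : y = cel := by
  obtain ⟨p, hp, rfl⟩ := mem_syl12_iff.1 hy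
  have h1 : ∀ q ∈ S0L, key5 (img (pos [p, q])) = key5 (img (pos [q, p])) := by
    intro q hq
    have := hc (s12 q hq) (s12_mem q hq)
    unfold s12 at this
    rw [mk2_append, mk2_append] at this
    exact key_of_mk2_eq _ _ this
  rcases center_ok12.2.1 p hp h1 with h | h
  · subst h
    exact absurd s12_idT hy1
  · subst h
    rfl

theorem selfNorm_syl12 : SelfNorm syl12 := by
  intro g hg hg'
  obtain ⟨z, hz, a, ha, b, hb, c, hc, d, hd, e⟩ := enum_M12 g.1 g.2
  have hW : WOK2 (pos [z, a, b, c, d]) := wok2_mem5 hz ha hb hc hd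
  have hgW : g = mk2 (pos [z, a, b, c, d]) hW := Subtype.ext e
  have hzm : cel ∈ syl12 := s12_mem _ _
  have hy : g * cel * g⁻¹ = cel := by
    apply eq_cel_of_central _ (hg _ hzm)
    · intro h
      apply cel_ne_one
      have : cel = g⁻¹ * (g * cel * g⁻¹) * g := by group
      rw [this, h]
      group
    · intro s hs
      have hs' := hg' s hs
      have h1 := cel_central _ hs'
      have e1 : g * cel * g⁻¹ * s = g * (cel * (g⁻¹ * s * g)) * g⁻¹ := by group
      have e2 : s * (g * cel * g⁻¹) = g * ((g⁻¹ * s * g) * cel) * g⁻¹ := by group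
      rw [e1, e2, h1]
  have hcz : g * cel = cel * g := by
    have : g * cel = (g * cel * g⁻¹) * g := by group
    rw [this, hy]
  have hwc : WOK2 (pos [cT]) := wok2_pos1 (tabOK_S0L S0_ok12.2.2.1)
  have hcomm : comm5 z a b c d = true := by
    rw [hgW] at hcz
    unfold cel s12 at hcz
    rw [mk2_append, mk2_append] at hcz
    have hp : prodT (pos [z, a, b, c, d] ++ pos [cT]) = prodT (pos [cT] ++ pos [z, a, b, c, d]) :=
      congrArg Subtype.val hcz
    have key : ∀ i < 24, ap5 z a b c d (ap cT i) = ap cT (ap5 z a b c d i) := by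
      intro i hi
      have := img_eq_of_eq2 _ _ (hW.append hwc).valid (hwc.append hW).valid hp i hi
      rw [img_append, img_append, img_pos5] at this
      exact this
    unfold comm5
    rw [key 0 (by norm_num), key 1 (by norm_num), key 2 (by norm_num), key 3 (by norm_num),
      key 4 (by norm_num)]
    simp [Nat.beq_refl]
  have hall := sliceN_all z hz
  unfold chkSliceN at hall
  rw [List.all_eq_true] at hall
  have h1 := hall a ha
  rw [List.all_eq_true] at h1
  have h2 := h1 b hb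
  rw [List.all_eq_true] at h2
  have h3 := h2 c hc
  rw [List.all_eq_true] at h3
  have h4 := h3 d hd
  unfold chkN12 at h4
  rw [hcomm, ← img_pos5] at h4
  simp only [Bool.not_true, Bool.false_or, Bool.or_eq_true, List.any_eq_true,
    Bool.not_eq_eq_eq_not] at h4
  rcases h4 with h4 | ⟨s, hs, h4⟩
  · rw [hgW]
    exact mem_of_key_mem hW h4
  · exfalso
    have hsm := hg _ (s12_mem s hs)
    rw [hgW] at hsm
    unfold s12 at hsm
    rw [mk2_conj] at hsm
    have := key_mem_of_mem _ hsm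
    rw [this] at h4
    exact absurd h4 (by decide)

/-! ### strongly closed subgroups -/

/-- soundness of derivations -/
theorem runDer_sound (T : Subgroup ↥Spor.M12)
    (hcl : ∀ x ∈ T, ∀ g : ↥Spor.M12, g * x * g⁻¹ ∈ syl12 → g * x * g⁻¹ ∈ T) :
    ∀ (steps : List Step) (D D' : List (ℕ × ℕ)), runDer D steps = some D' →
      (∀ p ∈ D, ∃ hp : p ∈ S0L, s12 p hp ∈ T) → ∀ p ∈ D', ∃ hp : p ∈ S0L, s12 p hp ∈ T := by
  intro steps
  induction steps with
  | nil =>
    intro D D' h hD
    unfold runDer at h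
    cases h
    exact hD
  | cons st sts ih =>
    intro D D' h hD
    unfold runDer at h
    split at h
    · rename_i hc
      rw [Bool.and_eq_true] at hc
      obtain ⟨hr, hk⟩ := hc
      have hr' : st.1 ∈ S0L := List.contains_iff_mem.1 hr
      have hk' := Nat.eq_of_beq_eq_true hk
      apply ih _ _ h
      intro p hp
      rw [List.mem_append, List.mem_singleton] at hp
      rcases hp with hp | rfl
      · exact hD p hp
      · refine ⟨hr', ?_⟩
        have hget : ∀ i, ∃ hq : D.getD i idT ∈ S0L, s12 (D.getD i idT) hq ∈ T := by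
          intro i
          rw [List.getD_eq_getElem?_getD]
          cases hi : D[i]? with
          | none =>
            refine ⟨S0_ok12.2.1, ?_⟩
            show s12 idT _ ∈ T
            rw [s12_idT]
            exact T.one_mem
          | some q => exact hD q (List.mem_of_getElem? hi)
        unfold stepKey at hk'
        split at hk'
        · obtain ⟨hq, hqT⟩ := hget st.2.2.1
          have h2 : mk2 (elt5 st.2.2.2.2) (wok2_elt5 _) * s12 _ hq *
              (mk2 (elt5 st.2.2.2.2) (wok2_elt5 _))⁻¹ = s12 st.1 hr' := by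
            unfold s12
            rw [mk2_conj]
            exact mk2_eq_of_key _ _ hk'
          have h3 := hcl _ hqT (mk2 (elt5 st.2.2.2.2) (wok2_elt5 _))
          rw [h2] at h3
          exact h3 (s12_mem _ _)
        · obtain ⟨hq1, hq1T⟩ := hget st.2.2.1
          obtain ⟨hq2, hq2T⟩ := hget st.2.2.2.1
          have h2 : s12 _ hq1 * s12 _ hq2 = s12 st.1 hr' := by
            unfold s12
            rw [mk2_append]
            exact mk2_eq_of_key _ _ hk'
          rw [← h2]
          exact T.mul_mem hq1T hq2T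
    · cases h

theorem noSC_syl12 : NoSC syl12 := by
  intro T hT hne hcl
  obtain ⟨⟨x, hx⟩, hx1⟩ := (Subgroup.ne_bot_iff_exists_ne_one).1 hne
  have hx1' : x ≠ 1 := fun h => hx1 (Subtype.ext h)
  obtain ⟨p, hp, rfl⟩ := mem_syl12_iff.1 (hT hx)
  have hsound := runDer_sound T hcl
  have hcT : cel ∈ T := by
    rcases derA_ok p hp with rfl | ⟨e, _, rfl, hok⟩
    · exact absurd s12_idT hx1'
    · unfold derOK at hok
      split at hok
      · rename_i D hD
        obtain ⟨_, hcT⟩ := hsound _ _ _ hD (by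
          intro q hq
          rw [List.mem_singleton] at hq
          subst hq
          exact ⟨hp, hx⟩) cT (List.contains_iff_mem.1 hok)
        exact hcT
      · exact absurd hok (by decide)
  apply le_antisymm hT
  intro s hs
  obtain ⟨q, hq, rfl⟩ := mem_syl12_iff.1 hs
  have hB := derB_ok
  unfold derAll at hB
  split at hB
  · rename_i D hD
    rw [List.all_eq_true] at hB
    have := hB q hq
    obtain ⟨_, h⟩ := hsound _ _ _ hD (by
      intro r hr
      rw [List.mem_singleton] at hr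
      subst hr
      exact ⟨S0_ok12.2.2.1, hcT⟩) q (List.contains_iff_mem.1 this)
    exact h
  · exact absurd hB (by decide)

/-! ### the fusion system -/

theorem isPGroup_syl12 : IsPGroup 2 syl12 := by
  have : Fact (Nat.Prime 2) := ⟨Nat.prime_two⟩
  apply IsPGroup.of_card (n := 6)
  rw [card_syl12]
  norm_num

/-- every Sylow `2`-subgroup is a conjugate of the listed one -/
theorem sylow_eq_cj12 (S : Sylow 2 ↥Spor.M12) : ∃ k, cj k syl12 = (S : Subgroup ↥Spor.M12) := by
  have : Fact (Nat.Prime 2) := ⟨Nat.prime_two⟩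
  obtain ⟨k, hk⟩ := exists_cj_le_sylow S isPGroup_syl12
  refine ⟨k, ?_⟩
  apply Subgroup.eq_of_le_of_card_ge hk
  rw [card_cj, card_syl12]
  obtain ⟨n, hn⟩ := IsPGroup.iff_card.1 S.isPGroup'
  have hdvd : Nat.card (S : Subgroup ↥Spor.M12) ∣ 95040 := by
    rw [← card_M12]
    exact Subgroup.card_subgroup_dvd_card _
  rw [hn] at hdvd ⊢
  have hn6 : n ≤ 6 := by
    by_contra hlt
    push Not at hlt
    have h128 : 2 ^ 7 ∣ 2 ^ n := pow_dvd_pow 2 hlt
    have := h128.trans hdvd
    norm_num at this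
  calc 2 ^ n ≤ 2 ^ 6 := Nat.pow_le_pow_right (by norm_num) hn6
    _ = 64 := by norm_num

/-- The `2`-fusion system of `M12` is simple. -/
theorem fusion_simple12 (S : Sylow 2 ↥Spor.M12) :
    (groupFusionSystem (S : Subgroup ↥Spor.M12)).IsSimple 2 := by
  obtain ⟨k, hk⟩ := sylow_eq_cj12 S
  apply isSimple_of_selfNorm S
  · intro hb
    have h1 : Nat.card (S : Subgroup ↥Spor.M12) = 64 := by
      rw [← hk, card_cj, card_syl12]
    rw [hb, Subgroup.card_bot] at h1
    norm_num at h1
  · rw [← hk]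
    exact selfNorm_syl12.conj k
  · rw [← hk]
    exact noSC_syl12.conj k

end Cfsg.Agent.Lib.Helper9.M12Aut
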