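import Cfsg.Agent.Lib.Helper9.M12FusData

/-!
Kernel-checked certificates for the `2`-fusion system of the Mathieu group `M12` (helper9).
-/

set_option autoImplicit false
set_option maxRecDepth 100000

namespace Cfsg.Agent.Lib.Helper9.M12Aut

open Cfsg Cfsg.Agent.Lib.Helper21 Cfsg.Agent.Lib.Helper9.M24Coset Cfsg.Agent.Lib.Helper9.M11Aut

/-- the key of the result of a step -/
def stepKey (D : List (ℕ × ℕ)) (st : Step) : ℕ :=
  if st.2.1 then
    key5 (img (elt5 st.2.2.2.2 ++ pos [D.getD st.2.2.1 idT] ++ invW (elt5 st.2.2.2.2)))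
  else key5 (img (pos [D.getD st.2.2.1 idT, D.getD st.2.2.2.1 idT]))

/-- running a derivation -/
def runDer : List (ℕ × ℕ) → List Step → Option (List (ℕ × ℕ))
  | D, [] => some D
  | D, st :: sts =>
    if S0L.contains st.1 && Nat.beq (stepKey D st) (key5 (img (pos [st.1]))) then
      runDer (D ++ [st.1]) sts
    else none

/-- the derivation reaches the target -/
def derOK (start : ℕ × ℕ) (steps : List Step) (target : ℕ × ℕ) : Bool :=
  match runDer [start] steps with
  | some D => D.contains target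
  | none => false

/-- the derivation reaches the whole subgroup -/
def derAll (start : ℕ × ℕ) (steps : List Step) : Bool :=
  match runDer [start] steps with
  | some D => S0L.all fun s => D.contains s
  | none => false

/-- commutation with the central involution, tested on five positions -/
def comm5 (z a b c d : ℕ × ℕ) : Bool :=
  Nat.beq (ap5 z a b c d (ap cT 0)) (ap cT (ap5 z a b c d 0)) &&
    (Nat.beq (ap5 z a b c d (ap cT 1)) (ap cT (ap5 z a b c d 1)) &&
      (Nat.beq (ap5 z a b c d (ap cT 2)) (ap cT (ap5 z a b c d 2)) &&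
        (Nat.beq (ap5 z a b c d (ap cT 3)) (ap cT (ap5 z a b c d 3)) &&
          Nat.beq (ap5 z a b c d (ap cT 4)) (ap cT (ap5 z a b c d 4)))))

/-- the normalizer check -/
def chkN12 (z a b c d : ℕ × ℕ) : Bool :=
  !(comm5 z a b c d) || (S0K.contains (key5 (ap5 z a b c d)) ||
    S0L.any fun s => !(S0K.contains (key5 (img (pos [z, a, b, c, d] ++ pos [s] ++
      invW (pos [z, a, b, c, d]))))))

/-- the normalizer check of the elements with a given first factor -/
def chkSliceN (z : ℕ × ℕ) : Bool :=
  U1.all fun a => U2.all fun b => U3.all fun c => U4.all fun d => chkN12 z a b c d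

theorem S0_ok12 : (∀ p ∈ S0L, TabOK12 p) ∧ idT ∈ S0L ∧ cT ∈ S0L ∧
    S0K = S0L.map (fun p => key5 (img (pos [p]))) ∧ S0K.Nodup ∧ S0L.length = 64 ∧
    ∀ p ∈ S0L, ∀ q ∈ S0L, S0K.contains (key5 (img (pos [p, q]))) = true := by decide +kernel

theorem center_ok12 : (∀ p ∈ S0L, key5 (img (pos [cT, p])) = key5 (img (pos [p, cT]))) ∧
    (∀ p ∈ S0L, (∀ q ∈ S0L, key5 (img (pos [p, q])) = key5 (img (pos [q, p]))) →
      p = idT ∨ p = cT) ∧ key5 (img (pos [cT])) ≠ key5 (img (pos [idT])) := by decide +kernel

theorem derA_ok : ∀ p ∈ S0L, p = idT ∨ ∃ e ∈ derA, e.1 = p ∧ derOK p e.2 cT = true := by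
  decide +kernel

theorem derB_ok : derAll cT derB = true := by decide +kernel

end Cfsg.Agent.Lib.Helper9.M12Aut
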