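import Cfsg.Agent.Lib.Helper9.M12FusCert

/-!
The normalizer of a Sylow `2`-subgroup of `M12`: the enumeration, checked by the kernel (helper9).
-/

set_option autoImplicit false

namespace Cfsg.Agent.Lib.Helper9.M12Aut

theorem sliceN_0 : chkSliceN v0_0 = true := by decide +kernel
theorem sliceN_1 : chkSliceN v0_1 = true := by decide +kernel
theorem sliceN_2 : chkSliceN v0_2 = true := by decide +kernel
theorem sliceN_3 : chkSliceN v0_3 = true := by decide +kernel
theorem sliceN_4 : chkSliceN v0_4 = true := by decide +kernel
theorem sliceN_5 : chkSliceN v0_5 = true := by decide +kernel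
theorem sliceN_6 : chkSliceN v0_6 = true := by decide +kernel
theorem sliceN_7 : chkSliceN v0_7 = true := by decide +kernel
theorem sliceN_8 : chkSliceN v0_8 = true := by decide +kernel
theorem sliceN_9 : chkSliceN v0_9 = true := by decide +kernel
theorem sliceN_10 : chkSliceN v0_10 = true := by decide +kernel
theorem sliceN_11 : chkSliceN v0_11 = true := by decide +kernel

theorem sliceN_all : ∀ z ∈ V0, chkSliceN z = true := by
  intro z hz
  unfold V0 at hz
  simp only [List.mem_cons, List.not_mem_nil, or_false] at hz
  rcases hz with rfl | rfl | rfl | rfl | rfl | rfl | rfl | rfl | rfl | rfl | rfl | rfl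
  · exact sliceN_0
  · exact sliceN_1
  · exact sliceN_2
  · exact sliceN_3
  · exact sliceN_4
  · exact sliceN_5
  · exact sliceN_6
  · exact sliceN_7
  · exact sliceN_8
  · exact sliceN_9
  · exact sliceN_10
  · exact sliceN_11

end Cfsg.Agent.Lib.Helper9.M12Aut
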