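import Cfsg.Agent.Lib.Helper9.M12Cert

/-!
The enumeration of the Mathieu group `M12`, part A (helper9): checked by the kernel.
-/

set_option autoImplicit false

namespace Cfsg.Agent.Lib.Helper9.M12Aut

theorem slice_0 : chkSlice v0_0 = true := by decide +kernel
theorem slice_1 : chkSlice v0_1 = true := by decide +kernel
theorem slice_2 : chkSlice v0_2 = true := by decide +kernel
theorem slice_3 : chkSlice v0_3 = true := by decide +kernel

end Cfsg.Agent.Lib.Helper9.M12Aut
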