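import Mathlib
import Cfsg.Agent.Lib.Helper21.GolayTrans5
import Cfsg.Agent.Lib.Helper21.GolayChain

/-!
Fixed points of elements of `M24` commuting with an element of order `11` (helper9).
-/

set_option autoImplicit false

namespace Cfsg.Agent.Lib.Helper9.M22Fix

open Cfsg Cfsg.Agent.Lib.Helper21

/-- an element of `M24` fixing five distinct points has order dividing `48` -/
theorem pow_48_of_fix5 {g : Equiv.Perm GolayPt} (hg : g ∈ M24) (y : Fin 5 ↪ GolayPt)
    (hy : ∀ i, g (y i) = y i) : g ^ 48 = 1 := by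
  obtain ⟨t, ht, htp⟩ := exists_map_embedding (n := 5) le_rfl y
  have hmem : t⁻¹ * g * t⁻¹⁻¹ ∈ chainSub 5 := by
    refine ⟨M24.mul_mem (M24.mul_mem (M24.inv_mem ht) hg) (M24.inv_mem (M24.inv_mem ht)),
      fun i hi => ?_⟩
    have h1 := htp ⟨i, hi⟩
    have h2 : t (ptN i) = y ⟨i, hi⟩ := h1
    rw [inv_inv, Equiv.Perm.mul_apply, Equiv.Perm.mul_apply, h2, hy, ← h2, perm_inv_apply]
  have h48 : (⟨t⁻¹ * g * t⁻¹⁻¹, hmem⟩ : chainSub 5) ^ 48 = 1 := by
    rw [← card_chainSub_five]; exact pow_card_eq_one'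
  have h48' : (t⁻¹ * g * t⁻¹⁻¹) ^ 48 = 1 := congrArg Subtype.val h48
  rw [conj_pow] at h48'
  have h3 : g ^ 48 = t * (t⁻¹ * g ^ 48 * t⁻¹⁻¹) * t⁻¹ := by group
  rw [h3, h48', mul_one, mul_inv_cancel]

/-- an element of `M24` with at least five fixed points has order dividing `48` -/
theorem pow_48_of_card_fixed {g : Equiv.Perm GolayPt} (hg : g ∈ M24)
    (h5 : 5 ≤ (g.supportᶜ).card) : g ^ 48 = 1 := by
  obtain ⟨f⟩ : Nonempty (Fin 5 ↪ ↥(g.supportᶜ)) := by
    apply Function.Embedding.nonempty_of_card_le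
    rw [Fintype.card_fin, Fintype.card_coe]
    exact h5
  apply pow_48_of_fix5 hg (f.trans (Function.Embedding.subtype _))
  intro i
  have := (f i).2
  rw [Finset.mem_compl, Equiv.Perm.notMem_support] at this
  exact this

/-- if `g` commutes with `x`, `x ^ 11 = 1` and the fixed points of `x` are exactly the two points `p ≠ q`,
both fixed by `g`, then the number of fixed points of `g` is `2` modulo `11` -/
theorem card_fixed_modEq {g x : Equiv.Perm GolayPt} (hcomm : g * x = x * g) (hx : x ^ 11 = 1)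
    (p q : GolayPt) (hpq : p ≠ q) (hfix : ∀ y, x y = y ↔ y = p ∨ y = q) (hgp : g p = p)
    (hgq : g q = q) : (g.supportᶜ).card ≡ 2 [MOD 11] := by
  classical
  haveI : Fact (Nat.Prime 11) := ⟨by norm_num⟩
  set F := g.supportᶜ with hF
  have hmemF : ∀ y, y ∈ F ↔ g y = y := by
    intro y
    rw [hF, Finset.mem_compl, Equiv.Perm.notMem_support]
  have hinv : ∀ y, x y ∈ F ↔ y ∈ F := by
    intro y
    rw [hmemF, hmemF]
    have h1 : g (x y) = x (g y) := by
      rw [← Equiv.Perm.mul_apply, hcomm, Equiv.Perm.mul_apply]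
    rw [h1]
    exact x.injective.eq_iff
  set xF : Equiv.Perm {y // y ∈ F} := x.subtypePerm hinv with hxF
  have hxF11 : xF ^ 11 ^ 1 = 1 := by
    rw [pow_one, hxF, Equiv.Perm.subtypePerm_pow]
    ext y
    simp [hx]
  have hmod := Equiv.Perm.card_compl_support_modEq hxF11
  rw [Fintype.card_coe] at hmod
  have hpF : p ∈ F := (hmemF p).2 hgp
  have hqF : q ∈ F := (hmemF q).2 hgq
  have hset : xF.supportᶜ = {⟨p, hpF⟩, ⟨q, hqF⟩} := by
    ext y
    rw [Finset.mem_compl, Equiv.Perm.notMem_support, Finset.mem_insert, Finset.mem_singleton]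
    constructor
    · intro h
      have h1 : x y.1 = y.1 := congrArg Subtype.val h
      rcases (hfix y.1).1 h1 with h2 | h2
      · left; exact Subtype.ext h2
      · right; exact Subtype.ext h2
    · rintro (h | h)
      · rw [h]; apply Subtype.ext
        show x p = p
        exact (hfix p).2 (Or.inl rfl)
      · rw [h]; apply Subtype.ext
        show x q = q
        exact (hfix q).2 (Or.inr rfl)
  rw [hset, Finset.card_pair (fun h => hpq (congrArg Subtype.val h))] at hmod
  exact hmod.symm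

end Cfsg.Agent.Lib.Helper9.M22Fix
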