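import Cfsg.Agent.Lib.Helper9.M22Fix

/-!
Elements of order `11` of `M22` and their centralizers (helper9).
-/

set_option autoImplicit false

namespace Cfsg.Agent.Lib.Helper9.M22Fix

open Cfsg Cfsg.Agent.Lib.Helper21

theorem card_golayPt : Fintype.card GolayPt = 24 := rfl

/-- a permutation with `24` fixed points is trivial -/
theorem eq_one_of_card_fixed {g : Equiv.Perm GolayPt} (h : (g.supportᶜ).card = 24) : g = 1 := by
  rw [← Equiv.Perm.support_eq_empty_iff]
  have h1 : g.supportᶜ = Finset.univ := by
    apply Finset.eq_univ_of_card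
    rw [h, card_golayPt]
  rw [← compl_compl g.support, h1]
  exact Finset.compl_univ

/-- the fixed points of an element of order `11` of `M24` fixing `p ≠ q` are exactly `p`, `q` -/
theorem fixed_of_order_eleven {x : Equiv.Perm GolayPt} (hxM : x ∈ M24) (hx : x ^ 11 = 1) (hx1 : x ≠ 1)
    (p q : GolayPt) (hpq : p ≠ q) (hxp : x p = p) (hxq : x q = q) :
    ∀ y, x y = y ↔ y = p ∨ y = q := by
  classical
  haveI : Fact (Nat.Prime 11) := ⟨by norm_num⟩
  have hmod := Equiv.Perm.card_compl_support_modEq (p := 11) (n := 1) (σ := x) (by rw [pow_one]; exact hx)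
  rw [card_golayPt] at hmod
  have hlt : (x.supportᶜ).card < 5 := by
    by_contra hge
    rw [not_lt] at hge
    have h48 := pow_48_of_card_fixed hxM hge
    apply hx1
    have h1 : x = (x ^ 48) ^ 3 * ((x ^ 11) ^ 13)⁻¹ := by group
    rw [h1, h48, hx, one_pow, one_pow, inv_one, mul_one]
  have hcard : (x.supportᶜ).card = 2 := by
    unfold Nat.ModEq at hmod
    omega
  have hsub : ({p, q} : Finset GolayPt) ⊆ x.supportᶜ := by
    intro y hy
    rw [Finset.mem_insert, Finset.mem_singleton] at hy
    rw [Finset.mem_compl, Equiv.Perm.notMem_support]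
    rcases hy with rfl | rfl
    · exact hxp
    · exact hxq
  have heq : ({p, q} : Finset GolayPt) = x.supportᶜ := by
    apply Finset.eq_of_subset_of_card_le hsub
    rw [hcard, Finset.card_pair hpq]
  intro y
  rw [← Equiv.Perm.notMem_support, ← Finset.mem_compl, ← heq, Finset.mem_insert,
    Finset.mem_singleton]

/-- the number of fixed points of an element commuting with `x` and fixing `p`, `q`, `a` -/
theorem card_fixed_cases {g x : Equiv.Perm GolayPt} (hcomm : g * x = x * g) (hx : x ^ 11 = 1)
    (p q : GolayPt) (hpq : p ≠ q) (hfix : ∀ y, x y = y ↔ y = p ∨ y = q) (hgp : g p = p)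
    (hgq : g q = q) (a : GolayPt) (hap : a ≠ p) (haq : a ≠ q) (hga : g a = a) :
    (g.supportᶜ).card = 13 ∨ (g.supportᶜ).card = 24 := by
  have hmod := card_fixed_modEq hcomm hx p q hpq hfix hgp hgq
  have h3 : 3 ≤ (g.supportᶜ).card := by
    have hsub : ({p, q, a} : Finset GolayPt) ⊆ g.supportᶜ := by
      intro y hy
      rw [Finset.mem_insert, Finset.mem_insert, Finset.mem_singleton] at hy
      rw [Finset.mem_compl, Equiv.Perm.notMem_support]
      rcases hy with rfl | rfl | rfl
      · exact hgp
      · exact hgq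
      · exact hga
    have hc : ({p, q, a} : Finset GolayPt).card = 3 := by
      rw [Finset.card_insert_of_notMem, Finset.card_pair (Ne.symm haq)]
      rw [Finset.mem_insert, Finset.mem_singleton]
      rintro (h | h)
      · exact hpq h
      · exact hap h.symm
    rw [← hc]
    exact Finset.card_le_card hsub
  have hle : (g.supportᶜ).card ≤ 24 := by
    rw [← card_golayPt]
    exact Finset.card_le_univ _
  unfold Nat.ModEq at hmod
  omega

/-- an element of `M24` commuting with `x` and fixing `p`, `q` and a third point is trivial -/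
theorem eq_one_of_commute_of_fixed {g x : Equiv.Perm GolayPt} (hgM : g ∈ M24)
    (hcomm : g * x = x * g) (hx : x ^ 11 = 1)
    (p q : GolayPt) (hpq : p ≠ q) (hfix : ∀ y, x y = y ↔ y = p ∨ y = q) (hgp : g p = p)
    (hgq : g q = q) (a : GolayPt) (hap : a ≠ p) (haq : a ≠ q) (hga : g a = a) : g = 1 := by
  classical
  have hpowfix : ∀ (k : ℕ) (y : GolayPt), g y = y → (g ^ k) y = y := by
    intro k y hy
    induction k with
    | zero => rfl
    | succ k ih => rw [pow_succ, Equiv.Perm.mul_apply, hy, ih]
  have hpowcomm : ∀ k : ℕ, g ^ k * x = x * g ^ k := fun k =>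
    ((show Commute g x from hcomm).pow_left k).eq
  have hcases : ∀ k : ℕ, ((g ^ k).supportᶜ).card = 13 ∨ ((g ^ k).supportᶜ).card = 24 := fun k =>
    card_fixed_cases (hpowcomm k) hx p q hpq hfix (hpowfix k p hgp) (hpowfix k q hgq) a hap haq
      (hpowfix k a hga)
  have h48 : g ^ 48 = 1 := by
    apply pow_48_of_card_fixed hgM
    have := hcases 1
    rw [pow_one] at this
    omega
  -- the `3`-part
  have h16 : g ^ 16 = 1 := by
    haveI : Fact (Nat.Prime 3) := ⟨by norm_num⟩
    have h3 : (g ^ 16) ^ 3 ^ 1 = 1 := by rw [pow_one, ← pow_mul]; exact h48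
    have hmod := Equiv.Perm.card_compl_support_modEq h3
    rw [card_golayPt] at hmod
    apply eq_one_of_card_fixed
    have := hcases 16
    unfold Nat.ModEq at hmod
    omega
  -- the `2`-part
  have h3 : g ^ 3 = 1 := by
    haveI : Fact (Nat.Prime 2) := ⟨by norm_num⟩
    have h2 : (g ^ 3) ^ 2 ^ 4 = 1 := by rw [← pow_mul]; exact h48
    have hmod := Equiv.Perm.card_compl_support_modEq h2
    rw [card_golayPt] at hmod
    apply eq_one_of_card_fixed
    have := hcases 3
    unfold Nat.ModEq at hmod
    omega
  have h1 : g = g ^ 16 * ((g ^ 3) ^ 5)⁻¹ := by group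
  rw [h1, h16, h3, one_pow, inv_one, mul_one]

end Cfsg.Agent.Lib.Helper9.M22Fix
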