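import Cfsg.Agent.Lib.Helper9.M24CentCert
import Cfsg.Agent.Lib.Helper9.ClassSize
import Cfsg.Agent.Lib.Helper21.GolayTrans5

/-!
The centraliser of a fixed-point-free involution of `M24`: order `7680`, transitive, inside a sextet
stabiliser (helper9).
-/

set_option autoImplicit false

namespace Cfsg.Agent.Lib.Helper9.M24Coset

open Cfsg Cfsg.Agent.Lib.Helper21
open scoped Pointwise

/-! ### counting fibres with conjugation -/

theorem card_fiber_conj {α : Type*} [DecidableEq α] (F : Finset (Equiv.Perm α)) (p b0 : α)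
    (B : Finset α) (hB : ∀ t ∈ F, t p ∈ B)
    (hk : ∀ b ∈ B, ∃ k : Equiv.Perm α, (∀ t, t ∈ F → k * t * k⁻¹ ∈ F) ∧
      (∀ t, t ∈ F → k⁻¹ * t * k ∈ F) ∧ k p = p ∧ k b0 = b) :
    F.card = B.card * (F.filter (fun t => t p = b0)).card := by
  classical
  rw [Finset.card_eq_sum_card_fiberwise hB]
  apply Finset.sum_const_nat
  intro b hb
  obtain ⟨k, h1, h2, hp, hb0⟩ := hk b hb
  have hp' : k⁻¹ p = p := by rw [Equiv.Perm.inv_eq_iff_eq, hp]
  have hb0' : k⁻¹ b = b0 := by rw [Equiv.Perm.inv_eq_iff_eq, hb0]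
  apply Finset.card_nbij' (fun t => k⁻¹ * t * k) (fun t => k * t * k⁻¹)
  · intro t ht
    rw [Finset.mem_coe, Finset.mem_filter] at ht ⊢
    refine ⟨h2 t ht.1, ?_⟩
    rw [Equiv.Perm.mul_apply, Equiv.Perm.mul_apply, hp, ht.2, hb0']
  · intro t ht
    rw [Finset.mem_coe, Finset.mem_filter] at ht ⊢
    refine ⟨h1 t ht.1, ?_⟩
    rw [Equiv.Perm.mul_apply, Equiv.Perm.mul_apply, hp', ht.2, hb0]
  · intro t _
    show k * (k⁻¹ * t * k) * k⁻¹ = t
    group
  · intro t _
    show k⁻¹ * (k * t * k⁻¹) * k = t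
    group

/-! ### the fixed-point-free involutions -/

/-- the fixed-point-free involutions of `M24` -/
def IsFpfInv (t : Equiv.Perm GolayPt) : Prop := t ∈ M24 ∧ t ^ 2 = 1 ∧ ∀ q, t q ≠ q

theorem IsFpfInv.conj {t k : Equiv.Perm GolayPt} (hk : k ∈ M24) (h : IsFpfInv t) :
    IsFpfInv (k * t * k⁻¹) :=
  ⟨M24.mul_mem (M24.mul_mem hk h.1) (M24.inv_mem hk), by rw [conj_pow, h.2.1]; group,
    fpf_conj k t h.2.2⟩

theorem IsFpfInv.conj' {t k : Equiv.Perm GolayPt} (hk : k ∈ M24) (h : IsFpfInv t) :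
    IsFpfInv (k⁻¹ * t * k) := by
  have := h.conj (M24.inv_mem hk)
  rwa [inv_inv] at this

theorem ptN_ne {i j : ℕ} (hi : i < 24) (hj : j < 24) (h : i ≠ j) : ptN i ≠ ptN j :=
  fun e => h (ptN_injOn hi hj e)

open Classical in
/-- all fixed-point-free involutions -/
noncomputable def fpfAll : Finset (Equiv.Perm GolayPt) := Finset.univ.filter IsFpfInv

open Classical in
/-- those mapping position `0` to position `1` -/
noncomputable def fpf1 : Finset (Equiv.Perm GolayPt) :=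
  Finset.univ.filter (fun t => IsFpfInv t ∧ t (ptN 0) = ptN 1)

open Classical in
/-- those mapping position `0` to `1` and `2` to `3` -/
noncomputable def fpf2 : Finset (Equiv.Perm GolayPt) :=
  Finset.univ.filter (fun t => IsFpfInv t ∧ t (ptN 0) = ptN 1 ∧ t (ptN 2) = ptN 3)

theorem mem_fpfAll {t : Equiv.Perm GolayPt} : t ∈ fpfAll ↔ IsFpfInv t := by
  unfold fpfAll; simp

theorem mem_fpf1 {t : Equiv.Perm GolayPt} : t ∈ fpf1 ↔ IsFpfInv t ∧ t (ptN 0) = ptN 1 := by
  unfold fpf1; simp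

theorem mem_fpf2 {t : Equiv.Perm GolayPt} :
    t ∈ fpf2 ↔ IsFpfInv t ∧ t (ptN 0) = ptN 1 ∧ t (ptN 2) = ptN 3 := by
  unfold fpf2; simp

theorem card_fpfAll : fpfAll.card = 23 * fpf1.card := by
  classical
  have h := card_fiber_conj fpfAll (ptN 0) (ptN 1) (Finset.univ.erase (ptN 0))
    (fun t ht => Finset.mem_erase.2 ⟨(mem_fpfAll.1 ht).2.2 _, Finset.mem_univ _⟩)
    (by
      intro b hb
      have hb0 : b ≠ ptN 0 := (Finset.mem_erase.1 hb).1
      obtain ⟨k, hk, hky⟩ := exists_map_prefix 2 (by norm_num)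
        (fun i => if i = 0 then ptN 0 else b) (by
          intro i j hi hj
          interval_cases i <;> interval_cases j <;> simp [hb0, hb0.symm])
      refine ⟨k, fun t ht => mem_fpfAll.2 ((mem_fpfAll.1 ht).conj hk),
        fun t ht => mem_fpfAll.2 ((mem_fpfAll.1 ht).conj' hk), ?_, ?_⟩
      · simpa using hky 0 (by norm_num)
      · simpa using hky 1 (by norm_num))
  have hF : fpfAll.filter (fun t => t (ptN 0) = ptN 1) = fpf1 := by
    ext t
    rw [Finset.mem_filter, mem_fpfAll, mem_fpf1]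
  rw [h, hF, Finset.card_erase_of_mem (Finset.mem_univ _), Finset.card_univ, card_golayPt']

theorem card_fpf1 : fpf1.card = 21 * fpf2.card := by
  classical
  have h := card_fiber_conj fpf1 (ptN 2) (ptN 3) ({ptN 0, ptN 1, ptN 2} : Finset GolayPt)ᶜ
    (by
      intro t ht
      obtain ⟨hf, h01⟩ := mem_fpf1.1 ht
      have hinv := invol_apply hf.2.1
      rw [Finset.mem_compl, Finset.mem_insert, Finset.mem_insert, Finset.mem_singleton]
      rintro (e | e | e)
      · have := hinv (ptN 2)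
        rw [e, h01] at this
        exact ptN_ne (by norm_num) (by norm_num) (by norm_num) this
      · rw [← h01] at e
        exact ptN_ne (by norm_num) (by norm_num) (by norm_num) (t.injective e)
      · exact hf.2.2 _ e)
    (by
      intro b hb
      rw [Finset.mem_compl, Finset.mem_insert, Finset.mem_insert, Finset.mem_singleton,
        not_or, not_or] at hb
      obtain ⟨hb0, hb1, hb2⟩ := hb
      obtain ⟨k, hk, hky⟩ := exists_map_prefix 4 (by norm_num)
        (fun i => if i < 3 then ptN i else b) (by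
          intro i j hi hj
          have e01 : ptN 0 ≠ ptN 1 := ptN_ne (by norm_num) (by norm_num) (by norm_num)
          have e02 : ptN 0 ≠ ptN 2 := ptN_ne (by norm_num) (by norm_num) (by norm_num)
          have e12 : ptN 1 ≠ ptN 2 := ptN_ne (by norm_num) (by norm_num) (by norm_num)
          interval_cases i <;> interval_cases j <;>
            simp [hb0, hb1, hb2, Ne.symm hb0, Ne.symm hb1, Ne.symm hb2, e01, e02, e12, e01.symm,
              e02.symm, e12.symm])
      have k0 : k (ptN 0) = ptN 0 := by simpa using hky 0 (by norm_num)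
      have k1 : k (ptN 1) = ptN 1 := by simpa using hky 1 (by norm_num)
      have k2 : k (ptN 2) = ptN 2 := by simpa using hky 2 (by norm_num)
      have k3 : k (ptN 3) = b := by simpa using hky 3 (by norm_num)
      have k0' : k⁻¹ (ptN 0) = ptN 0 := by rw [Equiv.Perm.inv_eq_iff_eq, k0]
      refine ⟨k, fun t ht => ?_, fun t ht => ?_, k2, k3⟩
      · obtain ⟨hf, h01⟩ := mem_fpf1.1 ht
        refine mem_fpf1.2 ⟨hf.conj hk, ?_⟩
        rw [Equiv.Perm.mul_apply, Equiv.Perm.mul_apply, k0', h01, k1]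
      · obtain ⟨hf, h01⟩ := mem_fpf1.1 ht
        refine mem_fpf1.2 ⟨hf.conj' hk, ?_⟩
        rw [Equiv.Perm.mul_apply, Equiv.Perm.mul_apply, k0, h01, Equiv.Perm.inv_eq_iff_eq, k1])
  have hF : fpf1.filter (fun t => t (ptN 2) = ptN 3) = fpf2 := by
    ext t
    rw [Finset.mem_filter, mem_fpf1, mem_fpf2, and_assoc]
  have hc : (({ptN 0, ptN 1, ptN 2} : Finset GolayPt)ᶜ).card = 21 := by
    rw [Finset.card_compl, card_golayPt']
    have e01 : ptN 0 ≠ ptN 1 := ptN_ne (by norm_num) (by norm_num) (by norm_num)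
    have e02 : ptN 0 ≠ ptN 2 := ptN_ne (by norm_num) (by norm_num) (by norm_num)
    have e12 : ptN 1 ≠ ptN 2 := ptN_ne (by norm_num) (by norm_num) (by norm_num)
    rw [Finset.card_insert_of_notMem (by simp [e01, e02]),
      Finset.card_insert_of_notMem (by simp [e12]), Finset.card_singleton]
  rw [h, hF, hc]

/-! ### the explicit list of 66 -/

theorem fpfL_mem {p : ℕ × ℕ} (hp : p ∈ fpfL) :
    ValidTab p ∧ IsInvT p ∧ IsFpfT p ∧ tabGet p.1 0 = 1 ∧ tabGet p.1 2 = 3 := by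
  unfold fpfL at hp
  rw [List.mem_filter, List.mem_flatMap] at hp
  obtain ⟨⟨ec, hec, hq⟩, hP⟩ := hp
  rw [decide_eq_true_eq] at hP
  have hok := cosF_ok ec hec
  exact ⟨hok.2.1 p hq, hP.1, hP.2, hok.2.2.1 p hq 0 (by norm_num), hok.2.2.1 p hq 2 (by norm_num)⟩

theorem tabKey_eq_of_tp_eq {p r : ℕ × ℕ} (hp : ValidTab p) (hr : ValidTab r) (h : tp p = tp r) :
    tabKey p = tabKey r := by
  unfold tabKey
  apply List.map_congr_left
  intro i hi
  rw [List.mem_range] at hi
  exact tabGet_of_apply hp hi (tabGet_lt hr i hi) (by rw [h, tp_ptN hr i hi])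

theorem fpfL_map_nodup : (fpfL.map tp).Nodup := by
  apply List.Nodup.map_on _ (List.Nodup.of_map _ fpfL_keys_nodup)
  intro p hp r hr h
  exact List.inj_on_of_nodup_map fpfL_keys_nodup hp hr
    (tabKey_eq_of_tp_eq (fpfL_mem hp).1 (fpfL_mem hr).1 h)

theorem mem_cosF {x : ℕ} (h5 : 5 ≤ x) (hx : x < 24) : ∃ ec ∈ cosF, ec.1 = x := by
  have : x ∈ cosF.map Prod.fst := by
    rw [cosF_keys, List.mem_range']
    exact ⟨x - 5, by omega, by omega⟩
  obtain ⟨ec, hec, e⟩ := List.mem_map.1 this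
  exact ⟨ec, hec, e⟩

theorem fpf2_eq : fpf2 = (fpfL.map tp).toFinset := by
  ext t
  rw [mem_fpf2, List.mem_toFinset, List.mem_map]
  constructor
  · rintro ⟨hf, h01, h23⟩
    have hinv := invol_apply hf.2.1
    have h10 : t (ptN 1) = ptN 0 := by rw [← h01, hinv]
    have h32 : t (ptN 3) = ptN 2 := by rw [← h23, hinv]
    -- the image of position 4
    have hx : ∃ x, 5 ≤ x ∧ x < 24 ∧ t (ptN 4) = ptN x := by
      refine ⟨((gEquiv (t (ptN 4)) : Fin 24) : ℕ), ?_, (gEquiv (t (ptN 4))).isLt,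
        (ptN_gEquiv _).symm⟩
      by_contra hlt
      rw [not_le] at hlt
      have e : t (ptN 4) = ptN ((gEquiv (t (ptN 4)) : Fin 24) : ℕ) := (ptN_gEquiv _).symm
      have h4 := hinv (ptN 4)
      generalize ((gEquiv (t (ptN 4)) : Fin 24) : ℕ) = y at hlt e
      rw [e] at h4
      interval_cases y
      · rw [h01] at h4
        exact ptN_ne (by norm_num) (by norm_num) (by norm_num) h4
      · rw [h10] at h4
        exact ptN_ne (by norm_num) (by norm_num) (by norm_num) h4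
      · rw [h23] at h4
        exact ptN_ne (by norm_num) (by norm_num) (by norm_num) h4
      · rw [h32] at h4
        exact ptN_ne (by norm_num) (by norm_num) (by norm_num) h4
      · exact hf.2.2 _ e
    obtain ⟨x, hx5, hx24, hx4⟩ := hx
    obtain ⟨ec, hec, rfl⟩ := mem_cosF hx5 hx24
    obtain ⟨q, hq, hqt, hv⟩ := mem_coset ec.2 (imgF ec.1) (cosF_ok ec hec) t hf.1 (by
      intro i hi
      interval_cases i
      · exact h01
      · exact h10
      · exact h23
      · exact h32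
      · exact hx4)
    refine ⟨q.1, ?_, hqt.symm⟩
    unfold fpfL
    rw [List.mem_filter, List.mem_flatMap, decide_eq_true_eq]
    refine ⟨⟨ec, hec, List.mem_map.2 ⟨q, hq, rfl⟩⟩, ?_, ?_⟩
    · exact isInvT_of hv (by rw [← hqt]; exact hf.2.1)
    · exact isFpfT_of hv (by rw [← hqt]; exact hf.2.2)
  · rintro ⟨p, hp, rfl⟩
    obtain ⟨hv, hi, hf, h0, h2⟩ := fpfL_mem hp
    refine ⟨⟨tp_mem hv, tp_sq_eq_one hv hi, tp_fpf hv hf⟩, ?_, ?_⟩
    · rw [tp_ptN hv 0 (by norm_num), h0]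
    · rw [tp_ptN hv 2 (by norm_num), h2]

theorem card_fpf2 : fpf2.card = 66 := by
  rw [fpf2_eq, List.toFinset_card_of_nodup fpfL_map_nodup, List.length_map, fpfL_length]

theorem card_fpfAll_eq : fpfAll.card = 31878 := by
  rw [card_fpfAll, card_fpf1, card_fpf2]

/-! ### the order of the centraliser -/

theorem IsFpfInv.isConjTo {t : Equiv.Perm GolayPt} (h : IsFpfInv t) : IsConjTo t1 t :=
  invol_fpf_conj h.1 h.2.1 h.2.2

theorem isFpfInv_t1 : IsFpfInv (tp t1) :=
  ⟨tp_mem valid_t1, tp_sq_eq_one valid_t1 t1_inv, tp_fpf valid_t1 t1_fpf⟩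

theorem isFpfInv_of_isConjTo {t : Equiv.Perm GolayPt} (h : IsConjTo t1 t) : IsFpfInv t := by
  obtain ⟨k, hk, rfl⟩ := h
  exact isFpfInv_t1.conj hk

theorem card_class_fpf {t : Equiv.Perm GolayPt} (h : IsFpfInv t) :
    Nat.card (ConjClasses.mk (⟨t, h.1⟩ : M24)).carrier = 31878 := by
  classical
  rw [← card_fpfAll_eq, Nat.card_coe_set_eq,
    ← Set.ncard_image_of_injective _ (Subtype.val_injective (p := fun x => x ∈ M24)),
    ← Set.ncard_coe_finset]
  congr 1
  ext s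
  rw [Set.mem_image, Finset.mem_coe, mem_fpfAll]
  constructor
  · rintro ⟨x, hx, rfl⟩
    rw [ConjClasses.mem_carrier_iff_mk_eq, ConjClasses.mk_eq_mk_iff_isConj, isConj_comm,
      isConj_iff] at hx
    obtain ⟨c, hc⟩ := hx
    have : (x : Equiv.Perm GolayPt) = (c : Equiv.Perm GolayPt) * t * (c : Equiv.Perm GolayPt)⁻¹ := by
      rw [← hc]; rfl
    rw [this]
    exact h.conj c.2
  · intro hs
    obtain ⟨k, hk, e⟩ := h.isConjTo.conj hs.isConjTo
    refine ⟨⟨s, hs.1⟩, ?_, rfl⟩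
    rw [ConjClasses.mem_carrier_iff_mk_eq, ConjClasses.mk_eq_mk_iff_isConj, isConj_comm,
      isConj_iff]
    exact ⟨⟨k, hk⟩, Subtype.ext e⟩

theorem card_centralizer_fpf {t : Equiv.Perm GolayPt} (h : IsFpfInv t) :
    Nat.card {c : Equiv.Perm GolayPt // c ∈ M24 ∧ c * t = t * c} = 7680 := by
  have h1 := Cfsg.Agent.Lib.Helper9.card_carrier_mul_card_centralizer (⟨t, h.1⟩ : M24)
  rw [card_class_fpf h, card_M24] at h1
  have h2 : Nat.card (Subgroup.centralizer ({(⟨t, h.1⟩ : M24)} : Set M24)) = 7680 := by omega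
  rw [← h2]
  apply Nat.card_congr
  refine ⟨fun c => ⟨⟨c.1, c.2.1⟩, ?_⟩, fun x => ⟨x.1.1, x.1.2, ?_⟩, fun c => rfl, fun x => rfl⟩
  · rw [Subgroup.mem_centralizer_singleton_iff]
    exact Subtype.ext c.2.2
  · have := Subgroup.mem_centralizer_singleton_iff.1 x.2
    exact congrArg Subtype.val this

/-! ### transitivity of the centraliser of the standard involution -/

theorem cent_t1_zero (j : ℕ) (hj : j < 24) :
    ∃ c ∈ M24, c * tp t1 = tp t1 * c ∧ c (ptN 0) = ptN j := by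
  have : j ∈ cenL.map (fun u => tabGet u.1 0) := by
    rw [cenL_img, List.mem_range]; exact hj
  obtain ⟨u, hu, e⟩ := List.mem_map.1 this
  obtain ⟨hv, hc⟩ := cenL_ok u hu
  refine ⟨tp u, tp_mem hv, tp_mul_eq hv valid_t1 valid_t1 hv hc, ?_⟩
  rw [tp_ptN hv 0 (by norm_num), e]

theorem cent_t1_trans (p q : GolayPt) : ∃ c ∈ M24, c * tp t1 = tp t1 * c ∧ c p = q := by
  obtain ⟨a, ha, hac, hap⟩ := cent_t1_zero (gEquiv p : Fin 24) (gEquiv p).isLt
  obtain ⟨b, hb, hbc, hbq⟩ := cent_t1_zero (gEquiv q : Fin 24) (gEquiv q).isLt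
  rw [ptN_gEquiv] at hap hbq
  refine ⟨b * a⁻¹, M24.mul_mem hb (M24.inv_mem ha), ?_, ?_⟩
  · have h1 : a⁻¹ * tp t1 = tp t1 * a⁻¹ := by
      rw [eq_mul_inv_iff_mul_eq, mul_assoc, inv_mul_eq_iff_eq_mul, hac]
    rw [mul_assoc, h1, ← mul_assoc, hbc, mul_assoc]
  · rw [Equiv.Perm.mul_apply, ← hap, perm_inv_apply, hbq]

/-! ### the sextet of the standard involution -/

/-- the sextet of `t1` -/
def sexT1 : Finset (Finset GolayPt) := (tetL.map maskFS).toFinset

theorem mem_sexT1 {q : Finset GolayPt} : q ∈ sexT1 ↔ ∃ m ∈ tetL, maskFS m = q := by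
  unfold sexT1
  rw [List.mem_toFinset, List.mem_map]

theorem sexT1_mem : sexT1 ∈ sextets := by
  obtain ⟨hnd, hq, hu⟩ := tetL_chk
  refine ⟨?_, ?_, ?_⟩
  · unfold sexT1
    rw [List.toFinset_card_of_nodup, List.length_map]
    · rfl
    · apply List.Nodup.map_on _ hnd
      intro a ha b hb h
      exact maskFS_inj (hq a ha).1 (hq b hb).1 h
  · intro t ht
    obtain ⟨m, hm, rfl⟩ := mem_sexT1.1 ht
    rw [card_maskFS m (hq m hm).1, (hq m hm).2]
  · intro t ht u hu' hne
    obtain ⟨a, ha, rfl⟩ := mem_sexT1.1 ht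
    obtain ⟨b, hb, rfl⟩ := mem_sexT1.1 hu'
    have hab : a ≠ b := fun e => hne (by rw [e])
    rw [← maskFS_or]
    exact maskFS_mem_octads_of_chk (hu a ha b hb hab)

theorem fixOct_of_fixed {o : Finset GolayPt} (ho : o ∈ octads) (hf : tp t1 • o = o) :
    fsMask o ∈ fixOctL := by
  rw [← fixOctL_eq, List.mem_filter, decide_eq_true_eq]
  refine ⟨fsMask_mem_octL ho, ?_⟩
  rw [actF_eq]
  exact (tp_smul_eq_iff valid_t1 o).1 hf

theorem sexT1_smul {c : Equiv.Perm GolayPt} (hc : c ∈ M24) (hct : c * tp t1 = tp t1 * c) :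
    c • sexT1 = sexT1 := by
  apply smul_eq_self_of_forall_mem
  intro q hq
  obtain ⟨m, hm, rfl⟩ := mem_sexT1.1 hq
  obtain ⟨a, ha, b, hb, hab, rfl⟩ := tetL_inter m hm
  obtain ⟨hnd, hq4, _⟩ := tetL_chk
  -- the two octads and their images
  have hA : ∀ a ∈ fixOctL, c • maskFS a ∈ octads ∧ tp t1 • (c • maskFS a) = c • maskFS a := by
    intro a ha
    obtain ⟨hchk, hact⟩ := fixOctL_chk a ha
    have hoct := maskFS_mem_octads_of_chk hchk
    refine ⟨smul_mem_octads hc hoct, ?_⟩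
    have hfix : tp t1 • maskFS a = maskFS a := by
      rw [tp_smul_eq_iff valid_t1, fsMask_maskFS a hchk.1, ← actF_eq, hact]
    rw [← mul_smul, ← hct, mul_smul, hfix]
  obtain ⟨hAo, hAf⟩ := hA a ha
  obtain ⟨hBo, hBf⟩ := hA b hb
  have hA' := fixOct_of_fixed hAo hAf
  have hB' := fixOct_of_fixed hBo hBf
  have hne : fsMask (c • maskFS a) ≠ fsMask (c • maskFS b) := by
    intro e
    have e1 := fsMask_injective e
    have e2 : maskFS a = maskFS b := by
      have := congrArg (fun s => c⁻¹ • s) e1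
      simpa only [inv_smul_smul] using this
    exact hab (maskFS_inj (fixOctL_chk a ha).1.1 (fixOctL_chk b hb).1.1 e2)
  have hinter : c • maskFS (a &&& b) = maskFS (fsMask (c • maskFS a) &&& fsMask (c • maskFS b)) := by
    rw [maskFS_and a b, maskFS_and, maskFS_fsMask, maskFS_fsMask, Finset.smul_finset_inter]
  have hpop : popc 24 (fsMask (c • maskFS a) &&& fsMask (c • maskFS b)) = 4 := by
    have hlt : fsMask (c • maskFS a) &&& fsMask (c • maskFS b) < 2 ^ 24 :=
      lt_of_le_of_lt Nat.and_le_left (fsMask_lt _)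
    rw [← card_maskFS _ hlt, ← hinter, Finset.card_smul_finset, card_maskFS _ (hq4 _ hm).1]
    exact (hq4 _ hm).2
  rw [hinter]
  exact mem_sexT1.2 ⟨_, fixOctL_pairs _ hA' _ hB' hne hpop, rfl⟩

/-! ### the general statement -/

theorem fpf_centralizer_main {t : Equiv.Perm GolayPt} (h : IsFpfInv t) :
    Nat.card {c : Equiv.Perm GolayPt // c ∈ M24 ∧ c * t = t * c} = 7680 ∧
      (∀ p q : GolayPt, ∃ c ∈ M24, c * t = t * c ∧ c p = q) ∧
      ∃ S ∈ sextets, t • S = S ∧ ∀ c ∈ M24, c * t = t * c → c • S = S := by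
  refine ⟨card_centralizer_fpf h, ?_, ?_⟩
  · obtain ⟨k, hk, rfl⟩ := h.isConjTo
    intro p q
    obtain ⟨c, hc, hct, hcp⟩ := cent_t1_trans (k⁻¹ p) (k⁻¹ q)
    refine ⟨k * c * k⁻¹, M24.mul_mem (M24.mul_mem hk hc) (M24.inv_mem hk), ?_, ?_⟩
    · have e1 : k * c * k⁻¹ * (k * tp t1 * k⁻¹) = k * (c * tp t1) * k⁻¹ := by group
      have e2 : k * tp t1 * k⁻¹ * (k * c * k⁻¹) = k * (tp t1 * c) * k⁻¹ := by group
      rw [e1, e2, hct]
    · rw [Equiv.Perm.mul_apply, Equiv.Perm.mul_apply, hcp, perm_apply_inv]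
  · obtain ⟨k, hk, rfl⟩ := h.isConjTo
    refine ⟨k • sexT1, smul_mem_sextets hk sexT1_mem, ?_, ?_⟩
    · have e1 : k * tp t1 * k⁻¹ * k = k * tp t1 := by group
      rw [← mul_smul, e1, mul_smul, sexT1_smul (tp_mem valid_t1) rfl]
    · intro c hc hct
      have hmem : k⁻¹ * c * k ∈ M24 := M24.mul_mem (M24.mul_mem (M24.inv_mem hk) hc) hk
      have hcomm : k⁻¹ * c * k * tp t1 = tp t1 * (k⁻¹ * c * k) := by
        have e1 : k⁻¹ * c * k * tp t1 = k⁻¹ * (c * (k * tp t1 * k⁻¹)) * k := by group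
        rw [e1, hct]
        group
      have e2 : c * k = k * (k⁻¹ * c * k) := by group
      rw [← mul_smul, e2, mul_smul, sexT1_smul hmem hcomm]

end Cfsg.Agent.Lib.Helper9.M24Coset
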