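import Cfsg.Agent.Lib.Helper9.M24Std

/-!
Commuting elements of order `3` and `2` in `M24` (helper9).
-/

set_option autoImplicit false

namespace Cfsg.Agent.Lib.Helper9.M24Coset

open Cfsg Cfsg.Agent.Lib.Helper21 Cfsg.Agent.Lib.Helper9.M9Struct
open scoped Pointwise

/-- commuting, on the tables -/
def CommT (p r : ℕ × ℕ) : Prop := ∀ i : Fin 24, tabGet p.1 (tabGet r.1 i) = tabGet r.1 (tabGet p.1 i)

instance (p r : ℕ × ℕ) : Decidable (CommT p r) := by unfold CommT; infer_instance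

theorem commT_of {p r : ℕ × ℕ} (hp : ValidTab p) (hr : ValidTab r) (h : tp p * tp r = tp r * tp p) :
    CommT p r := by
  intro i
  have h1 : (tp p * tp r) (ptN i) = (tp r * tp p) (ptN i) := by rw [h]
  rw [Equiv.Perm.mul_apply, Equiv.Perm.mul_apply, tp_ptN hr _ i.isLt, tp_ptN hp _ i.isLt,
    tp_ptN hp _ (tabGet_lt hr _ i.isLt), tp_ptN hr _ (tabGet_lt hp _ i.isLt)] at h1
  exact ptN_injOn (tabGet_lt hp _ (tabGet_lt hr _ i.isLt)) (tabGet_lt hr _ (tabGet_lt hp _ i.isLt)) h1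

theorem isIdT_of {p : ℕ × ℕ} (hp : ValidTab p) (h : tp p = 1) : IsIdT p := by
  intro i
  apply tabGet_of_apply hp i.isLt i.isLt
  rw [h]; rfl

/-- no element of order three of the five-point stabiliser commutes with a fixed-point-free
involution of the two cosets -/
theorem noComm : ∀ q ∈ cL, ∀ r ∈ cI2 ++ cI3, IsCubeT q.1 → ¬ IsIdT q.1 → IsInvT r.1 → IsFpfT r.1 →
    ¬ CommT q.1 r.1 := by decide +kernel

/-- moving the image of position `4` to position `5` or `7` by an element fixing `0..4` -/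
theorem reduce_fifth_fix (g : Equiv.Perm GolayPt) (hg : g ∈ M24) (c : ℕ → ℕ) (hc : ∀ i < 4, c i < 5)
    (hgi : ∀ i < 4, g (ptN i) = ptN (c i)) (x : ℕ) (hx5 : 5 ≤ x) (hx : x < 24)
    (hg4 : g (ptN 4) = ptN x) :
    ∃ s ∈ M24, (∀ i < 5, s (ptN i) = ptN i) ∧ s * g * s⁻¹ ∈ M24 ∧
      (∀ i < 4, (s * g * s⁻¹) (ptN i) = ptN (c i)) ∧
      ((s * g * s⁻¹) (ptN 4) = ptN 5 ∨ (s * g * s⁻¹) (ptN 4) = ptN 7) := by
  obtain ⟨q, hq, hq57⟩ := orbL x hx hx5
  have hv : ValidTab q.1 := okL.2.1 q.1 (List.mem_map.2 ⟨q, hq, rfl⟩)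
  have hfix : ∀ i < 5, tp q.1 (ptN i) = ptN i := by
    intro i hi
    rw [tp_ptN hv i (by omega), okL.2.2.1 q.1 (List.mem_map.2 ⟨q, hq, rfl⟩) i hi]
    interval_cases i <;> rfl
  have hfix' : ∀ i < 5, (tp q.1)⁻¹ (ptN i) = ptN i := by
    intro i hi
    rw [Equiv.Perm.inv_eq_iff_eq, hfix i hi]
  have hs := tp_mem hv
  refine ⟨tp q.1, hs, hfix, M24.mul_mem (M24.mul_mem hs hg) (M24.inv_mem hs), fun i hi => ?_, ?_⟩
  · rw [Equiv.Perm.mul_apply, Equiv.Perm.mul_apply, hfix' i (by omega), hgi i hi, hfix _ (hc i hi)]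
  · rw [Equiv.Perm.mul_apply, Equiv.Perm.mul_apply, hfix' 4 (by norm_num), hg4, tp_ptN hv x hx]
    rcases hq57 with h | h
    · left; rw [h]
    · right; rw [h]

/-- An element of order three with a fixed point does not commute with a fixed-point-free
involution. -/
theorem not_commute_fixed_fpf {x s : Equiv.Perm GolayPt} (hx : x ∈ M24) (hs : s ∈ M24)
    (h3 : x ^ 3 = 1) (h1 : x ≠ 1) {p : GolayPt} (hp : x p = p) (h2 : s ^ 2 = 1)
    (hf : ∀ q, s q ≠ q) (hc : x * s = s * x) : False := by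
  classical
  have hinv := invol_apply h2
  have hconj := order3_fixed_conj hx h3 h1 hp
  have hcard : (Finset.univ.filter fun q : GolayPt => x q = q).card = 6 := by
    rw [hconj.card_fixed valid_x0, x0_fixCount]
  set F := Finset.univ.filter fun q : GolayPt => x q = q with hF
  have hmem : ∀ q, q ∈ F ↔ x q = q := fun q => by rw [hF, Finset.mem_filter]; simp
  have hsF : ∀ q, q ∈ F → s q ∈ F := by
    intro q hq
    rw [hmem] at hq ⊢
    have : (x * s) q = (s * x) q := by rw [hc]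
    rw [Equiv.Perm.mul_apply, Equiv.Perm.mul_apply, hq] at this
    exact this
  -- choose the six fixed points
  have hex : ∀ T : Finset GolayPt, T.card < 6 → ∃ q ∈ F, q ∉ T := by
    intro T hT
    apply Finset.exists_mem_notMem_of_card_lt_card
    omega
  obtain ⟨p1, hp1, -⟩ := hex ∅ (by simp)
  obtain ⟨p3, hp3, hp3n⟩ := hex {p1, s p1} (lt_of_le_of_lt (Finset.card_insert_le _ _) (by simp))
  rw [Finset.mem_insert, Finset.mem_singleton, not_or] at hp3n
  obtain ⟨h31, h32⟩ := hp3n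
  obtain ⟨p5, hp5, hp5n⟩ := hex {p1, s p1, p3, s p3}
    (lt_of_le_of_lt Finset.card_le_four (by norm_num))
  simp only [Finset.mem_insert, Finset.mem_singleton, not_or] at hp5n
  obtain ⟨h51, h52, h53, h54⟩ := hp5n
  let y := quintEmb p1 (s p1) p3 (s p3) p5 (Ne.symm (hf p1)) (Ne.symm h31)
    (fun e => h32 (by rw [e, hinv])) (Ne.symm h51) (Ne.symm h32)
    (fun e => h31 (s.injective e).symm) (Ne.symm h52) (Ne.symm (hf p3)) (Ne.symm h53) (Ne.symm h54)
  obtain ⟨k, hk, hgk, hky, hki⟩ := conj_frame s hs y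
  have e0 : k (ptN 0) = p1 := hky 0
  have e1 : k (ptN 1) = s p1 := hky 1
  have e2 : k (ptN 2) = p3 := hky 2
  have e3 : k (ptN 3) = s p3 := hky 3
  have e4 : k (ptN 4) = p5 := hky 4
  have f0 : (k⁻¹ * s * k) (ptN 0) = ptN 1 :=
    (hki 0).trans (by show k⁻¹ (s p1) = _; rw [← e1, perm_inv_apply])
  have f1 : (k⁻¹ * s * k) (ptN 1) = ptN 0 :=
    (hki 1).trans (by show k⁻¹ (s (s p1)) = _; rw [hinv, ← e0, perm_inv_apply])
  have f2 : (k⁻¹ * s * k) (ptN 2) = ptN 3 :=
    (hki 2).trans (by show k⁻¹ (s p3) = _; rw [← e3, perm_inv_apply])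
  have f3 : (k⁻¹ * s * k) (ptN 3) = ptN 2 :=
    (hki 3).trans (by show k⁻¹ (s (s p3)) = _; rw [hinv, ← e2, perm_inv_apply])
  have hz : ∀ j : Fin 5, s p5 ≠ y j := by
    intro j
    fin_cases j
    · exact fun e => h52 (by rw [← hinv p5, e]; rfl)
    · exact fun e => h51 (s.injective e)
    · exact fun e => h54 (by rw [← hinv p5, e]; rfl)
    · exact fun e => h53 (s.injective e)
    · exact hf p5
  obtain ⟨z, hz5, hz24, hze⟩ := fifth_image k y hky (s p5) hz
  have f4 : (k⁻¹ * s * k) (ptN 4) = ptN z := (hki 4).trans hze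
  -- the conjugate of `x` fixes the positions `0..4`
  have hxfix : ∀ i : Fin 5, x (y i) = y i := by
    intro i
    fin_cases i
    · exact (hmem _).1 hp1
    · exact (hmem _).1 (hsF _ hp1)
    · exact (hmem _).1 hp3
    · exact (hmem _).1 (hsF _ hp3)
    · exact (hmem _).1 hp5
  have hx' : ∀ i < 5, (k⁻¹ * x * k) (ptN i) = ptN i := by
    intro i hi
    have h := hky ⟨i, hi⟩
    rw [Equiv.Perm.mul_apply, Equiv.Perm.mul_apply]
    show k⁻¹ (x (k (ptN i))) = ptN i
    have h' : k (ptN i) = y ⟨i, hi⟩ := h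
    rw [h', hxfix, ← h', perm_inv_apply]
  obtain ⟨s0, hs0, hs0fix, hsg, hs03, hs4⟩ := reduce_fifth_fix (k⁻¹ * s * k) hgk
    (fun i => [1, 0, 3, 2].getD i 0) (by intro i hi; interval_cases i <;> decide)
    (by
      intro i hi
      interval_cases i
      · exact f0
      · exact f1
      · exact f2
      · exact f3) z hz5 hz24 f4
  have hs0fix' : ∀ i < 5, s0⁻¹ (ptN i) = ptN i := by
    intro i hi
    rw [Equiv.Perm.inv_eq_iff_eq, hs0fix i hi]
  -- the two conjugated elements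
  set X := s0 * (k⁻¹ * x * k) * s0⁻¹ with hXdef
  set S := s0 * (k⁻¹ * s * k) * s0⁻¹ with hSdef
  have hXM : X ∈ M24 := M24.mul_mem (M24.mul_mem hs0
    (M24.mul_mem (M24.mul_mem (M24.inv_mem hk) hx) hk)) (M24.inv_mem hs0)
  have hXfix : ∀ i < 5, X (ptN i) = ptN (imgL i) := by
    intro i hi
    rw [hXdef, Equiv.Perm.mul_apply, Equiv.Perm.mul_apply, hs0fix' i hi, hx' i hi, hs0fix i hi]
    interval_cases i <;> rfl
  have hX3 : X ^ 3 = 1 := by rw [hXdef, conj_pow, pow_conj_left, h3]; group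
  have hX1 : X ≠ 1 := by
    intro e
    apply h1
    have : x = k * (s0⁻¹ * X * s0) * k⁻¹ := by rw [hXdef]; group
    rw [this, e]; group
  have hS2 : S ^ 2 = 1 := by rw [hSdef, conj_pow, pow_conj_left, h2]; group
  have hSf : ∀ q, S q ≠ q := fpf_conj s0 _ (fpf_conj_left k s hf)
  have hXS : X * S = S * X := by
    have e1 : X * S = s0 * (k⁻¹ * (x * s) * k) * s0⁻¹ := by rw [hXdef, hSdef]; group
    have e2 : S * X = s0 * (k⁻¹ * (s * x) * k) * s0⁻¹ := by rw [hXdef, hSdef]; group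
    rw [e1, e2, hc]
  obtain ⟨q, hq, eq, hvq⟩ := mem_coset cL imgL okL X hXM hXfix
  have hS4 : ∀ i < 4, S (ptN i) = ptN ((fun i => [1, 0, 3, 2].getD i 0) i) := hs03
  have key : ∃ r ∈ cI2 ++ cI3, S = tp r.1 ∧ ValidTab r.1 := by
    rcases hs4 with h5 | h7
    · obtain ⟨r, hr, er, hvr⟩ := mem_coset cI2 imgI2 okI2 S hsg (by
        intro i hi
        interval_cases i
        · exact hS4 0 (by norm_num)
        · exact hS4 1 (by norm_num)
        · exact hS4 2 (by norm_num)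
        · exact hS4 3 (by norm_num)
        · exact h5)
      exact ⟨r, List.mem_append_left _ hr, er, hvr⟩
    · obtain ⟨r, hr, er, hvr⟩ := mem_coset cI3 imgI3 okI3 S hsg (by
        intro i hi
        interval_cases i
        · exact hS4 0 (by norm_num)
        · exact hS4 1 (by norm_num)
        · exact hS4 2 (by norm_num)
        · exact hS4 3 (by norm_num)
        · exact h7)
      exact ⟨r, List.mem_append_right _ hr, er, hvr⟩
  obtain ⟨r, hr, er, hvr⟩ := key
  apply noComm q hq r hr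
  · apply isCubeT_of hvq; rw [← eq]; exact hX3
  · intro hid
    exact hX1 (by rw [eq]; exact eq_one_of_isIdT hvq hid)
  · apply isInvT_of hvr; rw [← er]; exact hS2
  · apply isFpfT_of hvr; rw [← er]; exact hSf
  · apply commT_of hvq hvr
    rw [← eq, ← er]; exact hXS

end Cfsg.Agent.Lib.Helper9.M24Coset
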