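import Cfsg.Agent.Lib.Helper9.M24Trio

/-!
Kernel-friendly versions of the counting functions for the objects fixed by a table permutation
of `M24` (helper9).
-/

set_option autoImplicit false

namespace Cfsg.Agent.Lib.Helper9.M24Coset

open Cfsg Cfsg.Agent.Lib.Helper21
open scoped Pointwise

/-- a kernel-friendly version of `gatherMask` -/
def gatherFast : ℕ → ℕ → ℕ → ℕ
  | 0, _, _ => 0
  | k + 1, TI, m => 2 * gatherFast k (TI / 32) m + (m >>> (TI % 32)) % 2

theorem gatherFast_eq_ofBits (k TI m : ℕ) :
    gatherFast k TI m = Nat.ofBits (fun j : Fin k => m.testBit ((TI >>> (5 * (j : ℕ))) % 32)) := by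
  induction k generalizing TI with
  | zero => simp [gatherFast]
  | succ k ih =>
    rw [gatherFast, ih, Nat.ofBits_succ]
    congr 2
    · congr 1
      funext j
      congr 2
      rw [Fin.val_succ, Nat.shiftRight_eq_div_pow, Nat.shiftRight_eq_div_pow, Nat.div_div_eq_div_mul]
      congr 1
      rw [mul_add, pow_add, mul_comm]
      norm_num
    · rw [Nat.toNat_testBit, Nat.shiftRight_eq_div_pow]
      simp

theorem gatherFast_eq (TI m : ℕ) : gatherFast 24 TI m = gatherMask TI m := by
  rw [gatherFast_eq_ofBits]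
  rfl

/-- the fast action of a table permutation on masks -/
def actF (p : ℕ × ℕ) (m : ℕ) : ℕ := gatherFast 24 p.2 m

theorem actF_eq (p : ℕ × ℕ) (m : ℕ) : actF p m = act p m := gatherFast_eq _ _

/-! ### words of given weight -/

theorem ncard_weight_fixed_fast {p : ℕ × ℕ} (hv : ValidTab p) (n : ℕ) :
    {s : Finset GolayPt | s ∈ wordsOfWeight (golayCode : Set (GolayPt → ZMod 2)) n ∧
      tp p • s = s}.ncard =
      ((Finset.range 4096).filter
        (fun c => popc 24 (encMask c) = n ∧ actF p (encMask c) = encMask c)).card := by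
  rw [ncard_weight_fixed hv n]
  refine congrArg Finset.card ?_
  apply Finset.filter_congr
  intro c _
  rw [actF_eq]

/-! ### sextets -/

/-- the fast mask test for tetrads -/
def sexPF (p : ℕ × ℕ) (m : ℕ) : Prop :=
  actF p m = m ∨ (m &&& actF p m = 0 ∧ octChk (m ^^^ actF p m))

instance (p : ℕ × ℕ) : DecidablePred (sexPF p) := fun m => by unfold sexPF; infer_instance

theorem sexPF_iff (p : ℕ × ℕ) (m : ℕ) : sexPF p m ↔ sexP p m := by
  unfold sexPF sexP
  rw [actF_eq]

theorem sextet_count_fast {p : ℕ × ℕ} (hv : ValidTab p) :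
    6 * {S : Finset (Finset GolayPt) | S ∈ sextets ∧ tp p • S = S}.ncard =
      (quads.filter (sexPF p)).length := by
  rw [sextet_count hv]
  refine congrArg List.length ?_
  apply List.filter_congr
  intro m _
  simp only [sexPF_iff]

/-! ### trios -/

theorem mem_octL_of_octChk {m : ℕ} (h : octChk m) : m ∈ octL :=
  mem_octL.2 ⟨m % 4096, Nat.mod_lt _ (by norm_num), h.2.1, h.2.2⟩

/-- the candidates for the second octad of a fixed trio whose first octad is moved -/
def trioCand (f : ℕ → ℕ) (m1 : ℕ) : List ℕ := [f m1, m1 ^^^ f m1 ^^^ 0xFFFFFF].dedup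

/-- the count of ordered pairs on masks, with the inner loop cut down -/
def trioCountF (f : ℕ → ℕ) : ℕ :=
  (octL.map fun m1 =>
    if f m1 = m1 then (octL.filter fun m2 => trioP f m1 m2).length
    else ((trioCand f m1).filter fun m2 => octChk m2 ∧ trioP f m1 m2).length).sum

theorem xor_cancel_aux (a b c : ℕ) : a ^^^ (a ^^^ b ^^^ c) ^^^ c = b := by
  apply Nat.eq_of_testBit_eq
  intro i
  simp only [Nat.testBit_xor]
  cases a.testBit i <;> cases b.testBit i <;> cases c.testBit i <;> rfl

theorem trio_filter_cand (f : ℕ → ℕ) {m1 : ℕ} (h : f m1 ≠ m1) :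
    (octL.filter fun m2 => trioP f m1 m2).length =
      ((trioCand f m1).filter fun m2 => octChk m2 ∧ trioP f m1 m2).length := by
  apply List.Perm.length_eq
  apply List.perm_of_nodup_nodup_toFinset_eq (octL_nodup.filter _) ((List.nodup_dedup _).filter _)
  ext m2
  simp only [List.mem_toFinset, List.mem_filter, decide_eq_true_eq, List.mem_dedup,
    List.mem_cons, List.not_mem_nil, or_false]
  constructor
  · rintro ⟨hm, hP⟩
    refine ⟨?_, octChk_of_mem_octL hm, hP⟩
    obtain ⟨_, h1, _, _⟩ := hP
    simp only [List.mem_cons, List.not_mem_nil, or_false] at h1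
    rcases h1 with h1 | h1 | h1
    · exact absurd h1 h
    · left; exact h1.symm
    · right; rw [h1]; exact (xor_cancel_aux _ _ _).symm
  · rintro ⟨_, hc, hP⟩
    exact ⟨mem_octL_of_octChk hc, hP⟩

theorem trioCount_eq (f : ℕ → ℕ) : trioCount f = trioCountF f := by
  unfold trioCount trioCountF
  refine congrArg List.sum ?_
  apply List.map_congr_left
  intro m1 _
  split_ifs with h
  · rfl
  · exact trio_filter_cand f h

theorem trio_count_fast {p : ℕ × ℕ} (hv : ValidTab p) :
    6 * {T : Finset (Finset GolayPt) | T ∈ trios ∧ tp p • T = T}.ncard = trioCountF (actF p) := by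
  rw [← trioCount_eq]
  exact trio_count hv (actF p) (fun m _ => actF_eq p m)

end Cfsg.Agent.Lib.Helper9.M24Coset
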