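import Cfsg.Agent.Lib.Helper9.M24CentData
import Cfsg.Agent.Lib.Helper9.M24Commute
import Cfsg.Agent.Lib.Helper9.M24Fast

/-!
Kernel-checked certificates for the data on the centraliser of the standard fixed-point-free
involution `t1` of `M24` (helper9).
-/

set_option autoImplicit false
set_option maxRecDepth 100000

namespace Cfsg.Agent.Lib.Helper9.M24Coset

open Cfsg Cfsg.Agent.Lib.Helper21

/-- the images of the positions `0..4` under the elements of the coset with parameter `e` -/
def imgF (e : ℕ) (i : ℕ) : ℕ := [1, 0, 3, 2, e].getD i 0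

theorem cosF_ok : ∀ ec ∈ cosF, CosetOk ec.2 (imgF ec.1) := by decide +kernel

theorem cosF_keys : cosF.map Prod.fst = List.range' 5 19 := by decide +kernel

/-- the fixed-point-free involutions swapping positions `0,1` and `2,3` -/
def fpfL : List (ℕ × ℕ) :=
  (cosF.flatMap fun ec => ec.2.map Prod.fst).filter (fun p => IsInvT p ∧ IsFpfT p)

theorem fpfL_length : fpfL.length = 66 := by decide +kernel

/-- the list of images of a table -/
def tabKey (p : ℕ × ℕ) : List ℕ := (List.range 24).map (tabGet p.1)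

theorem fpfL_keys_nodup : (fpfL.map tabKey).Nodup := by decide +kernel

theorem cenL_ok : ∀ u ∈ cenL, ValidTab u ∧ CommT u t1 := by decide +kernel

theorem cenL_img : cenL.map (fun u => tabGet u.1 0) = List.range 24 := by decide +kernel

theorem fixOctL_eq : octL.filter (fun m => actF t1 m = m) = fixOctL := by decide +kernel

theorem fixOctL_chk : ∀ a ∈ fixOctL, octChk a ∧ actF t1 a = a := by decide +kernel

theorem fixOctL_pairs : ∀ a ∈ fixOctL, ∀ b ∈ fixOctL, a ≠ b → popc 24 (a &&& b) = 4 →
    (a &&& b) ∈ tetL := by decide +kernel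

theorem tetL_inter : ∀ q ∈ tetL, ∃ a ∈ fixOctL, ∃ b ∈ fixOctL, a ≠ b ∧ a &&& b = q := by
  decide +kernel

theorem tetL_chk : tetL.Nodup ∧ (∀ q ∈ tetL, q < 2 ^ 24 ∧ popc 24 q = 4) ∧
    ∀ a ∈ tetL, ∀ b ∈ tetL, a ≠ b → octChk (a ||| b) := by decide +kernel

end Cfsg.Agent.Lib.Helper9.M24Coset
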