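import Cfsg.Agent.Lib.Helper9.M24Fast

/-!
Numeric certificates for the objects fixed by the standard element `x0` of `M24` (helper9).
-/

set_option autoImplicit false
set_option maxRecDepth 100000

namespace Cfsg.Agent.Lib.Helper9.M24Coset

open Cfsg.Agent.Lib.Helper21

theorem octCert_x0 : ((Finset.range 4096).filter
    (fun c => popc 24 (encMask c) = 8 ∧ actF x0 (encMask c) = encMask c)).card = 21 := by
  decide +kernel

theorem dodCert_x0 : ((Finset.range 4096).filter
    (fun c => popc 24 (encMask c) = 12 ∧ actF x0 (encMask c) = encMask c)).card = 20 := by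
  decide +kernel

theorem quadCert_x0 : (quads.filter (sexPF x0)).length = 96 := by decide +kernel

theorem trioCert_x0 : trioCountF (actF x0) = 90 := by decide +kernel

end Cfsg.Agent.Lib.Helper9.M24Coset
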