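import Cfsg.Agent.Lib.Helper9.M24Fast

/-!
Numeric certificates for the objects fixed by the standard element `x1` of `M24` (helper9).
-/

set_option autoImplicit false
set_option maxRecDepth 100000

namespace Cfsg.Agent.Lib.Helper9.M24Coset

open Cfsg.Agent.Lib.Helper21

theorem quadCert_x1 : (quads.filter (sexPF x1)).length = 42 := by decide +kernel

theorem trioCert_x1 : trioCountF (actF x1) = 90 := by decide +kernel

end Cfsg.Agent.Lib.Helper9.M24Coset
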