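import Cfsg.Agent.Lib.Helper9.SharpTwoNine
import Cfsg.Agent.Lib.Helper21.GolayM12Gen
import Cfsg.Agent.Lib.Helper21.GolayFlag

/-!
`M9`: the stabiliser in `M24` of a dodecad and three of its points is `3^2 : Q8` (helper9).
-/

set_option autoImplicit false

namespace Cfsg.Agent.Lib.Helper9.M9Struct

open Cfsg Cfsg.Agent.Lib.Helper21
open scoped Pointwise

/-! ### Embeddings from distinct points -/

/-- the embedding `![a, b, c]` -/
def tripEmb {β : Type*} (a b c : β) (hab : a ≠ b) (hac : a ≠ c) (hbc : b ≠ c) : Fin 3 ↪ β :=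
  ⟨![a, b, c], by
    intro i j hij
    fin_cases i <;> fin_cases j <;> simp_all [eq_comm]⟩

theorem tripEmb_forall {β : Type*} (a b c : β) (hab : a ≠ b) (hac : a ≠ c) (hbc : b ≠ c)
    (P : Fin 3 → β → Prop) (h0 : P 0 a) (h1 : P 1 b) (h2 : P 2 c) (i : Fin 3) :
    P i (tripEmb a b c hab hac hbc i) := by
  fin_cases i
  · exact h0
  · exact h1
  · exact h2

/-- the embedding `![a, b, c, d, e]` -/
def quintEmb {β : Type*} (a b c d e : β) (hab : a ≠ b) (hac : a ≠ c) (had : a ≠ d) (hae : a ≠ e)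
    (hbc : b ≠ c) (hbd : b ≠ d) (hbe : b ≠ e) (hcd : c ≠ d) (hce : c ≠ e) (hde : d ≠ e) :
    Fin 5 ↪ β :=
  ⟨![a, b, c, d, e], by
    intro i j hij
    fin_cases i <;> fin_cases j <;> simp_all [eq_comm]⟩

theorem quintEmb_forall {β : Type*} (a b c d e : β) (hab : a ≠ b) (hac : a ≠ c) (had : a ≠ d)
    (hae : a ≠ e) (hbc : b ≠ c) (hbd : b ≠ d) (hbe : b ≠ e) (hcd : c ≠ d) (hce : c ≠ e)
    (hde : d ≠ e) (P : Fin 5 → β → Prop) (h0 : P 0 a) (h1 : P 1 b) (h2 : P 2 c) (h3 : P 3 d)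
    (h4 : P 4 e) (i : Fin 5) :
    P i (quintEmb a b c d e hab hac had hae hbc hbd hbe hcd hce hde i) := by
  fin_cases i
  · exact h0
  · exact h1
  · exact h2
  · exact h3
  · exact h4

/-! ### The quaternion pair in the standard position -/

def tX : ℕ := 0x2ccea5b1c9b448d7d506a42f218820
def tXi : ℕ := 0x2bd47b11c65c5929d209aa2ed18820
def tY : ℕ := 0x89df3ac2eda150655992591c918820
def tYi : ℕ := 0x8aa6fa22f2a96093ac8db31c618820

theorem tabX : TabInv tX tXi := by decide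
theorem tabY : TabInv tY tYi := by decide

theorem codeX : ∀ b ∈ basisMasks, encMask (gatherMask tX b % 4096) = gatherMask tX b := by
  decide +kernel
theorem codeY : ∀ b ∈ basisMasks, encMask (gatherMask tY b % 4096) = gatherMask tY b := by
  decide +kernel

def X0 : Equiv.Perm GolayPt := permOfTab tX tXi tabX
def Y0 : Equiv.Perm GolayPt := permOfTab tY tYi tabY

theorem X0_mem : X0 ∈ conSub [dsq] [0, 1, 2, 3] :=
  permOfTab_mem_conSub tX tXi tabX codeX [dsq] [0, 1, 2, 3] (by decide +kernel) (by decide)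

theorem Y0_mem : Y0 ∈ conSub [dsq] [0, 1, 2, 3] :=
  permOfTab_mem_conSub tY tYi tabY codeY [dsq] [0, 1, 2, 3] (by decide +kernel) (by decide)

theorem perm_ext_ptN {f g : Equiv.Perm GolayPt} (h : ∀ i : Fin 24, f (ptN i) = g (ptN i)) :
    f = g := by
  apply Equiv.ext
  intro p
  rw [← ptN_gEquiv p]
  exact h _

theorem X0_ptN (i : ℕ) (hi : i < 24) : X0 (ptN i) = ptN (tabGet tX i) :=
  permOfTab_ptN _ _ _ i hi

theorem Y0_ptN (i : ℕ) (hi : i < 24) : Y0 (ptN i) = ptN (tabGet tY i) :=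
  permOfTab_ptN _ _ _ i hi

theorem tX_lt (i : ℕ) (hi : i < 24) : tabGet tX i < 24 := (tabX ⟨i, hi⟩).1
theorem tY_lt (i : ℕ) (hi : i < 24) : tabGet tY i < 24 := (tabY ⟨i, hi⟩).1

theorem relX4 : X0 ^ 4 = 1 := by
  have h : ∀ i : Fin 24, tabGet tX (tabGet tX (tabGet tX (tabGet tX i))) = i := by decide
  apply perm_ext_ptN
  intro i
  have hi := i.isLt
  rw [pow_succ, pow_succ, pow_succ, pow_one, Equiv.Perm.mul_apply, Equiv.Perm.mul_apply,
    Equiv.Perm.mul_apply, X0_ptN _ hi, X0_ptN _ (tX_lt _ hi), X0_ptN _ (tX_lt _ (tX_lt _ hi)),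
    X0_ptN _ (tX_lt _ (tX_lt _ (tX_lt _ hi))), h i]
  rfl

theorem relX2 : X0 ^ 2 ≠ 1 := by
  intro h
  have h1 : (X0 ^ 2) (ptN 4) = ptN 4 := by rw [h]; rfl
  rw [pow_two, Equiv.Perm.mul_apply, X0_ptN 4 (by norm_num), X0_ptN _ (tX_lt 4 (by norm_num))] at h1
  have h2 := ptN_injOn (tX_lt _ (tX_lt 4 (by norm_num))) (by norm_num) h1
  revert h2
  decide

theorem relY2 : Y0 ^ 2 = X0 ^ 2 := by
  have h : ∀ i : Fin 24, tabGet tY (tabGet tY i) = tabGet tX (tabGet tX i) := by decide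
  apply perm_ext_ptN
  intro i
  have hi := i.isLt
  rw [pow_two, pow_two, Equiv.Perm.mul_apply, Equiv.Perm.mul_apply, X0_ptN _ hi, Y0_ptN _ hi,
    X0_ptN _ (tX_lt _ hi), Y0_ptN _ (tY_lt _ hi), h i]

theorem relXYX : X0 * Y0 * X0 = Y0 := by
  have h : ∀ i : Fin 24, tabGet tX (tabGet tY (tabGet tX i)) = tabGet tY i := by decide
  apply perm_ext_ptN
  intro i
  have hi := i.isLt
  rw [Equiv.Perm.mul_apply, Equiv.Perm.mul_apply, X0_ptN _ hi, Y0_ptN _ (tX_lt _ hi),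
    X0_ptN _ (tY_lt _ (tX_lt _ hi)), Y0_ptN _ hi, h i]

theorem relInv : Y0 * X0 * Y0⁻¹ = X0⁻¹ := by
  have h := relXYX
  have h2 : Y0 * X0 = X0⁻¹ * Y0 := by
    rw [eq_inv_mul_iff_mul_eq, ← mul_assoc, h]
  rw [h2, mul_assoc, mul_inv_cancel, mul_one]

theorem orderOf_X0 : orderOf X0 = 4 := by
  have := orderOf_eq_prime_pow (p := 2) (n := 1) (x := X0) (by simpa using relX2)
    (by simpa using relX4)
  simpa using this

/-! ### The group and the set it acts on -/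

/-- the stabiliser of a set and three points -/
abbrev stab4 (d : Finset GolayPt) (p q r : GolayPt) : Subgroup ↥M24 :=
  MulAction.stabilizer M24 d ⊓ MulAction.stabilizer M24 p ⊓ MulAction.stabilizer M24 q ⊓
    MulAction.stabilizer M24 r

theorem mem_stab4 {d : Finset GolayPt} {p q r : GolayPt} (g : ↥M24) :
    g ∈ stab4 d p q r ↔ ((g : Equiv.Perm GolayPt) • d = d ∧ (g : Equiv.Perm GolayPt) p = p ∧
      (g : Equiv.Perm GolayPt) q = q ∧ (g : Equiv.Perm GolayPt) r = r) := by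
  simp only [stab4, Subgroup.mem_inf, MulAction.mem_stabilizer_iff, and_assoc]
  rfl

theorem apply_mem_of_smul_eq {g : Equiv.Perm GolayPt} {d : Finset GolayPt} (h : g • d = d)
    {x : GolayPt} (hx : x ∈ d) : g x ∈ d := by
  have := Finset.smul_mem_smul_finset (a := g) hx
  rwa [h] at this

/-- the nine remaining points -/
def omega (d : Finset GolayPt) (p q r : GolayPt) : SubMulAction ↥(stab4 d p q r) GolayPt where
  carrier := {x | x ∈ d ∧ x ≠ p ∧ x ≠ q ∧ x ≠ r}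
  smul_mem' := by
    rintro h x ⟨hx, hxp, hxq, hxr⟩
    obtain ⟨h1, h2, h3, h4⟩ := (mem_stab4 h.1).1 h.2
    refine ⟨apply_mem_of_smul_eq h1 hx, ?_, ?_, ?_⟩
    · intro e
      exact hxp ((h.1 : Equiv.Perm GolayPt).injective (e.trans h2.symm))
    · intro e
      exact hxq ((h.1 : Equiv.Perm GolayPt).injective (e.trans h3.symm))
    · intro e
      exact hxr ((h.1 : Equiv.Perm GolayPt).injective (e.trans h4.symm))

theorem mem_omega {d : Finset GolayPt} {p q r x : GolayPt} :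
    x ∈ omega d p q r ↔ x ∈ d ∧ x ≠ p ∧ x ≠ q ∧ x ≠ r := Iff.rfl

theorem smul_omega_val {d : Finset GolayPt} {p q r : GolayPt} (h : ↥(stab4 d p q r))
    (x : ↥(omega d p q r)) : ((h • x : ↥(omega d p q r)) : GolayPt) =
      ((h : ↥M24) : Equiv.Perm GolayPt) (x : GolayPt) := rfl

theorem card_omega {d : Finset GolayPt} (hd : d ∈ dodecads) {p q r : GolayPt} (hp : p ∈ d)
    (hq : q ∈ d) (hr : r ∈ d) (hpq : p ≠ q) (hpr : p ≠ r) (hqr : q ≠ r) :
    Nat.card ↥(omega d p q r) = 9 := by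
  have hcard : d.card = 12 := hd.2
  have h1 : Nat.card ↥(omega d p q r) = (((d.erase p).erase q).erase r).card :=
    Nat.subtype_card _ (fun x => by
      rw [mem_omega]
      simp only [Finset.mem_erase]
      tauto)
  have hq' : q ∈ d.erase p := Finset.mem_erase.2 ⟨hpq.symm, hq⟩
  have hr' : r ∈ (d.erase p).erase q :=
    Finset.mem_erase.2 ⟨hqr.symm, Finset.mem_erase.2 ⟨hpr.symm, hr⟩⟩
  rw [h1, Finset.card_erase_of_mem hr', Finset.card_erase_of_mem hq', Finset.card_erase_of_mem hp,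
    hcard]

/-- build an element of the group -/
def mkElt {d : Finset GolayPt} {p q r : GolayPt} (g : Equiv.Perm GolayPt) (hg : g ∈ M24)
    (hd : g • d = d) (hp : g p = p) (hq : g q = q) (hr : g r = r) : ↥(stab4 d p q r) :=
  ⟨⟨g, hg⟩, (mem_stab4 _).2 ⟨hd, hp, hq, hr⟩⟩

theorem main (d : Finset GolayPt) (hd : d ∈ dodecads) (p q r : GolayPt) (hp : p ∈ d) (hq : q ∈ d)
    (hr : r ∈ d) (hpq : p ≠ q) (hpr : p ≠ r) (hqr : q ≠ r) :
    (∀ Q : Sylow 3 ↥(stab4 d p q r), (Q : Subgroup ↥(stab4 d p q r)).Normal ∧ Nat.card ↥Q = 9 ∧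
      ∀ x ∈ (Q : Subgroup ↥(stab4 d p q r)), x ^ 3 = 1) ∧
      ∀ P : Sylow 2 ↥(stab4 d p q r), Nonempty (↥P ≃* QuaternionGroup 2) := by
  have hΩ := card_omega hd hp hq hr hpq hpr hqr
  -- transitivity
  have htrans : ∀ a b c e : ↥(omega d p q r), a ≠ b → c ≠ e →
      ∃ h : ↥(stab4 d p q r), h • a = c ∧ h • b = e := by
    intro a b c e hab hce
    have hab' : (a : GolayPt) ≠ b := fun h => hab (Subtype.ext h)
    have hce' : (c : GolayPt) ≠ e := fun h => hce (Subtype.ext h)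
    obtain ⟨ha1, ha2, ha3, ha4⟩ := a.2
    obtain ⟨hb1, hb2, hb3, hb4⟩ := b.2
    obtain ⟨hc1, hc2, hc3, hc4⟩ := c.2
    obtain ⟨he1, he2, he3, he4⟩ := e.2
    obtain ⟨g, hg, hgd, hgx⟩ := dodecad_stab_trans (n := 5) le_rfl d hd
      (quintEmb p q r a b hpq hpr (Ne.symm ha2) (Ne.symm hb2) hqr (Ne.symm ha3) (Ne.symm hb3)
        (Ne.symm ha4) (Ne.symm hb4) hab')
      (quintEmb p q r c e hpq hpr (Ne.symm hc2) (Ne.symm he2) hqr (Ne.symm hc3) (Ne.symm he3)
        (Ne.symm hc4) (Ne.symm he4) hce')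
      (quintEmb_forall _ _ _ _ _ _ _ _ _ _ _ _ _ _ _ (fun _ x => x ∈ d) hp hq hr ha1 hb1)
      (quintEmb_forall _ _ _ _ _ _ _ _ _ _ _ _ _ _ _ (fun _ x => x ∈ d) hp hq hr hc1 he1)
    have e0 : g p = p := hgx 0
    have e1 : g q = q := hgx 1
    have e2 : g r = r := hgx 2
    have e3 : g a = c := hgx 3
    have e4 : g b = e := hgx 4
    exact ⟨mkElt g hg hgd e0 e1 e2, Subtype.ext e3, Subtype.ext e4⟩
  -- sharpness
  have hsharp : ∀ (h : ↥(stab4 d p q r)) (a b : ↥(omega d p q r)), a ≠ b → h • a = a → h • b = b →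
      h = 1 := by
    intro h a b hab h1 h2
    have hab' : (a : GolayPt) ≠ b := fun h => hab (Subtype.ext h)
    obtain ⟨ha1, ha2, ha3, ha4⟩ := a.2
    obtain ⟨hb1, hb2, hb3, hb4⟩ := b.2
    obtain ⟨k1, k2, k3, k4⟩ := (mem_stab4 h.1).1 h.2
    have k5 : ((h : ↥M24) : Equiv.Perm GolayPt) a = a := congrArg Subtype.val h1
    have k6 : ((h : ↥M24) : Equiv.Perm GolayPt) b = b := congrArg Subtype.val h2
    have := dodecad_stab_unique d hd
      (quintEmb p q r a b hpq hpr (Ne.symm ha2) (Ne.symm hb2) hqr (Ne.symm ha3) (Ne.symm hb3)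
        (Ne.symm ha4) (Ne.symm hb4) hab')
      (quintEmb_forall _ _ _ _ _ _ _ _ _ _ _ _ _ _ _ (fun _ x => x ∈ d) hp hq hr ha1 hb1)
      ((h : ↥M24) : Equiv.Perm GolayPt) h.1.2 k1
      (quintEmb_forall _ _ _ _ _ _ _ _ _ _ _ _ _ _ _
        (fun _ x => ((h : ↥M24) : Equiv.Perm GolayPt) x = x) k2 k3 k4 k5 k6)
    exact Subtype.ext (Subtype.ext this)
  -- the frame
  obtain ⟨k0, hk0, hk0d⟩ := exists_map_squareDodecad d hd
  have hmem0 : ∀ x ∈ d, k0⁻¹ x ∈ Spor.squareDodecad := by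
    intro x hx
    rw [smul_finset_mem_iff, hk0d]; exact hx
  have hinj : ∀ {x y : GolayPt}, x ≠ y → k0⁻¹ x ≠ k0⁻¹ y := fun hxy e =>
    hxy ((k0⁻¹ : Equiv.Perm GolayPt).injective e)
  obtain ⟨g1, hg1, hg1x⟩ := M12_map_embedding (n := 3) (by norm_num)
    (tripEmb (k0⁻¹ p) (k0⁻¹ q) (k0⁻¹ r) (hinj hpq) (hinj hpr) (hinj hqr))
    (tripEmb_forall _ _ _ _ _ _ (fun _ x => x ∈ Spor.squareDodecad) (hmem0 p hp) (hmem0 q hq)
      (hmem0 r hr))
  rw [mem_M12_iff] at hg1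
  have f0 : g1 (ptN 0) = k0⁻¹ p := hg1x 0
  have f1 : g1 (ptN 1) = k0⁻¹ q := hg1x 1
  have f2 : g1 (ptN 2) = k0⁻¹ r := hg1x 2
  have hk : k0 * g1 ∈ M24 := M24.mul_mem hk0 hg1.1
  have hkd : (k0 * g1) • Spor.squareDodecad = d := by rw [mul_smul, hg1.2, hk0d]
  have hkp : (k0 * g1) (ptN 0) = p := by rw [Equiv.Perm.mul_apply, f0, perm_apply_inv]
  have hkq : (k0 * g1) (ptN 1) = q := by rw [Equiv.Perm.mul_apply, f1, perm_apply_inv]
  have hkr : (k0 * g1) (ptN 2) = r := by rw [Equiv.Perm.mul_apply, f2, perm_apply_inv]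
  generalize k0 * g1 = k at hk hkd hkp hkq hkr
  have h3mem : ptN 3 ∈ Spor.squareDodecad := by
    rw [← maskFS_dsq, mem_maskFS, gEquiv_ptN_val 3 (by norm_num)]
    decide
  have hne : ∀ i : ℕ, i < 3 → k (ptN 3) ≠ k (ptN i) := by
    intro i hi e
    have := ptN_injOn (by norm_num) (by omega) (k.injective e)
    omega
  have ha0 : k (ptN 3) ∈ omega d p q r := by
    refine ⟨?_, ?_, ?_, ?_⟩
    · rw [← hkd]; exact Finset.smul_mem_smul_finset h3mem
    · rw [← hkp]; exact hne 0 (by norm_num)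
    · rw [← hkq]; exact hne 1 (by norm_num)
    · rw [← hkr]; exact hne 2 (by norm_num)
  -- conjugating an element of the standard point stabiliser
  have hconj : ∀ g0 ∈ conSub [dsq] [0, 1, 2, 3], ∃ h : ↥(stab4 d p q r),
      ((h : ↥M24) : Equiv.Perm GolayPt) = k * g0 * k⁻¹ ∧
        h • (⟨k (ptN 3), ha0⟩ : ↥(omega d p q r)) = ⟨k (ptN 3), ha0⟩ := by
    intro g0 hg0
    obtain ⟨m1, m2, m3⟩ := hg0
    have hs : g0 • Spor.squareDodecad = Spor.squareDodecad := by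
      have := m2 dsq (by simp)
      unfold StabM at this
      rwa [maskFS_dsq] at this
    have hfix : ∀ i ∈ [0, 1, 2, 3], (k * g0 * k⁻¹) (k (ptN i)) = k (ptN i) := by
      intro i hi
      rw [Equiv.Perm.mul_apply, Equiv.Perm.mul_apply, perm_inv_apply, m3 i hi]
    refine ⟨mkElt (k * g0 * k⁻¹) (M24.mul_mem (M24.mul_mem hk m1) (M24.inv_mem hk)) ?_ ?_ ?_ ?_,
      rfl, Subtype.ext (hfix 3 (by simp))⟩
    · rw [← hkd, mul_smul, mul_smul, inv_smul_smul, hs]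
    · rw [← hkp]; exact hfix 0 (by simp)
    · rw [← hkq]; exact hfix 1 (by simp)
    · rw [← hkr]; exact hfix 2 (by simp)
  obtain ⟨X, hX, hXa⟩ := hconj X0 X0_mem
  obtain ⟨Y, hY, hYa⟩ := hconj Y0 Y0_mem
  -- the injection into permutations
  let ι : ↥(stab4 d p q r) →* Equiv.Perm GolayPt := (M24.subtype).comp (stab4 d p q r).subtype
  have hι : Function.Injective ι :=
    (Subgroup.subtype_injective _).comp (Subgroup.subtype_injective _)
  have hιX : ι X = k * X0 * k⁻¹ := hX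
  have hιY : ι Y = k * Y0 * k⁻¹ := hY
  have hx : orderOf X = 4 := by
    rw [← orderOf_injective ι hι X, hιX]
    have := (MulAut.conj k).orderOf_eq X0
    rw [MulAut.conj_apply] at this
    rw [this, orderOf_X0]
  have hy2 : Y ^ 2 = X ^ 2 := by
    apply hι
    rw [map_pow, map_pow, hιX, hιY, conj_pow, conj_pow, relY2]
  have hinv : Y * X * Y⁻¹ = X⁻¹ := by
    apply hι
    rw [map_mul, map_mul, map_inv, map_inv, hιX, hιY]
    have : k * Y0 * k⁻¹ * (k * X0 * k⁻¹) * (k * Y0 * k⁻¹)⁻¹ = k * (Y0 * X0 * Y0⁻¹) * k⁻¹ := by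
      group
    rw [this, relInv]; group
  exact SharpTwoNine.main hΩ htrans hsharp _ X Y hXa hYa hx hy2 hinv

end Cfsg.Agent.Lib.Helper9.M9Struct
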