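import Cfsg.Agent.Lib.Helper9.M24CosetCert
import Cfsg.Agent.Lib.Helper9.M9Struct

/-!
Conjugacy classes of elements of order `2` and `3` of `M24` (helper9).
-/

set_option autoImplicit false

namespace Cfsg.Agent.Lib.Helper9.M24Coset

open Cfsg Cfsg.Agent.Lib.Helper21 Cfsg.Agent.Lib.Helper9.M9Struct
open scoped Pointwise

/-- `g` is conjugate in `M24` to the table permutation `t` -/
def IsConjTo (t : ℕ × ℕ) (g : Equiv.Perm GolayPt) : Prop := ∃ k ∈ M24, k * tp t * k⁻¹ = g

theorem IsConjTo.of_conj {t : ℕ × ℕ} {g h : Equiv.Perm GolayPt} (hh : h ∈ M24)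
    (hc : IsConjTo t (h⁻¹ * g * h)) : IsConjTo t g := by
  obtain ⟨k, hk, e⟩ := hc
  refine ⟨h * k, M24.mul_mem hh hk, ?_⟩
  have : h * k * tp t * (h * k)⁻¹ = h * (k * tp t * k⁻¹) * h⁻¹ := by group
  rw [this, e]; group

theorem IsConjTo.of_conj' {t : ℕ × ℕ} {g h : Equiv.Perm GolayPt} (hh : h ∈ M24)
    (hc : IsConjTo t (h * g * h⁻¹)) : IsConjTo t g := by
  apply IsConjTo.of_conj (M24.inv_mem hh)
  rwa [inv_inv]

theorem IsConjTo.mem {t : ℕ × ℕ} (ht : ValidTab t) {g : Equiv.Perm GolayPt} (h : IsConjTo t g) :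
    g ∈ M24 := by
  obtain ⟨k, hk, rfl⟩ := h
  exact M24.mul_mem (M24.mul_mem hk (tp_mem ht)) (M24.inv_mem hk)

theorem mem_coset (C : List ((ℕ × ℕ) × (ℕ × ℕ))) (c : ℕ → ℕ) (hok : CosetOk C c)
    (g : Equiv.Perm GolayPt) (hg : g ∈ M24) (hgi : ∀ i < 5, g (ptN i) = ptN (c i)) :
    ∃ q ∈ C, g = tp q.1 ∧ ValidTab q.1 := by
  obtain ⟨h1, h2, h3, h4⟩ := hok
  obtain ⟨p, hp, e⟩ := coset48 _ c h1 h2 h3 h4 g hg hgi
  have hv := h2 p hp
  rw [List.mem_map] at hp
  obtain ⟨q, hq, rfl⟩ := hp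
  exact ⟨q, hq, e, hv⟩

theorem conj_of_ok (C : List ((ℕ × ℕ) × (ℕ × ℕ))) (c : ℕ → ℕ) (t : ℕ × ℕ) (R : ℕ × ℕ → Prop)
    [DecidablePred R] (hok : CosetOk C c) (hconj : ConjOk C t R) (ht : ValidTab t)
    (g : Equiv.Perm GolayPt) (hg : g ∈ M24) (hgi : ∀ i < 5, g (ptN i) = ptN (c i))
    (hR : ∀ p, ValidTab p → g = tp p → R p) : IsConjTo t g := by
  obtain ⟨q, hq, e, hv⟩ := mem_coset C c hok g hg hgi
  obtain ⟨hv2, hrel⟩ := hconj q hq (hR q.1 hv e)
  refine ⟨tp q.2, tp_mem hv2, ?_⟩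
  rw [tp_mul_eq hv2 ht hv hv2 hrel, e]
  group

/-- conjugating an element so that five given points become the points `0..4` -/
theorem conj_frame (g : Equiv.Perm GolayPt) (hg : g ∈ M24) (y : Fin 5 ↪ GolayPt) :
    ∃ k ∈ M24, k⁻¹ * g * k ∈ M24 ∧ (∀ i : Fin 5, k (ptN i) = y i) ∧
      ∀ i : Fin 5, (k⁻¹ * g * k) (ptN i) = k⁻¹ (g (y i)) := by
  obtain ⟨k, hk, hky⟩ := exists_map_embedding (n := 5) le_rfl y
  refine ⟨k, hk, M24.mul_mem (M24.mul_mem (M24.inv_mem hk) hg) hk, hky, fun i => ?_⟩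
  rw [Equiv.Perm.mul_apply, Equiv.Perm.mul_apply, hky i]

theorem card_fixed_conj (g k : Equiv.Perm GolayPt) :
    (Finset.univ.filter fun q : GolayPt => (k⁻¹ * g * k) q = q).card =
      (Finset.univ.filter fun q : GolayPt => g q = q).card := by
  apply Finset.card_equiv k
  intro q
  rw [Finset.mem_filter, Finset.mem_filter]
  constructor
  · rintro ⟨_, h⟩
    refine ⟨Finset.mem_univ _, ?_⟩
    rw [Equiv.Perm.mul_apply, Equiv.Perm.mul_apply] at h
    have := congrArg k h
    rwa [perm_apply_inv] at this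
  · rintro ⟨_, h⟩
    refine ⟨Finset.mem_univ _, ?_⟩
    rw [Equiv.Perm.mul_apply, Equiv.Perm.mul_apply]
    have h' : g (k q) = k q := h
    rw [h', perm_inv_apply]

/-- A non-identity element of `M24` fixes at most eight points. -/
theorem card_fixed_le_eight {g : Equiv.Perm GolayPt} (hg : g ∈ M24) (hg1 : g ≠ 1) :
    (Finset.univ.filter fun q : GolayPt => g q = q).card ≤ 8 := by
  by_contra hlt
  rw [not_le] at hlt
  obtain ⟨f⟩ : Nonempty (Fin 5 ↪ ↥(Finset.univ.filter fun q : GolayPt => g q = q)) := by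
    apply Function.Embedding.nonempty_of_card_le
    rw [Fintype.card_fin, Fintype.card_coe]
    omega
  let y : Fin 5 ↪ GolayPt := f.trans (Function.Embedding.subtype _)
  have hy : ∀ i, g (y i) = y i := by
    intro i
    exact (Finset.mem_filter.1 (f i).2).2
  obtain ⟨k, hk, hgk, hky, hki⟩ := conj_frame g hg y
  have hgi : ∀ i < 5, (k⁻¹ * g * k) (ptN i) = ptN (imgL i) := by
    intro i hi
    have h1 := hki ⟨i, hi⟩
    rw [hy, ← hky, perm_inv_apply] at h1
    rw [h1]
    interval_cases i <;> rfl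
  obtain ⟨q, hq, e, hv⟩ := mem_coset cL imgL okL _ hgk hgi
  rcases fixL q hq with h1 | h1
  · apply hg1
    have h2 := eq_one_of_isIdT hv h1
    rw [← e] at h2
    have : g = k * (k⁻¹ * g * k) * k⁻¹ := by group
    rw [this, h2]; group
  · have h2 := card_fixed_conj g k
    rw [e, card_fixed_tp hv] at h2
    omega

theorem invol_apply {t : Equiv.Perm GolayPt} (h2 : t ^ 2 = 1) (q : GolayPt) : t (t q) = q := by
  have : (t ^ 2) q = q := by rw [h2]; rfl
  rwa [pow_two, Equiv.Perm.mul_apply] at this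

theorem cube_apply {x : Equiv.Perm GolayPt} (h3 : x ^ 3 = 1) (q : GolayPt) : x (x (x q)) = q := by
  have : (x ^ 3) q = q := by rw [h3]; rfl
  rwa [pow_succ, pow_two, Equiv.Perm.mul_apply, Equiv.Perm.mul_apply] at this

theorem exists_moved {t : Equiv.Perm GolayPt} (h1 : t ≠ 1) : ∃ a, t a ≠ a := by
  by_contra h
  push Not at h
  exact h1 (Equiv.ext h)

/-- An involution of `M24` with a fixed point is conjugate to the standard one. -/
theorem invol_fixed_conj {t : Equiv.Perm GolayPt} (ht : t ∈ M24) (h2 : t ^ 2 = 1) (h1 : t ≠ 1)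
    {p : GolayPt} (hp : t p = p) : IsConjTo t0 t := by
  have hinv := invol_apply h2
  obtain ⟨a, ha⟩ := exists_moved h1
  have hb : t (t a) ≠ t a := by rw [hinv]; exact fun h => ha h.symm
  by_cases hc : ∃ c, c ≠ a ∧ c ≠ t a ∧ t c ≠ c
  · obtain ⟨c, hca, hcb, hc⟩ := hc
    have he : t (t c) ≠ t c := by rw [hinv]; exact fun h => hc h.symm
    have nf : ∀ {u : GolayPt}, t u ≠ u → p ≠ u := fun hu e => hu (e ▸ hp)
    let y := quintEmb p a (t a) c (t c) (nf ha) (nf hb) (nf hc) (nf he) (Ne.symm ha) (Ne.symm hca)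
      (fun e => hcb (by rw [e, hinv])) (Ne.symm hcb)
      (fun e => hca (t.injective e).symm) (Ne.symm hc)
    obtain ⟨k, hk, hgk, hky, hki⟩ := conj_frame t ht y
    apply IsConjTo.of_conj hk
    have e0 : k (ptN 0) = p := hky 0
    have e1 : k (ptN 1) = a := hky 1
    have e2 : k (ptN 2) = t a := hky 2
    have e3 : k (ptN 3) = c := hky 3
    have e4 : k (ptN 4) = t c := hky 4
    have f0 : (k⁻¹ * t * k) (ptN 0) = ptN 0 :=
      (hki 0).trans (by show k⁻¹ (t p) = _; rw [hp, ← e0, perm_inv_apply])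
    have f1 : (k⁻¹ * t * k) (ptN 1) = ptN 2 :=
      (hki 1).trans (by show k⁻¹ (t a) = _; rw [← e2, perm_inv_apply])
    have f2 : (k⁻¹ * t * k) (ptN 2) = ptN 1 :=
      (hki 2).trans (by show k⁻¹ (t (t a)) = _; rw [hinv, ← e1, perm_inv_apply])
    have f3 : (k⁻¹ * t * k) (ptN 3) = ptN 4 :=
      (hki 3).trans (by show k⁻¹ (t c) = _; rw [← e4, perm_inv_apply])
    have f4 : (k⁻¹ * t * k) (ptN 4) = ptN 3 :=
      (hki 4).trans (by show k⁻¹ (t (t c)) = _; rw [hinv, ← e3, perm_inv_apply])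
    apply conj_of_ok cI1 imgI1 t0 IsInvT okI1 conjI1 valid_t0 _ hgk
    · intro i hi
      interval_cases i
      · exact f0
      · exact f1
      · exact f2
      · exact f3
      · exact f4
    · intro q hv e
      apply isInvT_of hv
      rw [← e]
      have : (k⁻¹ * t * k) ^ 2 = k⁻¹ * t ^ 2 * k := by rw [pow_two, pow_two]; group
      rw [this, h2]; group
  · exfalso
    push Not at hc
    have h8 := card_fixed_le_eight ht h1
    have hsub : (Finset.univ \ {a, t a} : Finset GolayPt) ⊆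
        Finset.univ.filter fun q : GolayPt => t q = q := by
      intro q hq
      rw [Finset.mem_sdiff, Finset.mem_insert, Finset.mem_singleton] at hq
      rw [Finset.mem_filter]
      refine ⟨Finset.mem_univ _, hc q (fun e => hq.2 (Or.inl e)) (fun e => hq.2 (Or.inr e))⟩
    have h22 := Finset.card_le_card hsub
    rw [Finset.card_sdiff_of_subset (Finset.subset_univ _), Finset.card_univ,
      Finset.card_pair (Ne.symm ha)] at h22
    have : Fintype.card GolayPt = 24 := rfl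
    omega

theorem exists_not_mem (s : Finset GolayPt) (h : s.card < 24) : ∃ c, c ∉ s := by
  by_contra hc
  push Not at hc
  have : s = Finset.univ := Finset.eq_univ_iff_forall.2 hc
  rw [this, Finset.card_univ] at h
  have : Fintype.card GolayPt = 24 := rfl
  omega

/-- the image of a point outside the frame -/
theorem fifth_image (k : Equiv.Perm GolayPt) (y : Fin 5 ↪ GolayPt)
    (hky : ∀ i : Fin 5, k (ptN i) = y i) (z : GolayPt) (hz : ∀ j : Fin 5, z ≠ y j) :
    ∃ x, 5 ≤ x ∧ x < 24 ∧ k⁻¹ z = ptN x := by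
  refine ⟨((gEquiv (k⁻¹ z) : Fin 24) : ℕ), ?_, (gEquiv (k⁻¹ z)).isLt, (ptN_gEquiv _).symm⟩
  by_contra hlt
  rw [not_le] at hlt
  apply hz ⟨_, hlt⟩
  rw [← hky]
  show z = k (ptN ((gEquiv (k⁻¹ z) : Fin 24) : ℕ))
  rw [ptN_gEquiv, perm_apply_inv]

/-- moving the image of position `4` to position `5` or `7` -/
theorem reduce_fifth (g : Equiv.Perm GolayPt) (hg : g ∈ M24) (c : ℕ → ℕ) (hc : ∀ i < 4, c i < 5)
    (hgi : ∀ i < 4, g (ptN i) = ptN (c i)) (x : ℕ) (hx5 : 5 ≤ x) (hx : x < 24)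
    (hg4 : g (ptN 4) = ptN x) :
    ∃ s ∈ M24, s * g * s⁻¹ ∈ M24 ∧ (∀ i < 4, (s * g * s⁻¹) (ptN i) = ptN (c i)) ∧
      ((s * g * s⁻¹) (ptN 4) = ptN 5 ∨ (s * g * s⁻¹) (ptN 4) = ptN 7) := by
  obtain ⟨q, hq, hq57⟩ := orbL x hx hx5
  have hv : ValidTab q.1 := okL.2.1 q.1 (List.mem_map.2 ⟨q, hq, rfl⟩)
  have hfix : ∀ i < 5, tp q.1 (ptN i) = ptN i := by
    intro i hi
    rw [tp_ptN hv i (by omega), okL.2.2.1 q.1 (List.mem_map.2 ⟨q, hq, rfl⟩) i hi]
    interval_cases i <;> rfl
  have hfix' : ∀ i < 5, (tp q.1)⁻¹ (ptN i) = ptN i := by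
    intro i hi
    rw [Equiv.Perm.inv_eq_iff_eq, hfix i hi]
  have hs := tp_mem hv
  refine ⟨tp q.1, hs, M24.mul_mem (M24.mul_mem hs hg) (M24.inv_mem hs), fun i hi => ?_, ?_⟩
  · rw [Equiv.Perm.mul_apply, Equiv.Perm.mul_apply, hfix' i (by omega), hgi i hi, hfix _ (hc i hi)]
  · rw [Equiv.Perm.mul_apply, Equiv.Perm.mul_apply, hfix' 4 (by norm_num), hg4, tp_ptN hv x hx]
    rcases hq57 with h | h
    · left; rw [h]
    · right; rw [h]

theorem pow_conj_left (k g : Equiv.Perm GolayPt) (n : ℕ) :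
    (k⁻¹ * g * k) ^ n = k⁻¹ * g ^ n * k := by
  have := conj_pow (a := k⁻¹) (b := g) (i := n)
  rwa [inv_inv] at this

theorem fpf_conj (k g : Equiv.Perm GolayPt) (hf : ∀ q, g q ≠ q) : ∀ q, (k * g * k⁻¹) q ≠ q := by
  intro q h
  apply hf (k⁻¹ q)
  rw [Equiv.Perm.mul_apply, Equiv.Perm.mul_apply] at h
  have := congrArg (k⁻¹ : Equiv.Perm GolayPt) h
  rwa [perm_inv_apply] at this

theorem fpf_conj_left (k g : Equiv.Perm GolayPt) (hf : ∀ q, g q ≠ q) :
    ∀ q, (k⁻¹ * g * k) q ≠ q := by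
  have := fpf_conj k⁻¹ g hf
  rwa [inv_inv] at this

/-- A fixed-point-free involution of `M24` is conjugate to the standard one. -/
theorem invol_fpf_conj {t : Equiv.Perm GolayPt} (ht : t ∈ M24) (h2 : t ^ 2 = 1)
    (hf : ∀ q, t q ≠ q) : IsConjTo t1 t := by
  have hinv := invol_apply h2
  have hne : ∀ {u v : GolayPt}, u ≠ v → t u ≠ t v := fun h e => h (t.injective e)
  let a : GolayPt := ptN 0
  obtain ⟨c, hc⟩ := exists_not_mem {a, t a} (lt_of_le_of_lt (Finset.card_insert_le _ _) (by simp))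
  rw [Finset.mem_insert, Finset.mem_singleton, not_or] at hc
  obtain ⟨hca, hcb⟩ := hc
  obtain ⟨f, hf'⟩ := exists_not_mem {a, t a, c, t c} (lt_of_le_of_lt (Finset.card_le_four) (by norm_num))
  simp only [Finset.mem_insert, Finset.mem_singleton, not_or] at hf'
  obtain ⟨hfa, hfb, hfc, hfe⟩ := hf'
  let y := quintEmb a (t a) c (t c) f (Ne.symm (hf a)) (Ne.symm hca)
    (fun e => hcb (by rw [e, hinv])) (Ne.symm hfa) (Ne.symm hcb) (fun e => hca (t.injective e).symm)
    (Ne.symm hfb) (Ne.symm (hf c)) (Ne.symm hfc) (Ne.symm hfe)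
  obtain ⟨k, hk, hgk, hky, hki⟩ := conj_frame t ht y
  apply IsConjTo.of_conj hk
  have e0 : k (ptN 0) = a := hky 0
  have e1 : k (ptN 1) = t a := hky 1
  have e2 : k (ptN 2) = c := hky 2
  have e3 : k (ptN 3) = t c := hky 3
  have f0 : (k⁻¹ * t * k) (ptN 0) = ptN 1 :=
    (hki 0).trans (by show k⁻¹ (t a) = _; rw [← e1, perm_inv_apply])
  have f1 : (k⁻¹ * t * k) (ptN 1) = ptN 0 :=
    (hki 1).trans (by show k⁻¹ (t (t a)) = _; rw [hinv, ← e0, perm_inv_apply])
  have f2 : (k⁻¹ * t * k) (ptN 2) = ptN 3 :=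
    (hki 2).trans (by show k⁻¹ (t c) = _; rw [← e3, perm_inv_apply])
  have f3 : (k⁻¹ * t * k) (ptN 3) = ptN 2 :=
    (hki 3).trans (by show k⁻¹ (t (t c)) = _; rw [hinv, ← e2, perm_inv_apply])
  have hz : ∀ j : Fin 5, t f ≠ y j := by
    intro j
    fin_cases j
    · exact fun e => hfb (by rw [← hinv f, e]; rfl)
    · exact fun e => hfa (t.injective e)
    · exact fun e => hfe (by rw [← hinv f, e]; rfl)
    · exact fun e => hfc (t.injective e)
    · exact hf f
  obtain ⟨x, hx5, hx, hxe⟩ := fifth_image k y hky (t f) hz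
  have f4 : (k⁻¹ * t * k) (ptN 4) = ptN x := (hki 4).trans hxe
  have hg2 : (k⁻¹ * t * k) ^ 2 = 1 := by rw [pow_conj_left, h2]; group
  have hgf := fpf_conj_left k t hf
  obtain ⟨s, hs, hsg, hs03, hs4⟩ := reduce_fifth (k⁻¹ * t * k) hgk (fun i => [1, 0, 3, 2].getD i 0)
    (by intro i hi; interval_cases i <;> decide)
    (by
      intro i hi
      interval_cases i
      · exact f0
      · exact f1
      · exact f2
      · exact f3) x hx5 hx f4
  apply IsConjTo.of_conj' hs
  have hR : ∀ p, ValidTab p → s * (k⁻¹ * t * k) * s⁻¹ = tp p → IsInvT p ∧ IsFpfT p := by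
    intro p hv e
    refine ⟨isInvT_of hv ?_, isFpfT_of hv ?_⟩
    · rw [← e, conj_pow, hg2]; group
    · rw [← e]; exact fpf_conj s _ hgf
  rcases hs4 with h5 | h7
  · apply conj_of_ok cI2 imgI2 t1 _ okI2 conjI2 valid_t1 _ hsg _ hR
    intro i hi
    interval_cases i
    · exact hs03 0 (by norm_num)
    · exact hs03 1 (by norm_num)
    · exact hs03 2 (by norm_num)
    · exact hs03 3 (by norm_num)
    · exact h5
  · apply conj_of_ok cI3 imgI3 t1 _ okI3 conjI3 valid_t1 _ hsg _ hR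
    intro i hi
    interval_cases i
    · exact hs03 0 (by norm_num)
    · exact hs03 1 (by norm_num)
    · exact hs03 2 (by norm_num)
    · exact hs03 3 (by norm_num)
    · exact h7

/-- An element of order three of `M24` with a fixed point is conjugate to the standard one. -/
theorem order3_fixed_conj {x : Equiv.Perm GolayPt} (hx : x ∈ M24) (h3 : x ^ 3 = 1) (h1 : x ≠ 1)
    {p : GolayPt} (hp : x p = p) : IsConjTo x0 x := by
  classical
  have hcube := cube_apply h3
  -- a second fixed point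
  haveI : Fact (Nat.Prime 3) := ⟨Nat.prime_three⟩
  have hmod := Equiv.Perm.card_compl_support_modEq (p := 3) (n := 1) (σ := x)
    (by rw [pow_one]; exact h3)
  have hcard : Fintype.card GolayPt = 24 := rfl
  rw [hcard] at hmod
  have hpm : p ∈ x.supportᶜ := by
    rw [Finset.mem_compl, Equiv.Perm.mem_support, not_not]; exact hp
  have hpos : 0 < (x.supportᶜ).card := Finset.card_pos.2 ⟨p, hpm⟩
  have h13 : 1 < (x.supportᶜ).card := by
    have := hmod
    unfold Nat.ModEq at this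
    omega
  obtain ⟨q, hqm, hqp⟩ := Finset.exists_mem_ne h13 p
  have hq : x q = q := by
    rw [Finset.mem_compl, Equiv.Perm.mem_support, not_not] at hqm; exact hqm
  obtain ⟨a, ha⟩ := exists_moved h1
  have hb : x (x a) ≠ x a := fun e => ha (x.injective e)
  have hc : x (x (x a)) ≠ x (x a) := fun e => hb (x.injective e)
  have nf : ∀ {v u : GolayPt}, x v = v → x u ≠ u → v ≠ u := fun hv hu e => hu (e ▸ hv)
  have hac : a ≠ x (x a) := by
    intro e
    apply ha
    have := hcube a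
    rw [← e] at this
    exact this
  let y := quintEmb p q a (x a) (x (x a)) (Ne.symm hqp) (nf hp ha) (nf hp hb) (nf hp hc) (nf hq ha)
    (nf hq hb) (nf hq hc) (Ne.symm ha) hac (Ne.symm hb)
  obtain ⟨k, hk, hgk, hky, hki⟩ := conj_frame x hx y
  apply IsConjTo.of_conj hk
  have e0 : k (ptN 0) = p := hky 0
  have e1 : k (ptN 1) = q := hky 1
  have e2 : k (ptN 2) = a := hky 2
  have e3 : k (ptN 3) = x a := hky 3
  have e4 : k (ptN 4) = x (x a) := hky 4
  have f0 : (k⁻¹ * x * k) (ptN 0) = ptN 0 :=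
    (hki 0).trans (by show k⁻¹ (x p) = _; rw [hp, ← e0, perm_inv_apply])
  have f1 : (k⁻¹ * x * k) (ptN 1) = ptN 1 :=
    (hki 1).trans (by show k⁻¹ (x q) = _; rw [hq, ← e1, perm_inv_apply])
  have f2 : (k⁻¹ * x * k) (ptN 2) = ptN 3 :=
    (hki 2).trans (by show k⁻¹ (x a) = _; rw [← e3, perm_inv_apply])
  have f3 : (k⁻¹ * x * k) (ptN 3) = ptN 4 :=
    (hki 3).trans (by show k⁻¹ (x (x a)) = _; rw [← e4, perm_inv_apply])
  have f4 : (k⁻¹ * x * k) (ptN 4) = ptN 2 :=
    (hki 4).trans (by show k⁻¹ (x (x (x a))) = _; rw [hcube, ← e2, perm_inv_apply])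
  apply conj_of_ok cT1 imgT1 x0 IsCubeT okT1 conjT1 valid_x0 _ hgk
  · intro i hi
    interval_cases i
    · exact f0
    · exact f1
    · exact f2
    · exact f3
    · exact f4
  · intro r hv e
    apply isCubeT_of hv
    rw [← e, pow_conj_left, h3]; group

/-- A fixed-point-free element of order three of `M24` is conjugate to the standard one. -/
theorem order3_fpf_conj {x : Equiv.Perm GolayPt} (hx : x ∈ M24) (h3 : x ^ 3 = 1)
    (hf : ∀ q, x q ≠ q) : IsConjTo x1 x := by
  have hcube := cube_apply h3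
  let a : GolayPt := ptN 0
  have hab : a ≠ x a := Ne.symm (hf a)
  have hbc : x a ≠ x (x a) := Ne.symm (hf _)
  have hac : a ≠ x (x a) := by
    intro e
    apply hf a
    have := hcube a
    rw [← e] at this
    exact this
  obtain ⟨e, he⟩ := exists_not_mem {a, x a, x (x a)}
    (lt_of_le_of_lt (Finset.card_le_three) (by norm_num))
  simp only [Finset.mem_insert, Finset.mem_singleton, not_or] at he
  obtain ⟨hea, heb, hec⟩ := he
  have hxc : x (x (x a)) = a := hcube a
  let y := quintEmb a (x a) (x (x a)) e (x e) hab hac (Ne.symm hea)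
    (fun h => hec (x.injective (by rw [hxc]; exact h.symm))) hbc (Ne.symm heb)
    (fun h => hea (x.injective h).symm) (Ne.symm hec) (fun h => heb (x.injective h).symm)
    (Ne.symm (hf e))
  obtain ⟨k, hk, hgk, hky, hki⟩ := conj_frame x hx y
  apply IsConjTo.of_conj hk
  have e0 : k (ptN 0) = a := hky 0
  have e1 : k (ptN 1) = x a := hky 1
  have e2 : k (ptN 2) = x (x a) := hky 2
  have e3 : k (ptN 3) = e := hky 3
  have e4 : k (ptN 4) = x e := hky 4
  have f0 : (k⁻¹ * x * k) (ptN 0) = ptN 1 :=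
    (hki 0).trans (by show k⁻¹ (x a) = _; rw [← e1, perm_inv_apply])
  have f1 : (k⁻¹ * x * k) (ptN 1) = ptN 2 :=
    (hki 1).trans (by show k⁻¹ (x (x a)) = _; rw [← e2, perm_inv_apply])
  have f2 : (k⁻¹ * x * k) (ptN 2) = ptN 0 :=
    (hki 2).trans (by show k⁻¹ (x (x (x a))) = _; rw [hxc, ← e0, perm_inv_apply])
  have f3 : (k⁻¹ * x * k) (ptN 3) = ptN 4 :=
    (hki 3).trans (by show k⁻¹ (x e) = _; rw [← e4, perm_inv_apply])
  have hxe : x (x (x e)) = e := hcube e
  have hz : ∀ j : Fin 5, x (x e) ≠ y j := by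
    intro j
    fin_cases j
    · intro h
      apply heb
      have := congrArg x h
      rw [hxe] at this
      exact this
    · intro h
      apply hec
      have := congrArg x h
      rw [hxe] at this
      exact this
    · intro h
      apply hea
      have := congrArg x h
      rw [hxe] at this
      exact this.trans hxc
    · intro h
      apply hf e
      have := congrArg x h
      rw [hxe] at this
      exact this.symm
    · exact hf (x e)
  obtain ⟨z, hz5, hz24, hze⟩ := fifth_image k y hky (x (x e)) hz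
  have f4 : (k⁻¹ * x * k) (ptN 4) = ptN z := (hki 4).trans hze
  have hg3 : (k⁻¹ * x * k) ^ 3 = 1 := by rw [pow_conj_left, h3]; group
  have hgf := fpf_conj_left k x hf
  obtain ⟨s, hs, hsg, hs03, hs4⟩ := reduce_fifth (k⁻¹ * x * k) hgk (fun i => [1, 2, 0, 4].getD i 0)
    (by intro i hi; interval_cases i <;> decide)
    (by
      intro i hi
      interval_cases i
      · exact f0
      · exact f1
      · exact f2
      · exact f3) z hz5 hz24 f4
  apply IsConjTo.of_conj' hs
  have hR : ∀ p, ValidTab p → s * (k⁻¹ * x * k) * s⁻¹ = tp p → IsCubeT p ∧ IsFpfT p := by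
    intro p hv e
    refine ⟨isCubeT_of hv ?_, isFpfT_of hv ?_⟩
    · rw [← e, conj_pow, hg3]; group
    · rw [← e]; exact fpf_conj s _ hgf
  rcases hs4 with h5 | h7
  · apply conj_of_ok cT2 imgT2 x1 _ okT2 conjT2 valid_x1 _ hsg _ hR
    intro i hi
    interval_cases i
    · exact hs03 0 (by norm_num)
    · exact hs03 1 (by norm_num)
    · exact hs03 2 (by norm_num)
    · exact hs03 3 (by norm_num)
    · exact h5
  · apply conj_of_ok cT3 imgT3 x1 _ okT3 conjT3 valid_x1 _ hsg _ hR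
    intro i hi
    interval_cases i
    · exact hs03 0 (by norm_num)
    · exact hs03 1 (by norm_num)
    · exact hs03 2 (by norm_num)
    · exact hs03 3 (by norm_num)
    · exact h7

end Cfsg.Agent.Lib.Helper9.M24Coset
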