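import Cfsg.Agent.Lib.Helper21.GolayFlag
import Cfsg.Agent.Lib.Helper21.GolayTrans5

/-!
Cosets of the five-point stabiliser of `M24`, given by explicit tables (helper9).
An element of `M24` with prescribed images of the points `0..4` is one of `48` table permutations.
-/

set_option autoImplicit false

namespace Cfsg.Agent.Lib.Helper9.M24Coset

open Cfsg Cfsg.Agent.Lib.Helper21
open scoped Pointwise

/-- a pair of tables is valid: mutually inverse, and the permutation preserves the code -/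
def ValidTab (p : ℕ × ℕ) : Prop :=
  TabInv p.1 p.2 ∧ ∀ b ∈ basisMasks, encMask (gatherMask p.1 b % 4096) = gatherMask p.1 b

instance : DecidablePred ValidTab := fun p => by unfold ValidTab; infer_instance

/-- the permutation of a pair of tables (the identity when the pair is not valid) -/
def tp (p : ℕ × ℕ) : Equiv.Perm GolayPt :=
  if h : TabInv p.1 p.2 then permOfTab p.1 p.2 h else 1

theorem tp_eq {p : ℕ × ℕ} (h : ValidTab p) : tp p = permOfTab p.1 p.2 h.1 := by
  unfold tp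
  rw [dif_pos h.1]

theorem tp_mem {p : ℕ × ℕ} (h : ValidTab p) : tp p ∈ M24 := by
  rw [tp_eq h]
  exact permOfTab_mem p.1 p.2 h.1 h.2

theorem tp_ptN {p : ℕ × ℕ} (h : ValidTab p) (i : ℕ) (hi : i < 24) :
    tp p (ptN i) = ptN (tabGet p.1 i) := by
  rw [tp_eq h]
  exact permOfTab_ptN _ _ _ i hi

theorem tabGet_lt {p : ℕ × ℕ} (h : ValidTab p) (i : ℕ) (hi : i < 24) : tabGet p.1 i < 24 :=
  (h.1 ⟨i, hi⟩).1

theorem perm_ext_ptN {f g : Equiv.Perm GolayPt} (h : ∀ i : Fin 24, f (ptN i) = g (ptN i)) :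
    f = g := by
  apply Equiv.ext
  intro p
  rw [← ptN_gEquiv p]
  exact h _

/-- a relation `A * B = C * D` between table permutations, checked on the tables -/
theorem tp_mul_eq {A B C D : ℕ × ℕ} (hA : ValidTab A) (hB : ValidTab B) (hC : ValidTab C)
    (hD : ValidTab D)
    (h : ∀ i : Fin 24, tabGet A.1 (tabGet B.1 i) = tabGet C.1 (tabGet D.1 i)) :
    tp A * tp B = tp C * tp D := by
  apply perm_ext_ptN
  intro i
  rw [Equiv.Perm.mul_apply, Equiv.Perm.mul_apply, tp_ptN hB _ i.isLt, tp_ptN hD _ i.isLt,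
    tp_ptN hA _ (tabGet_lt hB _ i.isLt), tp_ptN hC _ (tabGet_lt hD _ i.isLt), h i]

theorem tabGet_of_apply {p : ℕ × ℕ} (h : ValidTab p) {i j : ℕ} (hi : i < 24) (hj : j < 24)
    (e : tp p (ptN i) = ptN j) : tabGet p.1 i = j := by
  rw [tp_ptN h i hi] at e
  exact ptN_injOn (tabGet_lt h i hi) hj e

/-! ### table-level consequences of abstract properties -/

theorem isInvT_of {p : ℕ × ℕ} (hp : ValidTab p) (h : tp p ^ 2 = 1) :
    ∀ i : Fin 24, tabGet p.1 (tabGet p.1 i) = i := by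
  intro i
  have h1 : (tp p ^ 2) (ptN i) = ptN i := by rw [h]; rfl
  rw [pow_two, Equiv.Perm.mul_apply, tp_ptN hp _ i.isLt, tp_ptN hp _ (tabGet_lt hp _ i.isLt)] at h1
  exact ptN_injOn (tabGet_lt hp _ (tabGet_lt hp _ i.isLt)) i.isLt h1

theorem isCubeT_of {p : ℕ × ℕ} (hp : ValidTab p) (h : tp p ^ 3 = 1) :
    ∀ i : Fin 24, tabGet p.1 (tabGet p.1 (tabGet p.1 i)) = i := by
  intro i
  have h1 : (tp p ^ 3) (ptN i) = ptN i := by rw [h]; rfl
  rw [pow_succ, pow_two, Equiv.Perm.mul_apply, Equiv.Perm.mul_apply, tp_ptN hp _ i.isLt,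
    tp_ptN hp _ (tabGet_lt hp _ i.isLt),
    tp_ptN hp _ (tabGet_lt hp _ (tabGet_lt hp _ i.isLt))] at h1
  exact ptN_injOn (tabGet_lt hp _ (tabGet_lt hp _ (tabGet_lt hp _ i.isLt))) i.isLt h1

theorem isFpfT_of {p : ℕ × ℕ} (hp : ValidTab p) (h : ∀ q, tp p q ≠ q) :
    ∀ i : Fin 24, tabGet p.1 i ≠ i := by
  intro i e
  apply h (ptN i)
  rw [tp_ptN hp _ i.isLt, e]

theorem eq_one_of_isIdT {p : ℕ × ℕ} (hp : ValidTab p) (h : ∀ i : Fin 24, tabGet p.1 i = i) :
    tp p = 1 := by
  apply perm_ext_ptN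
  intro i
  rw [tp_ptN hp _ i.isLt, h i]
  rfl

/-- the number of fixed points, on the table -/
def fixCount (p : ℕ × ℕ) : ℕ := (Finset.univ.filter fun i : Fin 24 => tabGet p.1 i = i).card

theorem card_fixed_tp {p : ℕ × ℕ} (hp : ValidTab p) :
    (Finset.univ.filter fun q : GolayPt => tp p q = q).card = fixCount p := by
  unfold fixCount
  apply Finset.card_equiv gEquiv
  intro q
  simp only [Finset.mem_filter, Finset.mem_univ, true_and]
  have hq : ptN (gEquiv q : Fin 24) = q := ptN_gEquiv q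
  constructor
  · intro h
    apply tabGet_of_apply hp (gEquiv q).isLt (gEquiv q).isLt
    rw [hq, h]
  · intro h
    have := tp_ptN hp _ (gEquiv q).isLt
    rw [h, hq] at this
    exact this

/-! ### the coset lemma -/

theorem card_chainSub_five_set : (SetLike.coe (chainSub 5) : Set (Equiv.Perm GolayPt)).ncard = 48 := by
  rw [← card_chainSub_five]
  exact (Nat.card_coe_set_eq _).symm

/-- An element of `M24` with prescribed images of the points `0..4` is one of the `48` listed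
table permutations. -/
theorem coset48 (Cs : List (ℕ × ℕ)) (c : ℕ → ℕ) (hlen : Cs.length = 48)
    (hvalid : ∀ p ∈ Cs, ValidTab p) (himg : ∀ p ∈ Cs, ∀ i < 5, tabGet p.1 i = c i)
    (hnodup : (Cs.map fun p => (tabGet p.1 5, tabGet p.1 6)).Nodup)
    (g : Equiv.Perm GolayPt) (hg : g ∈ M24) (hgi : ∀ i < 5, g (ptN i) = ptN (c i)) :
    ∃ p ∈ Cs, g = tp p := by
  classical
  -- the listed permutations are distinct
  let F : Equiv.Perm GolayPt → ℕ × ℕ := fun g =>
    (((gEquiv (g (ptN 5)) : Fin 24) : ℕ), ((gEquiv (g (ptN 6)) : Fin 24) : ℕ))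
  have hF : ∀ p ∈ Cs, F (tp p) = (tabGet p.1 5, tabGet p.1 6) := by
    intro p hp
    have hv := hvalid p hp
    show (((gEquiv (tp p (ptN 5)) : Fin 24) : ℕ), ((gEquiv (tp p (ptN 6)) : Fin 24) : ℕ)) = _
    rw [tp_ptN hv 5 (by norm_num), tp_ptN hv 6 (by norm_num),
      gEquiv_ptN_val _ (tabGet_lt hv 5 (by norm_num)), gEquiv_ptN_val _ (tabGet_lt hv 6 (by norm_num))]
  have hnd : (Cs.map tp).Nodup := by
    apply List.Nodup.of_map F
    rw [List.map_map]
    have : Cs.map (F ∘ tp) = Cs.map fun p => (tabGet p.1 5, tabGet p.1 6) :=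
      List.map_congr_left (fun p hp => hF p hp)
    rw [this]
    exact hnodup
  set S : Finset (Equiv.Perm GolayPt) := (Cs.map tp).toFinset with hS
  have hScard : S.card = 48 := by
    rw [hS, List.toFinset_card_of_nodup hnd, List.length_map, hlen]
  set A : Set (Equiv.Perm GolayPt) := {g | g ∈ M24 ∧ ∀ i < 5, g (ptN i) = ptN (c i)} with hA
  have hSA : (S : Set (Equiv.Perm GolayPt)) ⊆ A := by
    intro x hx
    rw [Finset.mem_coe, hS, List.mem_toFinset, List.mem_map] at hx
    obtain ⟨p, hp, rfl⟩ := hx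
    refine ⟨tp_mem (hvalid p hp), fun i hi => ?_⟩
    rw [tp_ptN (hvalid p hp) i (by omega), himg p hp i hi]
  -- `A` has at most `48` elements
  have hAcard : A.ncard ≤ 48 := by
    rw [← card_chainSub_five_set]
    apply Set.ncard_le_ncard_of_injOn (fun x => g⁻¹ * x)
    · intro x hx
      refine ⟨M24.mul_mem (M24.inv_mem hg) hx.1, fun i hi => ?_⟩
      rw [Equiv.Perm.mul_apply, hx.2 i hi, ← hgi i hi, perm_inv_apply]
    · intro x _ y _ hxy
      exact mul_left_cancel hxy
  have hEq : (S : Set (Equiv.Perm GolayPt)) = A := by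
    apply Set.eq_of_subset_of_ncard_le hSA
    · rw [Set.ncard_coe_finset, hScard]; exact hAcard
  have hgA : g ∈ A := ⟨hg, hgi⟩
  rw [← hEq, Finset.mem_coe, hS, List.mem_toFinset, List.mem_map] at hgA
  obtain ⟨p, hp, e⟩ := hgA
  exact ⟨p, hp, e.symm⟩

end Cfsg.Agent.Lib.Helper9.M24Coset
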