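import Cfsg.Agent.Lib.Helper9.M24CosetData

/-!
Kernel-checked certificates for the coset tables (helper9).
-/

set_option autoImplicit false

namespace Cfsg.Agent.Lib.Helper9.M24Coset

open Cfsg Cfsg.Agent.Lib.Helper21

/-- involution on the table -/
def IsInvT (p : ℕ × ℕ) : Prop := ∀ i : Fin 24, tabGet p.1 (tabGet p.1 i) = i
/-- cube is the identity, on the table -/
def IsCubeT (p : ℕ × ℕ) : Prop := ∀ i : Fin 24, tabGet p.1 (tabGet p.1 (tabGet p.1 i)) = i
/-- fixed-point-free, on the table -/
def IsFpfT (p : ℕ × ℕ) : Prop := ∀ i : Fin 24, tabGet p.1 i ≠ i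
/-- identity, on the table -/
def IsIdT (p : ℕ × ℕ) : Prop := ∀ i : Fin 24, tabGet p.1 i = i
/-- `k * t = g * k`, on the tables -/
def ConjRel (k t g : ℕ × ℕ) : Prop := ∀ i : Fin 24, tabGet k.1 (tabGet t.1 i) = tabGet g.1 (tabGet k.1 i)

instance : DecidablePred IsInvT := fun p => by unfold IsInvT; infer_instance
instance : DecidablePred IsCubeT := fun p => by unfold IsCubeT; infer_instance
instance : DecidablePred IsFpfT := fun p => by unfold IsFpfT; infer_instance
instance : DecidablePred IsIdT := fun p => by unfold IsIdT; infer_instance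
instance (k t g : ℕ × ℕ) : Decidable (ConjRel k t g) := by unfold ConjRel; infer_instance

/-- the certificate of a coset list -/
def CosetOk (C : List ((ℕ × ℕ) × (ℕ × ℕ))) (c : ℕ → ℕ) : Prop :=
  (C.map Prod.fst).length = 48 ∧ (∀ p ∈ C.map Prod.fst, ValidTab p) ∧
    (∀ p ∈ C.map Prod.fst, ∀ i < 5, tabGet p.1 i = c i) ∧
      ((C.map Prod.fst).map fun p => (tabGet p.1 5, tabGet p.1 6)).Nodup

instance (C : List ((ℕ × ℕ) × (ℕ × ℕ))) (c : ℕ → ℕ) : Decidable (CosetOk C c) := by
  unfold CosetOk; infer_instance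

theorem okL : CosetOk cL imgL := by decide +kernel
theorem okI1 : CosetOk cI1 imgI1 := by decide +kernel
theorem okI2 : CosetOk cI2 imgI2 := by decide +kernel
theorem okI3 : CosetOk cI3 imgI3 := by decide +kernel
theorem okT1 : CosetOk cT1 imgT1 := by decide +kernel
theorem okT2 : CosetOk cT2 imgT2 := by decide +kernel
theorem okT3 : CosetOk cT3 imgT3 := by decide +kernel

theorem valid_t0 : ValidTab t0 := by decide +kernel
theorem valid_t1 : ValidTab t1 := by decide +kernel
theorem valid_x0 : ValidTab x0 := by decide +kernel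
theorem valid_x1 : ValidTab x1 := by decide +kernel

/-- conjugators: each listed element satisfying `R` is conjugate to `t` by the listed table -/
def ConjOk (C : List ((ℕ × ℕ) × (ℕ × ℕ))) (t : ℕ × ℕ) (R : ℕ × ℕ → Prop) [DecidablePred R] : Prop :=
  ∀ q ∈ C, R q.1 → ValidTab q.2 ∧ ConjRel q.2 t q.1

instance (C : List ((ℕ × ℕ) × (ℕ × ℕ))) (t : ℕ × ℕ) (R : ℕ × ℕ → Prop) [DecidablePred R] :
    Decidable (ConjOk C t R) := by unfold ConjOk; infer_instance

theorem conjI1 : ConjOk cI1 t0 IsInvT := by decide +kernel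
theorem conjI2 : ConjOk cI2 t1 (fun p => IsInvT p ∧ IsFpfT p) := by decide +kernel
theorem conjI3 : ConjOk cI3 t1 (fun p => IsInvT p ∧ IsFpfT p) := by decide +kernel
theorem conjT1 : ConjOk cT1 x0 IsCubeT := by decide +kernel
theorem conjT2 : ConjOk cT2 x1 (fun p => IsCubeT p ∧ IsFpfT p) := by decide +kernel
theorem conjT3 : ConjOk cT3 x1 (fun p => IsCubeT p ∧ IsFpfT p) := by decide +kernel

/-- non-identity elements of the five-point stabiliser fix at most eight points -/
theorem fixL : ∀ q ∈ cL, IsIdT q.1 ∨ fixCount q.1 ≤ 8 := by decide +kernel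

/-- every further point is moved to position `5` or `7` by the five-point stabiliser -/
theorem orbL : ∀ x < 24, 5 ≤ x → ∃ q ∈ cL, tabGet q.1.1 x = 5 ∨ tabGet q.1.1 x = 7 := by
  decide +kernel

end Cfsg.Agent.Lib.Helper9.M24Coset
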