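import Cfsg.Agent.Lib.Helper9.M24Std
import Cfsg.Agent.Lib.Helper21.GolayTransitive
import Cfsg.Agent.Lib.Helper21.GolaySteiner

/-!
Counting the octads, dodecads, sextets and trios fixed by a table permutation of `M24` (helper9).
-/

set_option autoImplicit false

namespace Cfsg.Agent.Lib.Helper9.M24Coset

open Cfsg Cfsg.Agent.Lib.Helper21
open scoped Pointwise

/-! ### conjugation invariance of the number of fixed objects -/

theorem ncard_fixed_conj {X : Type*} [MulAction (Equiv.Perm GolayPt) X] (Str : Set X)
    (k g : Equiv.Perm GolayPt) (hk : ∀ x, x ∈ Str ↔ k • x ∈ Str) :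
    {x | x ∈ Str ∧ (k * g * k⁻¹) • x = x}.ncard = {x | x ∈ Str ∧ g • x = x}.ncard := by
  have : {x | x ∈ Str ∧ (k * g * k⁻¹) • x = x} = (fun x => k • x) '' {x | x ∈ Str ∧ g • x = x} := by
    ext x
    simp only [Set.mem_setOf_eq, Set.mem_image]
    constructor
    · rintro ⟨hx, hfix⟩
      refine ⟨k⁻¹ • x, ⟨?_, ?_⟩, smul_inv_smul k x⟩
      · rw [hk, smul_inv_smul]; exact hx
      · rw [mul_smul, mul_smul] at hfix
        exact eq_inv_smul_iff.2 hfix
    · rintro ⟨y, ⟨hy, hfix⟩, rfl⟩
      refine ⟨(hk y).1 hy, ?_⟩
      rw [mul_smul, mul_smul, inv_smul_smul, hfix]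
  rw [this, Set.ncard_image_of_injective _ (MulAction.injective k)]

/-- the action of a table permutation on masks -/
def act (p : ℕ × ℕ) (m : ℕ) : ℕ := gatherMask p.2 m

theorem fsMask_tp_smul {p : ℕ × ℕ} (hv : ValidTab p) (s : Finset GolayPt) :
    fsMask (tp p • s) = act p (fsMask s) := by
  rw [tp_eq hv]
  exact fsMask_smul _ _ _ s

theorem tp_smul_eq_iff {p : ℕ × ℕ} (hv : ValidTab p) (s : Finset GolayPt) :
    tp p • s = s ↔ act p (fsMask s) = fsMask s := by
  rw [← fsMask_tp_smul hv]
  exact ⟨fun h => by rw [h], fun h => fsMask_injective h⟩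

/-- the number of words of weight `n` fixed by a table permutation -/
theorem ncard_weight_fixed {p : ℕ × ℕ} (hv : ValidTab p) (n : ℕ) :
    {s : Finset GolayPt | s ∈ wordsOfWeight (golayCode : Set (GolayPt → ZMod 2)) n ∧
      tp p • s = s}.ncard =
      ((Finset.range 4096).filter
        (fun c => popc 24 (encMask c) = n ∧ act p (encMask c) = encMask c)).card := by
  rw [← ncard_weight_filter n (fun m => act p m = m)]
  congr 1
  ext s
  simp only [Set.mem_setOf_eq]
  rw [tp_smul_eq_iff hv]

/-! ### the four-element subsets as masks -/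

/-- masks of the four-element subsets, in increasing order -/
def quads : List ℕ :=
  (List.range 24).flatMap fun a => (List.range a).flatMap fun b => (List.range b).flatMap fun c =>
    (List.range c).map fun d => 2 ^ a + 2 ^ b + 2 ^ c + 2 ^ d

/-- strictly increasing list -/
def sortedB : List ℕ → Bool
  | [] => true
  | [_] => true
  | a :: b :: l => decide (a < b) && sortedB (b :: l)

theorem pairwise_of_sortedB : ∀ l : List ℕ, sortedB l = true → l.Pairwise (· < ·)
  | [], _ => List.Pairwise.nil
  | [_], _ => List.pairwise_singleton _ _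
  | a :: b :: l, h => by
    rw [sortedB, Bool.and_eq_true, decide_eq_true_eq] at h
    have ih := pairwise_of_sortedB (b :: l) h.2
    rw [List.pairwise_cons]
    refine ⟨?_, ih⟩
    intro x hx
    rw [List.mem_cons] at hx
    rcases hx with rfl | hx
    · exact h.1
    · exact lt_trans h.1 ((List.pairwise_cons.1 ih).1 x hx)

theorem quads_len : quads.length = 10626 := by decide +kernel
theorem quads_okB : quads.all (fun m => decide (m < 2 ^ 24) && decide (popc 24 m = 4)) = true := by
  decide +kernel

theorem quads_ok : ∀ m ∈ quads, m < 2 ^ 24 ∧ popc 24 m = 4 := by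
  intro m hm
  have := List.all_eq_true.1 quads_okB m hm
  rw [Bool.and_eq_true, decide_eq_true_eq, decide_eq_true_eq] at this
  exact this
theorem quads_sorted : sortedB quads = true := by decide +kernel

theorem quads_nodup : quads.Nodup :=
  (pairwise_of_sortedB quads quads_sorted).imp (fun h => ne_of_lt h)

theorem quads_map_nodup : (quads.map maskFS).Nodup := by
  apply List.Nodup.map_on _ quads_nodup
  intro x hx y hy h
  rw [← fsMask_maskFS x (quads_ok x hx).1, ← fsMask_maskFS y (quads_ok y hy).1, h]

theorem quads_toFinset :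
    (quads.map maskFS).toFinset = (Finset.univ : Finset GolayPt).powersetCard 4 := by
  apply Finset.eq_of_subset_of_card_le
  · intro t ht
    rw [List.mem_toFinset, List.mem_map] at ht
    obtain ⟨m, hm, rfl⟩ := ht
    rw [Finset.mem_powersetCard]
    refine ⟨Finset.subset_univ _, ?_⟩
    rw [card_maskFS m (quads_ok m hm).1, (quads_ok m hm).2]
  · rw [Finset.card_powersetCard, Finset.card_univ, List.toFinset_card_of_nodup quads_map_nodup,
      List.length_map, quads_len]
    have : Fintype.card GolayPt = 24 := rfl
    rw [this]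
    decide

/-- counting four-element subsets by a predicate on masks -/
theorem card_quads_filter (P : ℕ → Prop) [DecidablePred P] (Q : Finset GolayPt → Prop)
    [DecidablePred Q] (hPQ : ∀ t : Finset GolayPt, t.card = 4 → (Q t ↔ P (fsMask t))) :
    (((Finset.univ : Finset GolayPt).powersetCard 4).filter Q).card = (quads.filter P).length := by
  have h1 : ((quads.map maskFS).toFinset.filter Q) =
      ((quads.map maskFS).filter (fun t => decide (Q t))).toFinset := by
    ext t
    simp [List.mem_filter]
  rw [← quads_toFinset, h1,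
    List.toFinset_card_of_nodup (quads_map_nodup.filter _), List.filter_map, List.length_map]
  congr 1
  apply List.filter_congr
  intro m hm
  have h4 : (maskFS m).card = 4 := by rw [card_maskFS m (quads_ok m hm).1, (quads_ok m hm).2]
  have := hPQ (maskFS m) h4
  rw [fsMask_maskFS m (quads_ok m hm).1] at this
  simp only [Function.comp_apply, decide_eq_decide]
  exact this

/-! ### sextets -/

theorem octChk_fsMask {o : Finset GolayPt} (ho : o ∈ octads) : octChk (fsMask o) := by
  obtain ⟨c, hc, hp, rfl⟩ := (mem_wordsOfWeight_iff 8 o).1 ho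
  rw [fsMask_wordOf c hc]
  exact ⟨encMask_lt c hc, by rw [encMask_mod c hc], hp⟩

theorem fsMask_empty : fsMask (∅ : Finset GolayPt) = 0 := by
  have := fsMask_inter (∅ : Finset GolayPt) ∅
  rw [Finset.inter_self] at this
  apply Nat.eq_of_testBit_eq
  intro i
  rw [Nat.zero_testBit]
  by_cases hi : i < 24
  · have h := testBit_fsMask_fin (∅ : Finset GolayPt) ⟨i, hi⟩
    simpa using h
  · exact Nat.testBit_lt_two_pow (lt_of_lt_of_le (fsMask_lt _) (Nat.pow_le_pow_right (by norm_num) (not_lt.1 hi)))

/-- the mask test: the image of a tetrad lies in the sextet of the tetrad -/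
def sexP (p : ℕ × ℕ) (m : ℕ) : Prop :=
  act p m = m ∨ (m &&& act p m = 0 ∧ octChk (m ^^^ act p m))

instance (p : ℕ × ℕ) : DecidablePred (sexP p) := fun m => by unfold sexP; infer_instance

theorem smul_mem_sextetOf_iff {p : ℕ × ℕ} (hv : ValidTab p) (t : Finset GolayPt) :
    tp p • t ∈ sextetOf t ↔ sexP p (fsMask t) := by
  classical
  have hm : fsMask (tp p • t) = act p (fsMask t) := fsMask_tp_smul hv t
  rw [mem_sextetOf]
  unfold sexP
  constructor
  · rintro (h | ⟨o, ho, hto, hou⟩)
    · left; rw [← hm, h]
    · right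
      have hdisj : Disjoint t (tp p • t) := by
        rw [← hou]; exact Finset.disjoint_sdiff
      have hunion : symmDiff t (tp p • t) = o := by
        rw [← hou]
        ext x
        simp only [Finset.mem_symmDiff, Finset.mem_sdiff]
        constructor
        · rintro (⟨h1, _⟩ | ⟨⟨h1, _⟩, _⟩)
          · exact hto h1
          · exact h1
        · intro hx
          by_cases hxt : x ∈ t
          · left; exact ⟨hxt, fun h => h.2 hxt⟩
          · right; exact ⟨⟨hx, hxt⟩, hxt⟩
      refine ⟨?_, ?_⟩
      · rw [← hm, ← fsMask_inter, Finset.disjoint_iff_inter_eq_empty.1 hdisj, fsMask_empty]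
      · rw [← hm, ← fsMask_symmDiff, hunion]
        exact octChk_fsMask ho
  · rintro (h | ⟨h1, h2⟩)
    · left
      apply fsMask_injective
      rw [hm, h]
    · right
      have hdisj : t ∩ (tp p • t) = ∅ := by
        apply fsMask_injective
        rw [fsMask_inter, hm, h1, fsMask_empty]
      have hdisj' : Disjoint t (tp p • t) := Finset.disjoint_iff_inter_eq_empty.2 hdisj
      have ho : symmDiff t (tp p • t) ∈ octads := by
        rw [← maskFS_fsMask (symmDiff t (tp p • t)), fsMask_symmDiff, hm]
        exact maskFS_mem_octads_of_chk h2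
      have hsd : symmDiff t (tp p • t) = t ∪ tp p • t := by
        rw [symmDiff_def, Finset.sup_eq_union, Finset.sdiff_eq_self_of_disjoint hdisj',
          Finset.sdiff_eq_self_of_disjoint hdisj'.symm]
      rw [hsd] at ho
      exact ⟨t ∪ tp p • t, ho, Finset.subset_union_left, Finset.union_sdiff_cancel_left hdisj'⟩

theorem card_tetrads_eq {g : Equiv.Perm GolayPt} (hg : g ∈ M24) [DecidablePred fun t : Finset GolayPt => g • t ∈ sextetOf t] :
    (((Finset.univ : Finset GolayPt).powersetCard 4).filter
      (fun t => g • t ∈ sextetOf t)).card =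
      6 * {S : Finset (Finset GolayPt) | S ∈ sextets ∧ g • S = S}.ncard := by
  classical
  set A : Set (Finset (Finset GolayPt)) := {S | S ∈ sextets ∧ g • S = S} with hA
  have hfin : A.Finite := Set.toFinite A
  rw [Set.ncard_eq_toFinset_card A hfin]
  have hAmem : ∀ S, S ∈ hfin.toFinset ↔ S ∈ sextets ∧ g • S = S := fun S => by
    rw [Set.Finite.mem_toFinset]; rfl
  have hB : ((Finset.univ : Finset GolayPt).powersetCard 4).filter (fun t => g • t ∈ sextetOf t) =
      hfin.toFinset.biUnion id := by
    ext t
    rw [Finset.mem_filter, Finset.mem_powersetCard, Finset.mem_biUnion]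
    constructor
    · rintro ⟨⟨_, ht4⟩, hgt⟩
      refine ⟨sextetOf t, (hAmem _).2 ⟨sextetOf_mem ht4, ?_⟩, self_mem_sextetOf t⟩
      rw [smul_sextetOf hg ht4]
      exact (sextetOf_eq_iff (by rw [Finset.card_smul_finset, ht4]) ht4).2 hgt
    · rintro ⟨S, hS, htS⟩
      obtain ⟨hS1, hS2⟩ := (hAmem S).1 hS
      have htS' : t ∈ S := htS
      have ht4 := tetrad_card hS1 htS'
      refine ⟨⟨Finset.subset_univ _, ht4⟩, ?_⟩
      rw [← eq_sextetOf hS1 htS']
      have h5 : g • t ∈ g • S := Finset.smul_mem_smul_finset htS'
      rwa [hS2] at h5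
  rw [hB, Finset.card_biUnion]
  · have h6 : ∀ S ∈ hfin.toFinset, (id S : Finset (Finset GolayPt)).card = 6 :=
      fun S hS => ((hAmem S).1 hS).1.1
    rw [Finset.sum_congr rfl h6, Finset.sum_const, smul_eq_mul, mul_comm]
  · intro S hS S' hS' hne
    rw [Function.onFun, Finset.disjoint_left]
    intro t ht ht'
    apply hne
    have h1 := ((hAmem S).1 (Finset.mem_coe.1 hS)).1
    have h2 := ((hAmem S').1 (Finset.mem_coe.1 hS')).1
    rw [eq_sextetOf h1 ht, eq_sextetOf h2 ht']

/-- the number of sextets fixed by a table permutation -/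
theorem sextet_count {p : ℕ × ℕ} (hv : ValidTab p) :
    6 * {S : Finset (Finset GolayPt) | S ∈ sextets ∧ tp p • S = S}.ncard =
      (quads.filter (sexP p)).length := by
  classical
  rw [← card_tetrads_eq (tp_mem hv)]
  exact card_quads_filter (sexP p) _ (fun t _ => smul_mem_sextetOf_iff hv t)

end Cfsg.Agent.Lib.Helper9.M24Coset
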