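import Cfsg.Agent.Lib.Helper9.M24Fast
import Cfsg.Agent.Lib.Helper21.GolayConj
import Cfsg.Agent.Lib.Helper21.GolaySextet
import Cfsg.Agent.Lib.Helper21.GolayTrioOrb

/-!
Transfer of the fixed-object counts from a standard table permutation to its conjugates (helper9).
-/

set_option autoImplicit false

namespace Cfsg.Agent.Lib.Helper9.M24Coset

open Cfsg Cfsg.Agent.Lib.Helper21
open scoped Pointwise

theorem mem_octads_smul_iff {k : Equiv.Perm GolayPt} (hk : k ∈ M24) (o : Finset GolayPt) :
    o ∈ octads ↔ k • o ∈ octads := by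
  constructor
  · exact smul_mem_octads hk
  · intro h
    have := smul_mem_octads (M24.inv_mem hk) h
    rwa [inv_smul_smul] at this

theorem mem_dodecads_smul_iff {k : Equiv.Perm GolayPt} (hk : k ∈ M24) (o : Finset GolayPt) :
    o ∈ dodecads ↔ k • o ∈ dodecads := by
  constructor
  · exact smul_mem_dodecads hk
  · intro h
    have := smul_mem_dodecads (M24.inv_mem hk) h
    rwa [inv_smul_smul] at this

theorem mem_sextets_smul_iff {k : Equiv.Perm GolayPt} (hk : k ∈ M24)
    (S : Finset (Finset GolayPt)) : S ∈ sextets ↔ k • S ∈ sextets := by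
  constructor
  · exact smul_mem_sextets hk
  · intro h
    have := smul_mem_sextets (M24.inv_mem hk) h
    rwa [inv_smul_smul] at this

theorem mem_trios_smul_iff {k : Equiv.Perm GolayPt} (hk : k ∈ M24)
    (T : Finset (Finset GolayPt)) : T ∈ trios ↔ k • T ∈ trios := by
  constructor
  · exact smul_mem_trios hk
  · intro h
    have := smul_mem_trios (M24.inv_mem hk) h
    rwa [inv_smul_smul] at this

/-- the number of fixed octads of a conjugate of a table permutation -/
theorem IsConjTo.octad_count {t : ℕ × ℕ} (hv : ValidTab t) {g : Equiv.Perm GolayPt}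
    (h : IsConjTo t g) :
    {o : Finset GolayPt | o ∈ octads ∧ g • o = o}.ncard =
      ((Finset.range 4096).filter
        (fun c => popc 24 (encMask c) = 8 ∧ actF t (encMask c) = encMask c)).card := by
  obtain ⟨k, hk, rfl⟩ := h
  rw [ncard_fixed_conj octads k (tp t) (mem_octads_smul_iff hk)]
  exact ncard_weight_fixed_fast hv 8

/-- the number of fixed dodecads of a conjugate of a table permutation -/
theorem IsConjTo.dodecad_count {t : ℕ × ℕ} (hv : ValidTab t) {g : Equiv.Perm GolayPt}
    (h : IsConjTo t g) :
    {o : Finset GolayPt | o ∈ dodecads ∧ g • o = o}.ncard =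
      ((Finset.range 4096).filter
        (fun c => popc 24 (encMask c) = 12 ∧ actF t (encMask c) = encMask c)).card := by
  obtain ⟨k, hk, rfl⟩ := h
  rw [ncard_fixed_conj dodecads k (tp t) (mem_dodecads_smul_iff hk)]
  exact ncard_weight_fixed_fast hv 12

/-- the number of fixed sextets of a conjugate of a table permutation -/
theorem IsConjTo.sextet_count {t : ℕ × ℕ} (hv : ValidTab t) {g : Equiv.Perm GolayPt}
    (h : IsConjTo t g) :
    6 * {S : Finset (Finset GolayPt) | S ∈ sextets ∧ g • S = S}.ncard =
      (quads.filter (sexPF t)).length := by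
  obtain ⟨k, hk, rfl⟩ := h
  rw [ncard_fixed_conj sextets k (tp t) (mem_sextets_smul_iff hk)]
  exact sextet_count_fast hv

/-- the number of fixed trios of a conjugate of a table permutation -/
theorem IsConjTo.trio_count {t : ℕ × ℕ} (hv : ValidTab t) {g : Equiv.Perm GolayPt}
    (h : IsConjTo t g) :
    6 * {T : Finset (Finset GolayPt) | T ∈ trios ∧ g • T = T}.ncard = trioCountF (actF t) := by
  obtain ⟨k, hk, rfl⟩ := h
  rw [ncard_fixed_conj trios k (tp t) (mem_trios_smul_iff hk)]
  exact trio_count_fast hv

end Cfsg.Agent.Lib.Helper9.M24Coset
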