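import Cfsg.Agent.Lib.Helper9.M24FusDer

/-!
Kernel-checked certificates for the `2`-fusion system of the Mathieu group `M24` (helper9).
-/

set_option autoImplicit false
set_option maxRecDepth 1000000

namespace Cfsg.Agent.Lib.Helper9.M24Fus

open Cfsg Cfsg.Agent.Lib.Helper21 Cfsg.Agent.Lib.Helper9.M24Coset Cfsg.Agent.Lib.Helper9.M11Aut

/-- the packed images of the positions `0..6` -/
def key7 (f : ℕ → ℕ) : ℕ :=
  f 0 + 32 * f 1 + 1024 * f 2 + 32768 * f 3 + 1048576 * f 4 + 33554432 * f 5 + 1073741824 * f 6

/-- the list has no repetitions -/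
def nodupB : List ℕ → Bool
  | [] => true
  | a :: l => !(l.any (Nat.beq a)) && nodupB l

/-- the table induces one of the listed tuples on the standard octad -/
def actsB (p : ℕ × ℕ) : Bool :=
  T8.any fun t => (List.finRange 8).all fun i => tabGet p.1 (octP i) == octP (dg t i)

/-- the ten generators -/
def AL : List (ℕ × ℕ) := CJL.take 10

/-- consecutive elements of the path differ by the given generators -/
def pathChk : List (ℕ × ℕ) → List ℕ → Bool
  | [], _ => false
  | [_], js => js.isEmpty
  | p :: q :: rest, [] => false
  | p :: q :: rest, j :: js =>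
    Nat.beq (key7 (img (pos [p, AL.getD j M11Aut.idT]))) (key7 (img (pos [q]))) && pathChk (q :: rest) js

/-- the key of the result of a step -/
def stepKey (D : List (ℕ × ℕ)) (st : Step) : ℕ :=
  if st.2.1 then
    key7 (img (pos [CJL.getD st.2.2.2.2 M11Aut.idT] ++ pos [D.getD st.2.2.1 M11Aut.idT] ++
      invW (pos [CJL.getD st.2.2.2.2 M11Aut.idT])))
  else key7 (img (pos [D.getD st.2.2.1 M11Aut.idT, D.getD st.2.2.2.1 M11Aut.idT]))

/-- running a derivation -/
def runDer : List (ℕ × ℕ) → List Step → Option (List (ℕ × ℕ))
  | D, [] => some D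
  | D, st :: sts =>
    if SL.contains st.1 && Nat.beq (stepKey D st) (key7 (img (pos [st.1]))) then
      runDer (D ++ [st.1]) sts
    else none

/-- the derivation reaches the target -/
def derOK (start : ℕ × ℕ) (steps : List Step) (target : ℕ × ℕ) : Bool :=
  match runDer [start] steps with
  | some D => D.contains target
  | none => false

/-- the derivation reaches all the generators -/
def derGens (start : ℕ × ℕ) (steps : List Step) : Bool :=
  match runDer [start] steps with
  | some D => AL.all fun s => D.contains s
  | none => false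

theorem CJL_ok : ∀ p ∈ CJL, ValidTab p := by decide +kernel

theorem SL0_valid : ∀ p ∈ SL0, ValidTab p := by decide +kernel
theorem SL1_valid : ∀ p ∈ SL1, ValidTab p := by decide +kernel
theorem SL2_valid : ∀ p ∈ SL2, ValidTab p := by decide +kernel
theorem SL3_valid : ∀ p ∈ SL3, ValidTab p := by decide +kernel

theorem SL_ok : SL.head? = some M11Aut.idT ∧ zT ∈ SL ∧ SK = SL.map (fun p => key7 (img (pos [p]))) ∧
    SL.length = 1024 ∧ (∀ q ∈ AL, q ∈ SL) := by decide +kernel

theorem SK_nodup : nodupB SK = true := by decide +kernel

theorem SL_acts : ∀ p ∈ SL, actsB p = true := by decide +kernel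

theorem path_ok : pathChk SL rulL = true := by decide +kernel

theorem derA_ok : derA.map Prod.fst = SL.tail ∧ ∀ e ∈ derA, derOK e.1 e.2 zT = true := by
  decide +kernel

theorem derB_ok : derGens zT derB = true := by decide +kernel

end Cfsg.Agent.Lib.Helper9.M24Fus
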