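import Cfsg.Agent.Lib.Helper9.M24FusCert
import Cfsg.Agent.Lib.Helper9.FusSimple

/-!
The `2`-fusion system of the Mathieu group `M24` is simple (helper9).
-/

set_option autoImplicit false

namespace Cfsg.Agent.Lib.Helper9.M24Fus

open Cfsg Cfsg.Agent.Lib.Helper21 Cfsg.Agent.Lib.Helper9.M24Coset Cfsg.Agent.Lib.Helper29
  Cfsg.Agent.Lib.Helper9.FusSimple Cfsg.Agent.Lib.Helper9.M11Aut

/-! ### words of valid tables -/

/-- all tables of the word are valid -/
def WOK24 (L : TW) : Prop := ∀ e ∈ L, ValidTab e.1

theorem WOK24.append {L L' : TW} (h : WOK24 L) (h' : WOK24 L') : WOK24 (L ++ L') := by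
  intro e he
  rcases List.mem_append.1 he with he | he
  · exact h e he
  · exact h' e he

theorem WOK24.invW {L : TW} (h : WOK24 L) : WOK24 (invW L) := by
  intro e he
  obtain ⟨e', he', e1⟩ := mem_invW he
  rw [← e1]
  exact h e' he'

theorem WOK24.mem {L : TW} (h : WOK24 L) : prodT L ∈ M24 := by
  unfold prodT
  apply Subgroup.list_prod_mem
  intro g hg
  rw [List.mem_map] at hg
  obtain ⟨e, he, rfl⟩ := hg
  unfold tpw
  split
  · exact M24.inv_mem (tp_mem (h e he))
  · exact tp_mem (h e he)

theorem wok24_pos1 {p : ℕ × ℕ} (h : ValidTab p) : WOK24 (pos [p]) := by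
  intro e he
  unfold pos at he
  simp only [List.map_cons, List.map_nil, List.mem_cons, List.not_mem_nil, or_false] at he
  rw [he]
  exact h

theorem img_eq_of_eq24 (L L' : TW) (hv : WOK24 L) (hv' : WOK24 L')
    (h : prodT L = prodT L') (i : ℕ) (hi : i < 24) : img L i = img L' i := by
  have h1 := prodT_ptN L hv i hi
  have h2 := prodT_ptN L' hv' i hi
  rw [h] at h1
  exact ptN_injOn h1.2 h2.2 (h1.1.symm.trans h2.1)

theorem eq_of_key7 (L L' : TW) (hv : WOK24 L) (hv' : WOK24 L')
    (hk : key7 (img L) = key7 (img L')) : prodT L = prodT L' := by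
  have himg : ∀ i < 7, img L i = img L' i := by
    intro i hi
    have b0 := (prodT_ptN L hv 0 (by norm_num)).2
    have b1 := (prodT_ptN L hv 1 (by norm_num)).2
    have b2 := (prodT_ptN L hv 2 (by norm_num)).2
    have b3 := (prodT_ptN L hv 3 (by norm_num)).2
    have b4 := (prodT_ptN L hv 4 (by norm_num)).2
    have b5 := (prodT_ptN L hv 5 (by norm_num)).2
    have b6 := (prodT_ptN L hv 6 (by norm_num)).2
    have c0 := (prodT_ptN L' hv' 0 (by norm_num)).2
    have c1 := (prodT_ptN L' hv' 1 (by norm_num)).2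
    have c2 := (prodT_ptN L' hv' 2 (by norm_num)).2
    have c3 := (prodT_ptN L' hv' 3 (by norm_num)).2
    have c4 := (prodT_ptN L' hv' 4 (by norm_num)).2
    have c5 := (prodT_ptN L' hv' 5 (by norm_num)).2
    have c6 := (prodT_ptN L' hv' 6 (by norm_num)).2
    unfold key7 at hk
    interval_cases i <;> omega
  have h1 : (prodT L)⁻¹ * prodT L' ∈ chainSub 7 := by
    rw [mem_chainSub]
    refine ⟨M24.mul_mem (M24.inv_mem hv.mem) hv'.mem, ?_⟩
    intro i hi
    rw [Equiv.Perm.mul_apply, (prodT_ptN L' hv' i (by omega)).1, ← himg i hi,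
      ← (prodT_ptN L hv i (by omega)).1, perm_inv_apply]
  rw [chainSub_seven, Subgroup.mem_bot] at h1
  have : prodT L' = prodT L * ((prodT L)⁻¹ * prodT L') := by group
  rw [this, h1, mul_one]

/-- the element of `M24` of a word of valid tables -/
def mk24 (L : TW) (h : WOK24 L) : ↥M24 := ⟨prodT L, h.mem⟩

theorem mk24_eq_of_key {L L' : TW} (h : WOK24 L) (h' : WOK24 L')
    (e : key7 (img L) = key7 (img L')) : mk24 L h = mk24 L' h' :=
  Subtype.ext (eq_of_key7 L L' h h' e)

theorem key_of_mk24_eq {L L' : TW} (h : WOK24 L) (h' : WOK24 L') (e : mk24 L h = mk24 L' h') :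
    key7 (img L) = key7 (img L') := by
  have e' : prodT L = prodT L' := congrArg Subtype.val e
  unfold key7
  rw [img_eq_of_eq24 L L' h h' e' 0 (by norm_num), img_eq_of_eq24 L L' h h' e' 1 (by norm_num),
    img_eq_of_eq24 L L' h h' e' 2 (by norm_num), img_eq_of_eq24 L L' h h' e' 3 (by norm_num),
    img_eq_of_eq24 L L' h h' e' 4 (by norm_num), img_eq_of_eq24 L L' h h' e' 5 (by norm_num),
    img_eq_of_eq24 L L' h h' e' 6 (by norm_num)]

theorem mk24_append {L L' : TW} (h : WOK24 L) (h' : WOK24 L') :
    mk24 L h * mk24 L' h' = mk24 (L ++ L') (h.append h') := Subtype.ext (prodT_append L L').symm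

theorem mk24_invW {L : TW} (h : WOK24 L) : (mk24 L h)⁻¹ = mk24 (invW L) h.invW :=
  Subtype.ext (prodT_invW L).symm

theorem mk24_conj {L W : TW} (h : WOK24 L) (hW : WOK24 W) :
    mk24 W hW * mk24 L h * (mk24 W hW)⁻¹ =
      mk24 (W ++ L ++ invW W) ((hW.append h).append hW.invW) := by
  rw [mk24_invW, mk24_append, mk24_append]

/-! ### the listed elements -/

theorem valid_SL {p : ℕ × ℕ} (hp : p ∈ SL) : ValidTab p := by
  unfold SL at hp
  simp only [List.mem_append] at hp
  rcases hp with h | h | h | h
  · exact SL0_valid p h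
  · exact SL1_valid p h
  · exact SL2_valid p h
  · exact SL3_valid p h

/-- the element of a listed table -/
def s24 (p : ℕ × ℕ) (hp : p ∈ SL) : ↥M24 := mk24 (pos [p]) (wok24_pos1 (valid_SL hp))

theorem s24_coe (p : ℕ × ℕ) (hp : p ∈ SL) : ((s24 p hp : ↥M24) : Equiv.Perm GolayPt) = tp p := by
  show prodT (pos [p]) = tp p
  unfold prodT pos tpw
  simp

theorem s24_mem (p : ℕ × ℕ) (hp : p ∈ SL) : s24 p hp ∈ syl2G := by
  rw [mem_syl2G, s24_coe, mem_syl2]
  refine ⟨tp_mem (valid_SL hp), ?_⟩
  have h := SL_acts p hp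
  unfold actsB at h
  rw [List.any_eq_true] at h
  obtain ⟨t, ht, h⟩ := h
  rw [List.all_eq_true] at h
  refine ⟨t, ht, ?_⟩
  intro i
  have := h i (List.mem_finRange i)
  rw [beq_iff_eq] at this
  unfold oP
  rw [tp_ptN (valid_SL hp) _ (octP_lt i), this]

theorem nodupB_sound : ∀ l : List ℕ, nodupB l = true → l.Nodup := by
  intro l
  induction l with
  | nil => intro _; exact List.nodup_nil
  | cons a l ih =>
    intro h
    unfold nodupB at h
    rw [Bool.and_eq_true] at h
    rw [List.nodup_cons]
    refine ⟨?_, ih h.2⟩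
    intro ha
    have h1 := h.1
    rw [Bool.not_eq_true', List.any_eq_false] at h1
    exact h1 a ha (Nat.beq_refl a)

theorem SL_map_nodup : (SL.map fun p => key7 (img (pos [p]))).Nodup := by
  rw [← SL_ok.2.2.1]
  exact nodupB_sound _ SK_nodup

theorem s24_inj {p q : ℕ × ℕ} (hp : p ∈ SL) (hq : q ∈ SL) (h : s24 p hp = s24 q hq) : p = q :=
  List.inj_on_of_nodup_map SL_map_nodup hp hq (key_of_mk24_eq _ _ h)

theorem card_sylow24 (S : Sylow 2 ↥M24) : Nat.card S = 1024 := by
  have : Fact (Nat.Prime 2) := ⟨Nat.prime_two⟩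
  have hfac : (Nat.card ↥M24).factorization 2 = 10 := by
    rw [card_M24]
    have h : (244823040 : ℕ) = 2 ^ 10 * 239085 := by norm_num
    rw [h, Nat.factorization_mul (by norm_num) (by norm_num), Finsupp.add_apply,
      Nat.Prime.factorization_pow Nat.prime_two, Finsupp.single_eq_same,
      Nat.factorization_eq_zero_of_not_dvd (by norm_num)]
  rw [Sylow.card_eq_multiplicity, hfac]
  norm_num

theorem card_syl2G_eq : Nat.card syl2G = 1024 := by
  obtain ⟨Q, hQ⟩ := syl2G_sylow
  rw [← hQ]
  exact card_sylow24 Q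

theorem exists_s24 (x : ↥M24) (hx : x ∈ syl2G) : ∃ p, ∃ hp : p ∈ SL, x = s24 p hp := by
  classical
  have hinj : Function.Injective (fun p : {p // p ∈ SL} =>
      (⟨s24 p.1 p.2, s24_mem p.1 p.2⟩ : syl2G)) := by
    intro p q h
    have h1 := congrArg Subtype.val h
    exact Subtype.ext (s24_inj p.2 q.2 h1)
  have hcard : Nat.card syl2G ≤ Nat.card {p // p ∈ SL} := by
    rw [card_syl2G_eq, Nat.card_eq_fintype_card, Fintype.card_of_subtype SL.toFinset (by simp),
      List.toFinset_card_of_nodup (List.Nodup.of_map _ SL_map_nodup), SL_ok.2.2.2.1]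
  obtain ⟨p, hp⟩ := (hinj.bijective_of_nat_card_le hcard).2 ⟨x, hx⟩
  exact ⟨p.1, p.2, (congrArg Subtype.val hp).symm⟩

/-! ### strongly closed subgroups -/

theorem idT_mem_SL : M11Aut.idT ∈ SL := by
  have h := SL_ok.1
  cases hSL : SL with
  | nil => rw [hSL] at h; simp at h
  | cons a l =>
    rw [hSL] at h
    simp only [List.head?_cons, Option.some.injEq] at h
    rw [h]
    exact List.mem_cons_self

theorem s24_idT : s24 M11Aut.idT idT_mem_SL = 1 := by
  apply Subtype.ext
  show prodT (pos [M11Aut.idT]) = 1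
  apply eq_one_of_imgs_eq_idL _ (wok24_pos1 (valid_SL idT_mem_SL))
  decide +kernel

theorem valid_CJL (i : ℕ) : ValidTab (CJL.getD i M11Aut.idT) := by
  rw [List.getD_eq_getElem?_getD]
  cases h : CJL[i]? with
  | none => exact valid_SL idT_mem_SL
  | some q => exact CJL_ok q (List.mem_of_getElem? h)

/-- soundness of derivations -/
theorem runDer_sound (T : Subgroup ↥M24)
    (hcl : ∀ x ∈ T, ∀ g : ↥M24, g * x * g⁻¹ ∈ syl2G → g * x * g⁻¹ ∈ T) :
    ∀ (steps : List Step) (D D' : List (ℕ × ℕ)), runDer D steps = some D' →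
      (∀ p ∈ D, ∃ hp : p ∈ SL, s24 p hp ∈ T) → ∀ p ∈ D', ∃ hp : p ∈ SL, s24 p hp ∈ T := by
  intro steps
  induction steps with
  | nil =>
    intro D D' h hD
    unfold runDer at h
    cases h
    exact hD
  | cons st sts ih =>
    intro D D' h hD
    unfold runDer at h
    split at h
    · rename_i hc
      rw [Bool.and_eq_true] at hc
      obtain ⟨hr, hk⟩ := hc
      have hr' : st.1 ∈ SL := List.contains_iff_mem.1 hr
      have hk' := Nat.eq_of_beq_eq_true hk
      apply ih _ _ h
      intro p hp
      rw [List.mem_append, List.mem_singleton] at hp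
      rcases hp with hp | rfl
      · exact hD p hp
      · refine ⟨hr', ?_⟩
        have hget : ∀ i, ∃ hq : D.getD i M11Aut.idT ∈ SL, s24 (D.getD i M11Aut.idT) hq ∈ T := by
          intro i
          rw [List.getD_eq_getElem?_getD]
          cases hi : D[i]? with
          | none =>
            refine ⟨idT_mem_SL, ?_⟩
            show s24 M11Aut.idT _ ∈ T
            rw [s24_idT]
            exact T.one_mem
          | some q => exact hD q (List.mem_of_getElem? hi)
        unfold stepKey at hk'
        split at hk'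
        · obtain ⟨hq, hqT⟩ := hget st.2.2.1
          have hg := wok24_pos1 (valid_CJL st.2.2.2.2)
          have h2 : mk24 _ hg * s24 _ hq * (mk24 _ hg)⁻¹ = s24 st.1 hr' := by
            unfold s24
            rw [mk24_conj]
            exact mk24_eq_of_key _ _ hk'
          have h3 := hcl _ hqT (mk24 _ hg)
          rw [h2] at h3
          exact h3 (s24_mem _ _)
        · obtain ⟨hq1, hq1T⟩ := hget st.2.2.1
          obtain ⟨hq2, hq2T⟩ := hget st.2.2.2.1
          have h2 : s24 _ hq1 * s24 _ hq2 = s24 st.1 hr' := by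
            unfold s24
            rw [mk24_append]
            exact mk24_eq_of_key _ _ hk'
          rw [← h2]
          exact T.mul_mem hq1T hq2T
    · cases h

/-- soundness of the path -/
theorem pathChk_sound (T : Subgroup ↥M24)
    (hA : ∀ q ∈ AL, ∃ hq : q ∈ SL, s24 q hq ∈ T) :
    ∀ (l : List (ℕ × ℕ)) (js : List ℕ), pathChk l js = true → (∀ p ∈ l, p ∈ SL) →
      (∀ p, l.head? = some p → ∃ hp : p ∈ SL, s24 p hp ∈ T) →
      ∀ p ∈ l, ∃ hp : p ∈ SL, s24 p hp ∈ T := by
  intro l
  induction l with
  | nil => intro js _ _ _ p hp; simp at hp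
  | cons a l ih =>
    intro js hchk hmem hhead p hp
    obtain ⟨ha, haT⟩ := hhead a rfl
    rcases List.mem_cons.1 hp with rfl | hp
    · exact ⟨ha, haT⟩
    · cases l with
      | nil => simp at hp
      | cons b rest =>
        cases js with
        | nil => unfold pathChk at hchk; exact absurd hchk (by decide)
        | cons j js =>
          unfold pathChk at hchk
          rw [Bool.and_eq_true] at hchk
          obtain ⟨hk, hrest⟩ := hchk
          have hk' := Nat.eq_of_beq_eq_true hk
          have hb : b ∈ SL := hmem b (List.mem_cons_of_mem _ List.mem_cons_self)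
          -- the generator
          have hgen : ∃ hq : AL.getD j M11Aut.idT ∈ SL, s24 (AL.getD j M11Aut.idT) hq ∈ T := by
            rw [List.getD_eq_getElem?_getD]
            cases hi : AL[j]? with
            | none =>
              refine ⟨idT_mem_SL, ?_⟩
              show s24 M11Aut.idT _ ∈ T
              rw [s24_idT]
              exact T.one_mem
            | some q => exact hA q (List.mem_of_getElem? hi)
          obtain ⟨hq, hqT⟩ := hgen
          have hbT : s24 b hb ∈ T := by
            have h2 : s24 a ha * s24 _ hq = s24 b hb := by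
              unfold s24
              rw [mk24_append]
              exact mk24_eq_of_key _ _ hk'
            rw [← h2]
            exact T.mul_mem haT hqT
          apply ih js hrest (fun p hp => hmem p (List.mem_cons_of_mem _ hp)) ?_ p hp
          intro p' hp'
          simp only [List.head?_cons, Option.some.injEq] at hp'
          subst hp'
          exact ⟨hb, hbT⟩

theorem mem_tail_SL {p : ℕ × ℕ} (hp : p ∈ SL) (hne : p ≠ M11Aut.idT) : p ∈ SL.tail := by
  have h := SL_ok.1
  generalize SL = l at hp h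
  cases l with
  | nil => simp at hp
  | cons a l =>
    simp only [List.head?_cons, Option.some.injEq] at h
    rcases List.mem_cons.1 hp with rfl | h'
    · exact absurd h hne
    · exact h'

theorem noSC_syl2G : NoSC syl2G := by
  intro T hT hne hcl
  obtain ⟨⟨x, hx⟩, hx1⟩ := (Subgroup.ne_bot_iff_exists_ne_one).1 hne
  have hx1' : x ≠ 1 := fun h => hx1 (Subtype.ext h)
  obtain ⟨p, hp, rfl⟩ := exists_s24 x (hT hx)
  have hsound := runDer_sound T hcl
  have hzT : ∃ hz : zT ∈ SL, s24 zT hz ∈ T := by
    have hpne : p ≠ M11Aut.idT := by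
      rintro rfl
      exact hx1' s24_idT
    have hpt := mem_tail_SL hp hpne
    rw [← derA_ok.1, List.mem_map] at hpt
    obtain ⟨e, he, rfl⟩ := hpt
    have hok := derA_ok.2 e he
    unfold derOK at hok
    split at hok
    · rename_i D hD
      exact hsound _ _ _ hD (by
        intro q hq
        rw [List.mem_singleton] at hq
        subst hq
        exact ⟨hp, hx⟩) zT (List.contains_iff_mem.1 hok)
    · exact absurd hok (by decide)
  obtain ⟨hz, hzT'⟩ := hzT
  have hA : ∀ q ∈ AL, ∃ hq : q ∈ SL, s24 q hq ∈ T := by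
    intro q hq
    have hB := derB_ok
    unfold derGens at hB
    split at hB
    · rename_i D hD
      rw [List.all_eq_true] at hB
      exact hsound _ _ _ hD (by
        intro r hr
        rw [List.mem_singleton] at hr
        subst hr
        exact ⟨hz, hzT'⟩) q (List.contains_iff_mem.1 (hB q hq))
    · exact absurd hB (by decide)
  apply le_antisymm hT
  intro s hs
  obtain ⟨q, hq, rfl⟩ := exists_s24 s hs
  obtain ⟨_, h⟩ := pathChk_sound T hA SL rulL path_ok (fun p hp => hp) (by
    intro p' hp'
    rw [SL_ok.1] at hp'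
    simp only [Option.some.injEq] at hp'
    subst hp'
    refine ⟨idT_mem_SL, ?_⟩
    rw [s24_idT]
    exact T.one_mem) q hq
  exact h

/-! ### the fusion system -/

theorem selfNorm_syl2G : SelfNorm syl2G := by
  intro g hg hg'
  have : g ∈ Subgroup.normalizer ((syl2G : Subgroup ↥M24) : Set ↥M24) := by
    rw [Subgroup.mem_set_normalizer_iff]
    intro h
    constructor
    · intro hh
      exact hg h hh
    · intro hh
      have := hg' _ hh
      have e : g⁻¹ * (g * h * g⁻¹) * g = h := by group
      rw [e] at this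
      exact this
  rw [normalizer_syl2G] at this
  exact this

/-- every Sylow `2`-subgroup is a conjugate of the standard one -/
theorem sylow_eq_cj24 (S : Sylow 2 ↥M24) : ∃ k, cj k syl2G = (S : Subgroup ↥M24) := by
  have : Fact (Nat.Prime 2) := ⟨Nat.prime_two⟩
  obtain ⟨k, hk⟩ := exists_cj_le_sylow S isPGroup_syl2G
  refine ⟨k, ?_⟩
  apply Subgroup.eq_of_le_of_card_ge hk
  rw [card_cj, card_syl2G_eq]
  exact (card_sylow24 S).le

/-- The `2`-fusion system of `M24` is simple. -/
theorem fusion_simple24 (S : Sylow 2 ↥M24) :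
    (groupFusionSystem (S : Subgroup ↥M24)).IsSimple 2 := by
  obtain ⟨k, hk⟩ := sylow_eq_cj24 S
  apply isSimple_of_selfNorm S
  · intro hb
    have h1 := card_sylow24 S
    rw [hb, Subgroup.card_bot] at h1
    norm_num at h1
  · rw [← hk]
    exact selfNorm_syl2G.conj k
  · rw [← hk]
    exact noSC_syl2G.conj k

end Cfsg.Agent.Lib.Helper9.M24Fus
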