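import Mathlib

/-!
Normaliser versus centraliser: `|N(H)| = |C(H)| * m` with `m ∣ |Aut H|`, and conjugation transfer
(helper9).
-/

set_option autoImplicit false

namespace Cfsg.Agent.Lib.Helper9

open Subgroup
open scoped Pointwise

variable {G : Type*} [Group G]

/-- `|N(H)| = |C(H)| * m` for some `m` dividing `|Aut H|`. -/
theorem card_normalizer_eq_card_centralizer_mul [Finite G] (H : Subgroup G) :
    ∃ m : ℕ, m ∣ Nat.card (MulAut H) ∧
      Nat.card (normalizer (H : Set G)) = Nat.card (centralizer (H : Set G)) * m := by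
  refine ⟨Nat.card H.normalizerMonoidHom.range, Subgroup.card_subgroup_dvd_card _, ?_⟩
  have h1 := Subgroup.card_eq_card_quotient_mul_card_subgroup H.normalizerMonoidHom.ker
  have h2 : Nat.card (normalizer (H : Set G) ⧸ H.normalizerMonoidHom.ker) =
      Nat.card H.normalizerMonoidHom.range :=
    Nat.card_congr (QuotientGroup.quotientKerEquivRange H.normalizerMonoidHom).toEquiv
  have h3 : Nat.card H.normalizerMonoidHom.ker = Nat.card (centralizer (H : Set G)) := by
    rw [normalizerMonoidHom_ker]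
    exact Nat.card_congr
      (Subgroup.subgroupOfEquivOfLe (Subgroup.centralizer_le_normalizer (H : Set G))).toEquiv
  rw [h1, h2, h3, mul_comm]

/-- In a group of the order of `M24`, a subgroup of order seven with centraliser of order `42` has
normaliser of order `126` (by Sylow's congruence). -/
theorem card_normalizer_of_order_seven [Finite G] (hG : Nat.card G = 244823040) (S : Subgroup G)
    (hS : Nat.card S = 7) (hC : Nat.card (centralizer (S : Set G)) = 42) :
    Nat.card (normalizer (S : Set G)) = 126 := by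
  have : Fact (Nat.Prime 7) := ⟨by norm_num⟩
  have hfac : (Nat.card G).factorization 7 = 1 := by
    rw [hG]
    have h : (244823040 : ℕ) = 7 * 34974720 := by norm_num
    rw [h, Nat.factorization_mul (by norm_num) (by norm_num), Finsupp.add_apply,
      Nat.Prime.factorization_self (by norm_num),
      Nat.factorization_eq_zero_of_not_dvd (by norm_num)]
  let P : Sylow 7 G := Sylow.ofCard S (by rw [hS, hfac, pow_one])
  have hP : (P : Subgroup G) = S := Sylow.coe_ofCard S _
  have h1 : Nat.card (Sylow 7 G) ≡ 1 [MOD 7] := card_sylow_modEq_one 7 G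
  have h2 := Sylow.card_eq_index_normalizer P
  change Nat.card (Sylow 7 G) = (normalizer ((P : Subgroup G) : Set G)).index at h2
  rw [hP] at h2
  have h3 := Subgroup.card_mul_index (normalizer (S : Set G))
  obtain ⟨m, hm, hN⟩ := card_normalizer_eq_card_centralizer_mul S
  haveI : IsCyclic S := isCyclic_of_prime_card hS
  rw [IsCyclic.card_mulAut S, hS, Nat.totient_prime (by norm_num)] at hm
  rw [hC] at hN
  rw [hG, hN] at h3
  rw [h2] at h1
  have hm6 : m ≤ 6 := Nat.le_of_dvd (by norm_num) hm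
  have hm0 : 0 < m := Nat.pos_of_dvd_of_pos hm (by norm_num)
  unfold Nat.ModEq at h1
  rw [hN]
  generalize (normalizer (S : Set G)).index = idx at h1 h3
  interval_cases m <;> omega

/-- membership in a centraliser of a cyclic subgroup -/
theorem mem_centralizer_zpowers_iff {z x : G} :
    x ∈ centralizer ((zpowers z : Subgroup G) : Set G) ↔ x * z = z * x := by
  rw [mem_centralizer_iff]
  constructor
  · intro h
    exact (h z (mem_zpowers z)).symm
  · intro h y hy
    obtain ⟨k, rfl⟩ := mem_zpowers_iff.1 hy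
    exact ((Commute.zpow_right (show Commute x z from h) k).eq).symm

/-- Two subgroups of order seven in a group of the order of `M24` are conjugate. -/
theorem exists_conj_of_card_eq_seven [Finite G] (hG : Nat.card G = 244823040) (S S0 : Subgroup G)
    (hS : Nat.card S = 7) (hS0 : Nat.card S0 = 7) : ∃ g : G, ∀ x, x ∈ S ↔ g⁻¹ * x * g ∈ S0 := by
  have : Fact (Nat.Prime 7) := ⟨by norm_num⟩
  have hfac : (Nat.card G).factorization 7 = 1 := by
    rw [hG]
    have h : (244823040 : ℕ) = 7 * 34974720 := by norm_num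
    rw [h, Nat.factorization_mul (by norm_num) (by norm_num), Finsupp.add_apply,
      Nat.Prime.factorization_self (by norm_num),
      Nat.factorization_eq_zero_of_not_dvd (by norm_num)]
  let P : Sylow 7 G := Sylow.ofCard S (by rw [hS, hfac, pow_one])
  let P0 : Sylow 7 G := Sylow.ofCard S0 (by rw [hS0, hfac, pow_one])
  have hP : (P : Subgroup G) = S := Sylow.coe_ofCard S _
  have hP0 : (P0 : Subgroup G) = S0 := Sylow.coe_ofCard S0 _
  obtain ⟨g, hg⟩ := MulAction.exists_smul_eq G P0 P
  refine ⟨g, fun x => ?_⟩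
  have h1 : (P : Subgroup G) = MulAut.conj g • (P0 : Subgroup G) := by
    rw [← hg]; rfl
  rw [← hP, h1, hP0, Subgroup.mem_pointwise_smul_iff_inv_smul_mem, MulAut.smul_def,
    MulAut.conj_inv_apply]

section transfer

variable {S S0 : Subgroup G} {g : G}

theorem conj_mem_of_mem (h : ∀ x, x ∈ S ↔ g⁻¹ * x * g ∈ S0) {y : G} (hy : y ∈ S0) :
    g * y * g⁻¹ ∈ S := by
  rw [h]
  have : g⁻¹ * (g * y * g⁻¹) * g = y := by group
  rw [this]
  exact hy

theorem mem_centralizer_conj_iff (h : ∀ x, x ∈ S ↔ g⁻¹ * x * g ∈ S0) (c : G) :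
    c ∈ centralizer (S : Set G) ↔ g⁻¹ * c * g ∈ centralizer (S0 : Set G) := by
  rw [mem_centralizer_iff, mem_centralizer_iff]
  constructor
  · intro hc y hy
    have := hc _ (conj_mem_of_mem h hy)
    have e1 : y * (g⁻¹ * c * g) = g⁻¹ * (g * y * g⁻¹ * c) * g := by group
    have e2 : g⁻¹ * c * g * y = g⁻¹ * (c * (g * y * g⁻¹)) * g := by group
    rw [e1, e2, this]
  · intro hc x hx
    have := hc _ ((h x).1 hx)
    have e1 : x * c = g * (g⁻¹ * x * g * (g⁻¹ * c * g)) * g⁻¹ := by group
    have e2 : c * x = g * (g⁻¹ * c * g * (g⁻¹ * x * g)) * g⁻¹ := by group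
    rw [e1, e2, this]

theorem card_centralizer_conj (h : ∀ x, x ∈ S ↔ g⁻¹ * x * g ∈ S0) :
    Nat.card (centralizer (S : Set G)) = Nat.card (centralizer (S0 : Set G)) := by
  apply Nat.card_congr
  refine ⟨fun c => ⟨g⁻¹ * c.1 * g, (mem_centralizer_conj_iff h c.1).1 c.2⟩,
    fun c => ⟨g * c.1 * g⁻¹, ?_⟩, fun c => ?_, fun c => ?_⟩
  · rw [mem_centralizer_conj_iff h]
    have : g⁻¹ * (g * c.1 * g⁻¹) * g = c.1 := by group
    rw [this]
    exact c.2
  · apply Subtype.ext
    show g * (g⁻¹ * c.1 * g) * g⁻¹ = c.1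
    group
  · apply Subtype.ext
    show g⁻¹ * (g * c.1 * g⁻¹) * g = c.1
    group

theorem mem_normalizer_conj (h : ∀ x, x ∈ S ↔ g⁻¹ * x * g ∈ S0) {n : G}
    (hn : n ∈ normalizer (S : Set G)) : g⁻¹ * n * g ∈ normalizer (S0 : Set G) := by
  rw [mem_normalizer_iff] at hn ⊢
  intro y
  have h1 : y ∈ S0 ↔ g * y * g⁻¹ ∈ S := by
    rw [h]
    have : g⁻¹ * (g * y * g⁻¹) * g = y := by group
    rw [this]
  have h2 : g⁻¹ * n * g * y * (g⁻¹ * n * g)⁻¹ ∈ S0 ↔ n * (g * y * g⁻¹) * n⁻¹ ∈ S := by
    rw [h]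
    have : g⁻¹ * (n * (g * y * g⁻¹) * n⁻¹) * g = g⁻¹ * n * g * y * (g⁻¹ * n * g)⁻¹ := by group
    rw [this]
  rw [h1, h2]
  exact hn _

end transfer

end Cfsg.Agent.Lib.Helper9
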