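import Cfsg.Agent.Lib.Helper9.M24SevenCert
import Cfsg.Agent.Lib.Helper9.NormCent
import Cfsg.Agent.Lib.Helper21.GolayChain
import Cfsg.Agent.Lib.Helper21.GolayConj
import Cfsg.Agent.Lib.Helper21.GolayTrioOrb

/-!
Subgroups of order seven of `M24`: normaliser of order `126`, centraliser of order `42`, non-abelian,
an invariant trio (helper9).
-/

set_option autoImplicit false

namespace Cfsg.Agent.Lib.Helper9.M24Coset

open Cfsg Cfsg.Agent.Lib.Helper21
open scoped Pointwise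

/-! ### the standard element -/

theorem ptN_ne_of_ne {i j : ℕ} (hi : i < 24) (hj : j < 24) (h : i ≠ j) : ptN i ≠ ptN j :=
  fun e => h (ptN_injOn hi hj e)

theorem tp_pow_ptN {p : ℕ × ℕ} (hv : ValidTab p) (n : ℕ) : ∀ i, i < 24 →
    (tabGet p.1)^[n] i < 24 ∧ (tp p ^ n) (ptN i) = ptN ((tabGet p.1)^[n] i) := by
  induction n with
  | zero => intro i hi; exact ⟨hi, rfl⟩
  | succ n ih =>
    intro i hi
    have h1 := tabGet_lt hv i hi
    obtain ⟨h2, h3⟩ := ih (tabGet p.1 i) h1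
    refine ⟨by rw [Function.iterate_succ_apply]; exact h2, ?_⟩
    rw [pow_succ, Equiv.Perm.mul_apply, tp_ptN hv i hi, h3, Function.iterate_succ_apply]

theorem tp_z7_pow : tp z7 ^ 7 = 1 := by
  apply perm_ext_ptN
  intro i
  rw [(tp_pow_ptN valid_z7 7 i i.isLt).2]
  have : (tabGet z7.1)^[7] i = i := z7_seven i
  rw [this]
  rfl

theorem tp_z7_ne_one : tp z7 ≠ 1 :=
  tp_ne_one valid_z7 0 (by rw [show ((0 : Fin 24) : ℕ) = 0 from rfl, z7_img 0 (by norm_num)]; norm_num)

theorem orderOf_tp_z7 : orderOf (tp z7) = 7 :=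
  haveI : Fact (Nat.Prime 7) := ⟨by norm_num⟩
  orderOf_eq_prime tp_z7_pow tp_z7_ne_one

theorem tp_z7_ptN (i : ℕ) (hi : i < 4) : tp z7 (ptN i) = ptN (i + 1) := by
  rw [tp_ptN valid_z7 i (by omega), z7_img i hi]

/-! ### the centraliser of the standard element -/

theorem mem_cen7 {c : Equiv.Perm GolayPt} (hc : c ∈ M24) (hcz : c * tp z7 = tp z7 * c) :
    ∃ w ∈ cen7L, c = tp w := by
  have hcomm : ∀ q, c (tp z7 q) = tp z7 (c q) := fun q => by
    have := congrArg (fun f : Equiv.Perm GolayPt => f q) hcz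
    simpa only [Equiv.Perm.mul_apply] using this
  -- the image of position 0
  have hj : tabGet z7.1 ((gEquiv (c (ptN 0)) : Fin 24) : ℕ) ≠ ((gEquiv (c (ptN 0)) : Fin 24) : ℕ) := by
    intro e
    have h1 : tp z7 (c (ptN 0)) = c (ptN 0) := by
      conv_lhs => rw [← ptN_gEquiv (c (ptN 0))]
      rw [tp_ptN valid_z7 _ (gEquiv (c (ptN 0))).isLt, e, ptN_gEquiv]
    rw [← hcomm, tp_z7_ptN 0 (by norm_num)] at h1
    exact ptN_ne_of_ne (by norm_num) (by norm_num) (by norm_num) (c.injective h1)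
  obtain ⟨u, hu, hu0⟩ := cen7_img _ (gEquiv (c (ptN 0))).isLt hj
  obtain ⟨hvu, hcu⟩ := cen7_ok u hu
  have huz : tp u * tp z7 = tp z7 * tp u := tp_mul_eq hvu valid_z7 valid_z7 hvu hcu
  have hu0' : tp u (ptN 0) = c (ptN 0) := by
    rw [tp_ptN hvu 0 (by norm_num), hu0, ptN_gEquiv]
  -- the quotient fixes the first five positions
  set d := (tp u)⁻¹ * c with hd
  have hdM : d ∈ M24 := M24.mul_mem (M24.inv_mem (tp_mem hvu)) hc
  have hdz : d * tp z7 = tp z7 * d := by
    have h1 : (tp u)⁻¹ * tp z7 = tp z7 * (tp u)⁻¹ := by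
      rw [eq_mul_inv_iff_mul_eq, mul_assoc, inv_mul_eq_iff_eq_mul, huz]
    rw [hd, mul_assoc, hcz, ← mul_assoc, h1, mul_assoc]
  have hdcomm : ∀ q, d (tp z7 q) = tp z7 (d q) := fun q => by
    have := congrArg (fun f : Equiv.Perm GolayPt => f q) hdz
    simpa only [Equiv.Perm.mul_apply] using this
  have hd0 : d (ptN 0) = ptN 0 := by
    rw [hd, Equiv.Perm.mul_apply, ← hu0', perm_inv_apply]
  have hdi : ∀ i < 5, d (ptN i) = ptN (imgL i) := by
    intro i hi
    have key : ∀ i, i < 5 → d (ptN i) = ptN i := by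
      intro i
      induction i with
      | zero => intro _; exact hd0
      | succ k ih =>
        intro hk
        rw [← tp_z7_ptN k (by omega), hdcomm, ih (by omega)]
    rw [key i hi]
    interval_cases i <;> rfl
  obtain ⟨q, hq, hdq, hvq⟩ := mem_coset cL imgL okL d hdM hdi
  have hqz : CommT q.1 z7 := commT_of hvq valid_z7 (by rw [← hdq]; exact hdz)
  obtain ⟨w, hw, hwi⟩ := cen7_closed u hu q hq hqz
  refine ⟨w, hw, ?_⟩
  have hvw := (cen7_ok w hw).1
  have hc' : c = tp u * d := by rw [hd]; group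
  rw [hc', hdq]
  apply perm_ext_ptN
  intro i
  rw [Equiv.Perm.mul_apply, tp_ptN hvq _ i.isLt, tp_ptN hvu _ (tabGet_lt hvq _ i.isLt),
    tp_ptN hvw _ i.isLt, hwi i]

theorem tabKey7_eq_of_tp_eq {p r : ℕ × ℕ} (hp : ValidTab p) (hr : ValidTab r) (h : tp p = tp r) :
    tabKey7 p = tabKey7 r := by
  unfold tabKey7
  apply List.map_congr_left
  intro i hi
  rw [List.mem_range] at hi
  exact tabGet_of_apply hp hi (tabGet_lt hr i hi) (by rw [h, tp_ptN hr i hi])

theorem cen7_map_nodup : (cen7L.map tp).Nodup := by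
  apply List.Nodup.map_on _ (List.Nodup.of_map _ cen7_keys_nodup)
  intro p hp r hr h
  exact List.inj_on_of_nodup_map cen7_keys_nodup hp hr
    (tabKey7_eq_of_tp_eq (cen7_ok p hp).1 (cen7_ok r hr).1 h)

theorem card_cen7 :
    Nat.card {c : Equiv.Perm GolayPt // c ∈ M24 ∧ c * tp z7 = tp z7 * c} = 42 := by
  classical
  have hset : {c : Equiv.Perm GolayPt | c ∈ M24 ∧ c * tp z7 = tp z7 * c} =
      ↑((cen7L.map tp).toFinset) := by
    ext c
    rw [Set.mem_ofPred_eq, Finset.mem_coe, List.mem_toFinset, List.mem_map]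
    constructor
    · rintro ⟨hc, hcz⟩
      obtain ⟨w, hw, e⟩ := mem_cen7 hc hcz
      exact ⟨w, hw, e.symm⟩
    · rintro ⟨w, hw, rfl⟩
      obtain ⟨hv, hcw⟩ := cen7_ok w hw
      exact ⟨tp_mem hv, tp_mul_eq hv valid_z7 valid_z7 hv hcw⟩
  have h1 : Nat.card {c : Equiv.Perm GolayPt // c ∈ M24 ∧ c * tp z7 = tp z7 * c} =
      ({c : Equiv.Perm GolayPt | c ∈ M24 ∧ c * tp z7 = tp z7 * c}).ncard := rfl
  rw [h1, hset, Set.ncard_coe_finset, List.toFinset_card_of_nodup cen7_map_nodup, List.length_map,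
    cen7_length]

/-! ### the standard subgroup of order seven -/

/-- the standard element of order seven as an element of the subgroup `M24` -/
noncomputable def z7' : M24 := ⟨tp z7, tp_mem valid_z7⟩

theorem card_zpowers_z7' : Nat.card (Subgroup.zpowers z7') = 7 := by
  rw [Nat.card_zpowers, ← orderOf_tp_z7]
  exact Subgroup.orderOf_mk _ _

theorem card_centralizer_z7' :
    Nat.card (Subgroup.centralizer ((Subgroup.zpowers z7' : Subgroup M24) : Set M24)) = 42 := by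
  rw [← card_cen7]
  apply Nat.card_congr
  refine ⟨fun x => ⟨x.1.1, x.1.2, ?_⟩, fun c => ⟨⟨c.1, c.2.1⟩, ?_⟩, fun _ => rfl, fun _ => rfl⟩
  · have := Cfsg.Agent.Lib.Helper9.mem_centralizer_zpowers_iff.1 x.2
    exact congrArg Subtype.val this
  · rw [Cfsg.Agent.Lib.Helper9.mem_centralizer_zpowers_iff]
    exact Subtype.ext c.2.2

/-! ### the invariant trio -/

/-- the trio of the octads fixed by `z7` -/
def trioT7 : Finset (Finset GolayPt) := (trio7L.map maskFS).toFinset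

theorem mem_trioT7 {o : Finset GolayPt} : o ∈ trioT7 ↔ ∃ m ∈ trio7L, maskFS m = o := by
  unfold trioT7
  rw [List.mem_toFinset, List.mem_map]

theorem maskFS_zero : maskFS 0 = ∅ := by
  ext p
  simp [mem_maskFS]

theorem trioT7_mem : trioT7 ∈ trios := by
  obtain ⟨hchk, hdisj⟩ := trio7_chk
  obtain ⟨hlen, hnd⟩ := trio7_length
  refine ⟨?_, ?_, ?_⟩
  · unfold trioT7
    rw [List.toFinset_card_of_nodup, List.length_map, hlen]
    apply List.Nodup.map_on _ hnd
    intro a ha b hb h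
    exact maskFS_inj (hchk a ha).1.1 (hchk b hb).1.1 h
  · intro o ho
    obtain ⟨m, hm, rfl⟩ := mem_trioT7.1 ho
    exact maskFS_mem_octads_of_chk (hchk m hm).1
  · intro o ho o' ho' hne
    obtain ⟨a, ha, rfl⟩ := mem_trioT7.1 ho
    obtain ⟨b, hb, rfl⟩ := mem_trioT7.1 ho'
    have hab : a ≠ b := fun e => hne (by rw [e])
    rw [Finset.disjoint_iff_inter_eq_empty, ← maskFS_and, hdisj a ha b hb hab, maskFS_zero]

theorem trio7_of_fixed {o : Finset GolayPt} (ho : o ∈ octads) (hf : tp z7 • o = o) :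
    o ∈ trioT7 := by
  have : fsMask o ∈ trio7L := by
    rw [← trio7_eq, List.mem_filter, decide_eq_true_eq]
    refine ⟨fsMask_mem_octL ho, ?_⟩
    rw [actF_eq]
    exact (tp_smul_eq_iff valid_z7 o).1 hf
  exact mem_trioT7.2 ⟨_, this, maskFS_fsMask o⟩

theorem trioT7_fixed {o : Finset GolayPt} (ho : o ∈ trioT7) : o ∈ octads ∧ tp z7 • o = o := by
  obtain ⟨m, hm, rfl⟩ := mem_trioT7.1 ho
  obtain ⟨hchk, hact⟩ := trio7_chk.1 m hm
  refine ⟨maskFS_mem_octads_of_chk hchk, ?_⟩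
  rw [tp_smul_eq_iff valid_z7, fsMask_maskFS m hchk.1, ← actF_eq, hact]

theorem trioT7_smul {n : M24}
    (hn : n ∈ Subgroup.normalizer ((Subgroup.zpowers z7' : Subgroup M24) : Set M24)) :
    (n : Equiv.Perm GolayPt) • trioT7 = trioT7 := by
  apply smul_eq_self_of_forall_mem
  intro o ho
  obtain ⟨hoct, hfix⟩ := trioT7_fixed ho
  apply trio7_of_fixed (smul_mem_octads n.2 hoct)
  have h1 : n⁻¹ * z7' * n ∈ Subgroup.zpowers z7' :=
    (Subgroup.mem_normalizer_iff''.1 hn z7').1 (Subgroup.mem_zpowers z7')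
  obtain ⟨k, hk⟩ := Subgroup.mem_zpowers_iff.1 h1
  have h2 : (n : Equiv.Perm GolayPt)⁻¹ * tp z7 * n = tp z7 ^ k := by
    have := congrArg Subtype.val hk
    rw [Subgroup.coe_zpow] at this
    exact this.symm
  have h3 : (tp z7 ^ k) • o = o := by
    have hmem : tp z7 ∈ MulAction.stabilizer (Equiv.Perm GolayPt) o := hfix
    exact (MulAction.stabilizer (Equiv.Perm GolayPt) o).zpow_mem hmem k
  have h4 : tp z7 * (n : Equiv.Perm GolayPt) =
      n * ((n : Equiv.Perm GolayPt)⁻¹ * tp z7 * n) := by group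
  rw [← mul_smul, h4, mul_smul, h2, h3]

/-! ### the general statement -/

theorem seven_main (S : Subgroup M24) (hS : Nat.card S = 7) :
    Nat.card (Subgroup.normalizer (S : Set M24)) = 126 ∧
      Nat.card (Subgroup.centralizer (S : Set M24)) = 42 ∧
      (∃ x ∈ Subgroup.centralizer (S : Set M24), ∃ y ∈ Subgroup.centralizer (S : Set M24),
        x * y ≠ y * x) ∧
      ∃ T ∈ trios, ∀ n ∈ Subgroup.normalizer (S : Set M24),
        ((n : M24) : Equiv.Perm GolayPt) • T = T := by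
  obtain ⟨g, hg⟩ := Cfsg.Agent.Lib.Helper9.exists_conj_of_card_eq_seven card_M24 S
    (Subgroup.zpowers z7') hS card_zpowers_z7'
  have hC : Nat.card (Subgroup.centralizer (S : Set M24)) = 42 := by
    rw [Cfsg.Agent.Lib.Helper9.card_centralizer_conj hg, card_centralizer_z7']
  refine ⟨Cfsg.Agent.Lib.Helper9.card_normalizer_of_order_seven card_M24 S hS hC, hC, ?_, ?_⟩
  · obtain ⟨u, hu, w, hw, hnc⟩ := cen7_noncomm
    obtain ⟨hvu, hcu⟩ := cen7_ok u hu
    obtain ⟨hvw, hcw⟩ := cen7_ok w hw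
    let x0 : M24 := ⟨tp u, tp_mem hvu⟩
    let y0 : M24 := ⟨tp w, tp_mem hvw⟩
    have hx0 : x0 ∈ Subgroup.centralizer ((Subgroup.zpowers z7' : Subgroup M24) : Set M24) := by
      rw [Cfsg.Agent.Lib.Helper9.mem_centralizer_zpowers_iff]
      exact Subtype.ext (tp_mul_eq hvu valid_z7 valid_z7 hvu hcu)
    have hy0 : y0 ∈ Subgroup.centralizer ((Subgroup.zpowers z7' : Subgroup M24) : Set M24) := by
      rw [Cfsg.Agent.Lib.Helper9.mem_centralizer_zpowers_iff]
      exact Subtype.ext (tp_mul_eq hvw valid_z7 valid_z7 hvw hcw)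
    refine ⟨g * x0 * g⁻¹, ?_, g * y0 * g⁻¹, ?_, ?_⟩
    · rw [Cfsg.Agent.Lib.Helper9.mem_centralizer_conj_iff hg]
      have : g⁻¹ * (g * x0 * g⁻¹) * g = x0 := by group
      rw [this]
      exact hx0
    · rw [Cfsg.Agent.Lib.Helper9.mem_centralizer_conj_iff hg]
      have : g⁻¹ * (g * y0 * g⁻¹) * g = y0 := by group
      rw [this]
      exact hy0
    · intro e
      have e' : g⁻¹ * (g * x0 * g⁻¹ * (g * y0 * g⁻¹)) * g =
          g⁻¹ * (g * y0 * g⁻¹ * (g * x0 * g⁻¹)) * g := by rw [e]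
      have a1 : g⁻¹ * (g * x0 * g⁻¹ * (g * y0 * g⁻¹)) * g = x0 * y0 := by group
      have a2 : g⁻¹ * (g * y0 * g⁻¹ * (g * x0 * g⁻¹)) * g = y0 * x0 := by group
      rw [a1, a2] at e'
      have e'' : tp u * tp w = tp w * tp u := congrArg Subtype.val e'
      exact hnc (commT_of hvu hvw e'')
  · refine ⟨(g : Equiv.Perm GolayPt) • trioT7, smul_mem_trios g.2 trioT7_mem, ?_⟩
    intro n hn
    have hn0 := Cfsg.Agent.Lib.Helper9.mem_normalizer_conj hg hn
    have h1 := trioT7_smul hn0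
    have e : (n : Equiv.Perm GolayPt) * g =
        g * ((g⁻¹ * n * g : M24) : Equiv.Perm GolayPt) := by
      rw [Subgroup.coe_mul, Subgroup.coe_mul, Subgroup.coe_inv]
      group
    rw [← mul_smul, e, mul_smul, h1]

end Cfsg.Agent.Lib.Helper9.M24Coset
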