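import Cfsg.Agent.Lib.Helper9.M24SevenData
import Cfsg.Agent.Lib.Helper9.M24Commute
import Cfsg.Agent.Lib.Helper9.M24Fast

/-!
Kernel-checked certificates for the data on the centraliser of the standard element `z7` of order
seven of `M24` (helper9).
-/

set_option autoImplicit false
set_option maxRecDepth 100000

namespace Cfsg.Agent.Lib.Helper9.M24Coset

open Cfsg Cfsg.Agent.Lib.Helper21

/-- the seventh power is the identity, on the table -/
def IsSevenT (p : ℕ × ℕ) : Prop :=
  ∀ i : Fin 24, tabGet p.1 (tabGet p.1 (tabGet p.1 (tabGet p.1 (tabGet p.1 (tabGet p.1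
    (tabGet p.1 i)))))) = i

instance : DecidablePred IsSevenT := fun p => by unfold IsSevenT; infer_instance

/-- the list of images of a table -/
def tabKey7 (p : ℕ × ℕ) : List ℕ := (List.range 24).map (tabGet p.1)

theorem valid_z7 : ValidTab z7 := by decide +kernel

theorem z7_seven : IsSevenT z7 := by decide +kernel

theorem z7_img : ∀ i < 4, tabGet z7.1 i = i + 1 := by decide +kernel

theorem cen7_ok : ∀ w ∈ cen7L, ValidTab w ∧ CommT w z7 := by decide +kernel

theorem cen7_img : ∀ j < 24, tabGet z7.1 j ≠ j → ∃ u ∈ cen7L, tabGet u.1 0 = j := by decide +kernel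

theorem cen7_closed : ∀ u ∈ cen7L, ∀ q ∈ cL, CommT q.1 z7 →
    ∃ w ∈ cen7L, ∀ i : Fin 24, tabGet u.1 (tabGet q.1.1 i) = tabGet w.1 i := by decide +kernel

theorem cen7_length : cen7L.length = 42 := by decide +kernel

theorem cen7_keys_nodup : (cen7L.map tabKey7).Nodup := by decide +kernel

theorem cen7_noncomm : ∃ u ∈ cen7L, ∃ w ∈ cen7L, ¬ CommT u w := by decide +kernel

theorem trio7_eq : octL.filter (fun m => actF z7 m = m) = trio7L := by decide +kernel

theorem trio7_chk : (∀ a ∈ trio7L, octChk a ∧ actF z7 a = a) ∧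
    ∀ a ∈ trio7L, ∀ b ∈ trio7L, a ≠ b → a &&& b = 0 := by decide +kernel

theorem trio7_length : trio7L.length = 3 ∧ trio7L.Nodup := by decide +kernel

end Cfsg.Agent.Lib.Helper9.M24Coset
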