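import Cfsg.Agent.Lib.Helper9.M24CosetCert

/-!
Data for the centraliser of an element of order seven of `M24` (generated offline, checked by the
kernel) (helper9).
-/

set_option autoImplicit false

namespace Cfsg.Agent.Lib.Helper9.M24Coset

open Cfsg Cfsg.Agent.Lib.Helper21

/-- standard element of order seven, mapping position `i` to `i + 1` for `i < 4` -/
def z7 : ℕ × ℕ := (0xade896c66b2ba0c31de804aca20c41, 0xb16f589a4d4ba6c8128852de310407)

/-- the centraliser of `z7` -/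
def cen7L : List (ℕ × ℕ) := [
  (0xbdab49ca307b9ac5a928398a418820, 0xbdab49ca307b9ac5a928398a418820),
  (0x835662a5f78a2ccaaa4e3d26418820, 0x835662a5f78a2ccaaa4e3d26418820),
  (0xade896c66b2ba0c31de804aca20c41, 0xb16f589a4d4ba6c8128852de310407),
  (0x5c0d2b3cb59a2eca1e2e025aa20c41, 0x6ce0b7d136920acb90ce5562310407),
  (0x32e51b96d46a2ac4826e0be0751062, 0x9c5b04d685321ecb0d6e25e42080ea),
  (0xa552f84da6b396c900a80c6e751062, 0x2bed792cd3a3a2c68ea824122080ea),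
  (0x4d1e55b612bb8cc886c814ea03a883, 0x7a4b634171aba4c98ae81b68101d44),
  (0x91a33adae98228c785ae115603a883, 0x8ca6da5eaf5a12c28a0e1d8c101d44),
  (0x7a4b634171aba4c98ae81b68101d44, 0x4d1e55b612bb8cc886c814ea03a883),
  (0x8ca6da5eaf5a12c28a0e1d8c101d44, 0x91a33adae98228c785ae115603a883),
  (0x91a333914183008125ae78d74adec5, 0x10464a5eaf3a12e2c54c9d81232e0d),
  (0x80435b612538c88a48c7ccf4adec5, 0x10464341713ba489bd4c2b409a56f6),
  (0xbdab41844a7b08e3c128580ad9c646, 0xbdab41844a7b08e3c128580ad9c646),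
  (0x510e02a5f7122ceac02c5d06d9c646, 0x835661844a8b0883de4ea82762bd34),
  (0x6ce0b7d136920acb90ce5562310407, 0x5c0d2b3cb59a2eca1e2e025aa20c41),
  (0xb16f589a4d4ba6c8128852de310407, 0xade896c66b2ba0c31de804aca20c41),
  (0x3a8016c66b1ba083544ca4897b15e9, 0x20d4789a4d0ba688580cbac457a695),
  (0x5c0d2208679b1480562ea05b7b15e9, 0x20d477d1360a0aebb40c854538c8cb),
  (0x9c5b04d685321ecb0d6e25e42080ea, 0x32e51b96d46a2ac4826e0be0751062),
  (0x2bed792cd3a3a2c68ea824122080ea, 0xa552f84da6b396c900a80c6e751062),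
  (0x20d477d1360a0aebb40c854538c8cb, 0x5c0d2208679b1480562ea05b7b15e9),
  (0xb16f5100244b06e5368881df38c8cb, 0xade89208672b14e02de8306d06ce32),
  (0x10464a5eaf3a12e2c54c9d81232e0d, 0x91a333914183008125ae78d74adec5),
  (0x7a4b6028e2ab02e1c6e89929232e0d, 0x4d1e539141bb00e14ac888ea65c1b3),
  (0x32e5150c806b0e80d26e48a15bd8af, 0x1888a4d685021eeb4cec6dc3191970),
  (0x1c2284da6239689506c4c555bd8af, 0x1888a92cd303a28694ecb402f4d2b7),
  (0x1888a4d685021eeb4cec6dc3191970, 0x32e5150c806b0e80d26e48a15bd8af),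
  (0x2bed709c03a304e24ea86a93191970, 0xa552f50c80b30ee098a890aeb83671),
  (0x1c22b96d4222ae4986c93d4b83671, 0x9c5b009c03330482156eb2a4f4d2b7),
  (0xa552f50c80b30ee098a890aeb83671, 0x2bed709c03a304e24ea86a93191970),
  (0xade89208672b14e02de8306d06ce32, 0xb16f5100244b06e5368881df38c8cb),
  (0x3a801b3cb51a2eea2c4c324906ce32, 0x6ce0b1002493068558ceb9e257a695),
  (0x4d1e539141bb00e14ac888ea65c1b3, 0x7a4b6028e2ab02e1c6e89929232e0d),
  (0x8043adae95228e7c88c894e65c1b3, 0x8ca6d028e25b0281be0e290c9a56f6),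
  (0x835661844a8b0883de4ea82762bd34, 0x510e02a5f7122ceac02c5d06d9c646),
  (0x510e09ca30139a85dc2ca98762bd34, 0x510e09ca30139a85dc2ca98762bd34),
  (0x20d4789a4d0ba688580cbac457a695, 0x3a8016c66b1ba083544ca4897b15e9),
  (0x6ce0b1002493068558ceb9e257a695, 0x3a801b3cb51a2eea2c4c324906ce32),
  (0x8ca6d028e25b0281be0e290c9a56f6, 0x8043adae95228e7c88c894e65c1b3),
  (0x10464341713ba489bd4c2b409a56f6, 0x80435b612538c88a48c7ccf4adec5),
  (0x9c5b009c03330482156eb2a4f4d2b7, 0x1c22b96d4222ae4986c93d4b83671),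
  (0x1888a92cd303a28694ecb402f4d2b7, 0x1c2284da6239689506c4c555bd8af)]

/-- the octads fixed by `z7` -/
def trio7L : List ℕ := [0xf08320, 0x149f, 0xf6840]

end Cfsg.Agent.Lib.Helper9.M24Coset
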