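import Cfsg.Agent.Lib.Helper9.M24Classes
import Cfsg.Agent.Lib.Helper21.GolayTrioOrb

/-!
Facts on the standard elements of order `2` and `3` of `M24` and consequences (helper9).
-/

set_option autoImplicit false

namespace Cfsg.Agent.Lib.Helper9.M24Coset

open Cfsg Cfsg.Agent.Lib.Helper21
open scoped Pointwise

theorem tp_sq_eq_one {p : ℕ × ℕ} (hv : ValidTab p) (h : IsInvT p) : tp p ^ 2 = 1 := by
  apply perm_ext_ptN
  intro i
  rw [pow_two, Equiv.Perm.mul_apply, tp_ptN hv _ i.isLt, tp_ptN hv _ (tabGet_lt hv _ i.isLt), h i]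
  rfl

theorem tp_cube_eq_one {p : ℕ × ℕ} (hv : ValidTab p) (h : IsCubeT p) : tp p ^ 3 = 1 := by
  apply perm_ext_ptN
  intro i
  rw [pow_succ, pow_two, Equiv.Perm.mul_apply, Equiv.Perm.mul_apply, tp_ptN hv _ i.isLt,
    tp_ptN hv _ (tabGet_lt hv _ i.isLt), tp_ptN hv _ (tabGet_lt hv _ (tabGet_lt hv _ i.isLt)), h i]
  rfl

theorem tp_fpf {p : ℕ × ℕ} (hv : ValidTab p) (h : IsFpfT p) : ∀ q, tp p q ≠ q := by
  intro q e
  apply h (gEquiv q)
  apply tabGet_of_apply hv (gEquiv q).isLt (gEquiv q).isLt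
  rw [ptN_gEquiv, e]

theorem tp_ne_one {p : ℕ × ℕ} (hv : ValidTab p) (i : Fin 24) (h : tabGet p.1 i ≠ i) : tp p ≠ 1 := by
  intro e
  apply h
  apply tabGet_of_apply hv i.isLt i.isLt
  rw [e]; rfl

/-- mask of the fixed points, on the table -/
def fixMask (p : ℕ × ℕ) : ℕ := Nat.ofBits (fun i : Fin 24 => decide (tabGet p.1 i = i))

theorem fixed_tp_eq {p : ℕ × ℕ} (hv : ValidTab p) :
    (Finset.univ.filter fun q : GolayPt => tp p q = q) = maskFS (fixMask p) := by
  ext q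
  rw [Finset.mem_filter, mem_maskFS]
  unfold fixMask
  rw [Nat.testBit_ofBits_lt _ _ (gEquiv q).isLt, decide_eq_true_eq]
  have hq : ptN (gEquiv q : Fin 24) = q := ptN_gEquiv q
  constructor
  · rintro ⟨_, h⟩
    apply tabGet_of_apply hv (gEquiv q).isLt (gEquiv q).isLt
    rw [hq, h]
  · intro h
    refine ⟨Finset.mem_univ _, ?_⟩
    have := tp_ptN hv _ (gEquiv q).isLt
    simp only [Fin.eta] at h
    rw [h, hq] at this
    exact this

theorem fixed_conj (k g : Equiv.Perm GolayPt) :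
    (Finset.univ.filter fun q : GolayPt => (k * g * k⁻¹) q = q) =
      k • (Finset.univ.filter fun q : GolayPt => g q = q) := by
  ext q
  rw [← smul_finset_mem_iff, Finset.mem_filter, Finset.mem_filter]
  constructor
  · rintro ⟨_, h⟩
    refine ⟨Finset.mem_univ _, ?_⟩
    rw [Equiv.Perm.mul_apply, Equiv.Perm.mul_apply] at h
    have := congrArg (k⁻¹ : Equiv.Perm GolayPt) h
    rwa [perm_inv_apply] at this
  · rintro ⟨_, h⟩
    refine ⟨Finset.mem_univ _, ?_⟩
    rw [Equiv.Perm.mul_apply, Equiv.Perm.mul_apply, h, perm_apply_inv]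

/-! ### the standard elements -/

theorem t0_inv : IsInvT t0 := by decide +kernel
theorem t1_inv : IsInvT t1 := by decide +kernel
theorem t1_fpf : IsFpfT t1 := by decide +kernel
theorem x0_cube : IsCubeT x0 := by decide +kernel
theorem x1_cube : IsCubeT x1 := by decide +kernel
theorem x1_fpf : IsFpfT x1 := by decide +kernel
theorem t0_fixMask : fixMask t0 = 0x131681 := by decide +kernel
theorem t0_octChk : octChk 0x131681 := by decide +kernel
theorem x0_fixCount : fixCount x0 = 6 := by decide +kernel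
theorem t0_fixCount : fixCount t0 = 8 := by decide +kernel

theorem t0_ne_one : tp t0 ≠ 1 := tp_ne_one valid_t0 1 (by decide +kernel)
theorem x0_ne_one : tp x0 ≠ 1 := tp_ne_one valid_x0 2 (by decide +kernel)

theorem orderOf_t0 : orderOf (tp t0) = 2 :=
  orderOf_eq_prime (tp_sq_eq_one valid_t0 t0_inv) t0_ne_one

theorem orderOf_t1 : orderOf (tp t1) = 2 :=
  orderOf_eq_prime (tp_sq_eq_one valid_t1 t1_inv)
    (fun e => tp_fpf valid_t1 t1_fpf (ptN 0) (by rw [e]; rfl))

theorem orderOf_x0 : orderOf (tp x0) = 3 := by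
  haveI : Fact (Nat.Prime 3) := ⟨Nat.prime_three⟩
  exact orderOf_eq_prime (tp_cube_eq_one valid_x0 x0_cube) x0_ne_one

theorem orderOf_x1 : orderOf (tp x1) = 3 := by
  haveI : Fact (Nat.Prime 3) := ⟨Nat.prime_three⟩
  exact orderOf_eq_prime (tp_cube_eq_one valid_x1 x1_cube)
    (fun e => tp_fpf valid_x1 x1_fpf (ptN 0) (by rw [e]; rfl))

theorem fixed_t0_mem : (Finset.univ.filter fun q : GolayPt => tp t0 q = q) ∈ octads := by
  rw [fixed_tp_eq valid_t0, t0_fixMask]
  exact maskFS_mem_octads_of_chk t0_octChk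

/-! ### consequences for conjugates -/

theorem IsConjTo.fixed_octad {g : Equiv.Perm GolayPt} (h : IsConjTo t0 g) :
    (Finset.univ.filter fun q : GolayPt => g q = q) ∈ octads := by
  obtain ⟨k, hk, rfl⟩ := h
  rw [fixed_conj]
  exact smul_mem_octads hk fixed_t0_mem

theorem IsConjTo.card_fixed {t : ℕ × ℕ} (ht : ValidTab t) {g : Equiv.Perm GolayPt}
    (h : IsConjTo t g) : (Finset.univ.filter fun q : GolayPt => g q = q).card = fixCount t := by
  obtain ⟨k, hk, rfl⟩ := h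
  rw [fixed_conj, Finset.card_smul_finset, card_fixed_tp ht]

theorem IsConjTo.conj {t : ℕ × ℕ} {g h : Equiv.Perm GolayPt} (hg : IsConjTo t g)
    (hh : IsConjTo t h) : ∃ k ∈ M24, k * g * k⁻¹ = h := by
  obtain ⟨a, ha, rfl⟩ := hg
  obtain ⟨b, hb, rfl⟩ := hh
  refine ⟨b * a⁻¹, M24.mul_mem hb (M24.inv_mem ha), ?_⟩
  group

theorem sq_of_orderOf {g : Equiv.Perm GolayPt} (h : orderOf g = 2) : g ^ 2 = 1 ∧ g ≠ 1 := by
  refine ⟨by rw [← h]; exact pow_orderOf_eq_one g, fun e => ?_⟩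
  rw [e, orderOf_one] at h
  omega

theorem cube_of_orderOf {g : Equiv.Perm GolayPt} (h : orderOf g = 3) : g ^ 3 = 1 ∧ g ≠ 1 := by
  refine ⟨by rw [← h]; exact pow_orderOf_eq_one g, fun e => ?_⟩
  rw [e, orderOf_one] at h
  omega

end Cfsg.Agent.Lib.Helper9.M24Coset
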