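import Cfsg.Agent.Lib.Helper9.M24Count

/-!
Counting the trios fixed by an element of `M24` through ordered pairs of disjoint octads (helper9).
-/

set_option autoImplicit false

namespace Cfsg.Agent.Lib.Helper9.M24Coset

open Cfsg Cfsg.Agent.Lib.Helper21
open scoped Pointwise

/-- the trio spanned by two disjoint octads -/
def trioOf (a b : Finset GolayPt) : Finset (Finset GolayPt) := {a, b, (a ∪ b)ᶜ}

theorem card_golayPt' : Fintype.card GolayPt = 24 := rfl

theorem trioOf_mem {a b : Finset GolayPt} (ha : a ∈ octads) (hb : b ∈ octads) (hd : Disjoint a b) :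
    trioOf a b ∈ trios := by
  have hc := octads_compl_union ha hb hd
  have d13 : Disjoint a (a ∪ b)ᶜ :=
    Finset.disjoint_left.2 fun x hx hx' => (Finset.mem_compl.1 hx') (Finset.mem_union_left _ hx)
  have d23 : Disjoint b (a ∪ b)ᶜ :=
    Finset.disjoint_left.2 fun x hx hx' => (Finset.mem_compl.1 hx') (Finset.mem_union_right _ hx)
  have n12 := octads_ne_of_disjoint ha hd
  have n13 := octads_ne_of_disjoint ha d13
  have n23 := octads_ne_of_disjoint hb d23
  refine ⟨?_, ?_, ?_⟩
  · unfold trioOf
    rw [Finset.card_insert_of_notMem, Finset.card_insert_of_notMem, Finset.card_singleton]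
    · simpa using n23
    · simp only [Finset.mem_insert, Finset.mem_singleton, not_or]
      exact ⟨n12, n13⟩
  · intro o ho
    unfold trioOf at ho
    simp only [Finset.mem_insert, Finset.mem_singleton] at ho
    rcases ho with rfl | rfl | rfl
    · exact ha
    · exact hb
    · exact hc
  · intro o ho o' ho' hne
    unfold trioOf at ho ho'
    simp only [Finset.mem_insert, Finset.mem_singleton] at ho ho'
    rcases ho with rfl | rfl | rfl <;> rcases ho' with rfl | rfl | rfl
    · exact absurd rfl hne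
    · exact hd
    · exact d13
    · exact hd.symm
    · exact absurd rfl hne
    · exact d23
    · exact d13.symm
    · exact d23.symm
    · exact absurd rfl hne

theorem eq_trioOf {T : Finset (Finset GolayPt)} (hT : T ∈ trios) {a b : Finset GolayPt}
    (ha : a ∈ T) (hb : b ∈ T) (hab : a ≠ b) :
    a ∈ octads ∧ b ∈ octads ∧ Disjoint a b ∧ T = trioOf a b := by
  obtain ⟨h3, hoct, hdis⟩ := hT
  have hd := hdis a ha b hb hab
  refine ⟨hoct a ha, hoct b hb, hd, ?_⟩
  -- the third member
  have hcard : ((T.erase a).erase b).card = 1 := by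
    rw [Finset.card_erase_of_mem (Finset.mem_erase.2 ⟨hab.symm, hb⟩), Finset.card_erase_of_mem ha, h3]
  obtain ⟨c, hc⟩ := Finset.card_eq_one.1 hcard
  have hcm : c ∈ (T.erase a).erase b := by rw [hc]; exact Finset.mem_singleton_self c
  rw [Finset.mem_erase, Finset.mem_erase] at hcm
  obtain ⟨hcb, hca, hcT⟩ := hcm
  have hceq : c = (a ∪ b)ᶜ := by
    apply Finset.eq_of_subset_of_card_le
    · intro x hx
      rw [Finset.mem_compl, Finset.mem_union, not_or]
      exact ⟨fun h => Finset.disjoint_left.1 (hdis c hcT a ha hca) hx h,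
        fun h => Finset.disjoint_left.1 (hdis c hcT b hb hcb) hx h⟩
    · rw [Finset.card_compl, Finset.card_union_of_disjoint hd, (hoct a ha).2, (hoct b hb).2,
        (hoct c hcT).2, card_golayPt']
  ext x
  unfold trioOf
  simp only [Finset.mem_insert, Finset.mem_singleton]
  constructor
  · intro hx
    by_cases hxa : x = a
    · exact Or.inl hxa
    · by_cases hxb : x = b
      · exact Or.inr (Or.inl hxb)
      · right; right
        have : x ∈ (T.erase a).erase b := Finset.mem_erase.2 ⟨hxb, Finset.mem_erase.2 ⟨hxa, hx⟩⟩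
        rw [hc, Finset.mem_singleton] at this
        rw [this, hceq]
  · rintro (rfl | rfl | rfl)
    · exact ha
    · exact hb
    · rw [← hceq]; exact hcT

/-- ordered pairs of disjoint octads spanning a fixed trio: six times the number of fixed trios -/
theorem card_pairs_eq (g : Equiv.Perm GolayPt)
    [DecidablePred fun q : Finset GolayPt × Finset GolayPt =>
      Disjoint q.1 q.2 ∧ g • trioOf q.1 q.2 = trioOf q.1 q.2] :
    (((blocksFinset octads) ×ˢ (blocksFinset octads)).filter
      (fun q => Disjoint q.1 q.2 ∧ g • trioOf q.1 q.2 = trioOf q.1 q.2)).card =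
      6 * {T : Finset (Finset GolayPt) | T ∈ trios ∧ g • T = T}.ncard := by
  classical
  set A : Set (Finset (Finset GolayPt)) := {T | T ∈ trios ∧ g • T = T} with hA
  have hfin : A.Finite := Set.toFinite A
  rw [Set.ncard_eq_toFinset_card A hfin]
  have hAmem : ∀ T, T ∈ hfin.toFinset ↔ T ∈ trios ∧ g • T = T := fun T => by
    rw [Set.Finite.mem_toFinset]; rfl
  have hB : ((blocksFinset octads) ×ˢ (blocksFinset octads)).filter
      (fun q => Disjoint q.1 q.2 ∧ g • trioOf q.1 q.2 = trioOf q.1 q.2) =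
      hfin.toFinset.biUnion (fun T => T.offDiag) := by
    ext q
    rw [Finset.mem_filter, Finset.mem_product, mem_blocksFinset, mem_blocksFinset,
      Finset.mem_biUnion]
    constructor
    · rintro ⟨⟨h1, h2⟩, hd, hinv⟩
      refine ⟨trioOf q.1 q.2, (hAmem _).2 ⟨trioOf_mem h1 h2 hd, hinv⟩, ?_⟩
      rw [Finset.mem_offDiag]
      refine ⟨?_, ?_, octads_ne_of_disjoint h1 hd⟩
      · unfold trioOf; simp
      · unfold trioOf; simp
    · rintro ⟨T, hT, hq⟩
      obtain ⟨hT1, hT2⟩ := (hAmem T).1 hT
      rw [Finset.mem_offDiag] at hq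
      obtain ⟨h1, h2, h3, h4⟩ := eq_trioOf hT1 hq.1 hq.2.1 hq.2.2
      refine ⟨⟨h1, h2⟩, h3, ?_⟩
      rw [← h4, hT2]
  rw [hB, Finset.card_biUnion]
  · have h6 : ∀ T ∈ hfin.toFinset, (T.offDiag).card = 6 := by
      intro T hT
      rw [Finset.offDiag_card, ((hAmem T).1 hT).1.1]
    rw [Finset.sum_congr rfl h6, Finset.sum_const, smul_eq_mul, mul_comm]
  · intro T hT T' hT' hne
    rw [Function.onFun, Finset.disjoint_left]
    intro q hq hq'
    apply hne
    have h1 := ((hAmem T).1 (Finset.mem_coe.1 hT)).1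
    have h2 := ((hAmem T').1 (Finset.mem_coe.1 hT')).1
    rw [Finset.mem_offDiag] at hq hq'
    rw [(eq_trioOf h1 hq.1 hq.2.1 hq.2.2).2.2.2, (eq_trioOf h2 hq'.1 hq'.2.1 hq'.2.2).2.2.2]

/-! ### the mask side -/

/-- masks of the octads -/
def octL : List ℕ := ((List.range 4096).map encMask).filter (fun m => popc 24 m = 8)

theorem mem_octL {m : ℕ} : m ∈ octL ↔ ∃ c < 4096, encMask c = m ∧ popc 24 m = 8 := by
  unfold octL
  rw [List.mem_filter, List.mem_map, decide_eq_true_eq]
  constructor
  · rintro ⟨⟨c, hc, rfl⟩, h8⟩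
    exact ⟨c, List.mem_range.1 hc, rfl, h8⟩
  · rintro ⟨c, hc, rfl, h8⟩
    exact ⟨⟨c, List.mem_range.2 hc, rfl⟩, h8⟩

attribute [irreducible] octL

theorem octChk_of_mem_octL {m : ℕ} (h : m ∈ octL) : octChk m := by
  obtain ⟨c, hc, rfl, h8⟩ := mem_octL.1 h
  exact ⟨encMask_lt c hc, by rw [encMask_mod c hc], h8⟩

theorem octL_lt {m : ℕ} (h : m ∈ octL) : m < 2 ^ 24 := (octChk_of_mem_octL h).1

theorem fsMask_mem_octL {o : Finset GolayPt} (ho : o ∈ octads) : fsMask o ∈ octL := by
  obtain ⟨c, hc, hp, rfl⟩ := (mem_wordsOfWeight_iff 8 o).1 ho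
  rw [fsMask_wordOf c hc]
  exact mem_octL.2 ⟨c, hc, rfl, hp⟩

theorem octL_nodup : octL.Nodup := by
  unfold octL
  apply List.Nodup.filter
  apply List.Nodup.map_on _ List.nodup_range
  intro x hx y hy h
  rw [← encMask_mod x (List.mem_range.1 hx), ← encMask_mod y (List.mem_range.1 hy), h]

theorem octL_map_nodup : (octL.map maskFS).Nodup := by
  apply List.Nodup.map_on _ octL_nodup
  intro x hx y hy h
  rw [← fsMask_maskFS x (octL_lt hx), ← fsMask_maskFS y (octL_lt hy), h]

theorem octL_toFinset : (octL.map maskFS).toFinset = blocksFinset octads := by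
  ext o
  rw [List.mem_toFinset, List.mem_map, mem_blocksFinset]
  constructor
  · rintro ⟨m, hm, rfl⟩
    exact maskFS_mem_octads_of_chk (octChk_of_mem_octL hm)
  · intro ho
    exact ⟨fsMask o, fsMask_mem_octL ho, maskFS_fsMask o⟩

/-- counting members of a list of masks by a predicate -/
theorem card_filter_list {l : List ℕ} (hlt : ∀ m ∈ l, m < 2 ^ 24) (hnd : l.Nodup)
    (Q : Finset GolayPt → Prop) [DecidablePred Q] (P : ℕ → Prop) [DecidablePred P]
    (h : ∀ m ∈ l, Q (maskFS m) ↔ P m) :
    ((l.map maskFS).toFinset.filter Q).card = (l.filter P).length := by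
  have hnd' : (l.map maskFS).Nodup := by
    apply List.Nodup.map_on _ hnd
    intro x hx y hy e
    rw [← fsMask_maskFS x (hlt x hx), ← fsMask_maskFS y (hlt y hy), e]
  have h1 : ((l.map maskFS).toFinset.filter Q) =
      ((l.map maskFS).filter (fun t => decide (Q t))).toFinset := by
    ext t
    simp [List.mem_filter]
  rw [h1, List.toFinset_card_of_nodup (hnd'.filter _), List.filter_map, List.length_map]
  congr 1
  apply List.filter_congr
  intro m hm
  simp only [Function.comp_apply, decide_eq_decide]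
  exact h m hm

/-- the test on masks: two disjoint octads whose trio is mapped to itself -/
def trioP (f : ℕ → ℕ) (m1 m2 : ℕ) : Prop :=
  m1 &&& m2 = 0 ∧ f m1 ∈ [m1, m2, m1 ^^^ m2 ^^^ 0xFFFFFF] ∧ f m2 ∈ [m1, m2, m1 ^^^ m2 ^^^ 0xFFFFFF] ∧
    f (m1 ^^^ m2 ^^^ 0xFFFFFF) ∈ [m1, m2, m1 ^^^ m2 ^^^ 0xFFFFFF]

instance (f : ℕ → ℕ) (m1 m2 : ℕ) : Decidable (trioP f m1 m2) := by unfold trioP; infer_instance

/-- the count of ordered pairs on masks -/
def trioCount (f : ℕ → ℕ) : ℕ :=
  (octL.map fun m1 => (octL.filter fun m2 => trioP f m1 m2).length).sum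

theorem smul_eq_self_of_forall_mem {g : Equiv.Perm GolayPt} {T : Finset (Finset GolayPt)}
    (h : ∀ o ∈ T, g • o ∈ T) : g • T = T := by
  apply Finset.eq_of_subset_of_card_le
  · intro x hx
    obtain ⟨o, ho, rfl⟩ := Finset.mem_smul_finset.1 hx
    exact h o ho
  · rw [Finset.card_smul_finset]

theorem trio_link {p : ℕ × ℕ} (hv : ValidTab p) (f : ℕ → ℕ) (hf : ∀ m ∈ octL, f m = act p m)
    {m1 m2 : ℕ} (h1 : m1 ∈ octL) (h2 : m2 ∈ octL) :
    (Disjoint (maskFS m1) (maskFS m2) ∧
      tp p • trioOf (maskFS m1) (maskFS m2) = trioOf (maskFS m1) (maskFS m2)) ↔ trioP f m1 m2 := by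
  classical
  have l1 := octL_lt h1
  have l2 := octL_lt h2
  have o1 := maskFS_mem_octads_of_chk (octChk_of_mem_octL h1)
  have o2 := maskFS_mem_octads_of_chk (octChk_of_mem_octL h2)
  have hdis : Disjoint (maskFS m1) (maskFS m2) ↔ m1 &&& m2 = 0 := by
    rw [Finset.disjoint_iff_inter_eq_empty]
    constructor
    · intro h
      have := fsMask_inter (maskFS m1) (maskFS m2)
      rw [h, fsMask_empty, fsMask_maskFS _ l1, fsMask_maskFS _ l2] at this
      exact this.symm
    · intro h
      apply fsMask_injective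
      rw [fsMask_inter, fsMask_maskFS _ l1, fsMask_maskFS _ l2, h, fsMask_empty]
  unfold trioP
  constructor
  · rintro ⟨hd, hinv⟩
    have hd0 := hdis.1 hd
    have hthird : (maskFS m1 ∪ maskFS m2)ᶜ = maskFS (m1 ^^^ m2 ^^^ 0xFFFFFF) := by
      rw [maskFS_compl]
      congr 1
      have : maskFS m1 ∪ maskFS m2 = symmDiff (maskFS m1) (maskFS m2) := by
        rw [symmDiff_def, Finset.sup_eq_union, Finset.sdiff_eq_self_of_disjoint hd,
          Finset.sdiff_eq_self_of_disjoint hd.symm]
      rw [this, ← maskFS_fsMask (symmDiff (maskFS m1) (maskFS m2)), fsMask_symmDiff,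
        fsMask_maskFS _ l1, fsMask_maskFS _ l2]
    have o3 : maskFS (m1 ^^^ m2 ^^^ 0xFFFFFF) ∈ octads := by
      rw [← hthird]; exact octads_compl_union o1 o2 hd
    have h3 : m1 ^^^ m2 ^^^ 0xFFFFFF ∈ octL := by
      have := fsMask_mem_octL o3
      rwa [fsMask_maskFS] at this
      exact Nat.xor_lt_two_pow (Nat.xor_lt_two_pow l1 l2) (by norm_num)
    have l3 := octL_lt h3
    have key : ∀ m ∈ octL, maskFS m ∈ trioOf (maskFS m1) (maskFS m2) →
        f m ∈ [m1, m2, m1 ^^^ m2 ^^^ 0xFFFFFF] := by
      intro m hm hmem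
      have h5 : tp p • maskFS m ∈ tp p • trioOf (maskFS m1) (maskFS m2) :=
        Finset.smul_mem_smul_finset hmem
      rw [hinv] at h5
      unfold trioOf at h5
      rw [hthird] at h5
      simp only [Finset.mem_insert, Finset.mem_singleton] at h5
      have h6 : fsMask (tp p • maskFS m) = f m := by
        rw [fsMask_tp_smul hv, fsMask_maskFS _ (octL_lt hm), hf m hm]
      simp only [List.mem_cons, List.not_mem_nil, or_false]
      rcases h5 with e | e | e
      · left; rw [← h6, e, fsMask_maskFS _ l1]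
      · right; left; rw [← h6, e, fsMask_maskFS _ l2]
      · right; right; rw [← h6, e, fsMask_maskFS _ l3]
    refine ⟨hd0, key m1 h1 (by unfold trioOf; simp), key m2 h2 (by unfold trioOf; simp),
      key _ h3 (by unfold trioOf; rw [hthird]; simp)⟩
  · rintro ⟨hd0, hf1, hf2, hf3⟩
    have hd := hdis.2 hd0
    refine ⟨hd, ?_⟩
    have hthird : (maskFS m1 ∪ maskFS m2)ᶜ = maskFS (m1 ^^^ m2 ^^^ 0xFFFFFF) := by
      rw [maskFS_compl]
      congr 1
      have : maskFS m1 ∪ maskFS m2 = symmDiff (maskFS m1) (maskFS m2) := by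
        rw [symmDiff_def, Finset.sup_eq_union, Finset.sdiff_eq_self_of_disjoint hd,
          Finset.sdiff_eq_self_of_disjoint hd.symm]
      rw [this, ← maskFS_fsMask (symmDiff (maskFS m1) (maskFS m2)), fsMask_symmDiff,
        fsMask_maskFS _ l1, fsMask_maskFS _ l2]
    have o3 : maskFS (m1 ^^^ m2 ^^^ 0xFFFFFF) ∈ octads := by
      rw [← hthird]; exact octads_compl_union o1 o2 hd
    have h3 : m1 ^^^ m2 ^^^ 0xFFFFFF ∈ octL := by
      have := fsMask_mem_octL o3
      rwa [fsMask_maskFS] at this
      exact Nat.xor_lt_two_pow (Nat.xor_lt_two_pow l1 l2) (by norm_num)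
    have key : ∀ m ∈ octL, f m ∈ [m1, m2, m1 ^^^ m2 ^^^ 0xFFFFFF] →
        tp p • maskFS m ∈ trioOf (maskFS m1) (maskFS m2) := by
      intro m hm hmem
      have h6 : tp p • maskFS m = maskFS (f m) := by
        rw [← maskFS_fsMask (tp p • maskFS m), fsMask_tp_smul hv, fsMask_maskFS _ (octL_lt hm),
          hf m hm]
      rw [h6]
      unfold trioOf
      rw [hthird]
      simp only [List.mem_cons, List.not_mem_nil, or_false] at hmem
      simp only [Finset.mem_insert, Finset.mem_singleton]
      rcases hmem with e | e | e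
      · left; rw [e]
      · right; left; rw [e]
      · right; right; rw [e]
    apply smul_eq_self_of_forall_mem
    intro o ho
    unfold trioOf at ho
    rw [hthird] at ho
    simp only [Finset.mem_insert, Finset.mem_singleton] at ho
    rcases ho with rfl | rfl | rfl
    · exact key m1 h1 hf1
    · exact key m2 h2 hf2
    · exact key _ h3 hf3

theorem card_filter_product' {α : Type*} [DecidableEq α] (s : Finset α) (Q : α → α → Prop)
    [∀ a b, Decidable (Q a b)] :
    ((s ×ˢ s).filter (fun q => Q q.1 q.2)).card = ∑ a ∈ s, (s.filter (Q a)).card := by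
  rw [Finset.card_filter, Finset.sum_product]
  refine Finset.sum_congr rfl (fun a _ => ?_)
  rw [Finset.card_filter]

/-- the inner count -/
theorem trio_inner {p : ℕ × ℕ} (hv : ValidTab p) (f : ℕ → ℕ) (hf : ∀ m ∈ octL, f m = act p m)
    {m1 : ℕ} (h1 : m1 ∈ octL)
    [DecidablePred fun o2 : Finset GolayPt => Disjoint (maskFS m1) o2 ∧
      tp p • trioOf (maskFS m1) o2 = trioOf (maskFS m1) o2] :
    ((blocksFinset octads).filter (fun o2 => Disjoint (maskFS m1) o2 ∧
      tp p • trioOf (maskFS m1) o2 = trioOf (maskFS m1) o2)).card =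
      (octL.filter fun m2 => trioP f m1 m2).length := by
  rw [← octL_toFinset]
  exact card_filter_list (fun m hm => octL_lt hm) octL_nodup _ _
    (fun m2 h2 => trio_link hv f hf h1 h2)

/-- the number of trios fixed by a table permutation -/
theorem trio_count {p : ℕ × ℕ} (hv : ValidTab p) (f : ℕ → ℕ) (hf : ∀ m ∈ octL, f m = act p m) :
    6 * {T : Finset (Finset GolayPt) | T ∈ trios ∧ tp p • T = T}.ncard = trioCount f := by
  classical
  rw [← card_pairs_eq (tp p),
    card_filter_product' (blocksFinset octads)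
      (fun a b => Disjoint a b ∧ tp p • trioOf a b = trioOf a b)]
  unfold trioCount
  have h1 : ∑ a ∈ blocksFinset octads, ((blocksFinset octads).filter (fun b => Disjoint a b ∧
      tp p • trioOf a b = trioOf a b)).card =
      ((octL.map maskFS).map (fun a => ((blocksFinset octads).filter (fun b => Disjoint a b ∧
      tp p • trioOf a b = trioOf a b)).card)).sum := by
    rw [← List.sum_toFinset _ octL_map_nodup, octL_toFinset]
  rw [h1, List.map_map]
  refine congrArg List.sum ?_
  apply List.map_congr_left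
  intro m1 hm1
  exact trio_inner hv f hf hm1

end Cfsg.Agent.Lib.Helper9.M24Coset
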