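import Cfsg.Agent.Lib.Helper9.M24Syl2Cert
import Cfsg.Agent.Lib.Helper9.M24Trio
import Cfsg.Agent.Lib.Helper21.GolayChain
import Cfsg.Agent.Lib.Helper21.GolayOctA8

/-!
The Sylow `2`-subgroups of `M24` are self-normalising (helper9).

A Sylow `2`-subgroup is realised inside the stabiliser of the standard octad, as the set of elements
inducing one of `64` explicit permutations on the octad.  An element of odd order normalising it
preserves the octad, then the tetrads, pairs and points of the octad, so it fixes the octad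
pointwise and is an involution.
-/

set_option autoImplicit false

namespace Cfsg.Agent.Lib.Helper9.M24Coset

open Cfsg Cfsg.Agent.Lib.Helper21
open scoped Pointwise

/-- the `i`-th point of the standard octad -/
def oP (i : Fin 8) : GolayPt := ptN (octP i)

theorem oP_inj {i j : Fin 8} (h : oP i = oP j) : i = j :=
  octP_inj i j (ptN_injOn (octP_lt i) (octP_lt j) h)

theorem mem_oct0_iff_exists (p : GolayPt) : p ∈ oct0 ↔ ∃ i : Fin 8, p = oP i := by
  rw [mem_oct0_iff]
  constructor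
  · intro h
    obtain ⟨i, hi⟩ := exists_octP (gEquiv p) h
    refine ⟨i, ?_⟩
    unfold oP
    rw [hi, ptN_gEquiv]
  · rintro ⟨i, rfl⟩
    unfold oP
    rw [gEquiv_ptN_val _ (octP_lt i)]
    exact octP_mem i

theorem oP_mem (i : Fin 8) : oP i ∈ oct0 := (mem_oct0_iff_exists _).2 ⟨i, rfl⟩

/-- the permutation acts on the standard octad by the packed tuple -/
def Acts (g : Equiv.Perm GolayPt) (t : ℕ) : Prop := ∀ i : Fin 8, g (oP i) = oP (dg t i)

theorem Acts.mul {g h : Equiv.Perm GolayPt} {t u : ℕ} (hg : Acts g t) (hh : Acts h u) :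
    Acts (g * h) (comp8 t u) := by
  intro i
  rw [Equiv.Perm.mul_apply, hh i, hg, comp8, dg_pack8]

theorem acts_one : Acts 1 idT := by
  intro i
  rw [dg_idT]
  rfl

theorem Acts.mem_oct0 {g : Equiv.Perm GolayPt} {t : ℕ} (h : Acts g t) {p : GolayPt}
    (hp : p ∈ oct0) : g p ∈ oct0 := by
  obtain ⟨i, rfl⟩ := (mem_oct0_iff_exists p).1 hp
  rw [h i]
  exact oP_mem _

theorem acts_idT_iff {g : Equiv.Perm GolayPt} : Acts g idT ↔ ∀ p ∈ oct0, g p = p := by
  constructor
  · intro h p hp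
    obtain ⟨i, rfl⟩ := (mem_oct0_iff_exists p).1 hp
    rw [h i, dg_idT]
  · intro h i
    rw [dg_idT]
    exact h _ (oP_mem i)

/-- the submonoid of the elements of `M24` inducing one of the listed tuples on the octad -/
def syl2M : Submonoid (Equiv.Perm GolayPt) where
  carrier := {g | g ∈ M24 ∧ ∃ t ∈ T8, Acts g t}
  mul_mem' := by
    rintro g h ⟨hg, t, ht, hgt⟩ ⟨hh, u, hu, hhu⟩
    exact ⟨M24.mul_mem hg hh, comp8 t u, comp8_mem t ht u hu, hgt.mul hhu⟩
  one_mem' := ⟨M24.one_mem, idT, idT_mem, acts_one⟩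

/-- the standard Sylow `2`-subgroup of `M24` -/
def syl2 : Subgroup (Equiv.Perm GolayPt) :=
  { syl2M with
    inv_mem' := by
      intro g hg
      obtain ⟨n, hn⟩ : ∃ n : ℕ, g ^ n = g⁻¹ :=
        (Submonoid.mem_powers_iff _ _).1 ((isOfFinOrder_of_finite g).mem_powers_iff_mem_zpowers.2
          (Subgroup.inv_mem _ (Subgroup.mem_zpowers g)))
      rw [← hn]
      exact syl2M.pow_mem hg n }

theorem mem_syl2 {g : Equiv.Perm GolayPt} : g ∈ syl2 ↔ g ∈ M24 ∧ ∃ t ∈ T8, Acts g t := Iff.rfl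

theorem syl2_le : syl2 ≤ M24 := fun _ hg => hg.1

theorem fix_mem_syl2 {g : Equiv.Perm GolayPt} (hg : g ∈ M24) (hfix : ∀ p ∈ oct0, g p = p) :
    g ∈ syl2 := ⟨hg, idT, idT_mem, acts_idT_iff.2 hfix⟩

theorem exists_real {t : ℕ} (ht : t ∈ T8) : ∃ g ∈ syl2, Acts g t := by
  obtain ⟨e, he, rfl⟩ := List.mem_map.1 ht
  have hact : Acts (tp e.1) e.2 := by
    intro i
    unfold oP
    rw [tp_ptN (p8R_valid e he) _ (octP_lt i), p8R_acts e he i]
  exact ⟨tp e.1, ⟨tp_mem (p8R_valid e he), e.2, ht, hact⟩, hact⟩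

theorem pow16_eq_one {g : Equiv.Perm GolayPt} (hg : g ∈ syl2) : g ^ 16 = 1 := by
  obtain ⟨hg, t, ht, hgt⟩ := hg
  have h2 := hgt.mul hgt
  have h4 := h2.mul h2
  have h8 := h4.mul h4
  rw [pow8_eq t ht] at h8
  have hfix := acts_idT_iff.1 h8
  have hK : (g * g * (g * g) * (g * g * (g * g))) ∈
      M24 ⊓ fixingSubgroup (Equiv.Perm GolayPt) (oct0 : Set GolayPt) := by
    rw [Subgroup.mem_inf, mem_fixingSubgroup_iff]
    have hg2 := M24.mul_mem hg hg
    have hg4 := M24.mul_mem hg2 hg2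
    exact ⟨M24.mul_mem hg4 hg4, fun y hy => hfix y hy⟩
  have := (octad_fixing oct0 oct0_mem).2 _ hK
  have e : g ^ 16 = g * g * (g * g) * (g * g * (g * g)) * (g * g * (g * g) * (g * g * (g * g))) := by
    simp only [pow_succ, pow_zero, one_mul, mul_assoc]
  rw [e, this]

theorem card_syl2_ge : 1024 ≤ Nat.card syl2 := by
  have hK : Nat.card ↥(M24 ⊓ fixingSubgroup (Equiv.Perm GolayPt) (oct0 : Set GolayPt)) = 16 :=
    (octad_fixing oct0 oct0_mem).1
  have hreal : ∀ i : Fin T8.length, ∃ g ∈ syl2, Acts g (T8.get i) := fun i =>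
    exists_real (List.get_mem _ _)
  choose r hr hra using hreal
  have hkfix : ∀ k : ↥(M24 ⊓ fixingSubgroup (Equiv.Perm GolayPt) (oct0 : Set GolayPt)),
      ∀ p ∈ oct0, (k : Equiv.Perm GolayPt) p = p := by
    intro k p hp
    have := k.2
    rw [Subgroup.mem_inf, mem_fixingSubgroup_iff] at this
    exact this.2 p hp
  let f : Fin T8.length × ↥(M24 ⊓ fixingSubgroup (Equiv.Perm GolayPt) (oct0 : Set GolayPt)) →
      ↥syl2 := fun x =>
    ⟨r x.1 * (x.2 : Equiv.Perm GolayPt), syl2.mul_mem (hr x.1)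
      (fix_mem_syl2 (Subgroup.mem_inf.1 x.2.2).1 (hkfix x.2))⟩
  have hf : Function.Injective f := by
    rintro ⟨i, k⟩ ⟨j, k'⟩ h
    have h' : r i * (k : Equiv.Perm GolayPt) = r j * (k' : Equiv.Perm GolayPt) :=
      congrArg Subtype.val h
    have hij : i = j := by
      apply T8_inj
      intro m
      apply oP_inj
      have e := congrArg (fun g : Equiv.Perm GolayPt => g (oP m)) h'
      simp only [Equiv.Perm.mul_apply] at e
      rw [hkfix k _ (oP_mem m), hkfix k' _ (oP_mem m), hra i m, hra j m] at e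
      exact e
    subst hij
    have := mul_left_cancel h'
    rw [Prod.mk.injEq]
    exact ⟨rfl, Subtype.ext this⟩
  have := Nat.card_le_card_of_injective f hf
  rw [Nat.card_prod, Nat.card_eq_fintype_card, Fintype.card_fin, T8_length, hK] at this
  exact this

/-- the standard Sylow `2`-subgroup, inside `↥M24` -/
def syl2G : Subgroup ↥M24 := syl2.subgroupOf M24

theorem mem_syl2G {x : ↥M24} : x ∈ syl2G ↔ (x : Equiv.Perm GolayPt) ∈ syl2 :=
  Subgroup.mem_subgroupOf

theorem card_syl2G : Nat.card syl2G = Nat.card syl2 :=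
  Nat.card_congr (Subgroup.subgroupOfEquivOfLe syl2_le).toEquiv

theorem isPGroup_syl2G : IsPGroup 2 syl2G := by
  intro x
  refine ⟨4, ?_⟩
  apply Subtype.ext
  apply Subtype.ext
  have := pow16_eq_one (mem_syl2G.1 x.2)
  simpa using this

theorem syl2G_sylow : ∃ Q : Sylow 2 ↥M24, (Q : Subgroup ↥M24) = syl2G := by
  have : Fact (Nat.Prime 2) := ⟨Nat.prime_two⟩
  obtain ⟨Q, hQ⟩ := isPGroup_syl2G.exists_le_sylow
  refine ⟨Q, ?_⟩
  have hfac : (Nat.card ↥M24).factorization 2 = 10 := by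
    rw [card_M24]
    have h : (244823040 : ℕ) = 2 ^ 10 * 239085 := by norm_num
    rw [h, Nat.factorization_mul (by norm_num) (by norm_num), Finsupp.add_apply,
      Nat.Prime.factorization_pow Nat.prime_two, Finsupp.single_eq_same,
      Nat.factorization_eq_zero_of_not_dvd (by norm_num)]
  have hcard : Nat.card Q = 1024 := by
    rw [Sylow.card_eq_multiplicity, hfac]
    norm_num
  symm
  apply Subgroup.eq_of_le_of_card_ge hQ
  rw [hcard, card_syl2G]
  exact card_syl2_ge

/-! ### elements of odd order normalising the standard Sylow subgroup -/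

theorem odd_fix {X : Type*} (A : X → Prop) (σ : X → X) (c : X → Bool) (m : ℕ) (hm : Odd m)
    (hA : ∀ x, A x → A (σ x)) (hσ : ∀ x, A x → σ^[m] x = x)
    (hc : ∀ x y, A x → A y → (c x = c y ↔ c (σ x) = c (σ y))) : ∀ x, A x → c (σ x) = c x := by
  by_contra hcon
  push Not at hcon
  obtain ⟨x0, hx0, hne⟩ := hcon
  have hflip : ∀ y, A y → c (σ y) = !c y := by
    intro y hy
    have h1 := hc y x0 hy hx0
    generalize c (σ y) = a' at h1 ⊢
    generalize c (σ x0) = b' at h1 hne
    generalize c y = a at h1 ⊢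
    generalize c x0 = b at h1 hne
    cases a <;> cases b <;> cases a' <;> cases b' <;> simp_all
  have hiter : ∀ n y, A y → A (σ^[n] y) ∧ c (σ^[n] y) = (if Even n then c y else !c y) := by
    intro n
    induction n with
    | zero =>
      intro y hy
      exact ⟨hy, by simp⟩
    | succ n ih =>
      intro y hy
      obtain ⟨h1, h2⟩ := ih y hy
      rw [Function.iterate_succ_apply']
      refine ⟨hA _ h1, ?_⟩
      rw [hflip _ h1, h2]
      by_cases he : Even n
      · have : ¬ Even (n + 1) := by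
          rw [Nat.even_add_one]
          exact not_not.2 he
        simp [he, this]
      · have : Even (n + 1) := by
          rw [Nat.even_add_one]
          exact he
        simp [he, this]
  have := (hiter m x0 hx0).2
  rw [hσ x0 hx0, if_neg (Nat.not_even_iff_odd.2 hm)] at this
  cases h : c x0 <;> simp [h] at this

theorem normalizer_preserves (h : Equiv.Perm GolayPt)
    (hn : ∀ g ∈ M24, (g ∈ syl2 ↔ h * g * h⁻¹ ∈ syl2)) (hh : h ∈ M24) :
    ∀ p ∈ oct0, h p ∈ oct0 := by
  intro p hp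
  by_contra hout
  have hmap : ∀ q ∈ oct0ᶜ, h⁻¹ q ∈ oct0 := by
    intro q hq
    rw [Finset.mem_compl] at hq
    obtain ⟨k, hk, hkfix, hkq⟩ := octad_fix_trans oct0 oct0_mem (h p) q hout hq
    have hks : k ∈ syl2 := fix_mem_syl2 hk hkfix
    have hg : h⁻¹ * k * h ∈ syl2 := by
      rw [hn _ (M24.mul_mem (M24.mul_mem (M24.inv_mem hh) hk) hh)]
      have : h * (h⁻¹ * k * h) * h⁻¹ = k := by group
      rw [this]
      exact hks
    obtain ⟨_, t, _, hact⟩ := hg
    have := hact.mem_oct0 hp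
    rwa [Equiv.Perm.mul_apply, Equiv.Perm.mul_apply, hkq] at this
  have hcard := Finset.card_le_card_of_injOn (fun q => h⁻¹ q) hmap
    (fun a _ b _ e => (h⁻¹).injective e)
  rw [Finset.card_compl, octad_card oct0 oct0_mem, card_golayPt'] at hcard
  omega

theorem eq_one_of_odd_of_normalizes (h : Equiv.Perm GolayPt) (hh : h ∈ M24)
    (hn : ∀ g ∈ M24, (g ∈ syl2 ↔ h * g * h⁻¹ ∈ syl2)) (m : ℕ) (hm : Odd m) (hpow : h ^ m = 1) :
    h = 1 := by
  have hpres := normalizer_preserves h hn hh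
  have hex : ∀ i : Fin 8, ∃ j : Fin 8, h (oP i) = oP j := fun i =>
    (mem_oct0_iff_exists _).1 (hpres _ (oP_mem i))
  choose σ hσ using hex
  have hinj : Function.Injective σ := by
    intro i j e
    apply oP_inj
    apply h.injective
    rw [hσ, hσ, e]
  have hiter : ∀ n i, (h ^ n) (oP i) = oP (σ^[n] i) := by
    intro n
    induction n with
    | zero =>
      intro i
      rfl
    | succ n ih =>
      intro i
      rw [pow_succ', Equiv.Perm.mul_apply, ih, hσ, Function.iterate_succ_apply']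
  have hσm : ∀ i, σ^[m] i = i := by
    intro i
    apply oP_inj
    rw [← hiter, hpow]
    rfl
  have hN : ∀ t ∈ T8, ∃ v ∈ T8, ∀ i, dg v (σ i) = σ (dg t i) := by
    intro t ht
    obtain ⟨g, hg, hgt⟩ := exists_real ht
    obtain ⟨_, v, hv, hgv⟩ := (hn g hg.1).1 hg
    refine ⟨v, hv, fun i => ?_⟩
    apply oP_inj
    rw [← hgv (σ i), ← hσ i, Equiv.Perm.mul_apply, Equiv.Perm.mul_apply, perm_inv_apply,
      hgt i, hσ]
  have hN' : ∀ v ∈ T8, ∃ t ∈ T8, ∀ i, dg v (σ i) = σ (dg t i) := by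
    intro v hv
    obtain ⟨g, hg, hgv⟩ := exists_real hv
    have hg' : h⁻¹ * g * h ∈ syl2 := by
      rw [hn _ (M24.mul_mem (M24.mul_mem (M24.inv_mem hh) hg.1) hh)]
      have : h * (h⁻¹ * g * h) * h⁻¹ = g := by group
      rw [this]
      exact hg
    obtain ⟨_, t, ht, hgt⟩ := hg'
    refine ⟨t, ht, fun i => ?_⟩
    apply oP_inj
    have e1 : h ((h⁻¹ * g * h) (oP i)) = g (h (oP i)) := by
      rw [Equiv.Perm.mul_apply, Equiv.Perm.mul_apply, perm_apply_inv]
    rw [hgt i, hσ, hσ, hgv] at e1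
    exact e1.symm
  have hR1 : ∀ i j, R1 i j ↔ R1 (σ i) (σ j) := by
    intro i j
    constructor
    · intro hR v hv hvi
      obtain ⟨t, ht, e⟩ := hN' v hv
      have hti : dg t i = i := hinj (by rw [← e i, hvi])
      rw [e j, hR t ht hti]
    · intro hR t ht hti
      obtain ⟨v, hv, e⟩ := hN t ht
      have hvi : dg v (σ i) = σ i := by rw [e i, hti]
      have := hR v hv hvi
      rw [e j] at this
      exact hinj this
  have hR2 : ∀ i j, R2 i j ↔ R2 (σ i) (σ j) := by
    intro i j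
    constructor
    · intro hR v hv hvi
      obtain ⟨t, ht, e⟩ := hN' v hv
      have hti : dg t i = i := hinj (by rw [← e i, hvi])
      rw [e j]
      exact (hR1 _ _).1 (hR t ht hti)
    · intro hR t ht hti
      obtain ⟨v, hv, e⟩ := hN t ht
      have hvi : dg v (σ i) = σ i := by rw [e i, hti]
      have := hR v hv hvi
      rw [e j] at this
      exact (hR1 _ _).2 this
  have L1 : ∀ i, tauF (σ i) = tauF i := by
    have := odd_fix (fun _ => True) σ tauF m hm (fun _ _ => trivial) (fun i _ => hσm i)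
      (fun i j _ _ => by rw [← R2_iff, ← R2_iff]; exact hR2 i j)
    exact fun i => this i trivial
  have L2 : ∀ i, rhoF (σ i) = rhoF i := by
    intro i
    refine odd_fix (fun j => tauF j = tauF i) σ rhoF m hm (fun j hj => by rw [L1]; exact hj)
      (fun j _ => hσm j) (fun j k hj hk => ?_) i rfl
    have hjk : tauF j = tauF k := hj.trans hk.symm
    have hjk' : tauF (σ j) = tauF (σ k) := by rw [L1, L1]; exact hjk
    rw [R1_iff j k hjk, R1_iff _ _ hjk']
    exact hR1 j k
  have L3 : ∀ i, bitF (σ i) = bitF i := by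
    intro i
    refine odd_fix (fun j => tauF j = tauF i ∧ rhoF j = rhoF i) σ bitF m hm
      (fun j hj => by rw [L1, L2]; exact hj) (fun j _ => hσm j) (fun j k hj hk => ?_) i ⟨rfl, rfl⟩
    have h1 : tauF j = tauF k := hj.1.trans hk.1.symm
    have h2 : rhoF j = rhoF k := hj.2.trans hk.2.symm
    have h1' : tauF (σ j) = tauF (σ k) := by rw [L1, L1]; exact h1
    have h2' : rhoF (σ j) = rhoF (σ k) := by rw [L2, L2]; exact h2
    rw [bit_iff j k h1 h2, bit_iff _ _ h1' h2']
    exact ⟨fun e => by rw [e], fun e => hinj e⟩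
  have hid : ∀ i, σ i = i := fun i => (bit_iff _ _ (L1 i) (L2 i)).1 (L3 i)
  have hfix : ∀ p ∈ oct0, h p = p := by
    intro p hp
    obtain ⟨i, rfl⟩ := (mem_oct0_iff_exists p).1 hp
    rw [hσ, hid]
  have hK : h ∈ M24 ⊓ fixingSubgroup (Equiv.Perm GolayPt) (oct0 : Set GolayPt) := by
    rw [Subgroup.mem_inf, mem_fixingSubgroup_iff]
    exact ⟨hh, fun y hy => hfix y hy⟩
  have hsq : h * h = 1 := (octad_fixing oct0 oct0_mem).2 h hK
  obtain ⟨k, rfl⟩ := hm
  rw [pow_succ, pow_mul, pow_two, hsq, one_pow, one_mul] at hpow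
  exact hpow

theorem normalizer_syl2G :
    Subgroup.normalizer ((syl2G : Subgroup ↥M24) : Set ↥M24) = syl2G := by
  have : Fact (Nat.Prime 2) := ⟨Nat.prime_two⟩
  obtain ⟨Q, hQ⟩ := syl2G_sylow
  have hp : IsPGroup 2 ↥(Subgroup.normalizer ((syl2G : Subgroup ↥M24) : Set ↥M24)) := by
    rintro ⟨y, hy⟩
    obtain ⟨a, m, hm, hord⟩ := Nat.exists_eq_two_pow_mul_odd (orderOf_pos y).ne'
    refine ⟨a, ?_⟩
    apply Subtype.ext
    show y ^ 2 ^ a = 1
    have hyn : y ^ 2 ^ a ∈ Subgroup.normalizer ((syl2G : Subgroup ↥M24) : Set ↥M24) :=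
      Subgroup.pow_mem _ hy _
    rw [Subgroup.mem_set_normalizer_iff] at hyn
    apply Subtype.ext
    apply eq_one_of_odd_of_normalizes _ (y ^ 2 ^ a).2 ?_ m hm ?_
    · intro g hg
      have := hyn ⟨g, hg⟩
      rw [SetLike.mem_coe, SetLike.mem_coe, mem_syl2G, mem_syl2G] at this
      exact this
    · have : (y ^ 2 ^ a) ^ m = 1 := by
        rw [← pow_mul, ← hord, pow_orderOf_eq_one]
      have h2 := congrArg (Subtype.val) this
      simpa using h2
  rw [← hQ]
  have := Q.is_maximal' (Q := Subgroup.normalizer ((syl2G : Subgroup ↥M24) : Set ↥M24)) hp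
    (by rw [hQ]; exact Subgroup.le_normalizer)
  rw [hQ] at this ⊢
  exact this

/-- Every Sylow `2`-subgroup of `M24` is self-normalising. -/
theorem sylow2_self_normalizing (S : Sylow 2 ↥M24) :
    Subgroup.normalizer ((S : Subgroup ↥M24) : Set ↥M24) = S := by
  have : Fact (Nat.Prime 2) := ⟨Nat.prime_two⟩
  obtain ⟨Q, hQ⟩ := syl2G_sylow
  obtain ⟨g, rfl⟩ := MulAction.exists_smul_eq ↥M24 Q S
  apply le_antisymm _ Subgroup.le_normalizer
  intro x hx
  have hmem : ∀ z : ↥M24, z ∈ ((g • Q : Sylow 2 ↥M24) : Subgroup ↥M24) ↔ g⁻¹ * z * g ∈ syl2G := by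
    intro z
    rw [Sylow.coe_subgroup_smul, Subgroup.mem_pointwise_smul_iff_inv_smul_mem, hQ]
    rfl
  rw [hmem]
  rw [← normalizer_syl2G, Subgroup.mem_set_normalizer_iff]
  rw [Subgroup.mem_set_normalizer_iff] at hx
  intro z
  have := hx (g * z * g⁻¹)
  rw [SetLike.mem_coe, SetLike.mem_coe, hmem, hmem] at this
  rw [SetLike.mem_coe, SetLike.mem_coe]
  have e1 : g⁻¹ * (g * z * g⁻¹) * g = z := by group
  have e2 : g⁻¹ * (x * (g * z * g⁻¹) * x⁻¹) * g = g⁻¹ * x * g * z * (g⁻¹ * x * g)⁻¹ := by group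
  rw [e1, e2] at this
  exact this

end Cfsg.Agent.Lib.Helper9.M24Coset
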