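import Cfsg.Agent.Lib.Helper9.M24Syl2Data
import Cfsg.Agent.Lib.Helper21.GolayOctSplit

/-!
Kernel-checked certificates for the data on a Sylow `2`-subgroup of `M24` (helper9).
-/

set_option autoImplicit false
set_option maxRecDepth 100000

namespace Cfsg.Agent.Lib.Helper9.M24Coset

open Cfsg Cfsg.Agent.Lib.Helper21

/-- position of the `i`-th point of the standard octad -/
def octP (i : ℕ) : ℕ := oct0Fs.getD i 0

/-- the `i`-th entry of a packed tuple -/
def dg (t : ℕ) (i : Fin 8) : Fin 8 := ⟨t / 8 ^ i.val % 8, Nat.mod_lt _ (by norm_num)⟩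

/-- packing of a tuple -/
def pack8 (f : Fin 8 → Fin 8) : ℕ :=
  (f 0).val + 8 * ((f 1).val + 8 * ((f 2).val + 8 * ((f 3).val + 8 * ((f 4).val +
    8 * ((f 5).val + 8 * ((f 6).val + 8 * (f 7).val))))))

theorem dg_pack8 (f : Fin 8 → Fin 8) (i : Fin 8) : dg (pack8 f) i = f i := by
  apply Fin.ext
  have h0 := (f 0).isLt
  have h1 := (f 1).isLt
  have h2 := (f 2).isLt
  have h3 := (f 3).isLt
  have h4 := (f 4).isLt
  have h5 := (f 5).isLt
  have h6 := (f 6).isLt
  have h7 := (f 7).isLt
  fin_cases i <;> simp only [dg, pack8, Fin.reduceFinMk, Fin.zero_eta, Fin.mk_one, Fin.isValue] <;> norm_num <;> omega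

/-- composition of packed tuples -/
def comp8 (t u : ℕ) : ℕ := pack8 fun i => dg t (dg u i)

/-- the identity tuple -/
def idT : ℕ := 0xfac688

/-- the tuples of the group induced on the octad -/
def T8 : List ℕ := p8R.map Prod.snd

theorem dg_idT : ∀ i : Fin 8, dg idT i = i := by decide

theorem idT_mem : idT ∈ T8 := by decide +kernel

theorem octP_inj : ∀ i j : Fin 8, octP i = octP j → i = j := by decide

theorem octP_lt : ∀ i : Fin 8, octP i < 24 := by decide

theorem octP_mem : ∀ i : Fin 8, octP i ∈ oct0Fs := by decide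

theorem exists_octP : ∀ n : Fin 24, n.val ∈ oct0Fs → ∃ i : Fin 8, octP i = n.val := by decide

theorem p8R_valid : ∀ e ∈ p8R, ValidTab e.1 := by decide +kernel

theorem p8R_acts : ∀ e ∈ p8R, ∀ i : Fin 8, tabGet e.1.1 (octP i) = octP (dg e.2 i) := by
  decide +kernel

theorem comp8_mem_aux : (T8.all fun t => T8.all fun u => T8.contains (comp8 t u)) = true := by
  decide +kernel

theorem comp8_mem : ∀ t ∈ T8, ∀ u ∈ T8, comp8 t u ∈ T8 := by
  intro t ht u hu
  have h := comp8_mem_aux
  rw [List.all_eq_true] at h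
  have h1 := h t ht
  rw [List.all_eq_true] at h1
  have h2 := h1 u hu
  exact List.contains_iff_mem.1 h2

theorem pow8_aux : (T8.all fun t =>
    comp8 (comp8 (comp8 t t) (comp8 t t)) (comp8 (comp8 t t) (comp8 t t)) == idT) = true := by
  decide +kernel

theorem pow8_eq : ∀ t ∈ T8,
    comp8 (comp8 (comp8 t t) (comp8 t t)) (comp8 (comp8 t t) (comp8 t t)) = idT := by
  intro t ht
  have h := pow8_aux
  rw [List.all_eq_true] at h
  exact eq_of_beq (h t ht)

theorem T8_length : T8.length = 64 := by decide +kernel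

theorem T8_inj : ∀ i j : Fin T8.length, (∀ m : Fin 8, dg (T8.get i) m = dg (T8.get j) m) → i = j := by
  decide +kernel

/-- `j` is fixed by the stabiliser of `i` -/
def R1 (i j : Fin 8) : Prop := ∀ t ∈ T8, dg t i = i → dg t j = j

instance : DecidableRel R1 := fun i j => by unfold R1; infer_instance

/-- the stabiliser of `i` preserves the pair of `j` -/
def R2 (i j : Fin 8) : Prop := ∀ t ∈ T8, dg t i = i → R1 j (dg t j)

instance : DecidableRel R2 := fun i j => by unfold R2; infer_instance

/-- the tetrad bit -/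
def tauF (i : Fin 8) : Bool := tau8 i.val
/-- the pair bit -/
def rhoF (i : Fin 8) : Bool := rho8 i.val
/-- the point bit -/
def bitF (i : Fin 8) : Bool := bit8 i.val

theorem R2_iff : ∀ i j : Fin 8, R2 i j ↔ tauF i = tauF j := by decide +kernel

theorem R1_iff : ∀ i j : Fin 8, tauF i = tauF j → (rhoF i = rhoF j ↔ R1 i j) := by decide +kernel

theorem bit_iff : ∀ i j : Fin 8, tauF i = tauF j → rhoF i = rhoF j → (bitF i = bitF j ↔ i = j) := by
  decide +kernel

end Cfsg.Agent.Lib.Helper9.M24Coset
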