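import Mathlib
import Cfsg.Agent.Lib.Helper16.SylowNormal
import Cfsg.Agent.Lib.Helper24.SylowTools

/-!
Reduction lemma of Navarro–Tiep: a group in which all `p`-elements have class size prime to `p`
and whose proper normal subgroups and quotients have abelian Sylow `p`-subgroups has abelian
Sylow `p`-subgroups, unless it is simple.
-/

set_option autoImplicit false

namespace Cfsg.Agent.Lib.Helper9

open Subgroup

section

variable {G : Type*} [Group G] [Finite G] (p : ℕ) [Fact p.Prime]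

/-- All `p`-elements have conjugacy class of size prime to `p`. -/
def PClassProp (G : Type*) [Group G] : Prop :=
  ∀ x : G, (∃ k : ℕ, orderOf x = p ^ k) → ¬ p ∣ (Subgroup.centralizer ({x} : Set G)).index

variable {p}

/-- Under `PClassProp`, a `p`-subgroup centralizing a `p`-element `x` lies in a Sylow
`p`-subgroup of `G` centralizing `x`. -/
theorem exists_sylow_le_centralizer (h : PClassProp p G) {x : G} (hx : ∃ k : ℕ, orderOf x = p ^ k)
    (D : Subgroup G) (hD : IsPGroup p D) (hDx : D ≤ centralizer ({x} : Set G)) :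
    ∃ Q : Sylow p G, D ≤ Q ∧ (Q : Subgroup G) ≤ centralizer ({x} : Set G) := by
  set H := centralizer ({x} : Set G) with hH
  have hD' : IsPGroup p (D.subgroupOf H) := hD.comap_subtype
  obtain ⟨Q', hQ'⟩ := hD'.exists_le_sylow
  have hp : IsPGroup p ((Q' : Subgroup H).map H.subtype) := Q'.2.map _
  have hidx : ¬ p ∣ ((Q' : Subgroup H).map H.subtype).index := by
    rw [Subgroup.index_map_subtype]
    intro hdvd
    rcases (Nat.Prime.dvd_mul (Fact.out : p.Prime)).mp hdvd with h1 | h1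
    · exact Q'.not_dvd_index h1
    · exact h x hx h1
  refine ⟨hp.toSylow hidx, ?_, ?_⟩
  · intro d hd
    show d ∈ (Q' : Subgroup H).map H.subtype
    exact ⟨⟨d, hDx hd⟩, hQ' (by rw [mem_subgroupOf]; exact hd), rfl⟩
  · show (Q' : Subgroup H).map H.subtype ≤ H
    exact Subgroup.map_subtype_le _

/-- A Sylow subgroup inside the centralizer witnesses the class condition. -/
theorem not_dvd_index_centralizer_of_sylow_le {x : G} (Q : Sylow p G)
    (hQ : (Q : Subgroup G) ≤ centralizer ({x} : Set G)) :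
    ¬ p ∣ (centralizer ({x} : Set G)).index := by
  intro hdvd
  exact Q.not_dvd_index (hdvd.trans (Subgroup.index_dvd_of_le hQ))

/-- The class condition passes to normal subgroups. -/
theorem PClassProp.normal (h : PClassProp p G) (N : Subgroup G) [N.Normal] : PClassProp p N := by
  intro x hx
  have hx' : ∃ k : ℕ, orderOf (x : G) = p ^ k := by
    obtain ⟨k, hk⟩ := hx
    exact ⟨k, by rw [Subgroup.orderOf_coe]; exact hk⟩
  obtain ⟨Q, -, hQ⟩ := exists_sylow_le_centralizer h hx' ⊥ IsPGroup.of_bot bot_le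
  have hle : (Q : Subgroup G).subgroupOf N ≤ centralizer ({x} : Set N) := by
    intro n hn
    rw [mem_subgroupOf] at hn
    rw [mem_centralizer_singleton_iff]
    have := mem_centralizer_singleton_iff.mp (hQ hn)
    exact Subtype.ext this
  intro hdvd
  have h1 := hdvd.trans (Subgroup.index_dvd_of_le hle)
  exact Cfsg.Agent.Lib.Helper16.not_dvd_relIndex_sylow_normal Q N h1

/-- The class condition passes to quotients. -/
theorem PClassProp.quotient (h : PClassProp p G) (N : Subgroup G) [N.Normal] :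
    PClassProp p (G ⧸ N) := by
  intro y hy
  have hsurj : Function.Surjective (QuotientGroup.mk' N) := QuotientGroup.mk'_surjective N
  -- y lies in a Sylow subgroup of the quotient, which is the image of a Sylow subgroup of G
  have hyp : IsPGroup p (Subgroup.zpowers y) := by
    obtain ⟨k, hk⟩ := hy
    rw [IsPGroup.iff_orderOf]
    intro g
    obtain ⟨j, hj⟩ := g.2
    have hdvd : orderOf g ∣ p ^ k := by
      rw [← hk, ← Subgroup.orderOf_coe, ← hj]
      exact orderOf_dvd_of_pow_eq_one (by rw [← zpow_natCast, ← zpow_mul, mul_comm, zpow_mul,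
        zpow_natCast, pow_orderOf_eq_one, one_zpow])
    obtain ⟨i, -, hi⟩ := (Nat.dvd_prime_pow (Fact.out : p.Prime)).mp hdvd
    exact ⟨i, hi⟩
  obtain ⟨S, hS⟩ := hyp.exists_le_sylow
  obtain ⟨P, rfl⟩ := Sylow.mapSurjective_surjective hsurj p S
  have hyS : y ∈ (Sylow.mapSurjective hsurj P : Subgroup (G ⧸ N)) := hS (Subgroup.mem_zpowers y)
  rw [Sylow.coe_mapSurjective] at hyS
  obtain ⟨x, hxP, rfl⟩ := hyS
  have hx : ∃ k : ℕ, orderOf x = p ^ k := by
    have := (IsPGroup.iff_orderOf.mp P.2) ⟨x, hxP⟩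
    obtain ⟨k, hk⟩ := this
    exact ⟨k, by rw [← hk, ← Subgroup.orderOf_coe]⟩
  obtain ⟨Q, -, hQ⟩ := exists_sylow_le_centralizer h hx ⊥ IsPGroup.of_bot bot_le
  apply not_dvd_index_centralizer_of_sylow_le (Sylow.mapSurjective hsurj Q)
  rw [Sylow.coe_mapSurjective]
  rintro _ ⟨q, hq, rfl⟩
  rw [mem_centralizer_singleton_iff]
  have := mem_centralizer_singleton_iff.mp (hQ hq)
  show (QuotientGroup.mk' N) q * (QuotientGroup.mk' N) x = (QuotientGroup.mk' N) x * (QuotientGroup.mk' N) q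
  rw [← map_mul, ← map_mul, this]

end

section reduction

variable {G : Type*} [Group G] [Finite G] {p : ℕ} [Fact p.Prime] (N : Subgroup G) [N.Normal]

theorem exists_orderOf_eq_of_mem_sylow (P : Sylow p G) {x : G} (hx : x ∈ P) :
    ∃ k : ℕ, orderOf x = p ^ k := by
  obtain ⟨k, hk⟩ := (IsPGroup.iff_orderOf.mp P.2) ⟨x, hx⟩
  exact ⟨k, by rw [← hk, ← Subgroup.orderOf_coe]⟩

/-- If the Sylow subgroups of `N` are abelian, `P ∩ N` is abelian. -/
theorem inf_normal_comm (hN : ∀ S : Sylow p N, ∀ a b : S, a * b = b * a) (P : Sylow p G)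
    {a b : G} (ha : a ∈ (P : Subgroup G) ⊓ N) (hb : b ∈ (P : Subgroup G) ⊓ N) :
    a * b = b * a := by
  obtain ⟨S, hS⟩ := Cfsg.Agent.Lib.Helper16.exists_sylow_subgroupOf_normal P N
  have ha' : (⟨a, ha.2⟩ : N) ∈ (S : Subgroup N) := by rw [hS, mem_subgroupOf]; exact ha.1
  have hb' : (⟨b, hb.2⟩ : N) ∈ (S : Subgroup N) := by rw [hS, mem_subgroupOf]; exact hb.1
  have := hN S ⟨⟨a, ha.2⟩, ha'⟩ ⟨⟨b, hb.2⟩, hb'⟩
  exact congrArg (fun t : S => ((t : N) : G)) this

/-- If the Sylow subgroups of `G ⧸ N` are abelian, commutators of elements of `P` lie in `N`. -/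
theorem comm_mem_of_quotient (hQ : ∀ S : Sylow p (G ⧸ N), ∀ a b : S, a * b = b * a)
    (P : Sylow p G) {a b : G} (ha : a ∈ P) (hb : b ∈ P) : a⁻¹ * b⁻¹ * a * b ∈ N := by
  have hsurj : Function.Surjective (QuotientGroup.mk' N) := QuotientGroup.mk'_surjective N
  set S := Sylow.mapSurjective hsurj P with hS
  have ha' : (QuotientGroup.mk' N) a ∈ (S : Subgroup (G ⧸ N)) := by
    rw [hS, Sylow.coe_mapSurjective]; exact ⟨a, ha, rfl⟩
  have hb' : (QuotientGroup.mk' N) b ∈ (S : Subgroup (G ⧸ N)) := by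
    rw [hS, Sylow.coe_mapSurjective]; exact ⟨b, hb, rfl⟩
  have hcomm : (QuotientGroup.mk' N) a * (QuotientGroup.mk' N) b
      = (QuotientGroup.mk' N) b * (QuotientGroup.mk' N) a :=
    congrArg (fun t : S => (t : G ⧸ N)) (hQ S ⟨_, ha'⟩ ⟨_, hb'⟩)
  rw [← QuotientGroup.eq_one_iff]
  have : ((a⁻¹ * b⁻¹ * a * b : G) : G ⧸ N)
      = ((QuotientGroup.mk' N) a)⁻¹ * ((QuotientGroup.mk' N) b)⁻¹ * ((QuotientGroup.mk' N) a)
        * ((QuotientGroup.mk' N) b) := by
    simp
  rw [this, mul_assoc _ ((QuotientGroup.mk' N) a), hcomm]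
  group

/-- Key step: every element of a Sylow subgroup `P` centralizes `P ∩ N`. -/
theorem sylow_centralizes_inf (hc : PClassProp p G)
    (hN : ∀ S : Sylow p N, ∀ a b : S, a * b = b * a) (P : Sylow p G) {x m : G} (hx : x ∈ P)
    (hm : m ∈ (P : Subgroup G) ⊓ N) : x * m = m * x := by
  obtain ⟨k, hk⟩ := exists_orderOf_eq_of_mem_sylow P hx
  obtain ⟨Q, -, hQ⟩ := exists_sylow_le_centralizer hc ⟨k, hk⟩ ⊥ IsPGroup.of_bot bot_le
  obtain ⟨SP, hSP⟩ := Cfsg.Agent.Lib.Helper16.exists_sylow_subgroupOf_normal P N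
  obtain ⟨SQ, hSQ⟩ := Cfsg.Agent.Lib.Helper16.exists_sylow_subgroupOf_normal Q N
  obtain ⟨n, hn⟩ := MulAction.exists_smul_eq N SP SQ
  set M := (P : Subgroup G) ⊓ N with hM
  have hconj : ∀ m' ∈ M, (n : G) * m' * (n : G)⁻¹ ∈ (Q : Subgroup G) := by
    intro m' hm'
    have h1 : (⟨m', hm'.2⟩ : N) ∈ (SP : Subgroup N) := by rw [hSP, mem_subgroupOf]; exact hm'.1
    have h2 := Cfsg.Agent.Lib.Helper24.conj_mem_smul_sylow SP n _ h1
    rw [hn, hSQ, mem_subgroupOf] at h2
    exact h2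
  -- x' = n⁻¹ x n centralizes M
  have hx' : ∀ m' ∈ M, ((n : G)⁻¹ * x * n) * m' = m' * ((n : G)⁻¹ * x * n) := by
    intro m' hm'
    have h1 := mem_centralizer_singleton_iff.mp (hQ (hconj m' hm'))
    -- (n m' n⁻¹) * x = x * (n m' n⁻¹)
    calc ((n : G)⁻¹ * x * n) * m' = (n : G)⁻¹ * (x * ((n : G) * m' * (n : G)⁻¹)) * n := by group
      _ = (n : G)⁻¹ * (((n : G) * m' * (n : G)⁻¹) * x) * n := by rw [h1]
      _ = m' * ((n : G)⁻¹ * x * n) := by group
  -- e = x n⁻¹ x⁻¹ n ∈ N, and x acts on M as e does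
  set e : G := x * (n : G)⁻¹ * x⁻¹ * n with he
  have heN : e ∈ N := by
    have h1 : x * (n : G)⁻¹ * x⁻¹ ∈ N := ‹N.Normal›.conj_mem _ (N.inv_mem n.2) x
    exact N.mul_mem h1 n.2
  have hact : ∀ m' ∈ M, x * m' * x⁻¹ = e * m' * e⁻¹ := by
    intro m' hm'
    have h1 := hx' m' hm'
    have h2 : m' = ((n : G)⁻¹ * x * n) * m' * ((n : G)⁻¹ * x * n)⁻¹ := by
      rw [h1]; group
    have h3 : x * m' * x⁻¹
        = e * (((n : G)⁻¹ * x * n) * m' * ((n : G)⁻¹ * x * n)⁻¹) * e⁻¹ := by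
      rw [he]; group
    rw [h3, ← h2]
  have hxM : ∀ m' ∈ M, x * m' * x⁻¹ ∈ M := by
    intro m' hm'
    exact ⟨(P : Subgroup G).mul_mem ((P : Subgroup G).mul_mem hx hm'.1)
      ((P : Subgroup G).inv_mem hx), ‹N.Normal›.conj_mem _ hm'.2 x⟩
  have hxM' : ∀ m' ∈ M, x⁻¹ * m' * x ∈ M := by
    intro m' hm'
    refine ⟨(P : Subgroup G).mul_mem ((P : Subgroup G).mul_mem ((P : Subgroup G).inv_mem hx) hm'.1)
      hx, ?_⟩
    have := ‹N.Normal›.conj_mem _ hm'.2 x⁻¹
    rwa [inv_inv] at this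
  have hpow : ∀ j : ℕ, ∀ m' ∈ M, x ^ j * m' * (x ^ j)⁻¹ = e ^ j * m' * (e ^ j)⁻¹ ∧
      x ^ j * m' * (x ^ j)⁻¹ ∈ M := by
    intro j
    induction j with
    | zero => intro m' hm'; simpa using hm'
    | succ j ih =>
      intro m' hm'
      obtain ⟨h1, h2⟩ := ih m' hm'
      have h3 : x ^ (j + 1) * m' * (x ^ (j + 1))⁻¹ = x * (x ^ j * m' * (x ^ j)⁻¹) * x⁻¹ := by
        rw [pow_succ']; group
      have h4 : e ^ (j + 1) * m' * (e ^ (j + 1))⁻¹ = e * (e ^ j * m' * (e ^ j)⁻¹) * e⁻¹ := by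
        rw [pow_succ']; group
      rw [h3, h4, ← h1]
      exact ⟨hact _ h2, hxM _ h2⟩
  -- e normalizes M
  have heNorm : e ∈ normalizer (M : Set G) := by
    rw [mem_normalizer_iff]
    intro g
    constructor
    · intro hg
      rw [← hact g hg]; exact hxM g hg
    · intro hg
      have h1 := hxM' _ hg
      have h2 := hact _ h1
      have h3 : x * (x⁻¹ * (e * g * e⁻¹) * x) * x⁻¹ = e * g * e⁻¹ := by group
      rw [h3] at h2
      have h4 : g = x⁻¹ * (e * g * e⁻¹) * x :=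
        mul_left_cancel (mul_right_cancel h2)
      rw [h4]; exact h1
  -- K = M ⊔ ⟨e⟩
  set K := M ⊔ zpowers e with hK
  have hMK : M ≤ K := le_sup_left
  have heK : e ∈ K := (le_sup_right : zpowers e ≤ K) (mem_zpowers e)
  have hKN : K ≤ N := sup_le inf_le_right (zpowers_le.mpr heN)
  have hKnorm : K ≤ normalizer (M : Set G) := sup_le le_normalizer (zpowers_le.mpr heNorm)
  have hnormal : (M.subgroupOf K).Normal := (normal_subgroupOf_iff_le_normalizer hMK).mpr hKnorm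
  set d := (M.subgroupOf K).index with hd
  have hed : e ^ d ∈ M := by
    have := Subgroup.pow_index_mem (M.subgroupOf K) (⟨e, heK⟩ : K)
    rw [mem_subgroupOf] at this
    simpa using this
  have hdp : ¬ p ∣ d := by
    intro hdvd
    have h1 : M.relIndex K * K.relIndex N = M.relIndex N := relIndex_mul_relIndex M K N hMK hKN
    have h2 : M.relIndex N = (P : Subgroup G).relIndex N := inf_relIndex_right _ _
    have h3 : p ∣ (P : Subgroup G).relIndex N := by
      rw [← h2, ← h1]; exact Dvd.dvd.mul_right hdvd _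
    exact Cfsg.Agent.Lib.Helper16.not_dvd_relIndex_sylow_normal P N h3
  -- choose j ≡ 1 mod p^k with d ∣ j
  by_cases hk0 : p ^ k = 1
  · rw [hk0, orderOf_eq_one_iff] at hk
    rw [hk]; simp
  · have hp1 : 1 < p ^ k := by
      have : 0 < p ^ k := pow_pos (Fact.out : p.Prime).pos k
      omega
    have hcop : Nat.Coprime d (p ^ k) :=
      Nat.Coprime.pow_right k (((Fact.out : p.Prime).coprime_iff_not_dvd.mpr hdp).symm)
    obtain ⟨u, -, hu⟩ := Nat.exists_mul_mod_eq_one_of_coprime hcop hp1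
    have hxj : x ^ (d * u) = x := by
      rw [← pow_mod_orderOf, hk, hu, pow_one]
    have hej : e ^ (d * u) ∈ M := by
      rw [pow_mul]; exact M.pow_mem hed u
    have h1 := (hpow (d * u) m hm).1
    rw [hxj] at h1
    have h2 : e ^ (d * u) * m * (e ^ (d * u))⁻¹ = m := by
      rw [inf_normal_comm N hN P hej hm]; group
    rw [h2] at h1
    calc x * m = (x * m * x⁻¹) * x := by group
      _ = m * x := by rw [h1]

/-- Under the hypotheses, every Sylow `p`-subgroup of `G` is abelian. -/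
theorem sylow_comm_of_normal (hc : PClassProp p G)
    (hN : ∀ S : Sylow p N, ∀ a b : S, a * b = b * a)
    (hQ : ∀ S : Sylow p (G ⧸ N), ∀ a b : S, a * b = b * a)
    (P : Sylow p G) {x y : G} (hx : x ∈ P) (hy : y ∈ P) : x * y = y * x := by
  obtain ⟨k, hk⟩ := exists_orderOf_eq_of_mem_sylow P hx
  obtain ⟨j, hj⟩ := exists_orderOf_eq_of_mem_sylow P hy
  set M := (P : Subgroup G) ⊓ N with hM
  have hMp : IsPGroup p M := P.2.to_le inf_le_left
  have hMx : M ≤ centralizer ({x} : Set G) := by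
    intro m hm
    rw [mem_centralizer_singleton_iff]
    exact (sylow_centralizes_inf N hc hN P hx hm).symm
  obtain ⟨Q, hMQ, hQx⟩ := exists_sylow_le_centralizer hc ⟨k, hk⟩ M hMp hMx
  have hPM : ∀ a ∈ (P : Subgroup G), ∀ m ∈ M, a * m = m * a := fun a ha m hm =>
    sylow_centralizes_inf N hc hN P ha hm
  have hQM : ∀ a ∈ (Q : Subgroup G), ∀ m ∈ M, a * m = m * a := fun a ha m hm =>
    sylow_centralizes_inf N hc hN Q ha ⟨hMQ hm, hm.2⟩
  have hMcomm : ∀ a ∈ M, ∀ b ∈ M, a * b = b * a := fun a ha b hb =>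
    inf_normal_comm N hN P ha hb
  -- the subgroup on which g ↦ [x,g] is a homomorphism into M
  let Cs : Subgroup G :=
    { carrier := {g | (∀ m ∈ M, g * m = m * g) ∧ x⁻¹ * g⁻¹ * x * g ∈ M}
      one_mem' := ⟨fun m _ => by simp, by simp [M.one_mem]⟩
      mul_mem' := by
        rintro g h ⟨hg1, hg2⟩ ⟨hh1, hh2⟩
        refine ⟨fun m hm => ?_, ?_⟩
        · rw [mul_assoc, hh1 m hm, ← mul_assoc, hg1 m hm, mul_assoc]
        · have h1 : x⁻¹ * (g * h)⁻¹ * x * (g * h)
              = (x⁻¹ * h⁻¹ * x * h) * (h⁻¹ * (x⁻¹ * g⁻¹ * x * g) * h) := by group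
          have h2 : h⁻¹ * (x⁻¹ * g⁻¹ * x * g) * h = x⁻¹ * g⁻¹ * x * g := by
            rw [mul_assoc, ← hh1 _ hg2]; group
          rw [h1, h2]
          exact M.mul_mem hh2 hg2
      inv_mem' := by
        rintro g ⟨hg1, hg2⟩
        have hinv : ∀ m ∈ M, g⁻¹ * m = m * g⁻¹ := by
          intro m hm
          have := hg1 m hm
          calc g⁻¹ * m = g⁻¹ * (m * g) * g⁻¹ := by group
            _ = g⁻¹ * (g * m) * g⁻¹ := by rw [this]
            _ = m * g⁻¹ := by group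
        refine ⟨hinv, ?_⟩
        have h1 : x⁻¹ * g⁻¹⁻¹ * x * g⁻¹ = g * (x⁻¹ * g⁻¹ * x * g)⁻¹ * g⁻¹ := by group
        have h2 : g * (x⁻¹ * g⁻¹ * x * g)⁻¹ * g⁻¹ = (x⁻¹ * g⁻¹ * x * g)⁻¹ := by
          rw [hg1 _ (M.inv_mem hg2)]; group
        rw [h1, h2]
        exact M.inv_mem hg2 }
  have hmemCs : ∀ g, g ∈ Cs ↔ (∀ m ∈ M, g * m = m * g) ∧ x⁻¹ * g⁻¹ * x * g ∈ M := fun g => Iff.rfl
  have hPCs : (P : Subgroup G) ≤ Cs := by
    intro a ha
    rw [hmemCs]
    refine ⟨hPM a ha, ?_, comm_mem_of_quotient N hQ P hx ha⟩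
    exact (P : Subgroup G).mul_mem ((P : Subgroup G).mul_mem ((P : Subgroup G).mul_mem
      ((P : Subgroup G).inv_mem hx) ((P : Subgroup G).inv_mem ha)) hx) ha
  have hQCs : (Q : Subgroup G) ≤ Cs := by
    intro a ha
    rw [hmemCs]
    refine ⟨hQM a ha, ?_⟩
    have h1 := mem_centralizer_singleton_iff.mp (hQx ha)
    have h2 : x⁻¹ * a⁻¹ * x * a = 1 := by
      calc x⁻¹ * a⁻¹ * x * a = x⁻¹ * a⁻¹ * (x * a) := by group
        _ = x⁻¹ * a⁻¹ * (a * x) := by rw [h1]
        _ = 1 := by group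
    rw [h2]; exact M.one_mem
  -- the homomorphism
  let φ : Cs →* M :=
    { toFun := fun g => ⟨x⁻¹ * (g : G)⁻¹ * x * g, g.2.2⟩
      map_one' := by
        apply Subtype.ext
        simp
      map_mul' := by
        rintro ⟨g, hg1, hg2⟩ ⟨h, hh1, hh2⟩
        apply Subtype.ext
        show x⁻¹ * (g * h)⁻¹ * x * (g * h) = (x⁻¹ * g⁻¹ * x * g) * (x⁻¹ * h⁻¹ * x * h)
        have h1 : x⁻¹ * (g * h)⁻¹ * x * (g * h)
            = (x⁻¹ * h⁻¹ * x * h) * (h⁻¹ * (x⁻¹ * g⁻¹ * x * g) * h) := by group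
        have h2 : h⁻¹ * (x⁻¹ * g⁻¹ * x * g) * h = x⁻¹ * g⁻¹ * x * g := by
          rw [mul_assoc, ← hh1 _ hg2]; group
        rw [h1, h2]
        exact hMcomm _ hh2 _ hg2 }
  have hφ : ∀ g : Cs, ((φ g : M) : G) = x⁻¹ * (g : G)⁻¹ * x * g := fun g => rfl
  have hker : (Q : Subgroup G).subgroupOf Cs ≤ φ.ker := by
    intro g hg
    rw [mem_subgroupOf] at hg
    rw [MonoidHom.mem_ker]
    apply Subtype.ext
    rw [hφ]
    have h1 := mem_centralizer_singleton_iff.mp (hQx hg)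
    show x⁻¹ * (g : G)⁻¹ * x * g = 1
    calc x⁻¹ * (g : G)⁻¹ * x * g = x⁻¹ * (g : G)⁻¹ * (x * g) := by group
      _ = x⁻¹ * (g : G)⁻¹ * (g * x) := by rw [h1]
      _ = 1 := by group
  have hidx : ¬ p ∣ φ.ker.index := by
    intro hdvd
    have h1 : p ∣ ((Q : Subgroup G).subgroupOf Cs).index := hdvd.trans (index_dvd_of_le hker)
    have h2 : ((Q : Subgroup G).subgroupOf Cs).index = (Q : Subgroup G).relIndex Cs := rfl
    have h3 := relIndex_mul_index hQCs
    rw [h2] at h1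
    exact Q.not_dvd_index (h3 ▸ Dvd.dvd.mul_right h1 _)
  set y' : Cs := ⟨y, hPCs hy⟩ with hy'
  have hz1 : (φ y') ^ φ.ker.index = 1 := by
    rw [← map_pow, ← MonoidHom.mem_ker]
    exact Subgroup.pow_index_mem φ.ker y'
  have hz2 : (φ y') ^ (p ^ j) = 1 := by
    rw [← map_pow]
    have : y' ^ (p ^ j) = 1 := by
      apply Subtype.ext
      show y ^ (p ^ j) = 1
      rw [← hj]; exact pow_orderOf_eq_one y
    rw [this, map_one]
  have hz : φ y' = 1 := by
    rw [← orderOf_eq_one_iff]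
    have d1 := orderOf_dvd_of_pow_eq_one hz1
    have d2 := orderOf_dvd_of_pow_eq_one hz2
    have hcop : Nat.Coprime φ.ker.index (p ^ j) :=
      Nat.Coprime.pow_right j (((Fact.out : p.Prime).coprime_iff_not_dvd.mpr hidx).symm)
    exact Nat.eq_one_of_dvd_coprimes hcop d1 d2
  have hfinal : x⁻¹ * y⁻¹ * x * y = 1 := by
    have := congrArg (fun t : M => (t : G)) hz
    simpa [hφ] using this
  calc x * y = y * x * (x⁻¹ * y⁻¹ * x * y) := by group
    _ = y * x := by rw [hfinal, mul_one]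

/-- Reduction lemma: a group with `PClassProp`, a non-abelian Sylow `p`-subgroup, in which no
proper non-trivial normal subgroup or its quotient has both properties, is simple. -/
theorem isSimpleGroup_of_minimal
    (h : (∃ P : Sylow p G, ¬ IsMulCommutative P) ∧ PClassProp p G)
    (hmin : ∀ (N : Subgroup G) [N.Normal], N ≠ ⊥ → N ≠ ⊤ →
      ¬ ((∃ P : Sylow p N, ¬ IsMulCommutative P) ∧ PClassProp p N) ∧
      ¬ ((∃ P : Sylow p (G ⧸ N), ¬ IsMulCommutative P) ∧ PClassProp p (G ⧸ N))) :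
    IsSimpleGroup G := by
  obtain ⟨⟨P, hP⟩, hc⟩ := h
  haveI : Nontrivial G := by
    by_contra hnt
    rw [not_nontrivial_iff_subsingleton] at hnt
    apply hP
    exact ⟨⟨fun a b => Subsingleton.elim _ _⟩⟩
  refine IsSimpleGroup.mk ?_
  intro N hNn
  by_contra hne
  rw [not_or] at hne
  obtain ⟨h1, h2⟩ := hmin N hne.1 hne.2
  have hN : ∀ S : Sylow p N, ∀ a b : S, a * b = b * a := by
    intro S
    by_contra hS
    apply h1
    refine ⟨⟨S, fun hcomm => hS ?_⟩, hc.normal N⟩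
    exact fun a b => (isMulCommutative_iff.mp hcomm) a b
  have hQ : ∀ S : Sylow p (G ⧸ N), ∀ a b : S, a * b = b * a := by
    intro S
    by_contra hS
    apply h2
    refine ⟨⟨S, fun hcomm => hS ?_⟩, hc.quotient N⟩
    exact fun a b => (isMulCommutative_iff.mp hcomm) a b
  apply hP
  rw [isMulCommutative_iff]
  intro a b
  apply Subtype.ext
  exact sylow_comm_of_normal N hc hN hQ P a.2 b.2

end reduction

end Cfsg.Agent.Lib.Helper9
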