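import Cfsg.Agent.Lib.Helper21.GolaySteiner
import Cfsg.Agent.Lib.Helper9.BinaryCode

/-!
The graph on the octads of the Golay code (adjacent = disjoint): distances.
-/

set_option autoImplicit false

namespace Cfsg.Agent.Lib.Helper9

open Cfsg Finset Cfsg.Agent.Lib.Helper21

/-- Two octads meeting in four points have a common disjoint octad. -/
theorem common_nbr_of_inter_four {o o' : Finset GolayPt} (ho : o ∈ octads) (ho' : o' ∈ octads)
    (h4 : (o ∩ o').card = 4) : ∃ c ∈ octads, Disjoint o c ∧ Disjoint o' c := by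
  classical
  set T := o ∩ o' with hT
  have hlam := (lam_5_8_24 card_golayPt octads_steiner T).2.2.2.2 h4
  set Bs := (blocksFinset octads).filter (T ⊆ ·) with hBs
  have hne : o ≠ o' := by
    rintro rfl
    rw [hT, inter_self, ho.2] at h4
    omega
  have hoBs : o ∈ Bs := by
    rw [hBs, mem_filter, mem_blocksFinset]; exact ⟨ho, inter_subset_left⟩
  have ho'Bs : o' ∈ Bs.erase o := by
    rw [mem_erase, hBs, mem_filter, mem_blocksFinset]
    exact ⟨Ne.symm hne, ho', inter_subset_right⟩
  have hcard : 1 < ((Bs.erase o).erase o').card := by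
    rw [card_erase_of_mem ho'Bs, card_erase_of_mem hoBs, hlam]
    norm_num
  obtain ⟨x, hx, y, hy, hxy⟩ := Finset.one_lt_card.mp hcard
  simp only [mem_erase, hBs, mem_filter, mem_blocksFinset] at hx hy
  obtain ⟨hxo', hxo, hxO, hTx⟩ := hx
  obtain ⟨hyo', hyo, hyO, hTy⟩ := hy
  have hinter : ∀ {a b : Finset GolayPt}, a ∈ octads → b ∈ octads → a ≠ b → T ⊆ a → T ⊆ b →
      a ∩ b = T := by
    intro a b ha hb hab hTa hTb
    have hsub : T ⊆ a ∩ b := subset_inter hTa hTb
    have hle : (a ∩ b).card ≤ 4 := by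
      rcases octads_inter ha hb hab with h | h | h <;> omega
    exact (Finset.eq_of_subset_of_card_le hsub (by rw [h4]; exact hle)).symm
  have hxy4 : (x ∩ y).card = 4 := by rw [hinter hxO hyO hxy hTx hTy, h4]
  refine ⟨symmDiff x y, octads_symmDiff hxO hyO hxy4, ?_, ?_⟩
  · rw [Finset.disjoint_left]
    intro p hpo hpc
    rw [mem_symmDiff] at hpc
    rcases hpc with ⟨hpx, hpy⟩ | ⟨hpy, hpx⟩
    · have : p ∈ o ∩ x := mem_inter.mpr ⟨hpo, hpx⟩
      rw [hinter ho hxO (Ne.symm hxo) inter_subset_left hTx] at this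
      exact hpy (hTy this)
    · have : p ∈ o ∩ y := mem_inter.mpr ⟨hpo, hpy⟩
      rw [hinter ho hyO (Ne.symm hyo) inter_subset_left hTy] at this
      exact hpx (hTx this)
  · rw [Finset.disjoint_left]
    intro p hpo hpc
    rw [mem_symmDiff] at hpc
    rcases hpc with ⟨hpx, hpy⟩ | ⟨hpy, hpx⟩
    · have : p ∈ o' ∩ x := mem_inter.mpr ⟨hpo, hpx⟩
      rw [hinter ho' hxO (Ne.symm hxo') inter_subset_right hTx] at this
      exact hpy (hTy this)
    · have : p ∈ o' ∩ y := mem_inter.mpr ⟨hpo, hpy⟩
      rw [hinter ho' hyO (Ne.symm hyo') inter_subset_right hTy] at this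
      exact hpx (hTx this)

/-- Two octads meeting in two points have no common disjoint octad. -/
theorem no_common_nbr_of_inter_two {o o' c : Finset GolayPt} (ho : o ∈ octads) (ho' : o' ∈ octads)
    (hc : c ∈ octads) (h2 : (o ∩ o').card = 2) (hd : Disjoint o c) (hd' : Disjoint o' c) :
    False := by
  obtain ⟨v, hv, rfl, hv8⟩ := (mem_octads_iff o).1 ho
  obtain ⟨v', hv', rfl, hv8'⟩ := (mem_octads_iff o').1 ho'
  obtain ⟨u, hu, rfl, hu8⟩ := (mem_octads_iff c).1 hc
  have hw := golay_weights (v + v' + u) (golayCode.add_mem (golayCode.add_mem hv hv') hu)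
  have e1 := Cfsg.Agent.Lib.Helper9.hammingNorm_add v v'
  have e2 := Cfsg.Agent.Lib.Helper9.hammingNorm_add (v + v') u
  have hempty : support₂ (v + v') ∩ support₂ u = ∅ := by
    rw [Cfsg.Agent.Lib.Helper9.support₂_add, ← disjoint_iff_inter_eq_empty, Finset.disjoint_left]
    intro p hp hpu
    rw [mem_symmDiff] at hp
    rcases hp with ⟨hp, _⟩ | ⟨hp, _⟩
    · exact (Finset.disjoint_left.mp hd) hp hpu
    · exact (Finset.disjoint_left.mp hd') hp hpu
  rw [hempty, card_empty] at e2
  simp only [Cfsg.Agent.Lib.Helper9.hammingNorm_eq_card_support₂] at e1 e2 hw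
  omega

/-- If two octads meet in two points, some octad disjoint from the first meets the second in
four points. -/
theorem exists_nbr_inter_four {o o' : Finset GolayPt} (ho : o ∈ octads) (ho' : o' ∈ octads)
    (h2 : (o ∩ o').card = 2) : ∃ a ∈ octads, Disjoint o a ∧ (a ∩ o').card = 4 := by
  classical
  have h30 := octads_disjoint_count ho
  have hne : {c : Finset GolayPt | c ∈ octads ∧ Disjoint o c}.Nonempty := by
    rw [← Set.ncard_pos, h30]; norm_num
  obtain ⟨a, ha, hda⟩ := hne
  have ha' : (o ∪ a)ᶜ ∈ octads := octads_compl_union ho ha hda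
  have hda' : Disjoint o (o ∪ a)ᶜ := by
    rw [Finset.disjoint_left]
    intro p hp hp'
    rw [mem_compl, mem_union] at hp'
    exact hp' (Or.inl hp)
  have hsum : (o' ∩ o).card + (o' ∩ a).card + (o' ∩ (o ∪ a)ᶜ).card = 8 := by
    have h1 := Finset.card_inter_add_card_sdiff o' (o ∪ a)
    rw [Finset.sdiff_eq_inter_compl, inter_union_distrib_left, card_union_of_disjoint, ho'.2] at h1
    · exact h1
    · exact Finset.disjoint_of_subset_left inter_subset_right
        (Finset.disjoint_of_subset_right inter_subset_right hda)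
  rw [inter_comm o' o, h2] at hsum
  have hao' : a ≠ o' := by
    rintro rfl
    rw [Finset.disjoint_iff_inter_eq_empty.mp hda, card_empty] at h2
    omega
  have ha'o' : (o ∪ a)ᶜ ≠ o' := by
    intro h
    rw [← h, Finset.disjoint_iff_inter_eq_empty.mp hda', card_empty] at h2
    omega
  have i1 := octads_inter ha ho' hao'
  have i2 := octads_inter ha' ho' ha'o'
  rw [inter_comm a o'] at i1
  rw [inter_comm _ o'] at i2
  by_cases h4 : (o' ∩ a).card = 4
  · exact ⟨a, ha, hda, by rw [inter_comm]; exact h4⟩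
  · refine ⟨(o ∪ a)ᶜ, ha', hda', ?_⟩
    rw [inter_comm]
    omega

end Cfsg.Agent.Lib.Helper9
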