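import Cfsg.Agent.Lib.Helper9.StabChain

/-!
In a finite abelian `p`-group the automorphisms fixing every element of order dividing `p` form a
normal `p`-subgroup of the automorphism group (helper9).
-/

set_option autoImplicit false

namespace Cfsg.Agent.Lib.Helper9.OmegaFixer

open Subgroup Cfsg.Agent.Lib.Helper9.StabChain

variable {G : Type*} [Group G]

/-- automorphisms fixing `Ω₁` pointwise -/
def omegaFixer (G : Type*) [Group G] (p : ℕ) : Subgroup (MulAut G) where
  carrier := {g | ∀ x : G, x ^ p = 1 → g x = x}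
  one_mem' := fun _ _ => rfl
  mul_mem' := fun {g h} hg hh x hx => by rw [MulAut.mul_apply, hh x hx, hg x hx]
  inv_mem' := fun {g} hg x hx => by
    rw [MulAut.inv_apply, MulEquiv.symm_apply_eq]; exact (hg x hx).symm

theorem mem_omegaFixer (p : ℕ) (g : MulAut G) :
    g ∈ omegaFixer G p ↔ ∀ x : G, x ^ p = 1 → g x = x := Iff.rfl

instance omegaFixer_normal (p : ℕ) : (omegaFixer G p).Normal := ⟨fun g hg h x hx => by
  show h (g (h⁻¹ x)) = x
  have h1 : (h⁻¹ x) ^ p = 1 := by rw [← map_pow, hx, map_one]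
  rw [hg _ h1, MulAut.apply_inv_self]⟩

theorem omegaFixer_isPGroup [Finite G] (p : ℕ) [hp : Fact p.Prime]
    (hcomm : ∀ x y : G, x * y = y * x) (hG : IsPGroup p G) : IsPGroup p (omegaFixer G p) := by
  rintro ⟨g, hg⟩
  have hmul : ∀ x y : G, (x * y) ^ p = x ^ p * y ^ p :=
    fun x y => Commute.mul_pow (show Commute x y from hcomm x y) p
  have key : ∀ m : ℕ, ∃ e : ℕ, ∀ x : G, x ^ (p ^ m) = 1 → (g ^ (p ^ e)) x = x := by
    intro m
    induction m with
    | zero =>
      refine ⟨0, fun x hx => ?_⟩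
      rw [pow_zero, pow_one] at hx
      rw [hx, map_one]
    | succ m ih =>
      obtain ⟨e, he⟩ := ih
      refine ⟨e + 1, fun x hx => ?_⟩
      have hg' : g ^ (p ^ e) ∈ omegaFixer G p := pow_mem hg _
      have hxp : (x ^ p) ^ (p ^ m) = 1 := by rw [← pow_mul, ← pow_succ']; exact hx
      have hc : (x⁻¹ * (g ^ (p ^ e)) x) ^ p = 1 := by
        rw [hmul, inv_pow, ← map_pow, he _ hxp, inv_mul_cancel]
      have h1 := pow_apply_of_fix (g ^ (p ^ e)) x (hg' _ hc) p
      rw [hc, mul_one, ← pow_mul, ← pow_succ] at h1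
      exact h1
  obtain ⟨n, hn⟩ := IsPGroup.iff_card.1 hG
  obtain ⟨e, he⟩ := key n
  refine ⟨e, Subtype.ext ?_⟩
  ext x
  exact he x (by rw [← hn]; exact pow_card_eq_one')

end Cfsg.Agent.Lib.Helper9.OmegaFixer
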