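import Mathlib
import Cfsg.Agent.Lib.Helper9.Automizer
import Cfsg.Agent.Lib.Helper9.SymEmbed

/-!
Simple groups whose order is a product of four primes (helper9).
-/

set_option autoImplicit false

namespace Cfsg.Agent.Lib.Helper9.P2QR

open Subgroup Cfsg.Agent.Lib.Helper9

variable {G : Type*} [Group G] [Finite G]

theorem ne_pow_of_card_eq {l m e : ℕ} (hl : l.Prime) (he : 0 < e) (hcard : Nat.card G = m * l ^ e)
    (hm : ¬ l ∣ m) (hm1 : m ≠ 1) : ∀ k : ℕ, Nat.card G ≠ l ^ k := by
  intro k hk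
  rw [hcard] at hk
  have hmd : m ∣ l ^ k := Dvd.intro _ hk
  obtain ⟨i, _, rfl⟩ := (Nat.dvd_prime_pow hl).mp hmd
  rcases i with _ | i
  · exact hm1 (pow_zero l)
  · exact hm (dvd_pow_self l (Nat.succ_ne_zero i))

theorem index_sylow_of_card_eq {l m e : ℕ} [Fact l.Prime] (hcard : Nat.card G = m * l ^ e)
    (hm : ¬ l ∣ m) (S : Sylow l G) : (S : Subgroup G).index = m := by
  have h1 := card_sylow_subgroup_of_card_eq hcard hm S
  have h2 := (S : Subgroup G).card_mul_index
  rw [h1, hcard, mul_comm] at h2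
  exact Nat.eq_of_mul_eq_mul_right (pow_pos (Fact.out : l.Prime).pos e) h2

/-- L1: a Sylow subgroup of prime order `l` in a simple group: some prime divisor of the
cofactor divides `l - 1`. -/
theorem exists_prime_dvd_pred [IsSimpleGroup G] {l m : ℕ} [Fact l.Prime]
    (hcard : Nat.card G = m * l) (hm : ¬ l ∣ m) (hm1 : m ≠ 1) :
    ∃ t : ℕ, t.Prime ∧ t ∣ m ∧ t ∣ l - 1 := by
  have hl : l.Prime := Fact.out
  have hcard' : Nat.card G = m * l ^ 1 := by rw [pow_one]; exact hcard
  obtain ⟨S⟩ : Nonempty (Sylow l G) := inferInstance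
  have hS : Nat.card (S : Subgroup G) = l := by
    have := card_sylow_subgroup_of_card_eq hcard' hm S
    rwa [pow_one] at this
  have hcyc : IsCyclic (S : Subgroup G) := isCyclic_of_prime_card hS
  have hc : IsMulCommutative (S : Subgroup G) :=
    ⟨⟨fun a b => (IsCyclic.commGroup (α := (S : Subgroup G))).mul_comm a b⟩⟩
  have hld : l ∣ Nat.card G := hcard ▸ Dvd.intro_left m rfl
  obtain ⟨t, ht, htd, d, hd, hdne, hmod⟩ :=
    exists_prime_modEq S hc hld (ne_pow_of_card_eq hl one_pos hcard' hm hm1)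
  rw [index_sylow_of_card_eq hcard' hm S] at htd
  have hS' : Nat.card S = l := hS
  rw [hS'] at hd hdne hmod
  have hd1 : d = 1 := by
    rcases (Nat.dvd_prime hl).mp hd with h | h
    · exact h
    · exact absurd h hdne
  rw [hd1] at hmod
  exact ⟨t, ht, htd, (Nat.modEq_iff_dvd' hl.one_lt.le).mp hmod.symm⟩

/-- L2: a Sylow subgroup of order `l²` in a simple group. -/
theorem exists_prime_dvd_pred_or_succ [IsSimpleGroup G] {l m : ℕ} [Fact l.Prime]
    (hcard : Nat.card G = m * l ^ 2) (hm : ¬ l ∣ m) (hm1 : m ≠ 1) :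
    ∃ t : ℕ, t.Prime ∧ t ∣ m ∧ (t ∣ l - 1 ∨ t ∣ l + 1) := by
  have hl : l.Prime := Fact.out
  obtain ⟨S⟩ : Nonempty (Sylow l G) := inferInstance
  have hS : Nat.card (S : Subgroup G) = l ^ 2 := card_sylow_subgroup_of_card_eq hcard hm S
  have hc : IsMulCommutative (S : Subgroup G) := IsPGroup.isMulCommutative_of_card_eq_prime_sq hS
  have hld : l ∣ Nat.card G := hcard ▸ Dvd.dvd.mul_left (dvd_pow_self l two_ne_zero) m
  obtain ⟨t, ht, htd, d, hd, hdne, hmod⟩ :=
    exists_prime_modEq S hc hld (ne_pow_of_card_eq hl two_pos hcard hm hm1)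
  rw [index_sylow_of_card_eq hcard hm S] at htd
  have hS' : Nat.card S = l ^ 2 := hS
  rw [hS'] at hd hdne hmod
  refine ⟨t, ht, htd, ?_⟩
  obtain ⟨i, hi, rfl⟩ := (Nat.dvd_prime_pow hl).mp hd
  have hl1 : 1 ≤ l := hl.one_lt.le
  interval_cases i
  · rw [pow_zero] at hmod
    have h1 : t ∣ l ^ 2 - 1 := (Nat.modEq_iff_dvd' (Nat.one_le_pow _ _ hl.pos)).mp hmod.symm
    have h2 : l ^ 2 - 1 = (l - 1) * (l + 1) := by
      obtain ⟨k, rfl⟩ : ∃ k, l = k + 1 := ⟨l - 1, by omega⟩
      simp only [Nat.add_sub_cancel]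
      have : (k + 1) ^ 2 = k * (k + 1 + 1) + 1 := by ring
      rw [this, Nat.add_sub_cancel]
    rw [h2] at h1
    exact (Nat.Prime.dvd_mul ht).mp h1
  · rw [pow_one] at hmod
    have hle : l ≤ l ^ 2 := by rw [pow_two]; exact Nat.le_mul_of_pos_left l hl.pos
    have h1 : t ∣ l ^ 2 - l := (Nat.modEq_iff_dvd' hle).mp hmod.symm
    have h2 : l ^ 2 - l = l * (l - 1) := by
      rw [pow_two, Nat.mul_sub, mul_one]
    rw [h2] at h1
    rcases (Nat.Prime.dvd_mul ht).mp h1 with h | h
    · exfalso
      have : t = l := (Nat.prime_dvd_prime_iff_eq ht hl).mp h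
      exact hm (this ▸ htd)
    · exact Or.inl h
  · exact absurd rfl hdne

/-- L3: the order of a non-abelian simple group divides `n_p !`. -/
theorem card_dvd_factorial_card_sylow [IsSimpleGroup G] (hG : ¬ IsMulCommutative G) {p : ℕ}
    [Fact p.Prime] (h1 : Nat.card (Sylow p G) ≠ 1) :
    Nat.card G ∣ (Nat.card (Sylow p G)).factorial := by
  obtain ⟨P⟩ : Nonempty (Sylow p G) := inferInstance
  have hidx := Sylow.card_eq_index_normalizer P
  rw [hidx]
  apply card_dvd_factorial_index hG
  intro htop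
  rw [htop, Subgroup.index_top] at hidx
  exact h1 hidx

/-- L4: a self-normalizing Sylow subgroup of prime order is impossible in a simple group. -/
theorem false_of_card_sylow_eq [IsSimpleGroup G] {l m : ℕ} [Fact l.Prime]
    (hcard : Nat.card G = m * l) (hm : ¬ l ∣ m) (hm1 : m ≠ 1)
    (hn : Nat.card (Sylow l G) = m) : False := by
  have hl : l.Prime := Fact.out
  have hcard' : Nat.card G = m * l ^ 1 := by rw [pow_one]; exact hcard
  obtain ⟨S⟩ : Nonempty (Sylow l G) := inferInstance
  have hS : Nat.card (S : Subgroup G) = l := by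
    have := card_sylow_subgroup_of_card_eq hcard' hm S
    rwa [pow_one] at this
  have hcyc : IsCyclic (S : Subgroup G) := isCyclic_of_prime_card hS
  have hld : l ∣ Nat.card G := hcard ▸ Dvd.intro_left m rfl
  have h1 := card_sylow_mul_card_normalizer S
  rw [hn, hcard] at h1
  have hm0 : 0 < m := by
    rcases Nat.eq_zero_or_pos m with h | h
    · exfalso; rw [h, zero_mul] at hcard
      exact (Nat.card_pos (α := G)).ne' hcard
    · exact h
  have h2 : Nat.card (normalizer ((S : Subgroup G) : Set G)) = l := Nat.eq_of_mul_eq_mul_left hm0 h1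
  have h3 := relIndex_normalizer_mul_card S
  rw [h2, hS] at h3
  have h4 : (S : Subgroup G).relIndex (normalizer ((S : Subgroup G) : Set G)) = 1 := by
    have : (S : Subgroup G).relIndex (normalizer ((S : Subgroup G) : Set G)) * l = 1 * l := by
      rw [h3, one_mul]
    exact Nat.eq_of_mul_eq_mul_right hl.pos this
  apply false_of_simple_of_normalizer_le_centralizer S hld
    (ne_pow_of_card_eq hl one_pos hcard' hm hm1)
  apply normalizer_le_centralizer_of_coprime S hcyc
  rw [h4]
  exact Nat.coprime_one_left _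


/-- M1: the smallest prime divisor cannot occur with multiplicity one. -/
theorem false_of_min_prime_mult_one [IsSimpleGroup G] {l m : ℕ} (hl : l.Prime)
    (hcard : Nat.card G = m * l) (hmin : ∀ t : ℕ, t.Prime → t ∣ m → l < t) (hm1 : m ≠ 1) :
    False := by
  haveI := Fact.mk hl
  have hm : ¬ l ∣ m := fun h => lt_irrefl l (hmin l hl h)
  obtain ⟨t, ht, htm, htl⟩ := exists_prime_dvd_pred hcard hm hm1
  have h1 := hmin t ht htm
  have h2 := Nat.le_of_dvd (by have := hl.two_le; omega) htl
  omega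

/-- M0: a simple group is not of order `p⁴`. -/
theorem false_of_card_prime_pow_four [IsSimpleGroup G] (hG : ¬ IsMulCommutative G) {p : ℕ}
    (hp : p.Prime) (hcard : Nat.card G = p ^ 4) : False := by
  haveI := Fact.mk hp
  have hPG : IsPGroup p G := IsPGroup.of_card hcard
  haveI : Nontrivial G := IsSimpleGroup.toNontrivial
  have hZ := hPG.center_nontrivial
  rcases (inferInstance : (center G).Normal).eq_bot_or_eq_top with h | h
  · rw [h] at hZ
    exact not_nontrivial _ hZ
  · apply hG
    refine ⟨⟨fun a b => ?_⟩⟩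
    have : b ∈ center G := h ▸ mem_top b
    exact mem_center_iff.mp this a

theorem succ_prime_eq_two {a : ℕ} (ha : a.Prime) (ht : (a + 1).Prime) : a = 2 := by
  rcases ha.eq_two_or_odd' with h | h
  · exact h
  · exfalso
    have heven : 2 ∣ a + 1 := by
      obtain ⟨k, hk⟩ := h
      exact ⟨k + 1, by omega⟩
    have := (Nat.prime_dvd_prime_iff_eq Nat.prime_two ht).mp heven
    have := ha.two_le
    omega

theorem num_aux_36 {n : ℕ} (h1 : n ∣ 4) (h2 : n ≡ 1 [MOD 3]) (h3 : n ≠ 1) : n = 4 := by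
  have hle := Nat.le_of_dvd (by norm_num) h1
  interval_cases n
  · simp at h1
  · exact absurd rfl h3
  · exact absurd h2 (by decide)
  · exact absurd h1 (by decide)
  · rfl

theorem num_aux_24 {n : ℕ} (h1 : n ∣ 3) (h3 : n ≠ 1) : n = 3 := by
  rcases (Nat.dvd_prime Nat.prime_three).mp h1 with h | h
  · exact absurd h h3
  · exact h

theorem num_aux_12 {n d : ℕ} (hd : d.Prime) (hd5 : 5 ≤ d) (h1 : n ∣ 12) (h2 : n ≡ 1 [MOD d])
    (h3 : n ≠ 1) : (n = 6 ∧ d = 5) ∨ (n = 12 ∧ d = 11) := by
  have hle := Nat.le_of_dvd (by norm_num) h1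
  have hpos : 0 < n := Nat.pos_of_dvd_of_pos h1 (by norm_num)
  have h4 : d ∣ n - 1 := (Nat.modEq_iff_dvd' hpos).mp h2.symm
  have hn2 : 2 ≤ n := by omega
  have h5 : d ≤ n - 1 := Nat.le_of_dvd (by omega) h4
  interval_cases n
  all_goals first
    | omega
    | exact absurd h1 (by decide)
    | skip
  · right
    refine ⟨rfl, ?_⟩
    have h6 : d ∣ 11 := h4
    exact (Nat.prime_dvd_prime_iff_eq hd (by norm_num)).mp h6

/-- M3: no simple group of order `a³ d`. -/
theorem false_of_card_cube_mul [IsSimpleGroup G] (hG : ¬ IsMulCommutative G) {a d : ℕ}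
    (ha : a.Prime) (hd : d.Prime) (had : a < d) (hcard : Nat.card G = a ^ 3 * d) : False := by
  haveI := Fact.mk hd
  haveI := Fact.mk ha
  have ha2 := ha.two_le
  have hcard' : Nat.card G = a ^ 3 * d ^ 1 := by rw [pow_one]; exact hcard
  have hm : ¬ d ∣ a ^ 3 := by
    intro h
    have := (Nat.prime_dvd_prime_iff_eq hd ha).mp (hd.dvd_of_dvd_pow h)
    omega
  have hm1 : a ^ 3 ≠ 1 := by
    have : 2 ^ 3 ≤ a ^ 3 := Nat.pow_le_pow_left ha2 3
    omega
  have hdd : d ∣ Nat.card G := hcard ▸ Dvd.intro_left _ rfl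
  have hnp := ne_pow_of_card_eq hd one_pos hcard' hm hm1
  have h1 := card_sylow_dvd_of_card_eq hcard' hm
  have h2 := card_sylow_modEq_one d G
  have h3 : Nat.card (Sylow d G) ≠ 1 := card_sylow_ne_one_of_simple hdd hnp
  obtain ⟨i, hi, hn⟩ := (Nat.dvd_prime_pow ha).mp h1
  interval_cases i
  · exact h3 (by rw [hn, pow_zero])
  · rw [hn, pow_one] at h2
    have : a % d = 1 % d := h2
    rw [Nat.mod_eq_of_lt had, Nat.mod_eq_of_lt hd.one_lt] at this
    omega
  · rw [hn] at h2
    have h4 : d ∣ a ^ 2 - 1 := (Nat.modEq_iff_dvd' (Nat.one_le_pow _ _ ha.pos)).mp h2.symm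
    have h5 : a ^ 2 - 1 = (a - 1) * (a + 1) := by
      obtain ⟨k, rfl⟩ : ∃ k, a = k + 1 := ⟨a - 1, by omega⟩
      simp only [Nat.add_sub_cancel]
      have : (k + 1) ^ 2 = k * (k + 1 + 1) + 1 := by ring
      rw [this, Nat.add_sub_cancel]
    rw [h5] at h4
    have hda : d = a + 1 := by
      rcases (Nat.Prime.dvd_mul hd).mp h4 with h | h
      · have := Nat.le_of_dvd (by omega) h; omega
      · have := Nat.le_of_dvd (by omega) h; omega
    have ha_eq : a = 2 := succ_prime_eq_two ha (hda ▸ hd)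
    subst ha_eq
    have hd3 : d = 3 := hda
    subst hd3
    have hc24 : Nat.card G = 3 * 2 ^ 3 := by rw [hcard]; norm_num
    have h6 := card_sylow_dvd_of_card_eq hc24 (by norm_num)
    have h7 : Nat.card (Sylow 2 G) ≠ 1 :=
      card_sylow_ne_one_of_simple (by rw [hcard]; norm_num)
        (ne_pow_of_card_eq Nat.prime_two (by norm_num) hc24 (by norm_num) (by norm_num))
    have h8 := num_aux_24 h6 h7
    have h9 := card_dvd_factorial_card_sylow hG h7
    rw [h8, hcard] at h9
    norm_num [Nat.factorial] at h9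
  · exact false_of_card_sylow_eq hcard hm hm1 hn

/-- M2: a simple group of order `a² c d` with `a < c ≤ d` has order 60. -/
theorem card_eq_sixty [IsSimpleGroup G] (hG : ¬ IsMulCommutative G) {a c d : ℕ}
    (ha : a.Prime) (hc : c.Prime) (hd : d.Prime) (hac : a < c) (hcd : c ≤ d)
    (hcard : Nat.card G = a ^ 2 * c * d) : Nat.card G = 60 := by
  haveI := Fact.mk ha
  have ha2 := ha.two_le
  have hcard' : Nat.card G = (c * d) * a ^ 2 := by rw [hcard]; ring
  have hm : ¬ a ∣ c * d := by
    intro h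
    rcases (Nat.Prime.dvd_mul ha).mp h with h | h
    · have := (Nat.prime_dvd_prime_iff_eq ha hc).mp h; omega
    · have := (Nat.prime_dvd_prime_iff_eq ha hd).mp h; omega
  have hm1 : c * d ≠ 1 := by
    have := hc.two_le
    have := hd.two_le
    nlinarith
  obtain ⟨t, ht, htd, hor⟩ := exists_prime_dvd_pred_or_succ hcard' hm hm1
  have hta : a < t := by
    rcases (Nat.Prime.dvd_mul ht).mp htd with h | h
    · have := (Nat.prime_dvd_prime_iff_eq ht hc).mp h; omega
    · have := (Nat.prime_dvd_prime_iff_eq ht hd).mp h; omega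
  have hta1 : t = a + 1 := by
    rcases hor with h | h
    · have := Nat.le_of_dvd (by omega) h; omega
    · have := Nat.le_of_dvd (by omega) h; omega
  have ha_eq : a = 2 := succ_prime_eq_two ha (hta1 ▸ ht)
  subst ha_eq
  have ht3 : t = 3 := hta1
  have hc3 : c = 3 := by
    rcases (Nat.Prime.dvd_mul ht).mp htd with h | h
    · have := (Nat.prime_dvd_prime_iff_eq ht hc).mp h; omega
    · have := (Nat.prime_dvd_prime_iff_eq ht hd).mp h; omega
  subst hc3
  have hN : Nat.card G = 12 * d := by rw [hcard]; ring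
  rcases Nat.lt_or_ge d 5 with hd5 | hd5
  · have hd3 : d = 3 := by
      interval_cases d
      · rfl
      · exact absurd hd (by norm_num)
    subst hd3
    haveI : Fact (Nat.Prime 3) := ⟨Nat.prime_three⟩
    have hc36 : Nat.card G = 4 * 3 ^ 2 := by rw [hN]; norm_num
    have h1 := card_sylow_dvd_of_card_eq hc36 (by norm_num)
    have h2 := card_sylow_modEq_one 3 G
    have h3 : Nat.card (Sylow 3 G) ≠ 1 :=
      card_sylow_ne_one_of_simple (by rw [hN]; norm_num)
        (ne_pow_of_card_eq Nat.prime_three two_pos hc36 (by norm_num) (by norm_num))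
    have h4 := num_aux_36 h1 h2 h3
    have h5 := card_dvd_factorial_card_sylow hG h3
    rw [h4, hN] at h5
    norm_num [Nat.factorial] at h5
  · haveI := Fact.mk hd
    have hc12 : Nat.card G = 12 * d ^ 1 := by rw [pow_one]; exact hN
    have hm12 : ¬ d ∣ 12 := by
      intro h
      have h' : d ∣ 2 ^ 2 * 3 := h
      rcases (Nat.Prime.dvd_mul hd).mp h' with h | h
      · have := Nat.le_of_dvd (by norm_num) (hd.dvd_of_dvd_pow h); omega
      · have := Nat.le_of_dvd (by norm_num) h; omega
    have hdd : d ∣ Nat.card G := hN ▸ Dvd.intro_left _ rfl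
    have hnp := ne_pow_of_card_eq hd one_pos hc12 hm12 (by norm_num)
    have h1 := card_sylow_dvd_of_card_eq hc12 hm12
    have h2 := card_sylow_modEq_one d G
    have h3 : Nat.card (Sylow d G) ≠ 1 := card_sylow_ne_one_of_simple hdd hnp
    rcases num_aux_12 hd hd5 h1 h2 h3 with ⟨_, h5⟩ | ⟨h12, _⟩
    · rw [hN, h5]
    · exfalso
      exact false_of_card_sylow_eq hN hm12 (by norm_num) h12

theorem main_aux [IsSimpleGroup G] {p q r : ℕ} (hp : p.Prime) (hq : q.Prime) (hr : r.Prime)
    (hqr : q ≤ r) (hcard : Nat.card G = p ^ 2 * q * r) : Nat.card G = 60 := by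
  have hp2 := hp.two_le
  have hq2 := hq.two_le
  have hr2 := hr.two_le
  have hnprime : ¬ (Nat.card G).Prime := by
    rw [hcard]
    have : p ^ 2 * q * r = p * (p * q * r) := by ring
    rw [this]
    apply Nat.not_prime_mul (by omega)
    have : 2 * 2 * 2 ≤ p * q * r := Nat.mul_le_mul (Nat.mul_le_mul hp2 hq2) hr2
    omega
  have hG : ¬ IsMulCommutative G := not_isMulCommutative_of_simple_of_not_prime hnprime
  rcases lt_trichotomy p q with hpq | hpq | hpq
  · exact card_eq_sixty hG hp hq hr hpq hqr hcard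
  · subst hpq
    rcases hqr.lt_or_eq with h | h
    · exfalso
      exact false_of_card_cube_mul hG hp hr h (by rw [hcard]; ring)
    · subst h
      exfalso
      exact false_of_card_prime_pow_four hG hp (by rw [hcard]; ring)
  · rcases hqr.lt_or_eq with h | h
    · exfalso
      apply false_of_min_prime_mult_one hq (m := p ^ 2 * r) (by rw [hcard]; ring)
      · intro t ht htd
        rcases (Nat.Prime.dvd_mul ht).mp htd with h' | h'
        · have := (Nat.prime_dvd_prime_iff_eq ht hp).mp (ht.dvd_of_dvd_pow h'); omega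
        · have := (Nat.prime_dvd_prime_iff_eq ht hr).mp h'; omega
      · have : 2 ^ 2 * 2 ≤ p ^ 2 * r := Nat.mul_le_mul (Nat.pow_le_pow_left hp2 2) hr2
        omega
    · subst h
      exact card_eq_sixty hG hq hp hp hpq le_rfl (by rw [hcard]; ring)

/-- A simple group of order `p² q r` has order 60. -/
theorem card_eq_sixty_of_p2qr [IsSimpleGroup G] {p q r : ℕ} (hp : p.Prime) (hq : q.Prime)
    (hr : r.Prime) (hcard : Nat.card G = p ^ 2 * q * r) : Nat.card G = 60 := by
  rcases le_total q r with h | h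
  · exact main_aux hp hq hr h hcard
  · exact main_aux hp hr hq h (by rw [hcard]; ring)

end Cfsg.Agent.Lib.Helper9.P2QR
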