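import Cfsg.Agent.Lib.Helper9.StabChain
import Cfsg.Agent.Lib.Helper17.OrderPCube
import Cfsg.Agent.Lib.Helper18.ESBasic
import Cfsg.Agent.Lib.Helper12.Class2Exp4
import Cfsg.Agent.Lib.Lead.QuatIso

/-!
Groups of order `p³` whose automorphism group has two `p`-elements generating a non-`p`-group
(helper9): elementary abelian, extraspecial of exponent `p` (`p` odd), or `Q₈`.
-/

set_option autoImplicit false
set_option linter.style.haveILetI false
set_option linter.unusedSectionVars false

namespace Cfsg.Agent.Lib.Helper9.PCubeAut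

open Subgroup Cfsg Cfsg.Agent.Lib.Helper9
open scoped commutatorElement

variable {G : Type*} [Group G]

theorem ker_characteristic (f : G →* G) (hf : ∀ (g : MulAut G) (x : G), f (g x) = g (f x)) :
    f.ker.Characteristic := by
  rw [characteristic_iff_map_le]
  rintro ϕ _ ⟨x, hx, rfl⟩
  have hx' : f x = 1 := hx
  show f (ϕ x) = 1
  rw [hf ϕ x, hx', map_one]

theorem range_characteristic (f : G →* G) (hf : ∀ (g : MulAut G) (x : G), f (g x) = g (f x)) :
    f.range.Characteristic := by
  rw [characteristic_iff_map_le]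
  rintro ϕ _ ⟨_, ⟨x, rfl⟩, rfl⟩
  exact ⟨ϕ x, hf ϕ x⟩

variable [Finite G] (p : ℕ) [hp : Fact p.Prime]

/-- the `p`-power endomorphism -/
noncomputable def powHom (hmul : ∀ x y : G, (x * y) ^ p = x ^ p * y ^ p) : G →* G :=
  MonoidHom.mk' (fun x => x ^ p) hmul

theorem powHom_apply (hmul : ∀ x y : G, (x * y) ^ p = x ^ p * y ^ p) (x : G) :
    powHom p hmul x = x ^ p := rfl

theorem powHom_comm (hmul : ∀ x y : G, (x * y) ^ p = x ^ p * y ^ p) (g : MulAut G) (x : G) :
    powHom p hmul (g x) = g (powHom p hmul x) := by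
  rw [powHom_apply, powHom_apply, map_pow]

theorem card_range_mul_card_ker (f : G →* G) : Nat.card f.range * Nat.card f.ker = Nat.card G := by
  rw [← index_ker, mul_comm, card_mul_index]

include hp in
theorem abelian_case (hcard : Nat.card G = p ^ 3) (hcomm : ∀ x y : G, x * y = y * x)
    (hexp : ¬ ∀ x : G, x ^ p = 1) (a b : MulAut G) (ha : ∃ k : ℕ, a ^ (p ^ k) = 1)
    (hb : ∃ k : ℕ, b ^ (p ^ k) = 1) : IsPGroup p (closure {a, b}) := by
  have hp0 := hp.out.pos
  have hmul : ∀ x y : G, (x * y) ^ p = x ^ p * y ^ p := fun x y => Commute.mul_pow (show Commute x y from hcomm x y) p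
  set f : G →* G := powHom p hmul with hf
  haveI hK := range_characteristic f (powHom_comm p hmul)
  haveI hM := ker_characteristic f (powHom_comm p hmul)
  have hKM : Nat.card f.range * Nat.card f.ker = p ^ 3 := by
    rw [card_range_mul_card_ker, hcard]
  have hMtop : f.ker ≠ ⊤ := by
    intro h
    apply hexp
    intro x
    have : x ∈ f.ker := h ▸ mem_top x
    exact this
  have hMbot : f.ker ≠ ⊥ := by
    obtain ⟨x, hx⟩ := exists_prime_orderOf_dvd_card' (G := G) p
      (by rw [hcard]; exact dvd_pow_self p (by norm_num))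
    intro h
    have hx1 : x ∈ f.ker := by
      show x ^ p = 1
      rw [← hx, pow_orderOf_eq_one]
    rw [h, mem_bot] at hx1
    rw [hx1, orderOf_one] at hx
    exact hp.out.one_lt.ne hx
  obtain ⟨i, hi, hci⟩ := (Nat.dvd_prime_pow hp.out).1 (hcard ▸ card_subgroup_dvd_card f.ker)
  have hi0 : i ≠ 0 := by
    rintro rfl
    rw [pow_zero] at hci
    exact hMbot (card_eq_one.1 hci)
  have hi3 : i ≠ 3 := by
    rintro rfl
    apply hMtop
    exact (card_eq_iff_eq_top _).1 (hci.trans hcard.symm)
  have hi12 : i = 1 ∨ i = 2 := by omega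
  rcases hi12 with rfl | rfl
  · have hcK : Nat.card f.range = p ^ 2 := by
      rw [hci, pow_one] at hKM
      apply Nat.eq_of_mul_eq_mul_right hp0
      rw [hKM]; ring
    have hle : f.ker ≤ f.range := by
      obtain ⟨y, hy⟩ := exists_prime_orderOf_dvd_card' (G := f.range) p
        (by rw [hcK]; exact dvd_pow_self p (by norm_num))
      have hy' : orderOf (y : G) = p := by rw [Subgroup.orderOf_coe, hy]
      have hy1 : (y : G) ∈ f.ker := by
        show (y : G) ^ p = 1
        rw [← hy', pow_orderOf_eq_one]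
      have h1 : zpowers (y : G) = f.ker :=
        eq_of_le_of_card_ge ((zpowers_le (H := f.ker)).2 hy1)
          (by rw [Nat.card_zpowers, hy', hci, pow_one])
      rw [← h1, zpowers_le]
      exact y.2
    exact StabChain.isPGroup_closure_pair p f.ker f.range hle (by rw [hci, pow_one]) hcK hcard
      a b ha hb
  · have hcK : Nat.card f.range = p := by
      rw [hci] at hKM
      apply Nat.eq_of_mul_eq_mul_right (pow_pos hp0 2)
      rw [hKM]; ring
    have hle : f.range ≤ f.ker := by
      rintro _ ⟨x, rfl⟩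
      show (f x) ^ p = 1
      have h1 := pow_card_eq_one' (G := f.range) (x := ⟨f x, x, rfl⟩)
      rw [hcK] at h1
      exact congrArg Subtype.val h1
    exact StabChain.isPGroup_closure_pair p f.range f.ker hle hcK hci hcard a b ha hb

include hp in
theorem odd_case (hcard : Nat.card G = p ^ 3) (hnc : ∃ a b : G, a * b ≠ b * a) (hodd : p ≠ 2)
    (hexp : ¬ ∀ x : G, x ^ p = 1) (a b : MulAut G) (ha : ∃ k : ℕ, a ^ (p ^ k) = 1)
    (hb : ∃ k : ℕ, b ^ (p ^ k) = 1) : IsPGroup p (closure {a, b}) := by
  have hp0 := hp.out.pos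
  have hE := Cfsg.Agent.Lib.Helper17.isExtraspecial_of_card_cube hcard hnc
  have hES := Cfsg.Agent.Lib.Helper18.ES.isES_of_isExtraspecial hE
  have hZ : Nat.card (center G) = p := hE.2
  have hcen : ∀ x y : G, ⁅x, y⁆ ∈ center G := by
    intro x y
    rw [commutatorElement_def]
    exact hES.2 x y
  have hmul : ∀ x y : G, (x * y) ^ p = x ^ p * y ^ p := by
    intro x y
    rw [Cfsg.Agent.Lib.Helper12.Class2Exp4.mul_pow_cc x y
      (fun g => (mem_center_iff.1 (hcen y x) g).symm) p]
    have h1 : p ∣ p.choose 2 := hp.out.dvd_choose_self (by norm_num)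
      (lt_of_le_of_ne hp.out.two_le (Ne.symm hodd))
    obtain ⟨t, ht⟩ := h1
    rw [ht, pow_mul, hES.pow_eq_one_of_mem_center (hcen y x), one_pow, mul_one]
  set f : G →* G := powHom p hmul with hf
  haveI hK := range_characteristic f (powHom_comm p hmul)
  haveI hM := ker_characteristic f (powHom_comm p hmul)
  have hKM : Nat.card f.range * Nat.card f.ker = p ^ 3 := by
    rw [card_range_mul_card_ker, hcard]
  have hKZ : f.range ≤ center G := by
    rintro _ ⟨x, rfl⟩
    exact hES.pow_mem_center x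
  have hKbot : f.range ≠ ⊥ := by
    intro h
    apply hexp
    intro x
    have h1 : f x ∈ f.range := ⟨x, rfl⟩
    rw [h, mem_bot] at h1
    exact h1
  have hcK : Nat.card f.range = p := by
    have h1 : Nat.card f.range ∣ p := hZ ▸ card_dvd_of_le hKZ
    rcases (Nat.dvd_prime hp.out).1 h1 with h | h
    · exact absurd (card_eq_one.1 h) hKbot
    · exact h
  have hcM : Nat.card f.ker = p ^ 2 := by
    rw [hcK] at hKM
    apply Nat.eq_of_mul_eq_mul_left hp0
    rw [hKM]; ring
  have hle : center G ≤ f.ker := fun z hz => hES.pow_eq_one_of_mem_center hz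
  exact StabChain.isPGroup_closure_pair p (center G) f.ker hle hZ hcM hcard a b ha hb

theorem two_case (hcard : Nat.card G = 2 ^ 3) (hnc : ∃ a b : G, a * b ≠ b * a)
    (a b : MulAut G) (ha : ∃ k : ℕ, a ^ (2 ^ k) = 1) (hb : ∃ k : ℕ, b ^ (2 ^ k) = 1)
    (hnp : ¬ IsPGroup 2 (closure {a, b})) : Nonempty (G ≃* QuaternionGroup 2) := by
  haveI : Fact (Nat.Prime 2) := ⟨Nat.prime_two⟩
  have hE := Cfsg.Agent.Lib.Helper17.isExtraspecial_of_card_cube (p := 2) hcard hnc
  have hES := Cfsg.Agent.Lib.Helper18.ES.isES_of_isExtraspecial hE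
  have hZ : Nat.card (center G) = 2 := hE.2
  have hcen : ∀ x y : G, ⁅x, y⁆ ∈ center G := by
    intro x y
    rw [commutatorElement_def]
    exact hES.2 x y
  have hsq : ∀ x : G, x ^ 2 ∈ center G := hES.pow_mem_center
  have h4 : ∀ x : G, x ^ 4 = 1 := fun x => by
    have h1 := hES.pow_eq_one_of_mem_center (hsq x)
    rw [← pow_mul] at h1
    exact h1
  have huniq : ∀ u v : G, u ∈ center G → v ∈ center G → u ≠ 1 → v ≠ 1 → u = v := by
    intro u v hu hv hu1 hv1
    obtain ⟨w, -, hw⟩ := (Nat.card_eq_two_iff' (1 : center G)).1 hZ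
    have h1 := hw ⟨u, hu⟩ (fun h => hu1 (congrArg Subtype.val h))
    have h2 := hw ⟨v, hv⟩ (fun h => hv1 (congrArg Subtype.val h))
    exact congrArg Subtype.val (h1.trans h2.symm)
  have hord : ∀ x : G, x ^ 2 ≠ 1 → orderOf x = 4 := by
    intro x hx
    have h1 : orderOf x ∣ 2 ^ 2 := orderOf_dvd_of_pow_eq_one (h4 x)
    obtain ⟨i, hi, hi'⟩ := (Nat.dvd_prime_pow Nat.prime_two).1 h1
    interval_cases i
    · exfalso; apply hx
      rw [pow_zero, orderOf_eq_one_iff] at hi'
      rw [hi', one_pow]
    · exfalso; apply hx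
      rw [pow_one] at hi'
      rw [← hi', pow_orderOf_eq_one]
    · exact hi'
  obtain ⟨c, hc⟩ : ∃ c : G, c ^ 2 ≠ 1 := by
    by_contra hcon
    push Not at hcon
    obtain ⟨x, y, hxy⟩ := hnc
    apply hxy
    have hinv : ∀ g : G, g⁻¹ = g := fun g => by
      rw [inv_eq_iff_mul_eq_one, ← sq]; exact hcon g
    calc x * y = (x * y)⁻¹ := (hinv _).symm
      _ = y⁻¹ * x⁻¹ := mul_inv_rev _ _
      _ = y * x := by rw [hinv, hinv]
  by_cases hQ : ∃ c d : G, c ^ 2 ≠ 1 ∧ d ^ 2 ≠ 1 ∧ zpowers c ≠ zpowers d
  · obtain ⟨c, d, hc, hd, hne⟩ := hQ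
    have hoc := hord c hc
    have hod := hord d hd
    have hcd : d ^ 2 = c ^ 2 := huniq _ _ (hsq d) (hsq c) hd hc
    have hdn : d ∉ zpowers c := by
      intro h
      apply hne
      symm
      apply eq_of_le_of_card_ge ((zpowers_le (H := zpowers c)).2 h)
      rw [Nat.card_zpowers, Nat.card_zpowers, hoc, hod]
    have hne1 : ⁅d, c⁆ ≠ 1 := by
      intro h
      have hdc : d * c = c * d := by rwa [commutatorElement_eq_one_iff_mul_comm] at h
      have h1 : zpowers c ≤ centralizer {c} := by
        rw [zpowers_le, mem_centralizer_singleton_iff]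
      have h2 : d ∈ centralizer {c} := mem_centralizer_singleton_iff.2 hdc
      have h3 : ¬ Nat.card (centralizer ({c} : Set G)) ≤ Nat.card (zpowers c) := by
        intro hle
        have := eq_of_le_of_card_ge h1 hle
        exact hdn (this ▸ h2)
      rw [Nat.card_zpowers, hoc] at h3
      have h5 : Nat.card (centralizer ({c} : Set G)) ∣ 2 ^ 3 :=
        hcard ▸ card_subgroup_dvd_card _
      obtain ⟨i, hi, hi'⟩ := (Nat.dvd_prime_pow Nat.prime_two).1 h5
      have hi3 : i = 3 := by
        interval_cases i <;> omega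
      rw [hi3] at hi'
      have htop : centralizer ({c} : Set G) = ⊤ := (card_eq_iff_eq_top _).1 (hi'.trans hcard.symm)
      have hcc : c ∈ center G := by
        rw [mem_center_iff]
        intro g
        have : g ∈ centralizer ({c} : Set G) := htop ▸ mem_top g
        exact (mem_centralizer_singleton_iff.1 this)
      exact hc (hES.pow_eq_one_of_mem_center hcc)
    have h5 : ⁅d, c⁆ = c ^ 2 := huniq _ _ (hcen d c) (hsq c) hne1 hc
    have hinv : d * c * d⁻¹ = c⁻¹ := by
      rw [commutatorElement_def] at h5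
      have h6 : d * c * d⁻¹ = c ^ 2 * c := by rw [← h5]; group
      rw [h6, ← pow_succ, eq_inv_iff_mul_eq_one, ← pow_succ]
      exact h4 c
    exact Cfsg.Agent.Lib.Lead.QuatIso.nonempty_mulEquiv_quaternionGroup (N := 2) (by rw [hoc])
      hcd hinv hdn (by rw [hcard]; norm_num)
  · push Not at hQ
    exfalso
    apply hnp
    haveI hchar : (zpowers c).Characteristic := by
      rw [characteristic_iff_map_le]
      intro ϕ
      rw [MonoidHom.map_zpowers, zpowers_le]
      have h1 : (ϕ c) ^ 2 ≠ 1 := by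
        rw [← map_pow]
        intro h
        apply hc
        exact ϕ.injective (h.trans (map_one ϕ).symm)
      have h2 := hQ c (ϕ c) hc h1
      show ϕ c ∈ zpowers c
      rw [h2]
      exact mem_zpowers _
    have hZC : center G ≤ zpowers c := by
      have ho2 : orderOf (c ^ 2) = 2 := orderOf_eq_prime (by rw [← pow_mul]; exact h4 c) hc
      have h1 : zpowers (c ^ 2) = center G :=
        eq_of_le_of_card_ge ((zpowers_le (H := center G)).2 (hsq c))
          (by rw [Nat.card_zpowers, hZ, ho2])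
      rw [← h1, zpowers_le]
      exact pow_mem (mem_zpowers c) 2
    exact StabChain.isPGroup_closure_pair 2 (center G) (zpowers c) hZC hZ
      (by rw [Nat.card_zpowers, hord c hc]; norm_num) hcard a b ha hb

include hp in
/-- **Main abstract theorem.** -/
theorem main_abstract (hcard : Nat.card G = p ^ 3) (a b : MulAut G)
    (ha : ∃ k : ℕ, a ^ (p ^ k) = 1) (hb : ∃ k : ℕ, b ^ (p ^ k) = 1)
    (hnp : ¬ IsPGroup p (closure {a, b})) :
    ((∀ x y : G, x * y = y * x) ∧ ∀ x : G, x ^ p = 1) ∨
      (Odd p ∧ IsExtraspecial p G ∧ ∀ x : G, x ^ p = 1) ∨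
      (p = 2 ∧ Nonempty (G ≃* QuaternionGroup 2)) := by
  by_cases hcomm : ∀ x y : G, x * y = y * x
  · left
    refine ⟨hcomm, ?_⟩
    by_contra hexp
    exact hnp (abelian_case p hcard hcomm hexp a b ha hb)
  · right
    push Not at hcomm
    have hnc : ∃ a b : G, a * b ≠ b * a := hcomm
    by_cases h2 : p = 2
    · right
      subst h2
      exact ⟨rfl, two_case hcard hnc a b ha hb hnp⟩
    · left
      refine ⟨hp.out.odd_of_ne_two h2,
        Cfsg.Agent.Lib.Helper17.isExtraspecial_of_card_cube hcard hnc, ?_⟩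
      by_contra hexp
      exact hnp (odd_case p hcard hnc h2 hexp a b ha hb)

end Cfsg.Agent.Lib.Helper9.PCubeAut
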