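import Cfsg.Agent.Lib.Helper9.SylowSimple
import Cfsg.Agent.Lib.Helper18.PrimeDegree3

/-!
Simplicity of transitive permutation groups of prime degree from their order (helper9).
-/

set_option autoImplicit false

namespace Cfsg.Agent.Lib.Helper9.PrimeDegreeSimple

open Subgroup MulAction Cfsg.Agent.Lib.Helper9.SylowSimple

/-- a nontrivial normal subgroup of a primitive permutation group is transitive, so its order is divisible
by the degree -/
theorem card_dvd_card_of_normal {α : Type*} [Finite α] (G : Subgroup (Equiv.Perm α))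
    [IsPreprimitive G α] (N : Subgroup G) (hN : N.Normal) (hne : N ≠ ⊥) :
    Nat.card α ∣ Nat.card N := by
  have hfix : fixedPoints N α ≠ Set.univ := by
    intro h
    apply hne
    rw [eq_bot_iff]
    intro g hg
    rw [mem_bot]
    apply Subtype.ext
    apply Equiv.ext
    intro a
    have ha : a ∈ fixedPoints N α := by rw [h]; exact Set.mem_univ a
    exact ha ⟨g, hg⟩
  haveI : IsPretransitive N α := IsQuasiPreprimitive.isPretransitive_of_normal hfix
  obtain ⟨a⟩ : Nonempty α := by
    by_contra hemp
    rw [not_nonempty_iff] at hemp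
    apply hfix
    ext a
    exact hemp.elim a
  rw [← MulAction.index_stabilizer_of_transitive N a]
  exact Subgroup.index_dvd_card _

/-- **Prime degree criterion.** -/
theorem simple_of_prime_degree {p : ℕ} [hp : Fact p.Prime] {α : Type*} [Fintype α] [DecidableEq α]
    (hα : Fintype.card α = p) (G : Subgroup (Equiv.Perm α)) [IsPretransitive G α]
    (q m : ℕ) (hq : q.Prime) (hcard : Nat.card G = p * m)
    (harith : ∀ k, k ∣ p - 1 → k ∣ m → (m / k) % p = 1 → k = q) (hm : m ≠ q) :
    IsSimpleGroup G := by
  have hp0 := hp.out.pos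
  have hα' : Nat.card α = p := by rw [Nat.card_eq_fintype_card, hα]
  haveI : IsPreprimitive G α := IsPreprimitive.of_prime_card (by rw [hα']; exact hp.out)
  let P : Sylow p G := default
  have hP := Cfsg.Agent.Lib.Helper18.PrimeDegree.sylow_card hα G P
  obtain ⟨k, hk1, hk⟩ := Cfsg.Agent.Lib.Helper18.PrimeDegree.card_normalizer hα G P
  obtain ⟨n, hn1, hn⟩ := Cfsg.Agent.Lib.Helper18.PrimeDegree.card_eq_normalizer_mul G P
  have hmkn : m = k * n := by
    rw [hcard, hk, mul_assoc] at hn
    exact Nat.eq_of_mul_eq_mul_left hp0 hn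
  have hk0 : 0 < k := by
    rcases Nat.eq_zero_or_pos k with h | h
    · exfalso
      rw [h, mul_zero] at hk
      have : 0 < Nat.card (normalizer ((P : Subgroup G) : Set G)) := Nat.card_pos
      omega
    · exact h
  have hkq : k = q := by
    apply harith k hk1 ⟨n, hmkn⟩
    rw [hmkn, Nat.mul_div_cancel_left n hk0]
    exact hn1
  rw [hkq] at hk
  apply simple_of_sylow p q hq P hP hk
  · intro hnorm
    apply hm
    have h1 : normalizer ((P : Subgroup G) : Set G) = ⊤ := normalizer_eq_top_iff.2 hnorm
    rw [h1, Subgroup.card_top, hcard] at hk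
    exact Nat.eq_of_mul_eq_mul_left hp0 hk
  · intro N hN hne
    rw [← hα']
    exact card_dvd_card_of_normal G N hN hne

end Cfsg.Agent.Lib.Helper9.PrimeDegreeSimple
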