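import Cfsg.Prelude.Def_LieRecognition

set_option autoImplicit false

namespace Cfsg.Agent.Lib.Helper9

open Cfsg

variable {G Ω : Type*} [Group G] [MulAction G Ω] {a : Ω} {t : G} {Q : Subgroup G}

theorem rankOne_t_inv (hS : IsRankOneSetup G Ω a t Q) : t⁻¹ = t :=
  inv_eq_of_mul_eq_one_left hS.mul_self

theorem rankOne_t_smul_t_smul (hS : IsRankOneSetup G Ω a t Q) (w : Ω) : t • t • w = w := by
  rw [← mul_smul, hS.mul_self, one_smul]

/-- `t` normalises the two-point stabiliser `D`. -/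
theorem rankOne_conj_mem_D (hS : IsRankOneSetup G Ω a t Q) {c : G}
    (hc : c ∈ MulAction.stabilizer G a ⊓ MulAction.stabilizer G (t • a)) :
    t * c * t ∈ MulAction.stabilizer G a ⊓ MulAction.stabilizer G (t • a) := by
  have h1 : c • a = a := MulAction.mem_stabilizer_iff.mp (Subgroup.mem_inf.mp hc).1
  have h2 : c • (t • a) = t • a := MulAction.mem_stabilizer_iff.mp (Subgroup.mem_inf.mp hc).2
  refine Subgroup.mem_inf.mpr ⟨?_, ?_⟩
  · rw [MulAction.mem_stabilizer_iff, mul_smul, mul_smul, h2, rankOne_t_smul_t_smul hS]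
  · rw [MulAction.mem_stabilizer_iff, mul_smul, mul_smul, rankOne_t_smul_t_smul hS, h1]

theorem rankOne_Q_inf_D (hS : IsRankOneSetup G Ω a t Q) {w : G} (hw : w ∈ Q)
    (hw' : w ∈ MulAction.stabilizer G (t • a)) : w = 1 := by
  have : w ∈ Q ⊓ MulAction.stabilizer G (t • a) := Subgroup.mem_inf.mpr ⟨hw, hw'⟩
  rw [hS.inf_eq_bot] at this
  exact Subgroup.mem_bot.mp this

/-- Uniqueness of the canonical form `g h t f`. -/
theorem rankOne_canonical_unique (hS : IsRankOneSetup G Ω a t Q)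
    {g h f g' h' f' : G} (hg : g ∈ Q)
    (hh : h ∈ MulAction.stabilizer G a ⊓ MulAction.stabilizer G (t • a)) (hf : f ∈ Q)
    (hg' : g' ∈ Q) (hh' : h' ∈ MulAction.stabilizer G a ⊓ MulAction.stabilizer G (t • a))
    (hf' : f' ∈ Q) (heq : g * h * t * f = g' * h' * t * f') : g = g' ∧ h = h' ∧ f = f' := by
  have hga : g • a = a := MulAction.mem_stabilizer_iff.mp (hS.le hg)
  have hg'a : g' • a = a := MulAction.mem_stabilizer_iff.mp (hS.le hg')
  have hha : h • a = a := MulAction.mem_stabilizer_iff.mp (Subgroup.mem_inf.mp hh).1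
  have hh'a : h' • a = a := MulAction.mem_stabilizer_iff.mp (Subgroup.mem_inf.mp hh').1
  -- apply both sides to `f⁻¹ • t • a`... we compute `(f' * f⁻¹) • (t • a) = t • a`
  have key : ∀ {g h f : G}, g • a = a → h • a = a → (g * h * t * f)⁻¹ • a = f⁻¹ • (t • a) := by
    intro g h f hga hha
    have h1 : g⁻¹ • a = a := by rw [inv_smul_eq_iff, hga]
    have h2 : h⁻¹ • a = a := by rw [inv_smul_eq_iff, hha]
    rw [mul_inv_rev, mul_inv_rev, mul_inv_rev, mul_smul, mul_smul, mul_smul, h1, h2,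
      rankOne_t_inv hS]
  have e1 := key (f := f) hga hha
  have e2 := key (f := f') hg'a hh'a
  rw [heq, e2] at e1
  have hff : (f' * f⁻¹) • (t • a) = t • a := by
    rw [mul_smul, ← e1, smul_inv_smul]
  have hf1 : f' * f⁻¹ = 1 :=
    rankOne_Q_inf_D hS (Q.mul_mem hf' (Q.inv_mem hf)) (MulAction.mem_stabilizer_iff.mpr hff)
  have hfeq : f = f' := by
    have := mul_inv_eq_one.mp hf1
    exact this.symm
  subst hfeq
  have heq2 : g * h = g' * h' := by
    have := mul_right_cancel (mul_right_cancel heq)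
    exact this
  have hmem : g'⁻¹ * g = h' * h⁻¹ := by
    have : g = g' * h' * h⁻¹ := by rw [← heq2]; group
    rw [this]; group
  have hq : g'⁻¹ * g ∈ Q := Q.mul_mem (Q.inv_mem hg') hg
  have hd : g'⁻¹ * g ∈ MulAction.stabilizer G (t • a) := by
    rw [hmem]
    exact Subgroup.mul_mem _ (Subgroup.mem_inf.mp hh').2 (Subgroup.inv_mem _ (Subgroup.mem_inf.mp hh).2)
  have h1 := rankOne_Q_inf_D hS hq hd
  have hgeq : g = g' := by
    have := inv_mul_eq_one.mp h1
    exact this.symm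
  subst hgeq
  exact ⟨rfl, mul_left_cancel heq2, rfl⟩

end Cfsg.Agent.Lib.Helper9
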