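import Cfsg.Agent.Lib.Helper9.PCubeAut
import Cfsg.Agent.Lib.Helper9.EssentialPSq

/-!
Abelian `p`-groups of rank at most two whose automorphism group contains two `p`-elements
generating a non-`p`-group are homocyclic of rank two (helper9).
-/

set_option autoImplicit false
set_option linter.style.haveILetI false
set_option linter.unusedSectionVars false

namespace Cfsg.Agent.Lib.Helper9.RankTwoAbelian

open Subgroup Cfsg.Agent.Lib.Helper9 Cfsg.Agent.Lib.Helper9.StabChain
  Cfsg.Agent.Lib.Helper9.PCubeAut

universe u

variable {G : Type u} [Group G]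

/-- stability group of `1 ≤ R ≤ G` -/
def stab2 (R : Subgroup G) : Subgroup (MulAut G) where
  carrier := {g | (∀ x ∈ R, g x = x) ∧ ∀ x, x⁻¹ * g x ∈ R}
  one_mem' := ⟨fun _ _ => rfl, fun x => by simp⟩
  mul_mem' := by
    rintro g h ⟨hg1, hg2⟩ ⟨hh1, hh2⟩
    refine ⟨fun x hx => ?_, fun x => ?_⟩
    · rw [MulAut.mul_apply, hh1 x hx, hg1 x hx]
    · have h1 := R.mul_mem (hh2 x) (hg2 (h x))
      rw [MulAut.mul_apply]
      convert h1 using 1
      group
  inv_mem' := by
    rintro g ⟨hg1, hg2⟩
    refine ⟨fun x hx => ?_, fun x => ?_⟩
    · have := hg1 x hx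
      rw [MulAut.inv_apply, MulEquiv.symm_apply_eq]
      exact this.symm
    · have h1 := R.inv_mem (hg2 (g⁻¹ x))
      rw [MulAut.apply_inv_self] at h1
      convert h1 using 1
      group

theorem mem_stab2 (R : Subgroup G) (g : MulAut G) :
    g ∈ stab2 R ↔ (∀ x ∈ R, g x = x) ∧ ∀ x, x⁻¹ * g x ∈ R := Iff.rfl

theorem pow_card_eq_one_of_mem_stab2 (R : Subgroup G) [Finite R] {g : MulAut G}
    (hg : g ∈ stab2 R) : g ^ Nat.card R = 1 := by
  ext x
  exact pow_card_apply_of_fix g R hg.1 x (hg.2 x)

/-- restriction of automorphisms to a characteristic subgroup -/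
def resAut (K : Subgroup G) [hK : K.Characteristic] : MulAut G →* MulAut K where
  toFun g :=
    { toFun := fun x => ⟨g x, apply_mem_of_characteristic K g x.2⟩
      invFun := fun x => ⟨g⁻¹ x, apply_mem_of_characteristic K g⁻¹ x.2⟩
      left_inv := fun x => Subtype.ext (by simp)
      right_inv := fun x => Subtype.ext (by simp)
      map_mul' := fun x y => Subtype.ext (by simp) }
  map_one' := by
    ext x
    rfl
  map_mul' g h := by
    ext x
    rfl

@[simp] theorem resAut_apply (K : Subgroup G) [K.Characteristic] (g : MulAut G) (x : K) :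
    ((resAut K g x : K) : G) = g (x : G) := rfl

theorem resAut_pow_eq_one_iff (K : Subgroup G) [K.Characteristic] (g : MulAut G) (n : ℕ) :
    (resAut K g) ^ n = 1 ↔ ∀ x ∈ K, (g ^ n) x = x := by
  rw [← map_pow]
  constructor
  · intro h x hx
    have := congrArg (fun f : MulAut K => ((f ⟨x, hx⟩ : K) : G)) h
    exact this
  · intro h
    ext x
    exact h x x.2

theorem normal_of_comm (hcomm : ∀ x y : G, x * y = y * x) (K : Subgroup G) : K.Normal :=
  ⟨fun n hn g => by rw [hcomm g n, mul_inv_cancel_right]; exact hn⟩

variable (p : ℕ) [hp : Fact p.Prime]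

include hp in
/-- a `p`-group of order at most `p` has commutative automorphism group, so `p`-elements generate a
`p`-group -/
theorem isPGroup_closure_of_card_le [Finite G] (hG : Nat.card G = 1 ∨ Nat.card G = p)
    (a b : MulAut G) (ha : ∃ k : ℕ, a ^ (p ^ k) = 1) (hb : ∃ k : ℕ, b ^ (p ^ k) = 1) :
    IsPGroup p (closure {a, b}) := by
  have hcyc : IsCyclic G := by
    rcases hG with h | h
    · haveI : Subsingleton G := (Nat.card_eq_one_iff_unique.1 h).1
      exact isCyclic_of_subsingleton
    · exact isCyclic_of_prime_card h
  apply EssentialPSq.isPGroup_closure_pair_of_comm p _ a b ha hb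
  intro x y
  have e := IsCyclic.mulAutMulEquiv (G := G)
  apply e.injective
  rw [map_mul, map_mul, mul_comm]

include hp in
/-- **Main induction.** -/
theorem main_aux : ∀ (n : ℕ) (G : Type u) [Group G] [Finite G], Nat.card G ≤ n →
    (∀ x y : G, x * y = y * x) → IsPGroup p G → Nat.card {x : G // x ^ p = 1} ≤ p ^ 2 →
    ∀ a b : MulAut G, (∃ k : ℕ, a ^ (p ^ k) = 1) → (∃ k : ℕ, b ^ (p ^ k) = 1) →
    ¬ IsPGroup p (closure {a, b}) →
    ∃ k : ℕ, 1 ≤ k ∧ Nat.card G = p ^ (2 * k) ∧ (∀ x : G, x ^ (p ^ k) = 1) ∧
      Nat.card {x : G // x ^ p = 1} = p ^ 2 ∧ (2 ≤ k → ∀ x : G, x ^ p = 1 → ∃ y : G, y ^ p = x) := by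
  intro n
  induction n with
  | zero =>
    intro G _ _ hn
    exfalso
    have : 0 < Nat.card G := Nat.card_pos
    omega
  | succ n ih =>
    intro G _ _ hn hcomm hG hΩ a b ha hb hnp
    have hp0 := hp.out.pos
    have hmul : ∀ x y : G, (x * y) ^ p = x ^ p * y ^ p :=
      fun x y => Commute.mul_pow (show Commute x y from hcomm x y) p
    set f : G →* G := powHom p hmul with hf
    haveI hΦc := range_characteristic f (powHom_comm p hmul)
    haveI hΩc := ker_characteristic f (powHom_comm p hmul)
    have hcardΩ : Nat.card f.ker = Nat.card {x : G // x ^ p = 1} := rfl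
    have hKM : Nat.card f.range * Nat.card f.ker = Nat.card G := card_range_mul_card_ker f
    -- `G` is nontrivial
    have hGne : Nat.card G ≠ 1 := by
      intro h
      exact hnp (isPGroup_closure_of_card_le p (Or.inl h) a b ha hb)
    obtain ⟨j, hj⟩ := IsPGroup.iff_card.1 hG
    have hj0 : j ≠ 0 := by
      rintro rfl
      exact hGne (by rw [hj, pow_zero])
    -- `Ω ≠ ⊥`
    have hΩbot : f.ker ≠ ⊥ := by
      obtain ⟨x, hx⟩ := exists_prime_orderOf_dvd_card' (G := G) p
        (by rw [hj]; exact dvd_pow_self p hj0)
      intro h
      have hx1 : x ∈ f.ker := by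
        show x ^ p = 1
        rw [← hx, pow_orderOf_eq_one]
      rw [h, mem_bot] at hx1
      rw [hx1, orderOf_one] at hx
      exact hp.out.one_lt.ne hx
    have hΩ1 : 1 < Nat.card f.ker := by
      rcases Nat.lt_or_ge 1 (Nat.card f.ker) with h | h
      · exact h
      · exfalso
        apply hΩbot
        apply card_eq_one.1
        have : 0 < Nat.card f.ker := Nat.card_pos
        omega
    have hΦlt : Nat.card f.range < Nat.card G := by
      rw [← hKM]
      have : 0 < Nat.card f.range := Nat.card_pos
      nlinarith
    -- the restricted automorphisms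
    set a₁ := resAut f.range a with ha₁
    set b₁ := resAut f.range b with hb₁
    have hpow1 : ∀ g : MulAut G, (∃ k : ℕ, g ^ (p ^ k) = 1) →
        ∀ (K : Subgroup G) [K.Characteristic], ∃ k : ℕ, (resAut K g) ^ (p ^ k) = 1 := by
      rintro g ⟨k, hk⟩ K _
      exact ⟨k, by rw [← map_pow, hk, map_one]⟩
    have hcommΦ : ∀ x y : f.range, x * y = y * x := fun x y => Subtype.ext (hcomm _ _)
    have hinj : Nat.card {x : f.range // x ^ p = 1} ≤ Nat.card {x : G // x ^ p = 1} := by
      apply Nat.card_le_card_of_injective
        (fun x : {x : f.range // x ^ p = 1} =>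
          (⟨(x.1 : G), by
            have := congrArg Subtype.val x.2
            exact this⟩ : {x : G // x ^ p = 1}))
      intro x y hxy
      apply Subtype.ext
      apply Subtype.ext
      have h := congrArg Subtype.val hxy
      exact h
    by_cases hcase : IsPGroup p (closure {a₁, b₁})
    · -- Case 2: `Φ = ⊥`
      have hΦbot : f.range = ⊥ := by
        by_contra hΦne
        apply hnp
        -- the action on `Ω` is a `p`-group
        have hsub : ∀ g ∈ closure {a, b}, ∃ k : ℕ, (resAut f.ker g) ^ (p ^ k) = 1 := by
          have hmap : ∀ g ∈ closure {a, b}, resAut f.range g ∈ closure {a₁, b₁} := by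
            intro g hg
            have h1 : resAut f.range g ∈ (closure {a, b}).map (resAut f.range) :=
              mem_map_of_mem _ hg
            rw [MonoidHom.map_closure, Set.image_pair] at h1
            exact h1
          -- a nontrivial element of `Φ ⊓ Ω`
          have hRne : f.range ⊓ f.ker ≠ ⊥ := by
            obtain ⟨i, hi⟩ := IsPGroup.iff_card.1 (hG.to_subgroup f.range)
            have hi0 : i ≠ 0 := by
              rintro rfl
              rw [pow_zero] at hi
              exact hΦne (card_eq_one.1 hi)
            obtain ⟨y, hy⟩ := exists_prime_orderOf_dvd_card' (G := f.range) p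
              (by rw [hi]; exact dvd_pow_self p hi0)
            have hy' : orderOf (y : G) = p := by rw [Subgroup.orderOf_coe, hy]
            intro h
            have hy1 : (y : G) ∈ f.range ⊓ f.ker := by
              refine ⟨y.2, ?_⟩
              show (y : G) ^ p = 1
              rw [← hy', pow_orderOf_eq_one]
            rw [h, mem_bot] at hy1
            rw [hy1, orderOf_one] at hy'
            exact hp.out.one_lt.ne hy'
          by_cases hle : f.ker ≤ f.range
          · intro g hg
            obtain ⟨k, hk⟩ := hcase ⟨_, hmap g hg⟩
            have hk' : (resAut f.range g) ^ (p ^ k) = 1 := congrArg Subtype.val hk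
            refine ⟨k, ?_⟩
            rw [resAut_pow_eq_one_iff] at hk' ⊢
            intro x hx
            exact hk' x (hle hx)
          · -- `R = Φ ⊓ Ω` has order `p`
            haveI hRc : (f.range ⊓ f.ker).Characteristic := by
              rw [characteristic_iff_map_le]
              intro ϕ
              refine le_trans (map_inf_le _ _ _) (inf_le_inf ?_ ?_)
              · exact (characteristic_iff_map_le.1 hΦc ϕ)
              · exact (characteristic_iff_map_le.1 hΩc ϕ)
            have hRlt : f.range ⊓ f.ker ≠ f.ker := fun h => hle (h ▸ inf_le_left)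
            have hcΩ : Nat.card f.ker = p ^ 2 ∧ Nat.card (f.range ⊓ f.ker : Subgroup G) = p := by
              have h1 : Nat.card (f.range ⊓ f.ker : Subgroup G) ∣ Nat.card f.ker :=
                card_dvd_of_le inf_le_right
              have h2 : Nat.card f.ker ∣ p ^ j := hj ▸ card_subgroup_dvd_card f.ker
              obtain ⟨i, hi, hi'⟩ := (Nat.dvd_prime_pow hp.out).1 h2
              have hi2 : i ≤ 2 := by
                by_contra hcon
                push Not at hcon
                have : p ^ 3 ≤ p ^ i := Nat.pow_le_pow_right hp0 hcon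
                have h3 : p ^ 2 < p ^ 3 := Nat.pow_lt_pow_right hp.out.one_lt (by norm_num)
                rw [hcardΩ] at hi'
                omega
              rw [hi'] at h1
              obtain ⟨i', hi'1, hi'2⟩ := (Nat.dvd_prime_pow hp.out).1 h1
              have hi'0 : i' ≠ 0 := by
                rintro rfl
                rw [pow_zero] at hi'2
                exact hRne (card_eq_one.1 hi'2)
              have hi'i : i' ≠ i := by
                rintro rfl
                apply hRlt
                exact eq_of_le_of_card_ge inf_le_right (by rw [hi', hi'2])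
              have : i = 2 ∧ i' = 1 := by omega
              rw [this.1] at hi'
              rw [this.2, pow_one] at hi'2
              exact ⟨hi', hi'2⟩
            -- work inside `Ω`
            set R' : Subgroup f.ker := (f.range ⊓ f.ker).subgroupOf f.ker with hR'
            have hR'card : Nat.card R' = p := by
              rw [hR', Nat.card_congr (subgroupOfEquivOfLe
                (inf_le_right : f.range ⊓ f.ker ≤ f.ker)).toEquiv]
              exact hcΩ.2
            haveI hR'n : R'.Normal := normal_of_comm (fun x y => Subtype.ext (hcomm _ _)) R'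
            have hR'inv : ∀ (g : MulAut G) (x : f.ker), x ∈ R' → resAut f.ker g x ∈ R' := by
              intro g x hx
              rw [hR', mem_subgroupOf] at hx ⊢
              exact apply_mem_of_characteristic (f.range ⊓ f.ker) g hx
            have hR'map : ∀ g : MulAut G, R'.map (resAut f.ker g).toMonoidHom = R' := by
              intro g
              apply le_antisymm
              · rintro _ ⟨x, hx, rfl⟩
                exact hR'inv g x hx
              · intro x hx
                refine ⟨resAut f.ker g⁻¹ x, hR'inv g⁻¹ x hx, ?_⟩
                show resAut f.ker g (resAut f.ker g⁻¹ x) = x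
                rw [← MulAut.mul_apply, ← map_mul, mul_inv_cancel, map_one]
                rfl
            have hmem : ∀ g : MulAut G, (∃ k : ℕ, g ^ (p ^ k) = 1) →
                resAut f.ker g ∈ stab2 R' := by
              intro g hg
              obtain ⟨k, hk⟩ := hpow1 g hg f.ker
              refine ⟨?_, ?_⟩
              · exact fix_of_card_prime p _ k hk R' hR'card (fun x hx => hR'inv g x hx)
              · have h1 := inv_mul_mem_of_prime_index p (resAut f.ker g) k hk R' ⊤ (hR'map g)
                  (fun x _ => mem_top _) (by
                    have h2 := card_map_mk' R' ⊤ le_top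
                    rw [hR'card, card_top, hcΩ.1] at h2
                    apply Nat.eq_of_mul_eq_mul_right hp0
                    rw [h2]; ring)
                exact fun x => h1 x (mem_top x)
            have hle2 : (closure {a, b}).map (resAut f.ker) ≤ stab2 R' := by
              rw [MonoidHom.map_closure, Set.image_pair, closure_le]
              rintro x (rfl | rfl)
              · exact hmem _ ha
              · exact hmem _ hb
            intro g hg
            have h1 := pow_card_eq_one_of_mem_stab2 R' (hle2 (mem_map_of_mem _ hg))
            rw [hR'card] at h1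
            exact ⟨1, by rw [pow_one]; exact h1⟩
        -- combine
        have hmap : ∀ g ∈ closure {a, b}, resAut f.range g ∈ closure {a₁, b₁} := by
          intro g hg
          have h1 : resAut f.range g ∈ (closure {a, b}).map (resAut f.range) :=
            mem_map_of_mem _ hg
          rw [MonoidHom.map_closure, Set.image_pair] at h1
          exact h1
        rintro ⟨g, hg⟩
        obtain ⟨k₁, hk₁⟩ := hcase ⟨_, hmap g hg⟩
        have hk₁' : (resAut f.range g) ^ (p ^ k₁) = 1 := congrArg Subtype.val hk₁
        obtain ⟨k₂, hk₂⟩ := hsub g hg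
        rw [resAut_pow_eq_one_iff] at hk₁' hk₂
        -- `g' = g ^ (p ^ (k₁ + k₂))` is in `stab2 Ω`
        have hfix1 : ∀ x ∈ f.range, (g ^ (p ^ (k₁ + k₂))) x = x := by
          intro x hx
          rw [pow_add, pow_mul]
          have : ∀ m : ℕ, ((g ^ p ^ k₁) ^ m) x = x := by
            intro m
            induction m with
            | zero => simp
            | succ m ihm => rw [pow_succ, MulAut.mul_apply, hk₁' x hx, ihm]
          exact this _
        have hfix2 : ∀ x ∈ f.ker, (g ^ (p ^ (k₁ + k₂))) x = x := by
          intro x hx
          rw [add_comm, pow_add, pow_mul]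
          have : ∀ m : ℕ, ((g ^ p ^ k₂) ^ m) x = x := by
            intro m
            induction m with
            | zero => simp
            | succ m ihm => rw [pow_succ, MulAut.mul_apply, hk₂ x hx, ihm]
          exact this _
        have hmem : g ^ (p ^ (k₁ + k₂)) ∈ stab2 f.ker := by
          refine ⟨hfix2, fun x => ?_⟩
          show (x⁻¹ * (g ^ (p ^ (k₁ + k₂))) x) ^ p = 1
          rw [hmul, inv_pow, ← map_pow]
          have : x ^ p ∈ f.range := ⟨x, rfl⟩
          rw [hfix1 _ this, inv_mul_cancel]
        have h1 := pow_card_eq_one_of_mem_stab2 f.ker hmem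
        obtain ⟨i, hi⟩ := IsPGroup.iff_card.1 (hG.to_subgroup f.ker)
        rw [hi, ← pow_mul, ← pow_add] at h1
        exact ⟨k₁ + k₂ + i, Subtype.ext h1⟩
      -- so `G` has exponent `p`
      have hexp : ∀ x : G, x ^ p = 1 := by
        intro x
        have : f x ∈ f.range := ⟨x, rfl⟩
        rw [hΦbot, mem_bot] at this
        exact this
      have hcardG : Nat.card G = Nat.card {x : G // x ^ p = 1} := by
        rw [← hKM, hΦbot, card_bot, one_mul, hcardΩ]
      have hj2 : j ≤ 2 := by
        by_contra hcon
        push Not at hcon
        have : p ^ 3 ≤ p ^ j := Nat.pow_le_pow_right hp0 hcon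
        have h3 : p ^ 2 < p ^ 3 := Nat.pow_lt_pow_right hp.out.one_lt (by norm_num)
        rw [hcardG] at hj
        omega
      have hj2' : j = 2 := by
        by_contra hcon
        have hj1 : j = 1 := by omega
        apply hnp
        exact isPGroup_closure_of_card_le p (Or.inr (by rw [hj, hj1, pow_one])) a b ha hb
      refine ⟨1, le_rfl, by rw [hj, hj2'], fun x => by rw [pow_one]; exact hexp x, ?_, ?_⟩
      · rw [← hcardG, hj, hj2']
      · intro h; omega
    · -- Case 1: induction
      have hcardΦ : Nat.card f.range ≤ n := by omega
      obtain ⟨k, hk1, hkc, hke, hkΩ, _⟩ := ih f.range hcardΦ hcommΦ (hG.to_subgroup _)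
        (le_trans hinj hΩ) a₁ b₁ (hpow1 a ha f.range) (hpow1 b hb f.range) hcase
      have hΩeq : Nat.card {x : G // x ^ p = 1} = p ^ 2 :=
        le_antisymm hΩ (hkΩ ▸ hinj)
      refine ⟨k + 1, by omega, ?_, ?_, hΩeq, ?_⟩
      · rw [← hKM, hkc, hcardΩ, hΩeq]; ring
      · intro x
        have := hke ⟨f x, x, rfl⟩
        have h2 := congrArg Subtype.val this
        rw [pow_succ', pow_mul]
        exact h2
      · intro _ x hx
        -- the injection `Ω(Φ) → Ω(G)` is a bijection
        have hbij : Function.Bijective (fun x : {x : f.range // x ^ p = 1} =>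
            (⟨(x.1 : G), by
              have := congrArg Subtype.val x.2
              exact this⟩ : {x : G // x ^ p = 1})) := by
          have : Finite {x : G // x ^ p = 1} := inferInstance
          apply Function.Injective.bijective_of_nat_card_le
          · intro x y hxy
            apply Subtype.ext
            apply Subtype.ext
            have h := congrArg Subtype.val hxy
            exact h
          · rw [hkΩ, hΩeq]
        obtain ⟨⟨⟨y, hy⟩, _⟩, hyx⟩ := hbij.2 ⟨x, hx⟩
        have hyx' : y = x := congrArg Subtype.val hyx
        obtain ⟨z, hz⟩ := hy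
        exact ⟨z, hz.trans hyx'⟩

end Cfsg.Agent.Lib.Helper9.RankTwoAbelian
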