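import Cfsg.Agent.Lib.Helper9.SL23

/-!
Structure of `SL(2,3)` (helper9): the quaternion subgroup, centre, commutator subgroup,
normal subgroups, solvability.
-/

set_option autoImplicit false

namespace Cfsg.Agent.Lib.Helper9.SLTwoThree

open QuaternionGroup
open scoped commutatorElement

set_option maxRecDepth 1000000 in
theorem dec_mul_pow4 : ∀ x y : SL23, x ^ 4 = 1 → y ^ 4 = 1 → (x * y) ^ 4 = 1 := by decide

set_option maxRecDepth 1000000 in
theorem dec_pow8 : ∀ x : SL23, x ^ 8 = 1 → x ^ 4 = 1 := by decide

set_option maxRecDepth 1000000 in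
theorem dec_involution_central : ∀ t : SL23, t ^ 2 = 1 → t ≠ 1 → ∀ g, g * t = t * g := by decide

set_option maxRecDepth 1000000 in
theorem dec_sq_one : ∀ t : SL23, t ^ 2 = 1 → t = 1 ∨ t = matM ^ 2 := by decide

set_option maxRecDepth 1000000 in
theorem dec_central : ∀ z : SL23, (∀ g, g * z = z * g) → z = 1 ∨ z = matM ^ 2 := by decide

set_option maxRecDepth 1000000 in
theorem dec_order3_conj : ∀ w : SL23, w ^ 3 = 1 → w ≠ 1 →
    ∃ c : SL23, c * w * c⁻¹ = matW ∨ c * w * c⁻¹ = matW⁻¹ := by decide

set_option maxRecDepth 1000000 in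
theorem dec_order4_gen : ∀ x : SL23, x ^ 4 = 1 → x ^ 2 ≠ 1 → ∀ y : SL23, y ^ 4 = 1 →
    ∃ i j : Fin 4, y = x ^ (i : ℕ) * (matW * x * matW⁻¹) ^ (j : ℕ) := by decide

set_option maxRecDepth 1000000 in
theorem dec_comm_pow4 : ∀ x y : SL23, (x * y * x⁻¹ * y⁻¹) ^ 4 = 1 := by decide

set_option maxRecDepth 1000000 in
theorem dec_centralizer : ∀ c : SL23, c * matM = matM * c → c * matN = matN * c →
    c ^ 4 = 1 := by decide

/-- the quaternion subgroup of `SL(2,3)`: the elements with `x ^ 4 = 1` -/
def quat8 : Subgroup SL23 where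
  carrier := {x | x ^ 4 = 1}
  mul_mem' := fun hx hy => dec_mul_pow4 _ _ hx hy
  one_mem' := one_pow 4
  inv_mem' := by
    intro x hx
    show (x⁻¹) ^ 4 = 1
    rw [inv_pow, (hx : x ^ 4 = 1), inv_one]

theorem mem_quat8 {x : SL23} : x ∈ quat8 ↔ x ^ 4 = 1 := Iff.rfl

set_option maxRecDepth 1000000 in
theorem card_quat8 : Nat.card quat8 = 8 := by
  show Nat.card {x : SL23 // x ^ 4 = 1} = 8
  rw [Nat.card_eq_fintype_card]
  decide

instance quat8_normal : quat8.Normal := by
  constructor
  intro x hx g
  rw [mem_quat8] at hx ⊢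
  rw [conj_pow, hx, mul_one, mul_inv_cancel]

theorem range_quatToSL : quatToSL.range = quat8 := by
  apply Subgroup.eq_of_le_of_card_ge
  · rintro _ ⟨p, rfl⟩
    rw [mem_quat8, ← map_pow, quat2_pow_four, map_one]
  · rw [card_quat8]
    have := Nat.card_congr (MonoidHom.ofInjective quatToSL_injective).toEquiv
    rw [← this, Nat.card_eq_fintype_card, QuaternionGroup.card]

theorem matM_mem_quat8 : matM ∈ quat8 := matM_pow4

theorem matN_mem_quat8 : matN ∈ quat8 := by
  rw [← range_quatToSL]; exact ⟨xa 0, quatToSL_xa_zero⟩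

/-- `quat8 ≃* QuaternionGroup 2` -/
theorem nonempty_quat8_mulEquiv : Nonempty (quat8 ≃* QuaternionGroup 2) := by
  rw [← range_quatToSL]
  exact ⟨(MonoidHom.ofInjective quatToSL_injective).symm⟩

theorem quat8_le_of_mem {N : Subgroup SL23} (hM : matM ∈ N) (hN : matN ∈ N) : quat8 ≤ N := by
  rw [← range_quatToSL]
  rintro _ ⟨p, rfl⟩
  cases p with
  | a i =>
    rw [quat_a_eq, map_pow, quatToSL_a_one]
    exact N.pow_mem hM _
  | xa i =>
    rw [quat_xa_eq, map_mul, map_pow, quatToSL_a_one, quatToSL_xa_zero]
    exact N.mul_mem hN (N.pow_mem hM _)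

/-! ### centre -/

theorem negOne_sq : (matM ^ 2) ^ 2 = 1 := by rw [← pow_mul]; exact matM_pow4

theorem orderOf_negOne : orderOf (matM ^ 2) = 2 := orderOf_eq_prime negOne_sq matM_sq_ne

theorem center_eq : Subgroup.center SL23 = Subgroup.zpowers (matM ^ 2) := by
  apply le_antisymm
  · intro z hz
    rw [Subgroup.mem_center_iff] at hz
    rcases dec_central z hz with h | h
    · rw [h]; exact one_mem _
    · rw [h]; exact Subgroup.mem_zpowers _
  · rw [Subgroup.zpowers_le, Subgroup.mem_center_iff]
    intro g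
    exact dec_involution_central _ negOne_sq matM_sq_ne g

theorem card_center : Nat.card (Subgroup.center SL23) = 2 := by
  rw [center_eq, Nat.card_zpowers, orderOf_negOne]

theorem center_le_quat8 : Subgroup.center SL23 ≤ quat8 := by
  rw [center_eq, Subgroup.zpowers_le]
  exact quat8.pow_mem matM_mem_quat8 2

/-! ### commutator subgroup -/

theorem commutator_eq : commutator SL23 = quat8 := by
  apply le_antisymm
  · rw [commutator_def, Subgroup.commutator_le]
    intro x _ y _
    rw [mem_quat8, commutatorElement_def]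
    exact dec_comm_pow4 x y
  · have hM : matM ∈ commutator SL23 := by
      have h1 : ⁅matW, matN⁆ = matM := by
        rw [commutatorElement_def, matW_conj_N, mul_inv_cancel_right]
      rw [← h1, commutator_def]
      exact Subgroup.commutator_mem_commutator (Subgroup.mem_top _) (Subgroup.mem_top _)
    have hN : matN ∈ commutator SL23 := by
      have h1 : ⁅matW, matM⁆ * matM = matN := by
        rw [commutatorElement_def, matW_conj_M, inv_mul_cancel_right]
      rw [← h1]
      refine mul_mem ?_ hM
      rw [commutator_def]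
      exact Subgroup.commutator_mem_commutator (Subgroup.mem_top _) (Subgroup.mem_top _)
    exact quat8_le_of_mem hM hN

theorem card_commutator : Nat.card (commutator SL23) = 8 := by
  rw [commutator_eq, card_quat8]

/-! ### normal subgroups -/

theorem eq_top_of_matW_mem {N : Subgroup SL23} [hN : N.Normal] (hW : matW ∈ N) : N = ⊤ := by
  have hcomm : ∀ y : SL23, ⁅matW, y⁆ ∈ N := by
    intro y
    rw [commutatorElement_def]
    have h1 : y * matW⁻¹ * y⁻¹ ∈ N := hN.conj_mem _ (N.inv_mem hW) y
    have h2 : matW * y * matW⁻¹ * y⁻¹ = matW * (y * matW⁻¹ * y⁻¹) := by group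
    rw [h2]
    exact N.mul_mem hW h1
  have hM : matM ∈ N := by
    have h1 : ⁅matW, matN⁆ = matM := by
      rw [commutatorElement_def, matW_conj_N, mul_inv_cancel_right]
    rw [← h1]; exact hcomm _
  have hNm : matN ∈ N := by
    have h1 : ⁅matW, matM⁆ * matM = matN := by
      rw [commutatorElement_def, matW_conj_M, inv_mul_cancel_right]
    rw [← h1]; exact N.mul_mem (hcomm _) hM
  have hQ : quat8 ≤ N := quat8_le_of_mem hM hNm
  apply Subgroup.eq_top_of_le_card
  rw [card_SL23]
  have h8 : 8 ∣ Nat.card N := by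
    rw [← card_quat8]; exact Subgroup.card_dvd_of_le hQ
  have h3 : 3 ∣ Nat.card N := by
    have := Subgroup.orderOf_dvd_natCard N hW
    rwa [orderOf_matW] at this
  have h24 : 8 * 3 ∣ Nat.card N := Nat.Coprime.mul_dvd_of_dvd_of_dvd (by norm_num) h8 h3
  exact Nat.le_of_dvd Nat.card_pos h24

/-- the normal subgroups of `SL(2,3)` -/
theorem normal_classification (N : Subgroup SL23) [hN : N.Normal] :
    N = ⊥ ∨ N = ⊤ ∨ N = Subgroup.center SL23 ∨ N = quat8 := by
  by_cases h3 : ∃ w ∈ N, w ^ 3 = 1 ∧ w ≠ 1
  · right; left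
    obtain ⟨w, hwN, hw3, hw1⟩ := h3
    obtain ⟨c, hc | hc⟩ := dec_order3_conj w hw3 hw1
    · apply eq_top_of_matW_mem
      rw [← hc]; exact hN.conj_mem w hwN c
    · apply eq_top_of_matW_mem
      have h1 : matW⁻¹ ∈ N := by rw [← hc]; exact hN.conj_mem w hwN c
      have := N.inv_mem h1
      rwa [inv_inv] at this
  · simp only [not_exists, not_and, not_not] at h3
    have hle : N ≤ quat8 := by
      intro x hx
      have h24 : x ^ 24 = 1 := by
        have := pow_card_eq_one' (G := SL23) (x := x)
        rwa [card_SL23] at this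
      have h8 : x ^ 8 = 1 := by
        apply h3 (x ^ 8) (N.pow_mem hx 8)
        rw [← pow_mul]; exact h24
      exact dec_pow8 x h8
    by_cases h4 : ∃ x ∈ N, x ^ 2 ≠ 1
    · right; right; right
      obtain ⟨x, hxN, hx2⟩ := h4
      apply le_antisymm hle
      intro y hy
      obtain ⟨i, j, hij⟩ := dec_order4_gen x (hle hxN) hx2 y hy
      rw [hij]
      exact N.mul_mem (N.pow_mem hxN _) (N.pow_mem (hN.conj_mem x hxN matW) _)
    · simp only [not_exists, not_and, not_not] at h4
      by_cases h2 : matM ^ 2 ∈ N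
      · right; right; left
        rw [center_eq]
        apply le_antisymm
        · intro x hx
          rcases dec_sq_one x (h4 x hx) with h | h
          · rw [h]; exact one_mem _
          · rw [h]; exact Subgroup.mem_zpowers _
        · rw [Subgroup.zpowers_le]; exact h2
      · left
        rw [Subgroup.eq_bot_iff_forall]
        intro x hx
        rcases dec_sq_one x (h4 x hx) with h | h
        · exact h
        · rw [h] at hx; exact absurd hx h2

/-! ### solvability -/

instance isSolvable_SL23 : Group.IsSolvable SL23 := by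
  have h1 : Group.IsSolvable (commutator SL23) := by
    have hp : IsPGroup 2 (commutator SL23) := by
      apply IsPGroup.of_card (n := 3)
      rw [card_commutator]; norm_num
    have : Fact (Nat.Prime 2) := ⟨Nat.prime_two⟩
    have := hp.isNilpotent
    infer_instance
  exact Group.isSolvable_of_ker_le_range (commutator SL23).subtype (Abelianization.of (G := SL23))
    (by rw [Abelianization.ker_of, Subgroup.range_subtype])

end Cfsg.Agent.Lib.Helper9.SLTwoThree
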