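import Mathlib
import Cfsg.Agent.Lib.Lead.QuatIso

/-!
A sharply `2`-transitive group of degree `9` whose point stabiliser contains a quaternion pair:
the Sylow `3`-subgroup is normal and elementary abelian of order `9`, the Sylow `2`-subgroups are
quaternion of order `8`.
-/

set_option autoImplicit false

namespace Cfsg.Agent.Lib.Helper9.SharpTwoNine

open MulAction

variable {H : Type*} [Group H] [Finite H] {Ω : Type*} [Finite Ω] [MulAction H Ω]

theorem card_ne (hΩ : Nat.card Ω = 9) (a : Ω) : Nat.card {b : Ω // b ≠ a} = 8 := by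
  have h1 : {b : Ω | b ≠ a} = ({a} : Set Ω)ᶜ := by ext b; simp
  change Nat.card ↥{b : Ω | b ≠ a} = 8
  rw [Nat.card_coe_set_eq, h1, Set.ncard_compl, hΩ, Set.ncard_singleton]

theorem exists_ne_of_card (hΩ : Nat.card Ω = 9) (a : Ω) : ∃ b : Ω, b ≠ a := by
  have h := card_ne hΩ a
  have : Nonempty {b : Ω // b ≠ a} := by
    rw [← Finite.card_pos_iff, h]; norm_num
  obtain ⟨b, hb⟩ := this
  exact ⟨b, hb⟩

theorem card_stabilizer (hΩ : Nat.card Ω = 9)
    (htrans : ∀ a b c d : Ω, a ≠ b → c ≠ d → ∃ h : H, h • a = c ∧ h • b = d)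
    (hsharp : ∀ (h : H) (a b : Ω), a ≠ b → h • a = a → h • b = b → h = 1) (a : Ω) :
    Nat.card (stabilizer H a) = 8 := by
  obtain ⟨b0, hb0⟩ := exists_ne_of_card hΩ a
  rw [← card_ne hΩ a]
  have hne : ∀ h : stabilizer H a, (h : H) • b0 ≠ a := by
    intro h hh
    have h1 : (h : H) • a = a := h.2
    exact hb0 (smul_left_cancel (h : H) (hh.trans h1.symm))
  refine Nat.card_congr (Equiv.ofBijective (fun h => ⟨(h : H) • b0, hne h⟩) ⟨?_, ?_⟩)
  · intro h h' hh
    have h1 : (h : H) • b0 = (h' : H) • b0 := congrArg Subtype.val hh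
    have h2 : ((h : H)⁻¹ * (h' : H)) • b0 = b0 := by
      rw [mul_smul, ← h1, inv_smul_smul]
    have h3 : ((h : H)⁻¹ * (h' : H)) • a = a := by
      rw [mul_smul, (show (h' : H) • a = a from h'.2), inv_smul_eq_iff, (show (h : H) • a = a from h.2)]
    have h4 := hsharp _ a b0 (Ne.symm hb0) h3 h2
    apply Subtype.ext
    rw [inv_mul_eq_one] at h4
    exact h4
  · rintro ⟨b, hb⟩
    obtain ⟨h, h1, h2⟩ := htrans a b0 a b (Ne.symm hb0) (Ne.symm hb)
    exact ⟨⟨h, h1⟩, Subtype.ext h2⟩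

theorem pretransitive (hΩ : Nat.card Ω = 9)
    (htrans : ∀ a b c d : Ω, a ≠ b → c ≠ d → ∃ h : H, h • a = c ∧ h • b = d) :
    IsPretransitive H Ω := by
  refine ⟨fun a c => ?_⟩
  obtain ⟨b, hb⟩ := exists_ne_of_card hΩ a
  obtain ⟨d, hd⟩ := exists_ne_of_card hΩ c
  obtain ⟨h, h1, _⟩ := htrans a b c d (Ne.symm hb) (Ne.symm hd)
  exact ⟨h, h1⟩

theorem card_group (hΩ : Nat.card Ω = 9)
    (htrans : ∀ a b c d : Ω, a ≠ b → c ≠ d → ∃ h : H, h • a = c ∧ h • b = d)
    (hsharp : ∀ (h : H) (a b : Ω), a ≠ b → h • a = a → h • b = b → h = 1) :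
    Nat.card H = 72 := by
  haveI := pretransitive hΩ htrans
  have : Nonempty Ω := by rw [← Finite.card_pos_iff, hΩ]; norm_num
  obtain ⟨a⟩ := this
  have h1 := Subgroup.card_mul_index (stabilizer H a)
  rw [index_stabilizer_of_transitive, card_stabilizer hΩ htrans hsharp a, hΩ] at h1
  omega

/-- The identity together with the fixed-point-free elements: nine elements. -/
theorem card_fpf (hΩ : Nat.card Ω = 9)
    (htrans : ∀ a b c d : Ω, a ≠ b → c ≠ d → ∃ h : H, h • a = c ∧ h • b = d)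
    (hsharp : ∀ (h : H) (a b : Ω), a ≠ b → h • a = a → h • b = b → h = 1) :
    Set.ncard {h : H | h = 1 ∨ ∀ c : Ω, h • c ≠ c} = 9 := by
  classical
  haveI := Fintype.ofFinite H
  haveI := Fintype.ofFinite Ω
  have hH := card_group hΩ htrans hsharp
  let A : Ω → Finset H := fun c => Finset.univ.filter (fun h : H => h • c = c ∧ h ≠ 1)
  have hA : ∀ c, (A c).card = 7 := by
    intro c
    have h1 : A c = (Finset.univ.filter (fun h : H => h • c = c)).erase 1 := by
      ext h; simp [A, and_comm]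
    have h2 : (Finset.univ.filter (fun h : H => h • c = c)).card = 8 := by
      rw [← card_stabilizer hΩ htrans hsharp c]
      exact (Nat.subtype_card _ (fun h => by simp [mem_stabilizer_iff])).symm
    rw [h1, Finset.card_erase_of_mem (by simp), h2]
  have hdisj : ∀ c ∈ (Finset.univ : Finset Ω), ∀ c' ∈ (Finset.univ : Finset Ω), c ≠ c' →
      Disjoint (A c) (A c') := by
    intro c _ c' _ hcc
    rw [Finset.disjoint_left]
    intro h h1 h2
    simp only [A, Finset.mem_filter, Finset.mem_univ, true_and] at h1 h2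
    exact h1.2 (hsharp h c c' hcc h1.1 h2.1)
  have hU : (Finset.univ.biUnion A).card = 63 := by
    rw [Finset.card_biUnion hdisj, Finset.sum_congr rfl (fun c _ => hA c), Finset.sum_const,
      Finset.card_univ, ← Nat.card_eq_fintype_card, hΩ]
    rfl
  have hN : {h : H | h = 1 ∨ ∀ c : Ω, h • c ≠ c} =
      ((Finset.univ \ Finset.univ.biUnion A : Finset H) : Set H) := by
    ext h
    simp only [Set.mem_setOf_eq, Finset.coe_sdiff, Finset.coe_univ, Set.mem_diff, Set.mem_univ,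
      true_and, Finset.mem_coe, Finset.mem_biUnion, Finset.mem_univ, A, Finset.mem_filter]
    constructor
    · rintro (rfl | h1)
      · rintro ⟨c, _, hc⟩; exact hc rfl
      · rintro ⟨c, hc, _⟩; exact h1 c hc
    · intro h1
      by_cases h2 : h = 1
      · exact Or.inl h2
      · right
        intro c hc
        exact h1 ⟨c, hc, h2⟩
  rw [hN, Set.ncard_coe_finset, Finset.card_sdiff_of_subset (Finset.subset_univ _), hU,
    Finset.card_univ, ← Nat.card_eq_fintype_card, hH]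

theorem not_mem_zpowers {G : Type*} [Group G] {a b : G} (ha : orderOf a = 4)
    (hinv : b * a * b⁻¹ = a⁻¹) : b ∉ Subgroup.zpowers a := by
  intro hb
  obtain ⟨i, rfl⟩ := Subgroup.mem_zpowers_iff.1 hb
  have h1 : a ^ i * a * (a ^ i)⁻¹ = a := by
    rw [← zpow_add_one, ← zpow_neg, ← zpow_add]
    simp
  rw [h1] at hinv
  have h2 : a ^ 2 = 1 := by
    rw [pow_two]
    nth_rewrite 1 [hinv]
    exact inv_mul_cancel a
  have h3 := orderOf_dvd_of_pow_eq_one h2
  rw [ha] at h3
  omega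

theorem main (hΩ : Nat.card Ω = 9)
    (htrans : ∀ a b c d : Ω, a ≠ b → c ≠ d → ∃ h : H, h • a = c ∧ h • b = d)
    (hsharp : ∀ (h : H) (a b : Ω), a ≠ b → h • a = a → h • b = b → h = 1)
    (a0 : Ω) (x y : H) (hxa : x • a0 = a0) (hya : y • a0 = a0) (hx : orderOf x = 4)
    (hy2 : y ^ 2 = x ^ 2) (hinv : y * x * y⁻¹ = x⁻¹) :
    (∀ Q : Sylow 3 H, (Q : Subgroup H).Normal ∧ Nat.card Q = 9 ∧ ∀ z ∈ Q, z ^ 3 = 1) ∧
      ∀ P : Sylow 2 H, Nonempty (P ≃* QuaternionGroup 2) := by
  haveI : Fact (Nat.Prime 3) := ⟨Nat.prime_three⟩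
  haveI : Fact (Nat.Prime 2) := ⟨Nat.prime_two⟩
  have hH := card_group hΩ htrans hsharp
  have hst := card_stabilizer hΩ htrans hsharp
  have hpre := pretransitive (H := H) hΩ htrans
  have hQ9 : ∀ Q : Sylow 3 H, Nat.card Q = 9 := by
    intro Q
    rw [Q.card_eq_multiplicity, hH]
    have : (72).factorization 3 = 2 := by decide +kernel
    rw [this]; norm_num
  have hP8 : ∀ P : Sylow 2 H, Nat.card P = 8 := by
    intro P
    rw [P.card_eq_multiplicity, hH]
    have : (72).factorization 2 = 3 := by decide +kernel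
    rw [this]; norm_num
  -- semiregularity of Sylow 3-subgroups
  have hsemi : ∀ Q : Sylow 3 H, ∀ z ∈ Q, ∀ c : Ω, z • c = c → z = 1 := by
    intro Q z hz c hc
    have h1 : orderOf z ∣ 9 := by
      rw [← hQ9 Q]; exact Subgroup.orderOf_dvd_natCard _ hz
    have h2 : orderOf z ∣ 8 := by
      rw [← hst c]; exact Subgroup.orderOf_dvd_natCard _ (mem_stabilizer_iff.2 hc)
    have h3 : orderOf z ∣ Nat.gcd 9 8 := Nat.dvd_gcd h1 h2
    have h4 : orderOf z = 1 := Nat.dvd_one.1 (by simpa using h3)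
    exact orderOf_eq_one_iff.1 h4
  have hQset : ∀ Q : Sylow 3 H, ((Q : Subgroup H) : Set H) = {h : H | h = 1 ∨ ∀ c : Ω, h • c ≠ c} := by
    intro Q
    apply Set.eq_of_subset_of_ncard_le
    · intro z hz
      by_cases h1 : z = 1
      · exact Or.inl h1
      · exact Or.inr (fun c hc => h1 (hsemi Q z hz c hc))
    · rw [card_fpf hΩ htrans hsharp]
      have := hQ9 Q
      rw [← Nat.card_coe_set_eq]
      exact this.ge
    · exact Set.toFinite _
  haveI : Subsingleton (Sylow 3 H) := by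
    refine ⟨fun Q Q' => ?_⟩
    apply Sylow.ext
    apply SetLike.coe_injective
    rw [hQset Q, hQset Q']
  have hΩne : Nonempty Ω := by rw [← Finite.card_pos_iff, hΩ]; norm_num
  refine ⟨fun Q => ?_, fun P => ?_⟩
  · have hnorm : (Q : Subgroup H).Normal := Sylow.normal_of_subsingleton Q
    refine ⟨hnorm, hQ9 Q, ?_⟩
    have h3 : 3 ∣ Nat.card (Q : Subgroup H) := by rw [hQ9 Q]; norm_num
    obtain ⟨w, hw⟩ := exists_prime_orderOf_dvd_card' (G := (Q : Subgroup H)) 3 h3
    have hw3 : (w : H) ^ 3 = 1 := by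
      have := pow_orderOf_eq_one w
      rw [hw] at this
      exact_mod_cast congrArg Subtype.val this
    have hw1 : (w : H) ≠ 1 := by
      intro h
      have : w = 1 := Subtype.ext h
      rw [this, orderOf_one] at hw
      omega
    obtain ⟨a⟩ := hΩne
    intro z hz
    by_cases hz1 : z = 1
    · rw [hz1, one_pow]
    have hza : z • a ≠ a := fun h => hz1 (hsemi Q z hz a h)
    have hwa : (w : H) • a ≠ a := fun h => hw1 (hsemi Q _ w.2 a h)
    obtain ⟨h, h1, h2⟩ := htrans a ((w : H) • a) a (z • a) (Ne.symm hwa) (Ne.symm hza)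
    have hmem : z⁻¹ * (h * (w : H) * h⁻¹) ∈ (Q : Subgroup H) :=
      mul_mem (inv_mem hz) (hnorm.conj_mem _ w.2 h)
    have hfix : (z⁻¹ * (h * (w : H) * h⁻¹)) • a = a := by
      rw [mul_smul, mul_smul, mul_smul, inv_smul_eq_iff.2 h1.symm, h2, inv_smul_smul]
    have h5 := hsemi Q _ hmem a hfix
    have h6 : z = h * (w : H) * h⁻¹ := by
      rw [inv_mul_eq_one] at h5; exact h5
    rw [h6, conj_pow, hw3, mul_one, mul_inv_cancel]
  · -- fixed point of `P`
    have hfp := (P.isPGroup').nonempty_fixed_point_of_prime_not_dvd_card Ω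
      (by rw [hΩ]; norm_num)
    obtain ⟨c, hc⟩ := hfp
    have hle : (P : Subgroup H) ≤ stabilizer H c := by
      intro g hg
      exact mem_stabilizer_iff.2 (hc ⟨g, hg⟩)
    have heq : (P : Subgroup H) = stabilizer H c :=
      Subgroup.eq_of_le_of_card_ge hle (by rw [hst c, hP8 P])
    obtain ⟨h, hh⟩ := exists_smul_eq H a0 c
    have hh' : h⁻¹ • c = a0 := by rw [inv_smul_eq_iff, hh]
    have hxP : h * x * h⁻¹ ∈ (P : Subgroup H) := by
      rw [heq, mem_stabilizer_iff, mul_smul, mul_smul, hh', hxa, hh]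
    have hyP : h * y * h⁻¹ ∈ (P : Subgroup H) := by
      rw [heq, mem_stabilizer_iff, mul_smul, mul_smul, hh', hya, hh]
    have hx' : orderOf (h * x * h⁻¹) = 4 := by
      have := (MulAut.conj h).orderOf_eq x
      rw [MulAut.conj_apply] at this
      rw [this, hx]
    have hinv' : h * y * h⁻¹ * (h * x * h⁻¹) * (h * y * h⁻¹)⁻¹ = (h * x * h⁻¹)⁻¹ := by
      have : h * y * h⁻¹ * (h * x * h⁻¹) * (h * y * h⁻¹)⁻¹ = h * (y * x * y⁻¹) * h⁻¹ := by group
      rw [this, hinv]; group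
    have hy2' : (h * y * h⁻¹) ^ 2 = (h * x * h⁻¹) ^ 2 := by
      rw [conj_pow, conj_pow, hy2]
    let X : (P : Subgroup H) := ⟨h * x * h⁻¹, hxP⟩
    let Y : (P : Subgroup H) := ⟨h * y * h⁻¹, hyP⟩
    have hX : orderOf X = 2 * 2 := by
      rw [Subgroup.orderOf_mk, hx']
    have hXY : Y * X * Y⁻¹ = X⁻¹ := Subtype.ext hinv'
    have hY2 : Y ^ 2 = X ^ 2 := Subtype.ext hy2'
    exact Cfsg.Agent.Lib.Lead.QuatIso.nonempty_mulEquiv_quaternionGroup hX hY2 hXY
      (not_mem_zpowers hX hXY) (hP8 P)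

end Cfsg.Agent.Lib.Helper9.SharpTwoNine
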