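import Mathlib

/-!
Stability groups of chains of characteristic subgroups (helper9).

If a group `G` of order `p³` has characteristic subgroups `H₁ ≤ H₂` of orders `p`, `p²`, then any
two `p`-elements of `Aut G` generate a `p`-group.
-/

set_option autoImplicit false

namespace Cfsg.Agent.Lib.Helper9.StabChain

open Subgroup

variable {G : Type*} [Group G]

/-- iterating an automorphism that fixes `c = x⁻¹ g x` -/
theorem pow_apply_of_fix (g : MulAut G) (x : G) (hfix : g (x⁻¹ * g x) = x⁻¹ * g x) (n : ℕ) :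
    (g ^ n) x = x * (x⁻¹ * g x) ^ n := by
  induction n with
  | zero => simp
  | succ n ih =>
    rw [pow_succ', MulAut.mul_apply, ih, map_mul, map_pow, hfix, pow_succ' (x⁻¹ * g x),
      ← mul_assoc, mul_inv_cancel_left]

theorem pow_card_apply_of_fix (g : MulAut G) (K : Subgroup G) [Finite K]
    (hK : ∀ k ∈ K, g k = k) (x : G) (hx : x⁻¹ * g x ∈ K) : (g ^ Nat.card K) x = x := by
  rw [pow_apply_of_fix g x (hK _ hx)]
  have h1 : (x⁻¹ * g x) ^ Nat.card K = 1 := by
    have h2 := pow_card_eq_one' (G := K) (x := ⟨_, hx⟩)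
    have h3 := congrArg Subtype.val h2
    exact h3
  rw [h1, mul_one]

theorem inv_mul_pow_apply_mem (g : MulAut G) (K : Subgroup G) (h : ∀ x, x⁻¹ * g x ∈ K) (n : ℕ)
    (x : G) : x⁻¹ * (g ^ n) x ∈ K := by
  induction n with
  | zero => simp
  | succ n ih =>
    rw [pow_succ', MulAut.mul_apply]
    have h1 := K.mul_mem ih (h ((g ^ n) x))
    convert h1 using 1
    group

/-- a `p`-element of `Aut G` stabilizing a subgroup of order `p` fixes it pointwise -/
theorem fix_of_card_prime (p : ℕ) [hp : Fact p.Prime] (g : MulAut G) (k : ℕ)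
    (hg : g ^ (p ^ k) = 1) (M : Subgroup G) (hM : Nat.card M = p) (hinv : ∀ x ∈ M, g x ∈ M) :
    ∀ x ∈ M, g x = x := by
  intro x hx
  by_cases hx1 : x = 1
  · rw [hx1, map_one]
  have : Finite M := Nat.finite_of_card_ne_zero (by rw [hM]; exact hp.out.ne_zero)
  have hord : orderOf x = p := by
    have h1 : orderOf (⟨x, hx⟩ : M) ∣ p := hM ▸ orderOf_dvd_natCard _
    rw [Subgroup.orderOf_mk] at h1
    rcases (Nat.dvd_prime hp.out).1 h1 with h | h
    · exact absurd (orderOf_eq_one_iff.1 h) hx1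
    · exact h
  have hMz : zpowers x = M := by
    apply Subgroup.eq_of_le_of_card_ge ((zpowers_le (H := M)).2 hx)
    rw [Nat.card_zpowers, hord, hM]
  have hfin : IsOfFinOrder x := by
    rw [← orderOf_pos_iff, hord]; exact hp.out.pos
  have hgx : g x ∈ zpowers x := hMz ▸ hinv x hx
  obtain ⟨m, hm⟩ := (hfin.mem_powers_iff_mem_zpowers).2 hgx
  have hm' : x ^ m = g x := hm
  have hpow : ∀ n : ℕ, (g ^ n) x = x ^ (m ^ n) := by
    intro n
    induction n with
    | zero => simp
    | succ n ih =>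
      rw [pow_succ', MulAut.mul_apply, ih, map_pow, ← hm', ← pow_mul, pow_succ']
  have h1 := hpow (p ^ k)
  rw [hg, MulAut.one_apply] at h1
  have h2 : m ^ (p ^ k) ≡ 1 [MOD p] := by
    have h3 : x ^ (m ^ (p ^ k)) = x ^ 1 := by rw [pow_one]; exact h1.symm
    have h4 := (pow_eq_pow_iff_modEq).1 h3
    rwa [hord] at h4
  have h3 : (m : ZMod p) = 1 := by
    have h4 := (ZMod.natCast_eq_natCast_iff _ _ _).2 h2
    push_cast at h4
    rwa [ZMod.pow_card_pow] at h4
  have h4 : m ≡ 1 [MOD p] := (ZMod.natCast_eq_natCast_iff _ _ _).1 (by push_cast; exact h3)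
  rw [← hm']
  have h5 : x ^ m = x ^ 1 := (pow_eq_pow_iff_modEq).2 (hord.symm ▸ h4)
  rw [h5, pow_one]

/-- a `p`-element acts trivially on an invariant section of order `p` -/
theorem inv_mul_mem_of_prime_index (p : ℕ) [hp : Fact p.Prime] (g : MulAut G) (k : ℕ)
    (hg : g ^ (p ^ k) = 1) (N M : Subgroup G) [N.Normal] (hN : N.map g.toMonoidHom = N)
    (hM : ∀ x ∈ M, g x ∈ M) (hcard : Nat.card (M.map (QuotientGroup.mk' N)) = p) :
    ∀ x ∈ M, x⁻¹ * g x ∈ N := by
  let gbar : MulAut (G ⧸ N) := QuotientGroup.congr N N g hN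
  have hbar1 : ∀ x : G, gbar (x : G ⧸ N) = ((g x : G) : G ⧸ N) := fun x => rfl
  have hbar : ∀ (n : ℕ) (x : G), (gbar ^ n) (x : G ⧸ N) = (((g ^ n) x : G) : G ⧸ N) := by
    intro n
    induction n with
    | zero => intro x; simp
    | succ n ih =>
      intro x
      rw [pow_succ', MulAut.mul_apply, ih, pow_succ', MulAut.mul_apply, hbar1]
  have hgbar : gbar ^ (p ^ k) = 1 := by
    ext y
    obtain ⟨x, rfl⟩ := QuotientGroup.mk_surjective y
    rw [hbar, hg]
    rfl
  intro x hx
  have h1 := fix_of_card_prime p gbar k hgbar (M.map (QuotientGroup.mk' N)) hcard (by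
    rintro _ ⟨y, hy, rfl⟩
    exact ⟨g y, hM y hy, rfl⟩) (x : G ⧸ N) (mem_map_of_mem _ hx)
  rw [hbar1] at h1
  exact QuotientGroup.eq.1 h1.symm

theorem card_map_mk' [Finite G] (N M : Subgroup G) [N.Normal] (hNM : N ≤ M) :
    Nat.card (M.map (QuotientGroup.mk' N)) * Nat.card N = Nat.card M := by
  have h1 : (M.map (QuotientGroup.mk' N)).index = M.index :=
    index_map_eq _ (QuotientGroup.mk'_surjective N) (by rw [QuotientGroup.ker_mk']; exact hNM)
  have h2 := (M.map (QuotientGroup.mk' N)).card_mul_index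
  have h3 := N.card_mul_index
  have h4 := M.card_mul_index
  rw [h1] at h2
  have h5 : Nat.card (G ⧸ N) = N.index := rfl
  rw [h5] at h2
  have h6 : M.index ≠ 0 := index_ne_zero_of_finite
  apply Nat.eq_of_mul_eq_mul_right (Nat.pos_of_ne_zero h6)
  calc Nat.card (M.map (QuotientGroup.mk' N)) * Nat.card N * M.index
      = Nat.card N * (Nat.card (M.map (QuotientGroup.mk' N)) * M.index) := by ring
    _ = Nat.card N * N.index := by rw [h2]
    _ = Nat.card M * M.index := by rw [h3, h4]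

/-- the automorphisms acting trivially on the section `M / N` -/
def stab (N M : Subgroup G) [hM : M.Characteristic] : Subgroup (MulAut G) where
  carrier := {g | ∀ x ∈ M, x⁻¹ * g x ∈ N}
  one_mem' := by
    intro x _
    simp
  mul_mem' := by
    intro g h hg hh x hx
    have hhx : h x ∈ M := by
      have := (characteristic_iff_map_eq.1 hM h)
      rw [← this]
      exact ⟨x, hx, rfl⟩
    have h1 := N.mul_mem (hh x hx) (hg (h x) hhx)
    rw [MulAut.mul_apply]
    convert h1 using 1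
    group
  inv_mem' := by
    intro g hg x hx
    have hy : g⁻¹ x ∈ M := by
      have := (characteristic_iff_map_eq.1 hM g⁻¹)
      rw [← this]
      exact ⟨x, hx, rfl⟩
    have h1 := N.inv_mem (hg _ hy)
    rw [MulAut.apply_inv_self] at h1
    convert h1 using 1
    group

theorem mem_stab (N M : Subgroup G) [M.Characteristic] (g : MulAut G) :
    g ∈ stab N M ↔ ∀ x ∈ M, x⁻¹ * g x ∈ N := Iff.rfl

theorem apply_mem_of_characteristic (M : Subgroup G) [hM : M.Characteristic] (g : MulAut G)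
    {x : G} (hx : x ∈ M) : g x ∈ M := by
  have := (characteristic_iff_map_eq.1 hM g)
  rw [← this]
  exact ⟨x, hx, rfl⟩

/-- **Main theorem.** -/
theorem isPGroup_closure_pair (p : ℕ) [hp : Fact p.Prime] [Finite G] (H₁ H₂ : Subgroup G)
    [h₁ : H₁.Characteristic] [h₂ : H₂.Characteristic] (h12 : H₁ ≤ H₂)
    (c₁ : Nat.card H₁ = p) (c₂ : Nat.card H₂ = p ^ 2) (c₃ : Nat.card G = p ^ 3)
    (a b : MulAut G) (ha : ∃ k : ℕ, a ^ (p ^ k) = 1) (hb : ∃ k : ℕ, b ^ (p ^ k) = 1) :
    IsPGroup p (closure {a, b}) := by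
  have hp0 : 0 < p := hp.out.pos
  set T : Subgroup (MulAut G) := stab H₂ ⊤ ⊓ stab H₁ H₂ ⊓ stab ⊥ H₁ with hT
  have hmem : ∀ g : MulAut G, (∃ k : ℕ, g ^ (p ^ k) = 1) → g ∈ T := by
    rintro g ⟨k, hk⟩
    refine mem_inf.2 ⟨mem_inf.2 ⟨?_, ?_⟩, ?_⟩
    · rw [mem_stab]
      apply inv_mul_mem_of_prime_index p g k hk H₂ ⊤ (characteristic_iff_map_eq.1 h₂ g)
        (fun x _ => mem_top _)
      have h1 := card_map_mk' H₂ ⊤ le_top
      rw [c₂, card_top, c₃] at h1
      apply Nat.eq_of_mul_eq_mul_right (pow_pos hp0 2)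
      rw [h1]; ring
    · rw [mem_stab]
      apply inv_mul_mem_of_prime_index p g k hk H₁ H₂ (characteristic_iff_map_eq.1 h₁ g)
        (fun x hx => apply_mem_of_characteristic H₂ g hx)
      have h1 := card_map_mk' H₁ H₂ h12
      rw [c₁, c₂] at h1
      apply Nat.eq_of_mul_eq_mul_right hp0
      rw [h1]; ring
    · rw [mem_stab]
      apply inv_mul_mem_of_prime_index p g k hk ⊥ H₁ (characteristic_iff_map_eq.1 inferInstance g)
        (fun x hx => apply_mem_of_characteristic H₁ g hx)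
      have h1 := card_map_mk' ⊥ H₁ bot_le
      rw [c₁, card_bot, mul_one] at h1
      exact h1
  have hTp : ∀ g ∈ T, g ^ (p ^ 3) = 1 := by
    intro g hg
    obtain ⟨h32, h1⟩ := mem_inf.1 hg
    obtain ⟨h3, h2⟩ := mem_inf.1 h32
    rw [mem_stab] at h1 h2 h3
    have hfix1 : ∀ x ∈ H₁, g x = x := by
      intro x hx
      have := h1 x hx
      rw [mem_bot, inv_mul_eq_one] at this
      exact this.symm
    have hfix2 : ∀ x ∈ H₂, (g ^ p) x = x := by
      intro x hx
      have := pow_card_apply_of_fix g H₁ hfix1 x (h2 x hx)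
      rwa [c₁] at this
    have h3' : ∀ x, x⁻¹ * (g ^ p) x ∈ H₂ :=
      inv_mul_pow_apply_mem g H₂ (fun x => h3 x (mem_top x)) p
    ext x
    have := pow_card_apply_of_fix (g ^ p) H₂ hfix2 x (h3' x)
    rw [c₂, ← pow_mul] at this
    rw [MulAut.one_apply, ← this]
    congr 2
    ring
  have hle : closure {a, b} ≤ T := by
    rw [closure_le]
    rintro x (rfl | rfl)
    · exact hmem _ ha
    · exact hmem _ hb
  rintro ⟨x, hx⟩
  exact ⟨3, Subtype.ext (hTp x (hle hx))⟩

end Cfsg.Agent.Lib.Helper9.StabChain
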