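import Cfsg.Agent.Lib.Helper9.EssentialPSq

/-!
A group with a strongly `p`-embedded subgroup has no nontrivial normal `p`-subgroup (helper9).
-/

set_option autoImplicit false

namespace Cfsg.Agent.Lib.Helper9.StronglyPEmb

open Subgroup Cfsg

theorem normal_pSubgroup_eq_bot {X : Type*} [Group X] [Finite X] (p : ℕ) [hpf : Fact p.Prime]
    (E : Subgroup X) (hE : IsStronglyPEmbedded p E) (R : Subgroup X) [hRn : R.Normal]
    (hR : IsPGroup p R) : R = ⊥ := by
  obtain ⟨hdvd, hEtop, P, hP⟩ := hE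
  by_contra hne
  apply hEtop
  rw [eq_top_iff]
  refine le_trans ?_ hP
  have hRP : R ≤ (P : Subgroup X) := hR.le_sylow_of_normal P
  have hrank : ¬ PRankLE p (1 - 1) R := by
    intro hr
    obtain ⟨j, hj⟩ := IsPGroup.iff_card.1 hR
    have hj0 : j ≠ 0 := by
      rintro rfl
      rw [pow_zero] at hj
      exact hne (card_eq_one.1 hj)
    obtain ⟨x, hx⟩ := exists_prime_orderOf_dvd_card' (G := R) p
      (by rw [hj]; exact dvd_pow_self p hj0)
    have hc : IsMulCommutative (zpowers x) := ⟨⟨fun u v => by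
      obtain ⟨u, i, rfl⟩ := u
      obtain ⟨v, j, rfl⟩ := v
      exact Subtype.ext (zpow_mul_comm x i j)⟩⟩
    have := hr (zpowers x) hc (by
      intro y hy
      obtain ⟨i, rfl⟩ := mem_zpowers_iff.1 hy
      have hxp : x ^ p = 1 := by
        have := pow_orderOf_eq_one x
        rwa [hx] at this
      rw [← zpow_natCast, ← zpow_mul, mul_comm, zpow_mul, zpow_natCast, hxp, one_zpow])
    rw [Nat.card_zpowers, hx] at this
    have h2 := hpf.out.two_le
    simp at this
    omega
  have hnorm : normalizer ((R : Subgroup X) : Set X) = ⊤ := normalizer_eq_top R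
  rw [← hnorm]
  exact le_iSup (fun Q : {Q : Subgroup X // Q ≤ (P : Subgroup X) ∧ ¬ PRankLE p (1 - 1) Q} =>
    normalizer ((Q : Subgroup X) : Set X)) ⟨R, hRP, hrank⟩

end Cfsg.Agent.Lib.Helper9.StronglyPEmb
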